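import Cfsg.Agent.Lib.Lin.PSL2Four

/-! Maximality of the subgroups `A₄, S₄, A₅, PSL₂(q₀), PGL₂(q₀)` of `PSL₂(q)`. -/

namespace CA.PSL2Cl1

open Matrix MulAction CA.SL2Basic CA.Mat2 CA.SL2Torus CA.SL2Embed CA.SL2Class CA.SL2Unip CA.SL2Reps
  CA.PSL2Struct CA.PSL2Sub CA.PSL2Max CA.TriPres
open scoped MatrixGroups

section grp
variable {G Γ : Type*} [Group G] [Group Γ]

/-- contains a copy of `A₄` -/
def HasA4 (Y : Subgroup G) : Prop :=
  ∃ φ : alternatingGroup (Fin 4) →* G, Function.Injective φ ∧ ∀ a, φ a ∈ Y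

theorem HasA4.mono {X Y : Subgroup G} (h : HasA4 X) (hle : X ≤ Y) : HasA4 Y :=
  h.imp fun _ h => ⟨h.1, fun a => hle (h.2 a)⟩

theorem hasA4_of {H : Subgroup G} (e : H ≃* Γ) (ψ : alternatingGroup (Fin 4) →* Γ)
    (h : Function.Injective ψ) : HasA4 H :=
  ⟨H.subtype.comp (e.symm.toMonoidHom.comp ψ),
    H.subtype_injective.comp (e.symm.injective.comp h), fun _ => Subtype.property _⟩

theorem exists_A4_A5 : ∃ ψ : alternatingGroup (Fin 4) →* alternatingGroup (Fin 5),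
    Function.Injective ψ := by
  obtain ⟨φ, h, -⟩ := exists_inj_A4 (x := a5)
    (y := (⟨Equiv.swap 0 1 * Equiv.swap 1 2, Equiv.Perm.mem_alternatingGroup.2 (by decide)⟩ :
      alternatingGroup (Fin 5))) (by decide) (by decide) (by decide) (by decide)
  exact ⟨φ, h⟩

theorem card_lt [Finite G] {H Y : Subgroup G} (h : H < Y) :
    Nat.card H ∣ Nat.card Y ∧ Nat.card H < Nat.card Y :=
  ⟨Subgroup.card_dvd_of_le h.le, lt_of_le_of_ne (Subgroup.card_le_of_le h.le) fun e =>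
    h.ne (Subgroup.eq_of_le_of_card_ge h.le e.ge)⟩

theorem exists_order {H : Subgroup G} (e : H ≃* Γ) (x : Γ) : ∃ y ∈ H, orderOf y = orderOf x :=
  ⟨e.symm x, (e.symm x).2, by rw [Subgroup.orderOf_coe, MulEquiv.orderOf_eq]⟩

theorem exists_four : ∃ x : Equiv.Perm (Fin 4), orderOf x = 4 :=
  ⟨s4 * t4, orderOf_eq_prime_pow (p := 2) (n := 1) (by decide) (by decide)⟩

theorem exists_five : ∃ x : alternatingGroup (Fin 5), orderOf x = 5 :=
  have : Fact (Nat.Prime 5) := ⟨Nat.prime_five⟩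
  ⟨a5 * b5, orderOf_eq_prime (by decide +kernel) (by decide)⟩

end grp

theorem nt_dvd {p a b : ℕ} (hp : p.Prime) (ha : 1 ≤ a)
    (h : (p ^ a) ^ 2 - 1 ∣ 2 * (p ^ b * ((p ^ b) ^ 2 - 1))) : a ∣ b := by
  have h2 := hp.two_le
  rw [← pow_mul, ← pow_mul, mul_left_comm] at h
  have hc : Nat.Coprime (p ^ (a * 2) - 1) (p ^ b) := by
    refine Nat.Coprime.pow_right _ ((Nat.Prime.coprime_iff_not_dvd hp).2 fun hd => ?_).symm
    have := (Nat.dvd_sub_iff_right (Nat.one_le_pow _ _ hp.pos) (dvd_pow_self p (by omega))).1 hd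
    exact hp.one_lt.ne' (Nat.dvd_one.1 this)
  have h3 := Nat.dvd_gcd (Dvd.intro_left 2 rfl) (hc.dvd_of_dvd_mul_left h)
  rw [Nat.gcd_mul_left, Nat.pow_sub_one_gcd_pow_sub_one, Nat.gcd_mul_right] at h3
  obtain ⟨c, hc⟩ := Nat.gcd_dvd_left a b
  have hg : 1 ≤ a.gcd b := Nat.gcd_pos_of_pos_left _ ha
  by_contra hn
  have hc1 : c ≠ 1 := fun e => hn (Nat.gcd_eq_left_iff_dvd.1 (by rw [e] at hc; omega))
  have hc0 : c ≠ 0 := fun e => by rw [e] at hc; omega
  have h4 : p ^ (a.gcd b * 2 * 2) ≤ p ^ (a * 2) :=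
    Nat.pow_le_pow_right hp.pos (by
      have : 2 ≤ c := by omega
      nth_rewrite 2 [hc]
      nlinarith)
  have h5 : 2 ≤ p ^ (a.gcd b * 2) := Nat.one_lt_pow (by omega) hp.one_lt
  rw [pow_mul] at h4
  have := Nat.le_of_dvd (by omega) h3
  generalize p ^ (a.gcd b * 2) = X at *
  have h6 : X ^ 2 - 1 ≤ 2 * (X - 1) := by omega
  obtain ⟨Y, rfl⟩ := Nat.exists_eq_add_of_le h5
  have : (2 + Y) ^ 2 = 4 + 4 * Y + Y * Y := by ring
  omega

theorem card_sub_eq {K K' : Type*} [Field K] [Field K'] [Finite K] [Finite K'] {l m : ℕ}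
    (hl : l.Prime) (hm : 2 ≤ m) (e : Nat.card K' ^ m = Nat.card K ^ l)
    (h : Nat.card K ^ 2 - 1 ∣ 2 * (Nat.card K' * (Nat.card K' ^ 2 - 1))) :
    Nat.card K' = Nat.card K := by
  have := Fintype.ofFinite K
  have := Fintype.ofFinite K'
  obtain ⟨p, _, a, hp, ha⟩ := FiniteField.card' K
  obtain ⟨p', _, b, hp', hb⟩ := FiniteField.card' K'
  simp only [Nat.card_eq_fintype_card, ha, hb] at *
  have : p = p' := by
    refine (Nat.prime_dvd_prime_iff_eq hp hp').1 (hp.dvd_of_dvd_pow (n := b * m) ?_)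
    rw [pow_mul, e, ← pow_mul]
    exact dvd_pow_self p (Nat.mul_pos a.2 hl.pos).ne'
  subst this
  obtain ⟨c, hc⟩ := nt_dvd hp a.2 h
  rw [← pow_mul, ← pow_mul] at e
  have e' := Nat.pow_right_injective hp.two_le e
  rw [hc, mul_assoc] at e'
  have e2 : c * m = l := Nat.eq_of_mul_eq_mul_left a.2 e'
  have := (Nat.Prime.eq_one_or_self_of_dvd hl c (Dvd.intro _ e2)).resolve_right fun h => by
    rw [h] at e2
    have := hl.pos
    nlinarith
  rw [hc, this, mul_one]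
  rfl

theorem cub_mono {r s : ℕ} (h : r ≤ s) : r * (r ^ 2 - 1) ≤ s * (s ^ 2 - 1) :=
  Nat.mul_le_mul h (Nat.sub_le_sub_right (Nat.pow_le_pow_left h 2) 1)

theorem cub_lt {r q : ℕ} (hr : 2 ≤ r) (h : r ^ 2 ≤ q) : 2 * (r * (r ^ 2 - 1)) < q * (q ^ 2 - 1) := by
  have h1 : r + 2 ≤ q := by nlinarith
  have h2 : 2 * r ≤ q := by nlinarith
  have h3 : r ^ 2 - 1 < q ^ 2 - 1 := by
    have : r ^ 2 < q ^ 2 := Nat.pow_lt_pow_left (by omega) two_ne_zero
    have : 1 ≤ r ^ 2 := Nat.one_le_pow _ _ (by omega)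
    omega
  calc 2 * (r * (r ^ 2 - 1)) = (2 * r) * (r ^ 2 - 1) := by ring
    _ ≤ q * (r ^ 2 - 1) := Nat.mul_le_mul_right _ h2
    _ < _ := Nat.mul_lt_mul_of_pos_left h3 (by omega)

variable {F : Type*} [Field F] [Finite F]

/-- subfield type -/
def SubT (Y : Subgroup PSL(2, F)) : Prop :=
  ∃ (K : Type) (_ : Field K) (_ : Fintype K) (m : ℕ), 2 ≤ m ∧ 3 ≤ Nat.card K ∧
      Nat.card K ^ m = Nat.card F ∧
      (Nonempty (Y ≃* PGL(2, K)) ∨ (Odd (Nat.card K) ∧ Nonempty (Y ≃* PSL(2, K))))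

theorem over_A4 (h2 : (2 : F) ≠ 0) {Y : Subgroup PSL(2, F)} (h : HasA4 Y) : Y = ⊤ ∨
    (((12 : ℕ) : F) ≠ 0 ∧ Nonempty (Y ≃* alternatingGroup (Fin 4))) ∨
    (((24 : ℕ) : F) ≠ 0 ∧ Nonempty (Y ≃* Equiv.Perm (Fin 4))) ∨
    Nonempty (Y ≃* alternatingGroup (Fin 5)) ∨ SubT Y := by
  obtain ⟨φ, hφ, hY⟩ := h
  rcases dickson_PSL Y with ⟨h1, -⟩ | ⟨-, y, hy⟩ | ⟨n, h2, hn, ⟨e⟩⟩ | h | h | h |
    ⟨K, _, _, m, hm1, hK, hm, h⟩
  · exfalso
    have h5 : φ a4 * φ b4 = φ b4 * φ a4 := congrArg Subtype.val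
      (h1.isMulCommutative.is_comm.comm (⟨_, hY a4⟩ : Y) ⟨_, hY b4⟩)
    rw [← map_mul, ← map_mul] at h5
    exact absurd (hφ h5) (by decide)
  · exfalso
    obtain ⟨t, ht⟩ := mem_Ub.1 (commutator_mem_Ub (hy _ (hY b4)) (hy _ (hY a4)))
    have e : pr F (u t) = y * φ (b4 * a4 * b4⁻¹ * a4⁻¹) * y⁻¹ := by
      rw [ht]; simp only [map_mul, map_inv]; group
    have e2 : pr F (u t) ^ 2 = 1 := by
      rw [e, conj_pow, ← map_pow, show (b4 * a4 * b4⁻¹ * a4⁻¹) ^ 2 = 1 by decide]; simp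
    rw [pr_u_pow] at e2
    have : t = 0 := by
      by_contra h0
      exact pr_u_ne_one (mul_ne_zero (by simpa using h2) h0) e2
    rw [this, show u (0 : F) = 1 from sl_ext (by simp [one_fin_two]), map_one, eq_comm,
      conj_eq_one_iff, map_eq_one_iff _ hφ] at e
    exact absurd e (by decide)
  · exfalso
    obtain ⟨g, hg, -, -, hle⟩ := le_Db_of_dihedral h2 hn e
    have key : ∀ a, a * a ≠ 1 → φ a ∈ Tb g := fun a ha => by
      by_contra h
      have := sq_of_mem_Db hg (hle (hY a)) h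
      rw [← map_mul, map_eq_one_iff _ hφ] at this
      exact ha this
    have := Tb_comm hg.ns (key b4 (by decide)) (key (a4 * b4) (by decide))
    rw [← map_mul, ← map_mul] at this
    exact absurd (hφ this) (by decide)
  · exact Or.inr (Or.inl h)
  · exact Or.inr (Or.inr (Or.inl h))
  · exact Or.inr (Or.inr (Or.inr (Or.inl h.2)))
  · rcases Nat.eq_or_lt_of_le hm1 with rfl | hm2
    · exact Or.inl (eq_top_of_sub (by simpa using hm) (h.imp_right And.right))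
    · exact Or.inr (Or.inr (Or.inr (Or.inr ⟨K, _, inferInstance, m, hm2, hK, hm, h⟩)))

omit [Finite F] in
theorem SubT.not_prime {Y : Subgroup PSL(2, F)} (h : SubT Y) : ¬ (Nat.card F).Prime := by
  obtain ⟨K, _, _, m, hm, hK, e, -⟩ := h
  intro hp
  rw [← e] at hp
  have := hp.eq_one_of_pow
  omega

omit [Finite F] in
theorem SubT.card {Y : Subgroup PSL(2, F)} (h : SubT Y) :
    ∃ (K : Type) (_ : Field K) (_ : Fintype K) (m : ℕ), 2 ≤ m ∧ Nat.card K ^ m = Nat.card F ∧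
      (Nat.card Y = Nat.card K * (Nat.card K ^ 2 - 1) ∨
        Odd (Nat.card K) ∧ 2 * Nat.card Y = Nat.card K * (Nat.card K ^ 2 - 1)) := by
  obtain ⟨K, _, _, m, hm, -, e, h⟩ := h
  refine ⟨K, inferInstance, inferInstance, m, hm, e, ?_⟩
  rcases h with ⟨⟨e⟩⟩ | ⟨ho, ⟨e⟩⟩
  · exact Or.inl (by rw [Nat.card_congr e.toEquiv, SLnCard.card_PGL2])
  · exact Or.inr ⟨ho, by rw [Nat.card_congr e.toEquiv, SLnCard.card_PSL2_odd ho]⟩

theorem two_ne {q : ℕ} (hq : Nat.card F = q) (h : q % 2 = 1) : (2 : F) ≠ 0 :=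
  two_ne_zero_of_odd (hq ▸ Nat.odd_iff.2 h)

theorem card_odd (h2 : (2 : F) ≠ 0) :
    2 * Nat.card PSL(2, F) = Nat.card F * (Nat.card F ^ 2 - 1) :=
  SLnCard.card_PSL2_odd (odd_card_of_two_ne_zero h2)

theorem ne_top_of (h2 : (2 : F) ≠ 0) {H : Subgroup PSL(2, F)} {r : ℕ} (hr : r ≤ Nat.card F)
    (h : 2 * Nat.card H < r * (r ^ 2 - 1)) : H ≠ ⊤ := by
  rintro rfl
  rw [Subgroup.card_top, card_odd h2] at h
  exact absurd (cub_mono hr) (not_le.2 h)

theorem mod8_of_four (h2 : (2 : F) ≠ 0) {x : PSL(2, F)} (hx : orderOf x = 4) :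
    Nat.card F % 8 = 1 ∨ Nat.card F % 8 = 7 := by
  have h4 : ((orderOf x : ℕ) : F) ≠ 0 := by
    rw [hx, show ((4 : ℕ) : F) = 2 * 2 by norm_num]; exact mul_ne_zero h2 h2
  have := orderOf_dvd_of_cast h4
  have ho := Nat.odd_iff.1 (odd_card_of_two_ne_zero h2)
  rw [dd_odd h2, hx] at this
  omega

theorem mod10_of_five (h2 : (2 : F) ≠ 0) (h5 : ((5 : ℕ) : F) ≠ 0) {x : PSL(2, F)}
    (hx : orderOf x = 5) : Nat.card F % 10 = 1 ∨ Nat.card F % 10 = 9 := by
  have := orderOf_dvd_of_cast (x := x) (hx ▸ h5)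
  have ho := Nat.odd_iff.1 (odd_card_of_two_ne_zero h2)
  rw [dd_odd h2, hx] at this
  omega

theorem eq_of_cast {q r : ℕ} (hq : q.Prime) (hr : r.Prime) (hF : Nat.card F = q)
    (h : (r : F) = 0) : q = r := by
  have := Fintype.ofFinite F
  have := Fact.mk hq
  have : CharP F q := charP_of_card_eq_prime (by rwa [← Nat.card_eq_fintype_card])
  exact (Nat.prime_dvd_prime_iff_eq hq hr).1 ((CharP.cast_eq_zero_iff F q r).1 h)

theorem isCoatom_S4 (hp : (Nat.card F).Prime) (h8 : Nat.card F % 8 = 1 ∨ Nat.card F % 8 = 7)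
    {H : Subgroup PSL(2, F)} (e : H ≃* Equiv.Perm (Fin 4)) : IsCoatom H := by
  have h2 : (2 : F) ≠ 0 := two_ne rfl (by omega)
  have hc : Nat.card H = 24 := by rw [Nat.card_congr e.toEquiv, card_S4]
  have := hp.two_le
  refine ⟨ne_top_of h2 (r := 7) (by omega) (by omega), fun Y hY => ?_⟩
  obtain ⟨d, l⟩ := card_lt hY
  rcases over_A4 h2 ((hasA4_of e _ (Subgroup.subtype_injective _)).mono hY.le) with
    h | ⟨-, ⟨e⟩⟩ | ⟨-, ⟨e⟩⟩ | ⟨⟨e⟩⟩ | h
  · exact h
  · rw [Nat.card_congr e.toEquiv, card_A4] at l; omega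
  · rw [Nat.card_congr e.toEquiv, card_S4] at l; omega
  · rw [Nat.card_congr e.toEquiv, card_A5, hc] at d; omega
  · exact absurd hp h.not_prime

theorem isCoatom_A4 (hp : (Nat.card F).Prime) (h5 : 5 ≤ Nat.card F)
    (h8 : Nat.card F % 8 = 3 ∨ Nat.card F % 8 = 5)
    (h10 : Nat.card F % 10 ≠ 1 ∧ Nat.card F % 10 ≠ 9)
    {H : Subgroup PSL(2, F)} (e : H ≃* alternatingGroup (Fin 4)) : IsCoatom H := by
  have h2 : (2 : F) ≠ 0 := two_ne rfl (by omega)
  have hc : Nat.card H = 12 := by rw [Nat.card_congr e.toEquiv, card_A4]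
  refine ⟨ne_top_of h2 (r := 5) (by omega) (by omega), fun Y hY => ?_⟩
  obtain ⟨d, l⟩ := card_lt hY
  rcases over_A4 h2 ((hasA4_of e (MonoidHom.id _) Function.injective_id).mono hY.le) with
    h | ⟨-, ⟨e⟩⟩ | ⟨-, ⟨e⟩⟩ | ⟨⟨e⟩⟩ | h
  · exact h
  · rw [Nat.card_congr e.toEquiv, card_A4] at l; omega
  · obtain ⟨x, hx⟩ := exists_four
    obtain ⟨y, -, hy⟩ := exists_order e x
    have := mod8_of_four h2 (hy.trans hx)
    omega
  · by_cases h5 : ((5 : ℕ) : F) = 0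
    · have h6 := eq_of_cast hp Nat.prime_five rfl h5
      have := card_odd h2
      rw [h6] at this
      exact Subgroup.eq_top_of_le_card _ (by rw [Nat.card_congr e.toEquiv, card_A5]; omega)
    · obtain ⟨x, hx⟩ := exists_five
      obtain ⟨y, -, hy⟩ := exists_order e x
      have := mod10_of_five h2 h5 (hy.trans hx)
      omega
  · exact absurd hp h.not_prime

theorem isCoatom_A5 {p : ℕ} (hp : p.Prime)
    (h : (Nat.card F = p ∧ (p % 10 = 1 ∨ p % 10 = 9)) ∨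
      (Nat.card F = p ^ 2 ∧ (p % 10 = 3 ∨ p % 10 = 7)))
    {H : Subgroup PSL(2, F)} (e : H ≃* alternatingGroup (Fin 5)) : IsCoatom H := by
  have := hp.two_le
  have h2 : (2 : F) ≠ 0 := by
    rcases h with ⟨h, h'⟩ | ⟨h, h'⟩
    · exact two_ne h (by omega)
    · exact two_ne h (Nat.odd_iff.1 (Odd.pow (Nat.odd_iff.2 (by omega))))
  have hc : Nat.card H = 60 := by rw [Nat.card_congr e.toEquiv, card_A5]
  have h7 : 7 ≤ Nat.card F := by
    rcases h with ⟨h, h'⟩ | ⟨h, h'⟩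
    · omega
    · have : 3 ≤ p := by omega
      nlinarith
  refine ⟨ne_top_of h2 h7 (by omega), fun Y hY => ?_⟩
  obtain ⟨d, l⟩ := card_lt hY
  obtain ⟨ψ, hψ⟩ := exists_A4_A5
  rcases over_A4 h2 ((hasA4_of e _ hψ).mono hY.le) with
    h | ⟨-, ⟨e⟩⟩ | ⟨-, ⟨e⟩⟩ | ⟨⟨e⟩⟩ | hs
  · exact h
  · rw [Nat.card_congr e.toEquiv, card_A4] at l; omega
  · rw [Nat.card_congr e.toEquiv, card_S4] at l; omega
  · rw [Nat.card_congr e.toEquiv, card_A5] at l; omega
  rcases h with ⟨h, -⟩ | ⟨h, h'⟩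
  · exact absurd (h ▸ hp) hs.not_prime
  obtain ⟨K, _, _, m, hm, e, hK⟩ := hs.card
  have hKp : Nat.card K = p := by
    rw [h] at e
    have h1 := SLnCard.two_le_card K
    obtain ⟨j, hj, e'⟩ := (Nat.dvd_prime_pow hp).1 (e ▸ dvd_pow_self (Nat.card K) (by omega))
    rw [e', ← pow_mul] at e
    have := Nat.pow_right_injective hp.two_le e
    have : j = 1 := by
      interval_cases j <;> omega
    rw [e', this, pow_one]
  have h5 : 5 ∣ p * (p ^ 2 - 1) := by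
    rw [hKp] at hK
    rw [hc] at d
    omega
  exfalso
  rw [SLnCard.sq_sub_one] at h5
  rcases (Nat.Prime.dvd_mul Nat.prime_five).1 h5 with h5 | h5
  · omega
  · rcases (Nat.Prime.dvd_mul Nat.prime_five).1 h5 with h5 | h5 <;> omega

variable {K : Type*} [Field K] [Finite K]

theorem isCoatom_PGL (hF : Nat.card F = Nat.card K ^ 2) (ho : Odd (Nat.card K))
    {H : Subgroup PSL(2, F)} (e : H ≃* PGL(2, K)) : IsCoatom H := by
  have h2 : (2 : F) ≠ 0 := two_ne_zero_of_odd (hF ▸ ho.pow)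
  have hc : Nat.card H = Nat.card K * (Nat.card K ^ 2 - 1) := by
    rw [Nat.card_congr e.toEquiv, SLnCard.card_PGL2]
  have h3 : 3 ≤ Nat.card K := by
    have := SLnCard.two_le_card K
    have := Nat.odd_iff.1 ho
    omega
  have h24 : 3 * (3 ^ 2 - 1) ≤ Nat.card H := hc ▸ cub_mono h3
  refine ⟨ne_top_of h2 le_rfl (hc ▸ cub_lt (by omega) hF.ge), fun Y hY => ?_⟩
  obtain ⟨d, l⟩ := card_lt hY
  obtain ⟨ψ, hψ⟩ := exists_A4 (F := K) fun h => (two_ne_zero_of_odd ho h).elim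
  rcases over_A4 h2 ((hasA4_of e (ProjectiveSpecialLinearGroup.toPGL.comp ψ)
    (ProjectiveSpecialLinearGroup.toPGL_injective.comp hψ)).mono hY.le) with
    h | ⟨-, ⟨e⟩⟩ | ⟨-, ⟨e⟩⟩ | ⟨⟨e⟩⟩ | hs
  · exact h
  · rw [Nat.card_congr e.toEquiv, card_A4] at l; omega
  · rw [Nat.card_congr e.toEquiv, card_S4] at l; omega
  · rw [Nat.card_congr e.toEquiv, card_A5] at l d
    rcases h3.eq_or_lt with h | h
    · rw [hc, ← h] at d; omega
    · have : 4 * (4 ^ 2 - 1) ≤ Nat.card H := hc ▸ cub_mono h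
      omega
  · obtain ⟨K', _, _, m, hm, e, hK⟩ := hs.card
    have : Nat.card K' ≤ Nat.card K := by
      by_contra hc
      have h1 : Nat.card K ^ 2 < Nat.card K' ^ 2 := Nat.pow_lt_pow_left (not_le.1 hc) two_ne_zero
      have : Nat.card K' ^ 2 ≤ Nat.card K' ^ m := Nat.pow_le_pow_right Nat.card_pos hm
      omega
    have := cub_mono this
    omega

theorem not_dvd_odd {r l : ℕ} (hr : Odd r) (h3 : 3 ≤ r) (hl : Odd l) :
    ¬ 2 * (r * (r ^ 2 - 1)) ∣ r ^ l * ((r ^ l) ^ 2 - 1) := by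
  intro h
  have h1 : 1 ≤ r ^ 2 := Nat.one_le_pow _ _ (by omega)
  have h9 : 9 ≤ r ^ 2 := by nlinarith
  have e := geom_sum_mul_add (r ^ 2 - 1) l
  rw [Nat.sub_add_cancel h1] at e
  have hs : Odd (∑ i ∈ Finset.range l, (r ^ 2) ^ i) := by
    rw [Finset.odd_sum_iff_odd_card_odd, Finset.filter_true_of_mem fun i _ => hr.pow.pow,
      Finset.card_range]
    exact hl
  rw [← pow_mul, mul_comm l 2, pow_mul, ← e, Nat.add_sub_cancel, ← mul_assoc, ← mul_assoc] at h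
  have := (Dvd.intro _ rfl : 2 ∣ 2 * r).trans (Nat.dvd_of_mul_dvd_mul_right (by omega) h)
  exact (Nat.not_even_iff_odd.2 (hr.pow.mul hs)) (even_iff_two_dvd.2 this)

theorem isCoatom_PSL_odd {l : ℕ} (hl : l.Prime) (hl2 : l ≠ 2) (hF : Nat.card F = Nat.card K ^ l)
    (ho : Odd (Nat.card K)) {H : Subgroup PSL(2, F)} (e : H ≃* PSL(2, K)) : IsCoatom H := by
  have h2 : (2 : F) ≠ 0 := two_ne_zero_of_odd (hF ▸ ho.pow)
  have hc : 2 * Nat.card H = Nat.card K * (Nat.card K ^ 2 - 1) := by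
    rw [Nat.card_congr e.toEquiv, SLnCard.card_PSL2_odd ho]
  have h1 := Nat.odd_iff.1 ho
  have h3 : 3 ≤ Nat.card K := by
    have := SLnCard.two_le_card K
    omega
  have hle : Nat.card K ^ 2 ≤ Nat.card F := hF ▸ Nat.pow_le_pow_right Nat.card_pos hl.two_le
  refine ⟨ne_top_of h2 le_rfl (by have := cub_lt (by omega) hle; omega), fun Y hY => ?_⟩
  obtain ⟨d, lt⟩ := card_lt hY
  obtain ⟨ψ, hψ⟩ := exists_A4 (F := K) fun h => (two_ne_zero_of_odd ho h).elim
  have h5 : ((3 : ℕ) : F) ≠ 0 → 60 ≤ Nat.card H := fun h => by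
    have : Nat.card K ≠ 3 := fun e => h (by
      have := cast_card_eq_zero (F := F)
      rw [hF, e, Nat.cast_pow] at this
      exact pow_eq_zero_iff hl.ne_zero |>.1 this)
    have : 5 * (5 ^ 2 - 1) ≤ 2 * Nat.card H := hc ▸ cub_mono (by omega)
    omega
  rcases over_A4 h2 ((hasA4_of e ψ hψ).mono hY.le) with
    h | ⟨h, ⟨e⟩⟩ | ⟨h, ⟨e⟩⟩ | ⟨⟨e⟩⟩ | hs
  · exact h
  · rw [Nat.card_congr e.toEquiv, card_A4] at lt
    have := h5 fun e => h (by rw [show 12 = 3 * 4 from rfl, Nat.cast_mul, e, zero_mul])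
    omega
  · rw [Nat.card_congr e.toEquiv, card_S4] at lt
    have := h5 fun e => h (by rw [show 24 = 3 * 8 from rfl, Nat.cast_mul, e, zero_mul])
    omega
  · exfalso
    rw [Nat.card_congr e.toEquiv, card_A5] at lt
    have h3' : Nat.card K = 3 := by
      by_contra hc'
      have : 5 * (5 ^ 2 - 1) ≤ 2 * Nat.card H := hc ▸ cub_mono (by omega)
      omega
    obtain ⟨x, hx⟩ := exists_five
    obtain ⟨y, -, hy⟩ := exists_order e x
    have h30 : ((3 : ℕ) : F) = 0 := by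
      have := cast_card_eq_zero (F := F)
      rw [hF, h3', Nat.cast_pow] at this
      exact pow_eq_zero_iff hl.ne_zero |>.1 this
    have := mod10_of_five h2 (fun h => h2 (by push_cast at h h30; linear_combination h - h30))
      (hy.trans hx)
    obtain ⟨j, rfl⟩ := hl.odd_of_ne_two hl2
    rw [hF, h3', pow_succ, pow_mul] at this
    have : ∀ j : ℕ, (3 ^ 2) ^ j % 10 = 1 ∨ (3 ^ 2) ^ j % 10 = 9 := fun j => by
      induction j with
      | zero => simp
      | succ j ih => rw [pow_succ]; omega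
    have := this j
    omega
  · exfalso
    obtain ⟨K', _, _, m, hm, e, hK⟩ := hs.card
    have d2 : Nat.card K * (Nat.card K ^ 2 - 1) ∣ 2 * Nat.card Y := hc ▸ mul_dvd_mul_left 2 d
    have hKK := card_sub_eq hl hm (e.trans hF) ((Dvd.intro_left _ rfl).trans (d2.trans (by
      rcases hK with h | ⟨-, h⟩
      · rw [h]
      · rw [h]; exact Dvd.intro_left _ rfl)))
    rw [hKK] at hK
    rcases hK with h | ⟨-, h⟩
    · refine not_dvd_odd ho h3 (hl.odd_of_ne_two hl2) ?_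
      rw [← hF, ← card_odd h2, ← h]
      exact mul_dvd_mul_left 2 (Subgroup.card_subgroup_dvd_card Y)
    · omega

theorem not_solvable (h4 : 4 ≤ Nat.card K) : ¬ Group.IsSolvable PSL(2, K) := by
  have := ProjectiveSpecialLinearGroup.rank_two_simple h4
  rw [← IsSimpleGroup.comm_iff_isSolvable]
  intro h
  obtain ⟨g, hg⟩ := exists_aniso_SL K
  refine Db_ne_top (SS.of_aniso hg) (by omega) (eq_top_iff.2 fun x _ => ?_)
  rw [← D_eq_Db (SS.of_aniso hg) (self_mem_Tb g) (pr_ne_one_iff.2 hg.ns)]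
  exact C_le_D _ (mem_C_iff.2 (h _ _))

theorem even_cases (h2 : (2 : F) = 0) (Y : Subgroup PSL(2, F)) :
    Group.IsSolvable Y ∨ Y = ⊤ ∨ SubT Y := by
  rcases dickson_PSL Y with ⟨h1, -⟩ | ⟨-, y, hy⟩ | ⟨n, h2, hn, ⟨e⟩⟩ | h | h | h |
    ⟨K, _, _, m, hm1, hK, hm, h⟩
  · exact Or.inl (Group.isSolvable_of_comm h1.isMulCommutative.is_comm.comm)
  · have := isSolvable_Bb (F := F)
    exact Or.inl (isSolvable_of_conj_le hy)
  · obtain ⟨g, hg, -, -, hle⟩ := le_Db_of_dihedral h2 hn e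
    have := isSolvable_Db hg
    exact Or.inl (isSolvable_of_conj_le (K := Db g) (y := 1) fun x hx => by simpa using hle hx)
  · exact (two_ne_of_cast (by norm_num) (Or.inl h.1) h2).elim
  · exact (two_ne_of_cast (by norm_num) (Or.inl h.1) h2).elim
  · exact (two_ne_of_cast (by norm_num) h.1 h2).elim
  · rcases Nat.eq_or_lt_of_le hm1 with rfl | hm2
    · exact Or.inr (Or.inl (eq_top_of_sub (by simpa using hm) (h.imp_right And.right)))
    · exact Or.inr (Or.inr ⟨K, _, inferInstance, m, hm2, hK, hm, h⟩)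

theorem isCoatom_PSL_even {l : ℕ} (hl : l.Prime) (hF : Nat.card F = Nat.card K ^ l)
    (he : Even (Nat.card K)) (hK2 : Nat.card K ≠ 2) {H : Subgroup PSL(2, F)}
    (e : H ≃* PSL(2, K)) : IsCoatom H := by
  have hFe : Even (Nat.card F) := hF ▸ he.pow_of_ne_zero hl.ne_zero
  have h2 : (2 : F) = 0 := two_eq_zero_of_even hFe
  have hc : Nat.card H = Nat.card K * (Nat.card K ^ 2 - 1) := by
    rw [Nat.card_congr e.toEquiv, SLnCard.card_PSL2_even he]
  have h4 : 4 ≤ Nat.card K := by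
    have := SLnCard.two_le_card K
    have := Nat.even_iff.1 he
    omega
  have hle : Nat.card K ^ 2 ≤ Nat.card F := hF ▸ Nat.pow_le_pow_right Nat.card_pos hl.two_le
  refine ⟨?_, fun Y hY => ?_⟩
  · rintro rfl
    have := cub_lt (by omega) hle
    rw [Subgroup.card_top, SLnCard.card_PSL2_even hFe] at hc
    omega
  obtain ⟨d, lt⟩ := card_lt hY
  rcases even_cases h2 Y with h | h | hs
  · exact absurd (Group.isSolvable_of_isSolvable_injective
      (f := (Subgroup.inclusion hY.le).comp e.symm.toMonoidHom)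
      ((Subgroup.inclusion_injective hY.le).comp e.symm.injective)) (not_solvable h4)
  · exact h
  · exfalso
    obtain ⟨K', _, _, m, hm, e, hK⟩ := hs.card
    have hK := hK.resolve_right fun h => Nat.not_even_iff_odd.2 (e ▸ h.1.pow) hFe
    have hKK := card_sub_eq hl hm (e.trans hF) ((Dvd.intro_left _ rfl).trans
      ((hc ▸ hK ▸ d : _ ∣ _).trans (Dvd.intro_left _ rfl)))
    rw [hKK] at hK
    omega

/-- the image of `PSL₂` in `PGL₂` -/
abbrev LL (F : Type*) [Field F] : Subgroup PGL(2, F) :=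
  (SpecialLinearGroup.toPGL : SL(2, F) →* PGL(2, F)).range

omit [Finite F] in
theorem mk_mem_LL {g : GL (Fin 2) F} (h : IsSquare g.1.det) : ProjGenLinGroup.mk g ∈ LL F := by
  obtain ⟨c, hc⟩ := h
  have h0 : c ≠ 0 := fun e => g.det_ne_zero (by rw [hc, e, mul_zero])
  refine ⟨⟨c⁻¹ • g.1, by rw [det_smul, hc]; simp; field_simp⟩, ?_⟩
  refine ProjGenLinGroup.mk_eq_mk_iff.2 ⟨Units.mk0 c h0, Units.ext ?_⟩
  simp only [Units.val_mul, GeneralLinearGroup.coe_scalar, scalar_apply, ← smul_eq_mul_diagonal]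
  exact smul_inv_smul₀ h0 g.1

omit [Finite K] in
theorem isSquare_of_even (ι : K →+* F) {m : ℕ} (hm : Nat.card K ^ (2 * m) = Nat.card F) (a : K) :
    IsSquare (ι a) := by
  have := Fintype.ofFinite F
  have : Finite K := Finite.of_injective ι ι.injective
  have := Fintype.ofFinite K
  rcases eq_or_ne a 0 with rfl | ha
  · simp
  by_cases h2 : ringChar F = 2
  · exact FiniteField.isSquare_of_char_two h2 _
  rw [FiniteField.isSquare_iff h2 (by simpa using ha), ← map_pow]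
  have ho := FiniteField.odd_card_of_char_ne_two h2
  simp only [Nat.card_eq_fintype_card] at hm
  have hK : Odd (Fintype.card K ^ m) := by
    rw [← Nat.not_even_iff_odd]
    intro h
    have := h.mul_left (Fintype.card K ^ m)
    rw [← pow_add, ← two_mul, hm, Nat.even_iff] at this
    omega
  obtain ⟨c, hc⟩ := Nat.sub_one_dvd_pow_sub_one (Fintype.card K) m
  obtain ⟨d, hd⟩ := hK
  have : Fintype.card F / 2 = (Fintype.card K - 1) * (c * (d + 1)) := by
    rw [← mul_assoc, ← hc, ← hm, mul_comm 2 m, pow_mul, hd, Nat.add_sub_cancel]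
    have : (2 * d + 1) ^ 2 = 2 * (2 * d * (d + 1)) + 1 := by ring
    omega
  rw [this, pow_mul, FiniteField.pow_card_sub_one_eq_one a ha, one_pow, map_one]

omit [Finite K] in
theorem map_le_LL (ι : K →+* F) {m : ℕ} (hm : Nat.card K ^ (2 * m) = Nat.card F) :
    (ProjGenLinGroup.map ι : PGL(2, K) →* PGL(2, F)).range ≤ LL F := by
  rintro _ ⟨g, rfl⟩
  obtain ⟨g, rfl⟩ := ProjGenLinGroup.mk_surjective g
  refine mk_mem_LL ?_
  have := isSquare_of_even ι hm g.1.det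
  rwa [RingHom.map_det] at this

/-- `PSL₂ ≃ LL` -/
noncomputable def eLL (F : Type*) [Field F] : PSL(2, F) ≃* LL F :=
  (MonoidHom.ofInjective ProjectiveSpecialLinearGroup.toPGL_injective).trans
    (MulEquiv.subgroupCongr SLnCard.toPGL_range_eq)

theorem exists_PGL (hF : Nat.card F = Nat.card K ^ 2) :
    ∃ φ : PGL(2, K) →* PSL(2, F), Function.Injective φ := by
  obtain ⟨ι⟩ := FieldIso.nonempty_hom_of_pow hF.symm
  exact ⟨(eLL F).symm.toMonoidHom.comp ((ProjGenLinGroup.map ι).codRestrict _ fun g =>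
    map_le_LL ι (m := 1) hF.symm ⟨g, rfl⟩), (eLL F).symm.injective.comp fun a b h =>
      PGL2Act.map_injective ι (congrArg Subtype.val h)⟩

end CA.PSL2Cl1
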