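import Cfsg.Agent.Lib.Comp.H27Words

/-! Presentations of `A₄`, `S₄`, `A₅` as triangle groups `(2,3,3)`, `(2,3,4)`, `(2,3,5)`. -/

set_option autoImplicit false

namespace CA.TriPres

open CA.H27Words Equiv

def RA4b : List Rule := [([0,0],[]),([1,1,1],[]),([0,1,0,1,0,1],[])]
def RA4 : List Rule := complete 14 RA4b [([0,0,1,0,1,0,1],2,1,false),([1,0,1,0,1,1,1],5,4,true),([1,0,1,0,0],4,3,false),([0,0,1,1,0],2,1,true),([1,1,1,0,1,0],3,2,true)]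
def RA4W : List (List ℕ) := [[],[0],[1],[1,0],[0,1],[1,1],[0,1,0],[1,1,0],[1,0,1],[0,1,1],[1,1,0,1],[1,0,1,1]]
theorem RA4_closed : closedB RA4 14 2 RA4W = true := by decide +kernel

def RS4b : List Rule := [([0,0],[]),([1,1,1],[]),([0,1,0,1,0,1,0,1],[])]
def RS4 : List Rule := complete 22 RS4b [([0,0,1,0,1,0,1,0,1],2,1,false),([1,0,1,0,1,0,1,1,1],7,6,true),([1,0,1,0,1,0,0],6,5,true),([1,0,1,0,1,1,1],5,4,false),([1,1,1,0,1,0,1],3,2,true),([0,0,1,1,0,1,1],2,1,false),([1,0,1,0,1,1,0,1,1],5,3,true)]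
def RS4W : List (List ℕ) := [[],[0],[1],[1,0],[0,1],[1,1],[0,1,0],[1,1,0],[1,0,1],[0,1,1],[1,0,1,0],[0,1,1,0],[0,1,0,1],[1,1,0,1],[1,0,1,1],[0,1,0,1,0],[1,1,0,1,0],[1,0,1,1,0],[0,1,1,0,1],[0,1,0,1,1],[0,1,1,0,1,0],[0,1,0,1,1,0],[1,0,1,1,0,1],[0,1,0,1,1,0,1]]
theorem RS4_closed : closedB RS4 22 2 RS4W = true := by decide +kernel

def RA5b : List Rule := [([0,0],[]),([1,1,1],[]),([0,1,0,1,0,1,0,1,0,1],[])]
def RA5 : List Rule := complete 37 RA5b [([0,0,1,0,1,0,1,0,1,0,1],2,1,false),([1,0,1,0,1,0,1,0,1,1,1],9,8,true),([1,0,1,0,1,0,1,0,0],8,7,true),([1,0,1,0,1,0,1,1,1],7,6,true),([1,0,1,0,1,0,0],6,5,false),([1,1,1,0,1,0,1,0],3,2,true),([0,0,1,1,0,1,1,0],2,1,false),([1,1,0,1,1,0,1,0,1,0],6,4,true),([1,1,0,1,1,0,1,0,1,0,1],6,4,false),([0,1,1,0,1,1,0,1,0,1,0,1],7,5,false),([1,1,0,1,1,0,1,0,1,1,0,1,0,1],6,4,true)]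
def RA5W : List (List ℕ) := [[],[0],[1],[1,0],[0,1],[1,1],[0,1,0],[1,1,0],[1,0,1],[0,1,1],[1,0,1,0],[0,1,1,0],[0,1,0,1],[1,1,0,1],[1,0,1,1],[0,1,0,1,0],[1,1,0,1,0],[1,0,1,1,0],[1,0,1,0,1],[0,1,1,0,1],[0,1,0,1,1],[1,1,0,1,1],[0,1,1,0,1,1],[0,1,1,0,1,0],[0,1,0,1,1,0],[0,1,0,1,0,1],[1,1,0,1,0,1],[1,0,1,1,0,1],[1,0,1,0,1,1],[1,0,1,1,0,1,1],[1,0,1,1,0,1,0],[1,0,1,0,1,1,0],[0,1,1,0,1,0,1],[0,1,0,1,1,0,1],[0,1,0,1,0,1,1],[1,1,0,1,0,1,1],[0,1,0,1,1,0,1,1],[0,1,0,1,1,0,1,0],[0,1,0,1,0,1,1,0],[1,1,0,1,0,1,1,0],[1,0,1,1,0,1,0,1],[1,0,1,0,1,1,0,1],[0,1,1,0,1,0,1,1],[1,0,1,0,1,1,0,1,1],[1,0,1,0,1,1,0,1,0],[0,1,1,0,1,0,1,1,0],[0,1,0,1,1,0,1,0,1],[0,1,0,1,0,1,1,0,1],[1,1,0,1,0,1,1,0,1],[1,0,1,1,0,1,0,1,1],[0,1,0,1,0,1,1,0,1,1],[0,1,0,1,0,1,1,0,1,0],[1,1,0,1,0,1,1,0,1,0],[1,0,1,1,0,1,0,1,1,0],[0,1,1,0,1,0,1,1,0,1],[0,1,0,1,1,0,1,0,1,1],[0,1,1,0,1,0,1,1,0,1,0],[0,1,0,1,1,0,1,0,1,1,0],[1,0,1,1,0,1,0,1,1,0,1],[0,1,0,1,1,0,1,0,1,1,0,1]]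
theorem RA5_closed : closedB RA5 37 2 RA5W = true := by decide +kernel

theorem closure_eq_top_of_nodup {Γ : Type*} [Group Γ] [Finite Γ] (s : ℕ → Γ) (m : ℕ)
    (W : List (List ℕ)) (hW : ∀ w ∈ W, ∀ i ∈ w, i < m) (hn : (W.map (ev s)).Nodup)
    (hc : Nat.card Γ ≤ W.length) : Subgroup.closure (s '' {i | i < m}) = ⊤ := by
  classical
  have := Fintype.ofFinite Γ
  have hmem : ∀ w : List ℕ, (∀ i ∈ w, i < m) → ev s w ∈ Subgroup.closure (s '' {i | i < m}) := by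
    intro w
    induction w with
    | nil => intro _; exact Subgroup.one_mem _
    | cons a w ih =>
      intro h
      exact Subgroup.mul_mem _ (Subgroup.subset_closure ⟨a, h a List.mem_cons_self, rfl⟩)
        (ih fun i hi => h i (List.mem_cons_of_mem _ hi))
  have : (W.map (ev s)).toFinset = Finset.univ := by
    apply Finset.eq_univ_of_card
    apply le_antisymm (Finset.card_le_univ _)
    rw [List.toFinset_card_of_nodup hn, List.length_map, ← Nat.card_eq_fintype_card]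
    exact hc
  rw [eq_top_iff]
  intro x _
  have hx : x ∈ (W.map (ev s)).toFinset := this ▸ Finset.mem_univ x
  obtain ⟨w, hw, rfl⟩ := List.mem_map.1 (List.mem_toFinset.1 hx)
  exact hmem w (hW w hw)

/-- two generators as a sequence -/
def two {G : Type*} (x y : G) (i : ℕ) : G := if i = 0 then x else y

theorem holds_tri {G : Type*} [Group G] {x y : G} (hx : x ^ 2 = 1) (hy : y ^ 3 = 1) (w : List ℕ)
    (hw : ev (two x y) w = 1) : Holds (two x y) [([0, 0], []), ([1, 1, 1], []), (w, [])] := by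
  intro r hr
  simp only [List.mem_cons, List.not_mem_nil, or_false] at hr
  rcases hr with rfl | rfl | rfl
  · simpa [two, sq] using hx
  · simpa [two, pow_succ, mul_assoc] using hy
  · exact hw

def a4 : alternatingGroup (Fin 4) := ⟨swap 0 1 * swap 2 3, Perm.mem_alternatingGroup.2 (by decide)⟩
def b4 : alternatingGroup (Fin 4) := ⟨swap 0 1 * swap 1 2, Perm.mem_alternatingGroup.2 (by decide)⟩
def s4 : Perm (Fin 4) := swap 0 1
def t4 : Perm (Fin 4) := swap 1 2 * swap 2 3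
def a5 : alternatingGroup (Fin 5) := ⟨swap 0 1 * swap 2 3, Perm.mem_alternatingGroup.2 (by decide)⟩
def b5 : alternatingGroup (Fin 5) := ⟨swap 0 2 * swap 2 4, Perm.mem_alternatingGroup.2 (by decide)⟩

theorem exists_hom_A4 {G : Type*} [Group G] {x y : G} (hx : x ^ 2 = 1) (hy : y ^ 3 = 1)
    (hxy : (x * y) ^ 3 = 1) : ∃ φ : alternatingGroup (Fin 4) →* G, φ a4 = x ∧ φ b4 = y := by
  have hc : Nat.card (alternatingGroup (Fin 4)) = 12 := by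
    rw [nat_card_alternatingGroup, Nat.card_fin]; rfl
  obtain ⟨φ, hφ⟩ := exists_hom (two a4 b4) (two x y) (R := RA4)
    (complete_sound _ _ _ _ (holds_tri (by decide) (by decide) _ (by decide +kernel)))
    (complete_sound _ _ _ _ (holds_tri hx hy _ (by simpa [two, pow_succ, mul_assoc] using hxy)))
    RA4_closed (closure_eq_top_of_nodup _ 2 RA4W (by decide) (by decide +kernel) (by rw [hc]; rfl))
    (by rw [hc]; rfl)
  exact ⟨φ, hφ 0 (by norm_num), hφ 1 (by norm_num)⟩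

theorem exists_hom_S4 {G : Type*} [Group G] {x y : G} (hx : x ^ 2 = 1) (hy : y ^ 3 = 1)
    (hxy : (x * y) ^ 4 = 1) : ∃ φ : Perm (Fin 4) →* G, φ s4 = x ∧ φ t4 = y := by
  have hc : Nat.card (Perm (Fin 4)) = 24 := by
    rw [Nat.card_perm, Nat.card_fin]; rfl
  obtain ⟨φ, hφ⟩ := exists_hom (two s4 t4) (two x y) (R := RS4)
    (complete_sound _ _ _ _ (holds_tri (by decide) (by decide) _ (by decide +kernel)))
    (complete_sound _ _ _ _ (holds_tri hx hy _ (by simpa [two, pow_succ, mul_assoc] using hxy)))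
    RS4_closed (closure_eq_top_of_nodup _ 2 RS4W (by decide) (by decide +kernel) (by rw [hc]; rfl))
    (by rw [hc]; rfl)
  exact ⟨φ, hφ 0 (by norm_num), hφ 1 (by norm_num)⟩

theorem exists_hom_A5 {G : Type*} [Group G] {x y : G} (hx : x ^ 2 = 1) (hy : y ^ 3 = 1)
    (hxy : (x * y) ^ 5 = 1) : ∃ φ : alternatingGroup (Fin 5) →* G, φ a5 = x ∧ φ b5 = y := by
  have hc : Nat.card (alternatingGroup (Fin 5)) = 60 := by
    rw [nat_card_alternatingGroup, Nat.card_fin]; rfl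
  obtain ⟨φ, hφ⟩ := exists_hom (two a5 b5) (two x y) (R := RA5)
    (complete_sound _ _ _ _ (holds_tri (by decide) (by decide) _ (by decide +kernel)))
    (complete_sound _ _ _ _ (holds_tri hx hy _ (by simpa [two, pow_succ, mul_assoc] using hxy)))
    RA5_closed (closure_eq_top_of_nodup _ 2 RA5W (by decide) (by decide +kernel) (by rw [hc]; rfl))
    (by rw [hc]; rfl)
  exact ⟨φ, hφ 0 (by norm_num), hφ 1 (by norm_num)⟩

theorem injective_of_conj {Γ G : Type*} [Group Γ] [Group G] (φ : Γ →* G) (a : Γ) (ha : φ a ≠ 1)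
    (h : ∀ σ : Γ, σ ≠ 1 → ∃ g k : Γ, a = g * σ * g⁻¹ ∨ a = g * σ * g⁻¹ * (k * σ⁻¹ * k⁻¹)) :
    Function.Injective φ := by
  rw [injective_iff_map_eq_one]
  intro σ hσ
  by_contra h1
  obtain ⟨g, k, e | e⟩ := h σ h1 <;> exact ha (by rw [e]; simp [hσ])

theorem exists_inj_A4 {G : Type*} [Group G] {x y : G} (hx : x ^ 2 = 1) (hy : y ^ 3 = 1)
    (hxy : (x * y) ^ 3 = 1) (h1 : x ≠ 1) :
    ∃ φ : alternatingGroup (Fin 4) →* G, Function.Injective φ ∧ φ a4 = x ∧ φ b4 = y := by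
  obtain ⟨φ, h2, h3⟩ := exists_hom_A4 hx hy hxy
  exact ⟨φ, injective_of_conj φ a4 (h2 ▸ h1) (by decide +kernel), h2, h3⟩

theorem exists_inj_S4 {G : Type*} [Group G] {x y : G} (hx : x ^ 2 = 1) (hy : y ^ 3 = 1)
    (hxy : (x * y) ^ 4 = 1) (h1 : (x * y) ^ 2 ≠ 1) :
    ∃ φ : Perm (Fin 4) →* G, Function.Injective φ ∧ φ s4 = x ∧ φ t4 = y := by
  obtain ⟨φ, h2, h3⟩ := exists_hom_S4 hx hy hxy
  exact ⟨φ, injective_of_conj φ ((s4 * t4) ^ 2) (by rwa [map_pow, map_mul, h2, h3])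
    (by decide +kernel), h2, h3⟩

theorem exists_inj_A5 {G : Type*} [Group G] {x y : G} (hx : x ^ 2 = 1) (hy : y ^ 3 = 1)
    (hxy : (x * y) ^ 5 = 1) (h1 : x ≠ 1) :
    ∃ φ : alternatingGroup (Fin 5) →* G, Function.Injective φ ∧ φ a5 = x ∧ φ b5 = y := by
  obtain ⟨φ, h2, h3⟩ := exists_hom_A5 hx hy hxy
  refine ⟨φ, ?_, h2, h3⟩
  rcases φ.normal_ker.eq_bot_or_eq_top with h | h
  · exact (MonoidHom.ker_eq_bot_iff φ).1 h
  · exact (h1 (h2 ▸ (show a5 ∈ φ.ker from h ▸ Subgroup.mem_top _))).elim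

end CA.TriPres
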