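import Cfsg.Agent.Lib.Lin.PSL2Cl1

/-! Rational form of Dickson's theorem for `PGL₂(q)`; subfield subgroups; triangle subgroups. -/

namespace CA.PSL2Cl2

open Matrix MulAction OnePoint CA.SL2Basic CA.Mat2 CA.SL2Torus CA.SL2Embed CA.SL2Class CA.SL2Unip
  CA.SL2Reps CA.PSL2Struct CA.PSL2Sub CA.PSL2Max CA.TriPres CA.PSL2Cl1 CA.KleinCount CA.PGL2Act
  CA.PGL2Dickson
open scoped MatrixGroups

variable {F : Type*} [Field F] [Finite F]

omit [Field F] in
theorem card_line : Nat.card (OnePoint F) = Nat.card F + 1 := Finite.card_option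

theorem uni_rational {k : Type*} [Field k] [DecidableEq k] (f : F →+* k) {g : PGL(2, F)}
    {y : OnePoint k} (h : Uni (ProjGenLinGroup.map f g) y) : ∃ x : OnePoint F, y = x.map f := by
  classical
  have := Fintype.ofFinite F
  obtain ⟨p, _, n, hp, hn⟩ := FiniteField.card' F
  have := Fact.mk hp
  have h1 : g ^ p = 1 := map_injective f (by
    rw [map_pow, map_one, uni_pow_eq_one_iff h, ← map_natCast f, CharP.cast_eq_zero, map_zero])
  have hP : IsPGroup p (Subgroup.zpowers g) := IsPGroup.of_card_dvd_pow (n := 1) (by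
    rw [Nat.card_zpowers, pow_one]; exact orderOf_dvd_of_pow_eq_one h1)
  obtain ⟨x, hx⟩ := hP.nonempty_fixed_point_of_prime_not_dvd_card (OnePoint F) (by
    rw [card_line, Nat.card_eq_fintype_card, hn]
    exact fun h => hp.one_lt.ne' (Nat.dvd_one.1
      ((Nat.dvd_add_right (dvd_pow_self p n.ne_zero)).1 h)))
  refine ⟨x, (h.2.2 _ ?_).symm⟩
  rw [map_smul_map]
  exact congrArg _ (hx ⟨g, Subgroup.mem_zpowers g⟩)

omit [Finite F] in
theorem A_mem_LL (b : F) : A 1 b ∈ LL F := ⟨_, toPGL_transvection01 b⟩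

omit [Finite F] in
theorem WAW_mem_LL (b : F) : W * A 1 b * W ∈ LL F := ⟨_, toPGL_transvection10 b⟩

omit [Finite F] in
theorem piS_range {K : Type*} [Field K] (ι : K →+* F) :
    (piS ι).range = (LL K).map (ProjGenLinGroup.map ι) := MonoidHom.range_comp _ _

omit [Finite F] in
theorem piS_le_LL {K : Type*} [Field K] (ι : K →+* F) : (piS ι).range ≤ LL F := by
  rintro _ ⟨s, rfl⟩
  exact ⟨_, (piS_eq ι s).symm⟩

omit [Finite F] in
theorem piS_le {K : Type*} [Field K] (ι : K →+* F) :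
    (piS ι).range ≤ (ProjGenLinGroup.map ι).range := piS_range ι ▸ Subgroup.map_le_range _ _

omit [Finite F] in
theorem map_W {K : Type*} [Field K] (ι : K →+* F) : ProjGenLinGroup.map ι W = W :=
  congrArg ProjGenLinGroup.mk (Units.ext (by ext i j; fin_cases i <;> fin_cases j <;> simp))

omit [Finite F] in
theorem map_A1 {K : Type*} [Field K] (ι : K →+* F) (b : K) :
    ProjGenLinGroup.map ι (A 1 b) = A 1 (ι b) := by rw [map_A, map_one]

/-- conjugate subgroup -/
abbrev cj {G : Type*} [Group G] (γ : G) (H : Subgroup G) : Subgroup G :=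
  H.map (MulAut.conj γ).toMonoidHom

theorem dicksonPGL [DecidableEq F] (H : Subgroup PGL(2, F)) :
    (∃ x : OnePoint F, ∀ g ∈ H, g • x = x) ∨ (IsCyclic H ∧ (Nat.card H : F) ≠ 0) ∨
    (∃ n : ℕ, 2 ≤ n ∧ (n : F) ≠ 0 ∧ Nonempty (H ≃* DihedralGroup n)) ∨
    (((12 : ℕ) : F) ≠ 0 ∧ Nonempty (H ≃* alternatingGroup (Fin 4))) ∨
    (((24 : ℕ) : F) ≠ 0 ∧ Nonempty (H ≃* Equiv.Perm (Fin 4))) ∨
    ((((60 : ℕ) : F) ≠ 0 ∨ ((3 : ℕ) : F) = 0) ∧ Nonempty (H ≃* alternatingGroup (Fin 5))) ∨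
    ∃ (K : Type) (_ : Field K) (_ : Fintype K) (ι : K →+* F) (γ : PGL(2, F)), 3 ≤ Nat.card K ∧
      (cj γ H = (ProjGenLinGroup.map ι).range ∨ (Odd (Nat.card K) ∧ cj γ H = (piS ι).range)) := by
  classical
  let k := AlgebraicClosure F
  let f : F →+* k := algebraMap F k
  have hc : ∀ n : ℕ, (n : k) = 0 ↔ (n : F) = 0 := fun n => by
    rw [← map_natCast f, map_eq_zero]
  let G := H.map (ProjGenLinGroup.map f)
  let e : H ≃* G := H.equivMapOfInjective _ (map_injective f)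
  have : Finite G := Finite.of_equiv _ e.toEquiv
  have hcard : Nat.card G = Nat.card H := (Nat.card_congr e.toEquiv).symm
  rcases dickson G with ⟨x, hx⟩ | ⟨n, h2, hn, ⟨e'⟩⟩ | ⟨hn, ⟨e'⟩⟩ | ⟨hn, ⟨e'⟩⟩ | ⟨h60, hs, hn⟩ |
    ⟨K, γ, hf, h3, h⟩
  · by_cases hu : ∃ g : G, Uni g x
    · left
      obtain ⟨⟨_, n, hn, rfl⟩, hu⟩ := hu
      obtain ⟨x, rfl⟩ := uni_rational f (uni_coe_iff.1 hu)
      exact ⟨x, fun g hg => onePoint_map_injective f (by
        rw [← map_smul_map]; exact hx _ ⟨g, hg, rfl⟩)⟩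
    · right; left
      push Not at hu
      have hst : stabilizer G x = ⊤ := eq_top_iff.2 fun g _ => hx g.1 g.2
      obtain ⟨χ, hχ⟩ := exists_inj_of_not_uni G x hu
      have h1 : IsCyclic (stabilizer G x) := isCyclic_of_injective_ringHom
        (Units.coeHom k |>.comp χ) (Units.val_injective.comp hχ)
      have h2 := card_stabilizer_ne_zero G x hu
      rw [hst] at h1 h2
      rw [Subgroup.card_top, hcard, Ne, hc] at h2
      exact ⟨isCyclic_of_surjective (e.symm.toMonoidHom.comp (⊤ : Subgroup G).subtype)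
        (e.symm.surjective.comp fun g => ⟨⟨g, trivial⟩, rfl⟩), h2⟩
  · exact Or.inr (Or.inr (Or.inl ⟨n, h2, by rwa [Ne, ← hc], ⟨e.trans e'⟩⟩))
  · exact Or.inr (Or.inr (Or.inr (Or.inl ⟨by rwa [Ne, ← hc], ⟨e.trans e'⟩⟩)))
  · exact Or.inr (Or.inr (Or.inr (Or.inr (Or.inl ⟨by rwa [Ne, ← hc], ⟨e.trans e'⟩⟩))))
  · obtain ⟨e'⟩ := Cfsg.Agent.S0494.result h60
    exact Or.inr (Or.inr (Or.inr (Or.inr (Or.inr (Or.inl
      ⟨by rwa [Ne, ← hc, ← hc], ⟨e.trans e'⟩⟩)))))
  refine Or.inr (Or.inr (Or.inr (Or.inr (Or.inr (Or.inr ?_)))))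
  have hle : ∀ u ∈ LL K, ProjGenLinGroup.map K.subtype u ∈ cj γ G := by
    intro u hu
    rcases h with h | ⟨-, h⟩
    · exact h.ge ⟨u, rfl⟩
    · exact h.ge ((piS_range K.subtype).ge ⟨u, hu, rfl⟩)
  have hrat : ∀ (u : PGL(2, K)) (y : OnePoint k), u ∈ LL K →
      Uni (ProjGenLinGroup.map K.subtype u) y → ∃ x : OnePoint F, γ⁻¹ • y = x.map f := by
    intro u y hu hy
    obtain ⟨_, ⟨s, -, rfl⟩, hs⟩ := hle u hu
    have := hy.conj γ⁻¹
    rw [← hs] at this
    exact uni_rational f (g := s) (by simpa [mul_assoc] using this)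
  have u1 : Uni (A (1 : kˣ) 1) ∞ := uni_A_iff.2 ⟨rfl, one_ne_zero⟩
  have u2 := u1.conj W
  rw [W_inv, W_smul_infty] at u2
  have u3 := u2.conj (A 1 1)
  rw [A_smul_coe, mul_zero, zero_add] at u3
  obtain ⟨x1, h1⟩ := hrat (A 1 1) ∞ (A_mem_LL 1) (by rwa [map_A1, map_one])
  obtain ⟨x2, h2⟩ := hrat _ (0 : k) (WAW_mem_LL 1) (by rwa [map_mul, map_mul, map_A1, map_one, map_W])
  obtain ⟨x3, h4⟩ := hrat (A 1 1 * (W * A 1 1 * W) * (A 1 1)⁻¹) (1 : k)
    ((LL K).mul_mem ((LL K).mul_mem (A_mem_LL 1) (WAW_mem_LL 1)) ((LL K).inv_mem (A_mem_LL 1)))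
    (by simpa only [map_mul, map_inv, map_A1, map_one, map_W] using u3)
  have ne : ∀ {a b : OnePoint k} {x y : OnePoint F}, γ⁻¹ • a = x.map f → γ⁻¹ • b = y.map f →
      a ≠ b → x ≠ y := fun ha hb hab e => hab (smul_left_cancel γ⁻¹ (by rw [ha, hb, e]))
  obtain ⟨δ, d1, d2, d3⟩ := exists_smul_three (ne h1 h2 (infty_ne_coe _)) (ne h1 h4 (infty_ne_coe _))
    (ne h2 h4 zero_ne_one')
  have hδ : ProjGenLinGroup.map f δ = γ⁻¹ := eq_of_std
    (by rw [h1, ← d1, ← map_smul_map]; rfl)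
    (by rw [h2, ← d2, ← map_smul_map, OnePoint.map_some, map_zero])
    (by rw [h4, ← d3, ← map_smul_map, OnePoint.map_some, map_one])
  have hG : cj γ G = (cj δ⁻¹ H).map (ProjGenLinGroup.map f) := by
    rw [cj, Subgroup.map_map, Subgroup.map_map]
    congr 1
    ext g
    simp [hδ]
  have hK : K ≤ f.fieldRange := by
    intro b hb
    obtain ⟨s, -, hs⟩ := hG.le (hle _ (A_mem_LL (⟨b, hb⟩ : K)))
    have := map_smul_map f s ((0 : F) : OnePoint F)
    rw [hs, map_A1, OnePoint.map_some, A_smul_coe] at this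
    generalize s • ((0 : F) : OnePoint F) = z at this
    induction z using OnePoint.rec with
    | infty => exact absurd this (coe_ne_infty _)
    | coe z => exact ⟨z, by simpa using (OnePoint.coe_injective this).symm⟩
  obtain ⟨K', _, _, ⟨σ⟩⟩ := FieldIso.exists_model K
  let ι : K →+* F := (f.rangeRestrictFieldEquiv.symm : f.fieldRange →+* F).comp
    (Subfield.inclusion hK)
  have hι : f.comp (ι.comp (σ.symm : K' →+* K)) = K.subtype.comp (σ.symm : K' →+* K) := by
    ext a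
    exact congrArg Subtype.val (f.rangeRestrictFieldEquiv.apply_symm_apply _)
  have hK' := Nat.card_congr σ.toEquiv
  have hσ : Function.Surjective (ProjGenLinGroup.map (n := Fin 2) (σ.symm : K' →+* K)) :=
    fun g => ⟨ProjGenLinGroup.map (σ : K →+* K') g, by
      rw [← MonoidHom.comp_apply, ← ProjGenLinGroup.map_comp]; simp⟩
  refine ⟨K', inferInstance, inferInstance, ι.comp (σ.symm : K' →+* K), δ⁻¹, hK' ▸ h3, ?_⟩
  refine h.imp (fun h => ?_) fun h => ⟨hK' ▸ h.1, ?_⟩ <;>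
    apply Subgroup.map_injective (map_injective f) <;> rw [← hG]
  · rw [cj, h, ← MonoidHom.range_comp, ← ProjGenLinGroup.map_comp, hι, ProjGenLinGroup.map_comp,
      MonoidHom.range_comp, MonoidHom.range_eq_top.2 hσ, ← MonoidHom.range_eq_map]
  · rw [cj, h.2, piS_range, piS_range, Subgroup.map_map, ← ProjGenLinGroup.map_comp, hι,
      ProjGenLinGroup.map_comp, ← Subgroup.map_map]
    congr 1
    refine le_antisymm ?_ (piS_range (σ.symm : K' →+* K) ▸ piS_le_LL _)
    rintro _ ⟨s, rfl⟩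
    refine ⟨_, piS_le_LL (σ : K →+* K') ⟨s, rfl⟩, ?_⟩
    simp only [MonoidHom.comp_apply]
    rw [← MonoidHom.comp_apply, ← ProjGenLinGroup.map_comp]; simp

section fields
variable {K : Type*} [Field K]

omit [Finite F] in
theorem mem_range_of_pow [Finite K] (ι : K →+* F) {x : F} (h : x ^ Nat.card K = x) :
    x ∈ ι.fieldRange := by
  have := Fintype.ofFinite K
  rw [Nat.card_eq_fintype_card] at h
  refine Polynomial.Splits.mem_range_of_isRoot ?_ (FiniteField.X_pow_card_sub_X_ne_zero K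
      (Fintype.one_lt_card (α := K))) (by simp [h])
  simpa using (FiniteField.isSplittingField_sub K K).splits'

theorem exists_mid (ι : K →+* F) {m d : ℕ} (hm : Nat.card K ^ m = Nat.card F) (hd : d ∣ m)
    (h0 : 0 < d) : ∃ (E : Type) (_ : Field E) (_ : Fintype E) (j : K →+* E) (ι' : E →+* F),
      ι'.comp j = ι ∧ Nat.card E = Nat.card K ^ d := by
  have : Finite K := Finite.of_injective ι ι.injective
  have := Fintype.ofFinite K
  obtain ⟨p, _, a, hp, ha⟩ := FiniteField.card' K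
  have := Fact.mk hp
  have hE : Nat.card (GaloisField p (a * d)) = Nat.card K ^ d := by
    rw [GaloisField.card p (a * d) (Nat.mul_pos a.2 h0).ne', Nat.card_eq_fintype_card, ha, pow_mul]
  obtain ⟨c, rfl⟩ := hd
  obtain ⟨ι'⟩ := FieldIso.nonempty_hom_of_pow (K := GaloisField p (a * d)) (F := F) (m := c)
    (by rw [hE, ← pow_mul, hm])
  have hle : ∀ x, ι x ∈ ι'.fieldRange := fun x => mem_range_of_pow ι' (by
    rw [hE, ← map_pow, Nat.card_eq_fintype_card, FiniteField.pow_card_pow])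
  refine ⟨GaloisField p (a * d), inferInstance, Fintype.ofFinite _,
    (ι'.rangeRestrictFieldEquiv.symm : ι'.fieldRange →+* _).comp (ι.codRestrict _ hle), ι', ?_, hE⟩
  ext x
  exact congrArg Subtype.val (ι'.rangeRestrictFieldEquiv.apply_symm_apply _)

omit [Finite F] in
theorem card_map_range [Finite K] (ι : K →+* F) :
    Nat.card (ProjGenLinGroup.map ι : PGL(2, K) →* PGL(2, F)).range =
      Nat.card K * (Nat.card K ^ 2 - 1) := by
  rw [← Nat.card_congr (MonoidHom.ofInjective (map_injective ι)).toEquiv, SLnCard.card_PGL2]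

theorem cub_slt {r s : ℕ} (h1 : 2 ≤ r) (h : r < s) : r * (r ^ 2 - 1) < s * (s ^ 2 - 1) :=
  Nat.mul_lt_mul_of_lt_of_le h (Nat.sub_le_sub_right (Nat.pow_le_pow_left h.le 2) 1) (by
    have : 3 ^ 2 ≤ s ^ 2 := Nat.pow_le_pow_left (by omega) 2
    omega)

omit [Finite F] in
theorem card_piS [Finite K] (ι : K →+* F) (ho : Odd (Nat.card K)) :
    2 * Nat.card (piS ι).range = Nat.card K * (Nat.card K ^ 2 - 1) := by
  rw [card_range_piS, SLnCard.card_PSL2_odd ho]

theorem card_LL (ho : Odd (Nat.card F)) :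
    2 * Nat.card (LL F) = Nat.card F * (Nat.card F ^ 2 - 1) := by
  rw [← Nat.card_congr (eLL F).toEquiv, SLnCard.card_PSL2_odd ho]

theorem not_cov {G : Type*} [Group G] [Finite G] {X Y T : Subgroup G} (h : X ⋖ T) (h1 : X ≤ Y)
    (h2 : Y ≤ T) (c1 : Nat.card X < Nat.card Y) (c2 : Nat.card Y < Nat.card T) : False := by
  rcases h.eq_or_eq h1 h2 with rfl | rfl <;> omega

theorem exists_div {m : ℕ} (h0 : 1 ≤ m) (h1 : m ≠ 1) (hp : ¬ m.Prime) :
    ∃ d, d ∣ m ∧ 1 < d ∧ d < m := by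
  obtain ⟨d, h, h2, h3⟩ := (Nat.not_prime_iff_exists_dvd_lt (by omega)).1 hp
  exact ⟨d, h, h2, h3⟩

theorem cov_PGL_top (ι : K →+* F) (h : (ProjGenLinGroup.map ι : PGL(2, K) →* _).range ⋖ ⊤) :
    ∃ m, m.Prime ∧ Nat.card K ^ m = Nat.card F := by
  have : Finite K := Finite.of_injective ι ι.injective
  obtain ⟨m, h0, hm⟩ := FieldIso.exists_pow_card ι
  have h2 := SLnCard.two_le_card K
  refine ⟨m, by_contra fun hp => ?_, hm⟩
  obtain ⟨d, hd, d1, d2⟩ := exists_div h0 (by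
    rintro rfl
    have := (card_lt h.1).2
    rw [card_map_range, Subgroup.card_top, SLnCard.card_PGL2, ← hm, pow_one] at this
    omega) hp
  obtain ⟨E, _, _, j, ι', rfl, hE⟩ := exists_mid ι hm hd (by omega)
  refine not_cov h (Y := (ProjGenLinGroup.map ι').range) ?_ le_top ?_ ?_
  · rw [ProjGenLinGroup.map_comp, MonoidHom.range_comp]
    exact Subgroup.map_le_range _ _
  · rw [card_map_range, card_map_range]
    exact cub_slt h2 (hE ▸ (pow_one (Nat.card K)).ge.trans_lt (Nat.pow_lt_pow_right h2 d1))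
  · rw [card_map_range, Subgroup.card_top, SLnCard.card_PGL2]
    exact cub_slt (SLnCard.two_le_card E) (hE ▸ hm ▸ Nat.pow_lt_pow_right h2 d2)

theorem cov_PGL_L (ho : Odd (Nat.card F)) (ι : K →+* F)
    (h : (ProjGenLinGroup.map ι : PGL(2, K) →* _).range ⋖ LL F) : Nat.card K ^ 2 = Nat.card F := by
  have : Finite K := Finite.of_injective ι ι.injective
  obtain ⟨m, h0, hm⟩ := FieldIso.exists_pow_card ι
  have h2 := SLnCard.two_le_card K
  have hoK : Odd (Nat.card K) := (Nat.odd_pow_iff (by omega)).1 (hm ▸ ho)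
  have h3 : 3 ≤ Nat.card K := by have := Nat.odd_iff.1 hoK; omega
  rcases Nat.even_or_odd m with ⟨c, rfl⟩ | hm'
  · by_contra hne
    have hc : 2 < c + c := by
      by_contra h
      obtain rfl : c = 1 := by omega
      exact hne hm
    obtain ⟨E, _, _, j, ι', rfl, hE⟩ := exists_mid ι hm (d := 2) ⟨c, by omega⟩ two_pos
    have hoE : Odd (Nat.card E) := hE ▸ hoK.pow
    have c1 := card_piS ι' hoE
    refine not_cov h (Y := (piS ι').range) ?_ (piS_le_LL _) ?_ ?_
    · rw [ProjGenLinGroup.map_comp, MonoidHom.range_comp, piS_range]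
      exact Subgroup.map_mono (map_le_LL j (m := 1) hE.symm)
    · have := cub_lt h2 hE.ge
      rw [card_map_range]
      omega
    · have := cub_slt (SLnCard.two_le_card E) (s := Nat.card F)
        (hE ▸ hm ▸ Nat.pow_lt_pow_right h2 hc)
      have := card_LL ho
      omega
  · refine (not_dvd_odd hoK h3 hm' ?_).elim
    rw [hm, ← card_LL ho, ← card_map_range ι]
    exact mul_dvd_mul_left 2 (Subgroup.card_dvd_of_le h.le)

theorem cov_PSL_L (ho : Odd (Nat.card F)) (ι : K →+* F) (h : (piS ι).range ⋖ LL F) :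
    ∃ m, m.Prime ∧ Odd m ∧ Nat.card K ^ m = Nat.card F := by
  have : Finite K := Finite.of_injective ι ι.injective
  obtain ⟨m, h0, hm⟩ := FieldIso.exists_pow_card ι
  have h2 := SLnCard.two_le_card K
  have hoK : Odd (Nat.card K) := (Nat.odd_pow_iff (by omega)).1 (hm ▸ ho)
  have c0 := card_piS ι hoK
  have cL := card_LL ho
  have hm' : Odd m := by
    by_contra hc
    obtain ⟨c, rfl⟩ := (Nat.not_odd_iff_even.1 hc).two_dvd
    have := cub_lt h2 (q := Nat.card F) (hm ▸ Nat.pow_le_pow_right (by omega) (by omega))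
    have h1 := cub_slt (r := 2) le_rfl (s := Nat.card K) (by have := Nat.odd_iff.1 hoK; omega)
    refine not_cov h (piS_le ι) (map_le_LL ι hm) ?_ ?_ <;> rw [card_map_range] <;> omega
  refine ⟨m, by_contra fun hp => ?_, hm', hm⟩
  obtain ⟨d, hd, d1, d2⟩ := exists_div h0 (by
    rintro rfl
    have := (card_lt h.1).2
    rw [pow_one] at hm
    rw [← hm] at cL
    omega) hp
  obtain ⟨E, _, _, j, ι', rfl, hE⟩ := exists_mid ι hm hd (by omega)
  have c1 := card_piS ι' (hE ▸ hoK.pow)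
  refine not_cov h (Y := (piS ι').range) ?_ (piS_le_LL _) ?_ ?_
  · rw [piS_range, piS_range, ProjGenLinGroup.map_comp, ← Subgroup.map_map, ← piS_range]
    exact Subgroup.map_mono (piS_le_LL j)
  · have := cub_slt h2 (s := Nat.card E)
      (hE ▸ (pow_one (Nat.card K)).ge.trans_lt (Nat.pow_lt_pow_right h2 d1))
    omega
  · have := cub_slt (SLnCard.two_le_card E) (s := Nat.card F)
      (hE ▸ hm ▸ Nat.pow_lt_pow_right h2 d2)
    omega

end fields

section tri
omit [Finite F] in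
theorem pair_w0 (h2 : (2 : F) ≠ 0) {y y' : SL(2, F)} (h1 : y.1.trace = y'.1.trace)
    (h3 : (w0 * y).1.trace = (w0 * y').1.trace) (hN : y.1.trace ^ 2 + (w0 * y).1.trace ^ 2 ≠ 4) :
    ∃ P : GL (Fin 2) F, P.1 * (w0 : SL(2, F)).1 = (w0 : SL(2, F)).1 * P.1 ∧ P.1 * y.1 = y'.1 * P.1 := by
  have d1 := det_eq y
  have d2 := det_eq y'
  have tw : ∀ y : SL(2, F), (w0 * y).1.trace = y.1 1 0 - y.1 0 1 := fun y => by
    show ((w0 : SL(2, F)).1 * y.1).trace = _
    simp [w0, trace_fin_two, vecMul, dotProduct, sub_eq_add_neg]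
  rw [tw] at hN
  rw [tw, tw] at h3
  obtain ⟨y, hy⟩ := y
  obtain ⟨y', hy'⟩ := y'
  obtain ⟨a, b, c, d, rfl⟩ := ex4 y
  obtain ⟨a', b', c', d', rfl⟩ := ex4 y'
  simp [trace_fin_two] at h1 h3 hN d1 d2
  obtain rfl : d' = a + d - a' := by linear_combination -h1
  obtain rfl : c' = c - b + b' := by linear_combination -h3
  set N := (a - d) ^ 2 + (b + c) ^ 2 with hNe
  set u := (2 * a' - a - d) * (a - d) + (2 * b' + c - b) * (b + c) with hu
  set v := (2 * a' - a - d) * (b + c) - (2 * b' + c - b) * (a - d) with hv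
  have hN0 : N ≠ 0 := fun h => hN (by linear_combination h - hNe + 4 * d1)
  have huv : u ^ 2 + v ^ 2 = N ^ 2 := by
    rw [hu, hv, hNe]
    linear_combination (4 * ((a - d) ^ 2 + (b + c) ^ 2)) * (d1 - d2)
  by_cases h : N + u = 0
  · have h' : N - u ≠ 0 := fun h' => mul_ne_zero h2 hN0 (by linear_combination h + h')
    refine ⟨GeneralLinearGroup.mkOfDetNeZero !![v, N - u; -(N - u), v] ?_, ?_, ?_⟩
    · rw [det_fin_two_of]
      intro e
      exact mul_ne_zero (mul_ne_zero h2 hN0) h' (by linear_combination e - huv)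
    · simp [w0, mk2]
    · simp only [GeneralLinearGroup.val_mkOfDetNeZero, mul_fin_two, eq_iff4, hu, hv, hNe]
      refine ⟨?_, ?_, ?_, ?_⟩
      · linear_combination (2 * (b + c)) * (d2 - d1)
      · linear_combination (-2 * (a - d)) * (d2 - d1)
      · linear_combination (-2 * (a - d)) * (d2 - d1)
      · linear_combination (-2 * (b + c)) * (d2 - d1)
  · refine ⟨GeneralLinearGroup.mkOfDetNeZero !![N + u, v; -v, N + u] ?_, ?_, ?_⟩
    · rw [det_fin_two_of]
      intro e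
      exact mul_ne_zero (mul_ne_zero h2 hN0) h (by linear_combination e - huv)
    · simp [w0, mk2]
    · simp only [GeneralLinearGroup.val_mkOfDetNeZero, mul_fin_two, eq_iff4, hu, hv, hNe]
      refine ⟨?_, ?_, ?_, ?_⟩
      · linear_combination (2 * (a - d)) * (d2 - d1)
      · linear_combination (2 * (b + c)) * (d2 - d1)
      · linear_combination (2 * (b + c)) * (d2 - d1)
      · linear_combination (-2 * (a - d)) * (d2 - d1)

/-- `PSL₂ → PGL₂` -/
abbrev tP (F : Type*) [Field F] : PSL(2, F) →* PGL(2, F) := ProjectiveSpecialLinearGroup.toPGL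

theorem pair_conj (h2 : (2 : F) ≠ 0) {x y x' y' : SL(2, F)} (hx : x.1.trace = 0)
    (hx' : x'.1.trace = 0) (h1 : y.1.trace = y'.1.trace)
    (h3 : (x * y).1.trace = (x' * y').1.trace) (hN : y.1.trace ^ 2 + (x * y).1.trace ^ 2 ≠ 4) :
    ∃ δ : PGL(2, F), δ * tP F (pr F x) * δ⁻¹ = tP F (pr F x') ∧
      δ * tP F (pr F y) * δ⁻¹ = tP F (pr F y') := by
  obtain ⟨s, hs⟩ := isConj_iff.1 ((SS_of_trace_zero h2 hx).isConj (hx.trans trace_w0.symm))
  obtain ⟨s', hs'⟩ := isConj_iff.1 ((SS_of_trace_zero h2 hx').isConj (hx'.trans trace_w0.symm))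
  have e : (w0 * (s * y * s⁻¹)).1.trace = (x * y).1.trace := by
    rw [← hs, ← SL2Torus.trace_conj s (x * y)]; simp only [mul_assoc, inv_mul_cancel_left]
  have e' : (w0 * (s' * y' * s'⁻¹)).1.trace = (x' * y').1.trace := by
    rw [← hs', ← SL2Torus.trace_conj s' (x' * y')]; simp only [mul_assoc, inv_mul_cancel_left]
  obtain ⟨P, p1, p2⟩ := pair_w0 h2 (y := s * y * s⁻¹) (y' := s' * y' * s'⁻¹)
    (by rw [SL2Torus.trace_conj, SL2Torus.trace_conj, h1]) (by rw [e, e', h3])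
    (by rwa [SL2Torus.trace_conj, e])
  have key : ∀ a b : SL(2, F), P.1 * a.1 = b.1 * P.1 →
      ProjGenLinGroup.mk P * tP F (pr F a) = tP F (pr F b) * ProjGenLinGroup.mk P := fun a b h =>
    congrArg ProjGenLinGroup.mk (Units.ext h : P * SpecialLinearGroup.toGL a =
      SpecialLinearGroup.toGL b * P)
  have q1 := key _ _ p1
  have q2 := key _ _ p2
  nth_rewrite 1 [← hs] at q1
  rw [← hs'] at q1
  simp only [map_mul, map_inv] at q1 q2
  refine ⟨(tP F (pr F s'))⁻¹ * ProjGenLinGroup.mk P * tP F (pr F s), ?_, ?_⟩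
  · calc _ = (tP F (pr F s'))⁻¹ * (ProjGenLinGroup.mk P * (tP F (pr F s) * tP F (pr F x) *
        (tP F (pr F s))⁻¹)) * (ProjGenLinGroup.mk P)⁻¹ * tP F (pr F s') := by group
      _ = _ := by rw [q1]; group
  · calc _ = (tP F (pr F s'))⁻¹ * (ProjGenLinGroup.mk P * (tP F (pr F s) * tP F (pr F y) *
        (tP F (pr F s))⁻¹)) * (ProjGenLinGroup.mk P)⁻¹ * tP F (pr F s') := by group
      _ = _ := by rw [q2]; group

omit [Finite F] in
theorem lift_three {b : PSL(2, F)} (h1 : b ≠ 1) (h3 : b ^ 3 = 1) :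
    ∃ y : SL(2, F), pr F y = b ∧ y.1.trace = 1 := by
  obtain ⟨y, rfl⟩ := pr_surj b
  have hn := pr_ne_one_iff.1 h1
  have : ¬ NS (y ^ 3).1 := by rw [not_NS_iff_eq, ← pr_eq_one_iff, map_pow, h3]
  rw [pow_three_coe, hn.lin_iff, not_not, sub_eq_zero, sq, mul_self_eq_one_iff] at this
  rcases this with h | h
  · exact ⟨y, rfl, h⟩
  · exact ⟨-y, pr_neg y, by rw [trace_neg', h, neg_neg]⟩

omit [Finite F] in
theorem lift_five {b : PSL(2, F)} (h1 : b ≠ 1) (h3 : b ^ 5 = 1) :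
    ∃ y : SL(2, F), pr F y = b ∧ y.1.trace ^ 2 + y.1.trace - 1 = 0 := by
  obtain ⟨y, rfl⟩ := pr_surj b
  have hn := pr_ne_one_iff.1 h1
  have : ¬ NS (y ^ 5).1 := by rw [not_NS_iff_eq, ← pr_eq_one_iff, map_pow, h3]
  rw [pow_five_coe, hn.lin_iff, not_not] at this
  rcases mul_eq_zero.1 (show (y.1.trace ^ 2 + y.1.trace - 1) * (y.1.trace ^ 2 - y.1.trace - 1) = 0 by
    linear_combination this) with h | h
  · exact ⟨y, rfl, h⟩
  · exact ⟨-y, pr_neg y, by rw [trace_neg']; linear_combination h⟩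

omit [Finite F] in
theorem lift_tri (h2 : (2 : F) ≠ 0) {a b : PSL(2, F)} (a1 : a ≠ 1) (aa : a * a = 1) (b1 : b ≠ 1)
    (b3 : b ^ 3 = 1) {z : SL(2, F)} (hz : pr F z = a * b) :
    ∃ x y : SL(2, F), pr F x = a ∧ pr F y = b ∧ x.1.trace = 0 ∧ y.1.trace = 1 ∧ x * y = z := by
  obtain ⟨y, rfl, hy⟩ := lift_three b1 b3
  have : pr F (z * y⁻¹) = a := by rw [map_mul, map_inv, hz, mul_inv_cancel_right]
  exact ⟨z * y⁻¹, y, this, rfl, trace_of_involution h2 (this ▸ a1) (this ▸ aa), hy, by simp⟩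

theorem gen_A4 : Subgroup.closure {a4, b4} = ⊤ := by
  have := closure_eq_top_of_nodup (two a4 b4) 2 RA4W (by decide) (by decide +kernel)
    (by rw [card_A4]; rfl)
  refine eq_top_iff.2 (this ▸ Subgroup.closure_mono ?_)
  rintro _ ⟨i, -, rfl⟩
  unfold two
  split_ifs <;> simp

theorem gen_A5 : Subgroup.closure {a5, b5} = ⊤ := by
  have := closure_eq_top_of_nodup (two a5 b5) 2 RA5W (by decide) (by decide +kernel)
    (by rw [card_A5]; rfl)
  refine eq_top_iff.2 (this ▸ Subgroup.closure_mono ?_)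
  rintro _ ⟨i, -, rfl⟩
  unfold two
  split_ifs <;> simp

theorem A4_conj (h2 : (2 : F) ≠ 0) {φ ψ : alternatingGroup (Fin 4) →* PSL(2, F)}
    (hφ : Function.Injective φ) (hψ : Function.Injective ψ) :
    ∃ δ : PGL(2, F), ∀ a, δ * tP F (φ a) * δ⁻¹ = tP F (ψ a) := by
  have key : ∀ φ : alternatingGroup (Fin 4) →* PSL(2, F), Function.Injective φ →
      ∃ x y : SL(2, F), pr F x = φ a4 ∧ pr F y = φ b4 ∧ x.1.trace = 0 ∧ y.1.trace = 1 ∧
        (x * y).1.trace = 1 := by
    intro φ hφ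
    obtain ⟨z, hz, hz'⟩ := lift_three (b := φ (a4 * b4)) (by
      rw [Ne, map_eq_one_iff _ hφ]; decide) (by rw [← map_pow, map_eq_one_iff _ hφ]; decide)
    obtain ⟨x, y, h1, h3, h4, h5, rfl⟩ := lift_tri h2 (a := φ a4) (b := φ b4)
      (by rw [Ne, map_eq_one_iff _ hφ]; decide) (by rw [← map_mul, map_eq_one_iff _ hφ]; decide)
      (by rw [Ne, map_eq_one_iff _ hφ]; decide) (by rw [← map_pow, map_eq_one_iff _ hφ]; decide)
      (hz.trans (map_mul _ _ _))
    exact ⟨x, y, h1, h3, h4, h5, hz'⟩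
  obtain ⟨x, y, h1, h3, h4, h5, h6⟩ := key φ hφ
  obtain ⟨x', y', h1', h3', h4', h5', h6'⟩ := key ψ hψ
  obtain ⟨δ, d1, d2⟩ := pair_conj h2 h4 h4' (h5.trans h5'.symm) (h6.trans h6'.symm)
    (by rw [h5, h6]; intro h; exact h2 (by linear_combination -h))
  have := MonoidHom.eq_of_eqOn_dense gen_A4
    (f := (MulAut.conj δ).toMonoidHom.comp ((tP F).comp φ)) (g := (tP F).comp ψ) (by
      rintro _ (rfl | rfl)
      · simpa [h1, h1'] using d1
      · simpa [h3, h3'] using d2)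
  exact ⟨δ, fun a => DFunLike.congr_fun this a⟩

omit [Finite F] in
theorem trace_map {K : Type*} [Field K] (ι : K →+* F) (y : SL(2, K)) :
    (SpecialLinearGroup.map ι y).1.trace = ι y.1.trace := by simp [trace_fin_two]

theorem A5_sub (h2 : (2 : F) ≠ 0) {φ : alternatingGroup (Fin 5) →* PSL(2, F)}
    (hφ : Function.Injective φ) {K : Type*} [Field K] (ι : K →+* F) {c : K}
    (hc : c ^ 2 + c - 1 = 0) : ∃ δ : PGL(2, F), ∀ a, δ * tP F (φ a) * δ⁻¹ ∈ (piS ι).range := by
  have : Finite K := Finite.of_injective ι ι.injective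
  obtain ⟨z, hz, hz'⟩ := lift_five (b := φ (a5 * b5)) (by
    rw [Ne, map_eq_one_iff _ hφ]; decide) (by rw [← map_pow, map_eq_one_iff _ hφ]; decide +kernel)
  obtain ⟨x, y, h1, h3, h4, h5, rfl⟩ := lift_tri h2 (a := φ a5) (b := φ b5)
    (by rw [Ne, map_eq_one_iff _ hφ]; decide) (by rw [← map_mul, map_eq_one_iff _ hφ]; decide)
    (by rw [Ne, map_eq_one_iff _ hφ]; decide) (by rw [← map_pow, map_eq_one_iff _ hφ]; decide)
    (hz.trans (map_mul _ _ _))
  obtain ⟨γ, hγ⟩ : ∃ γ, ι γ = (x * y).1.trace := by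
    have := congrArg ι hc
    simp only [map_sub, map_add, map_pow, map_one, map_zero] at this
    rcases mul_eq_zero.1 (show ((x * y).1.trace - ι c) * ((x * y).1.trace + ι c + 1) = 0 by
      linear_combination hz' - this) with h | h
    · exact ⟨c, by linear_combination -h⟩
    · exact ⟨-c - 1, by simp only [map_sub, map_neg, map_one]; linear_combination -h⟩
  obtain ⟨y0, t1, t2⟩ := exists_trace_triple (1 : K) γ fun h =>
    (h2 (by rw [← map_ofNat ι 2, h, map_zero])).elim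
  obtain ⟨δ, d1, d2⟩ := pair_conj h2 (y := y) (x' := SpecialLinearGroup.map ι w0)
    (y' := SpecialLinearGroup.map ι y0) h4 (by rw [trace_map, trace_w0, map_zero])
    (by rw [trace_map, t1, h5, map_one]) (by rw [← map_mul, trace_map, t2, hγ])
    (by
      rw [h5]
      intro h
      have : (x * y).1.trace = -2 := by linear_combination hz' - h
      rw [this] at hz'
      exact one_ne_zero (α := F) (by linear_combination hz'))
  have : (⊤ : Subgroup (alternatingGroup (Fin 5))) ≤ (piS ι).range.comap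
      ((MulAut.conj δ).toMonoidHom.comp ((tP F).comp φ)) := by
    rw [← gen_A5, Subgroup.closure_le]
    rintro _ (rfl | rfl)
    · exact ⟨w0, by rw [piS_eq]; rw [h1] at d1; exact d1.symm⟩
    · exact ⟨y0, by rw [piS_eq]; rw [h3] at d2; exact d2.symm⟩
  exact ⟨δ, fun a => this (Subgroup.mem_top a)⟩

end tri

end CA.PSL2Cl2
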