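import Cfsg.Agent.Lib.Lin.PSL2Cl3

/-! The maximal subgroups of `PSL₂(q)`: the list. -/

namespace CA.PSL2Cl4

open Matrix MulAction OnePoint CA.SL2Basic CA.Mat2 CA.SL2Torus CA.SL2Embed CA.SL2Class CA.SL2Unip
  CA.SL2Reps CA.PSL2Struct CA.PSL2Sub CA.PSL2Max CA.TriPres CA.PSL2Cl1 CA.PGL2Act
  CA.PGL2Dickson CA.PSL2Cl2 CA.PSL2Four CA.PSL2Cl3
open scoped MatrixGroups

variable {F : Type*} [Field F] [Finite F]

omit [Finite F] in
theorem LL_le_of_move [DecidableEq F] {x : OnePoint F} {Y : Subgroup PGL(2, F)}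
    (hY : stabilizer PGL(2, F) x ⊓ LL F ≤ Y) {y : PGL(2, F)} (hy : y ∈ Y) (hx : y • x ≠ x) :
    LL F ≤ Y := by
  obtain ⟨γ, rfl⟩ := exists_smul_infty x
  have := toPGL_range_le (Y.comap (MulAut.conj γ).toMonoidHom) (fun b => hY ⟨by
      simp [mul_smul, A_smul_infty], LL_normal.conj_mem _ (A_mem_LL b) γ⟩)
    (g := γ⁻¹ * y * γ) (by simpa [mul_assoc] using hy)
    (by rwa [mul_smul, mul_smul, Ne, inv_smul_eq_iff])
  intro l hl
  simpa [mul_assoc] using this (LL_normal.conj_mem' l hl γ)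

omit [Finite F] in
theorem LL_trans [DecidableEq F] {T : Subgroup PGL(2, F)} (hT : LL F ≤ T) :
    IsPretransitive T (OnePoint F) := by
  have key : ∀ y : OnePoint F, ∃ g : T, g • (∞ : OnePoint F) = y := fun y => by
    cases y with
    | infty => exact ⟨1, one_smul _ _⟩
    | coe c =>
      refine ⟨⟨A 1 (c - 1) * (W * A 1 1 * W), hT (mul_mem (A_mem_LL _) (WAW_mem_LL _))⟩, ?_⟩
      change (A 1 (c - 1) * (W * A 1 1 * W)) • (∞ : OnePoint F) = _
      rw [mul_smul, mul_smul, mul_smul, W_smul_infty, A_smul_coe, W_smul_coe (by simp), A_smul_coe]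
      simp
  refine ⟨fun x y => ?_⟩
  obtain ⟨g, rfl⟩ := key x
  obtain ⟨h, rfl⟩ := key y
  exact ⟨h * g⁻¹, by rw [mul_smul, inv_smul_smul]⟩

theorem card_borel [DecidableEq F] {T : Subgroup PGL(2, F)} (hT : LL F ≤ T) (x : OnePoint F) :
    Nat.card (stabilizer PGL(2, F) x ⊓ T : Subgroup _) * (Nat.card F + 1) = Nat.card T := by
  have := LL_trans hT
  rw [← card_line, ← index_stabilizer_of_transitive T x, ← (stabilizer T x).card_mul_index,
    show stabilizer T x = (stabilizer PGL(2, F) x).subgroupOf T from rfl,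
    ← Subgroup.inf_subgroupOf_right,
    Nat.card_congr (Subgroup.subgroupOfEquivOfLe inf_le_right).toEquiv]

theorem borel_lt [DecidableEq F] {T : Subgroup PGL(2, F)} (hT : LL F ≤ T) (x : OnePoint F) :
    stabilizer PGL(2, F) x ⊓ T < T := by
  refine lt_of_le_of_ne inf_le_right fun e => ?_
  have h := card_borel hT x
  have := SLnCard.two_le_card F
  have := Nat.card_pos (α := T)
  rw [e] at h
  nlinarith

theorem borel_case [DecidableEq F] {M T : Subgroup PGL(2, F)} (h : M ⋖ T) (hT : LL F ≤ T)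
    {x : OnePoint F} (hx : ∀ g ∈ M, g • x = x) : M = stabilizer PGL(2, F) x ⊓ T :=
  ((h.eq_or_eq (le_inf hx h.le) inf_le_right).resolve_right (borel_lt hT x).ne).symm

theorem borel_cov [DecidableEq F] (x : OnePoint F) : stabilizer PGL(2, F) x ⊓ LL F ⋖ LL F := by
  refine ⟨borel_lt le_rfl x, fun Y h1 h2 => h2.not_ge ?_⟩
  obtain ⟨y, hy, hy'⟩ := SetLike.exists_of_lt h1
  exact LL_le_of_move h1.le hy fun e => hy' ⟨e, h2.le hy⟩

theorem mul_succ_eq {a q : ℕ} (h : a * (q + 1) = q * (q ^ 2 - 1)) : a = q * (q - 1) := by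
  refine Nat.eq_of_mul_eq_mul_right (Nat.succ_pos q) (h.trans ?_)
  rw [← one_pow 2, Nat.sq_sub_sq, one_pow, Nat.succ_eq_add_one]
  ring

theorem small_case (p : ℕ) [hp : Fact p.Prime] [CharP F p] (h5 : 5 ≤ p)
    {M T : Subgroup PGL(2, F)} [T.Normal] (h : M ⋖ T) (hT : T = LL F ∨ T = ⊤)
    {Γ : Type*} [Group Γ] (e : M ≃* Γ) (j : alternatingGroup (Fin 4) →* Γ)
    (hj : Function.Injective j) (hn : ∀ g a, ∃ a', g * j a * g⁻¹ = j a')
    (hc : ∀ g, g * j a4 = j a4 * g → g * j b4 = j b4 * g → g = 1) (ho : ∀ g : Γ, orderOf g ≤ 4) :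
    Nat.card F = p ∧ (Nat.card F % 8 = 1 ∨ Nat.card F % 8 = 7 →
      ∃ t : PSL(2, F), orderOf t = 4 ∧ tP F t ∈ M) ∧
      ∃ φ : alternatingGroup (Fin 4) →* PSL(2, F), Function.Injective φ ∧
        ∀ a, tP F (φ a) = e.symm (j a) := by
  obtain ⟨φ, hφ⟩ := exists_lift (M.subtype.comp (e.symm.toMonoidHom.comp j)) (A4_mem_LL _)
  replace hφ : ∀ a, tP F (φ a) = e.symm (j a) := hφ
  have hi : Function.Injective φ := fun a b hab => hj (e.symm.injective (Subtype.ext (by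
    rw [← hφ, ← hφ, hab])))
  have hM : ∀ m ∈ M, ∀ a, ∃ a', m * tP F (φ a) * m⁻¹ = tP F (φ a') := fun m hm a => by
    obtain ⟨a', h⟩ := hn (e ⟨m, hm⟩) a
    refine ⟨a', ?_⟩
    rw [hφ, hφ, ← h]
    simp
  have hL : LL F ≤ T := by rcases hT with rfl | rfl <;> simp
  refine ⟨card_eq_prime p h5 h hT hi hM (fun m hm hh => ?_) fun m hm =>
    orderOf_le_of_equiv e ho hm, fun h8 => mem_of_mod8 h8 h hL hi hM, φ, hi, hφ⟩
  have key : ∀ a, e ⟨m, hm⟩ * j a = j a * e ⟨m, hm⟩ := fun a => e.symm.injective (Subtype.ext (by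
    simpa [hφ] using hh a))
  simpa using hc _ (key _) (key _)

omit [Finite F] in
theorem five_le_char (p : ℕ) [hp : Fact p.Prime] [CharP F p] {n : ℕ} (h : ((6 * n : ℕ) : F) ≠ 0) :
    5 ≤ p := by
  rw [Ne, CharP.cast_eq_zero_iff F p] at h
  by_contra h5
  have := hp.out.two_le
  have h4 : p ≠ 4 := fun e => by have := hp.out; rw [e] at this; exact absurd this (by decide)
  have : p = 2 ∨ p = 3 := by omega
  rcases this with rfl | rfl <;> omega

theorem S4_case (p : ℕ) [hp : Fact p.Prime] [CharP F p] (h24 : ((24 : ℕ) : F) ≠ 0)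
    {M T : Subgroup PGL(2, F)} [T.Normal] (h : M ⋖ T) (hT : T = LL F ∨ T = ⊤)
    (e : M ≃* Equiv.Perm (Fin 4)) :
    Nat.card F = p ∧ (Nat.card F % 8 = 1 ∨ Nat.card F % 8 = 7 →
      ∃ t : PSL(2, F), orderOf t = 4 ∧ tP F t ∈ M) ∧
      ∃ φ : alternatingGroup (Fin 4) →* PSL(2, F), Function.Injective φ ∧
        ∀ a, tP F (φ a) = e.symm a :=
  small_case p (five_le_char (n := 4) p h24) h hT e (alternatingGroup (Fin 4)).subtype
    Subtype.val_injective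
    (fun g a => ⟨⟨_, (inferInstance : (alternatingGroup (Fin 4)).Normal).conj_mem _ a.2 g⟩, rfl⟩)
    cent_A4 orderOf_S4_le

theorem card_range {G Γ : Type*} [Group G] [Group Γ] {φ : Γ →* G} (h : Function.Injective φ) :
    Nat.card φ.range = Nat.card Γ := (Nat.card_congr (MonoidHom.ofInjective h).toEquiv).symm

theorem A4_case (p : ℕ) [hp : Fact p.Prime] [CharP F p] (h12 : ((12 : ℕ) : F) ≠ 0)
    {M : Subgroup PGL(2, F)} (h : M ⋖ LL F) (e : M ≃* alternatingGroup (Fin 4)) :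
    Nat.card F = p ∧ (p % 8 = 3 ∨ p % 8 = 5) ∧ ¬ (p % 10 = 1 ∨ p % 10 = 9) := by
  have h5 := five_le_char (n := 2) p h12
  obtain ⟨h1, h2, φ, hφ, h3⟩ := small_case p h5 h (Or.inl rfl) e
    (MonoidHom.id _) Function.injective_id (fun g a => ⟨_, rfl⟩)
    (fun g h1 h2 => Subtype.ext (cent_A4 g.1 (congrArg Subtype.val h1) (congrArg Subtype.val h2)))
    (fun g => (orderOf_A4_le g).trans (by omega))
  have ho := hp.out.eq_two_or_odd
  refine ⟨h1, ?_, fun h10 => ?_⟩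
  · by_contra h8
    obtain ⟨t, ht, hm⟩ := h2 (by omega)
    have := orderOf_le_of_equiv e orderOf_A4_le hm
    rw [orderOf_injective _ tP_inj] at this
    omega
  · obtain ⟨ψ, hψ⟩ := exists_A5 (F := F) (by
      rw [h1, ← one_pow 2, Nat.sq_sub_sq]
      refine Dvd.dvd.mul_left ?_ _
      rcases h10 with h | h
      · exact Dvd.dvd.mul_left (by omega) _
      · exact Dvd.dvd.mul_right (by omega) _)
    obtain ⟨j, hj⟩ := exists_A4_A5
    obtain ⟨δ, hδ⟩ := A4_conj (two_ne h1 (by omega)) hφ (ψ := ψ.comp j) (hψ.comp hj)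
    have c := card_range (φ := (tP F).comp ψ) (tP_inj.comp hψ)
    refine not_cov (cov_cj h δ) (Y := ((tP F).comp ψ).range) ?_ ?_ ?_ ?_
    · rintro _ ⟨m, hm, rfl⟩
      refine ⟨j (e ⟨m, hm⟩), (hδ _).symm.trans ?_⟩
      rw [h3]
      simp
    · rintro _ ⟨a, rfl⟩
      exact tP_range.le ⟨_, rfl⟩
    · rw [c, card_cj, Nat.card_congr e.toEquiv, card_A4, card_A5]
      omega
    · have := card_LL (F := F) (by rw [h1, Nat.odd_iff]; omega)
      have := cub_mono (r := 9) (s := Nat.card F) (by omega)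
      rw [c, card_A5]
      omega

theorem A5_field (h2 : (2 : F) ≠ 0) (h5 : ((5 : ℕ) : F) ≠ 0) {M : Subgroup PGL(2, F)}
    (h : M ⋖ LL F) (e : M ≃* alternatingGroup (Fin 5)) {K : Type*} [Field K] [Finite K]
    (ι : K →+* F) (hK : 5 ∣ Nat.card K * (Nat.card K ^ 2 - 1)) : Nat.card K = Nat.card F := by
  obtain ⟨φ, hφ⟩ := exists_lift (M.subtype.comp e.symm.toMonoidHom) (A5_mem_LL _)
  replace hφ : ∀ a, tP F (φ a) = e.symm a := hφ
  have hi : Function.Injective φ := fun a b hab => e.symm.injective (Subtype.ext (by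
    rw [← hφ, ← hφ, hab]))
  obtain ⟨ψ, hψ⟩ := exists_A5 hK
  obtain ⟨x, hx⟩ := exists_five
  obtain ⟨y, -, hy⟩ := lift_five (b := ψ x) (fun e => by
    rw [← orderOf_injective ψ hψ, e, orderOf_one] at hx; omega)
    (by rw [← map_pow, orderOf_dvd_iff_pow_eq_one.1 hx.dvd, map_one])
  obtain ⟨δ, hδ⟩ := A5_sub h2 hi ι hy
  have hK2 : (2 : K) ≠ 0 := fun h => h2 (by rw [← map_ofNat ι 2, h, map_zero])
  have c1 := card_piS ι (odd_card_of_two_ne_zero hK2)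
  have c2 := card_LL (odd_card_of_two_ne_zero h2)
  have hle : cj δ M ≤ (piS ι).range := by
    rintro _ ⟨m, hm, rfl⟩
    simpa [hφ] using hδ (e ⟨m, hm⟩)
  have k2 := SLnCard.two_le_card K
  have f2 := SLnCard.two_le_card F
  rcases (cov_cj h δ).eq_or_eq hle (piS_le_LL ι) with h | h
  · rw [h, card_cj, Nat.card_congr e.toEquiv, card_A5] at c1
    have : Nat.card K = 5 := by
      by_contra hne
      rcases Nat.lt_or_gt_of_ne hne with h | h
      · have := cub_slt k2 h; omega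
      · have := cub_slt (by omega) h; omega
    exact (h5 (by rw [← this, ← map_natCast ι, cast_card_eq_zero, map_zero])).elim
  · rw [h] at c1
    by_contra hne
    rcases Nat.lt_or_gt_of_ne hne with h | h
    · have := cub_slt k2 h; omega
    · have := cub_slt f2 h; omega

theorem five_dvd {r : ℕ} (h : r % 10 = 1 ∨ r % 10 = 9) : 5 ∣ r * (r ^ 2 - 1) := by
  rw [← one_pow 2, Nat.sq_sub_sq]
  refine Dvd.dvd.mul_left ?_ _
  rcases h with h | h
  · exact Dvd.dvd.mul_left (by omega) _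
  · exact Dvd.dvd.mul_right (by omega) _

theorem pow_mod_ten {p : ℕ} (h : p % 10 = 3 ∨ p % 10 = 7) (k : ℕ) :
    p ^ (2 * k + 1) % 10 = 3 ∨ p ^ (2 * k + 1) % 10 = 7 := by
  induction k with
  | zero => simpa using h
  | succ k ih =>
    rw [show 2 * (k + 1) + 1 = 2 * k + 1 + 1 + 1 by ring, pow_succ, pow_succ, Nat.mul_mod,
      Nat.mul_mod (p ^ _)]
    rcases h with h | h <;> rcases ih with ih | ih <;> simp [h, ih]

theorem A5_case (p : ℕ) [hp : Fact p.Prime] [CharP F p] (h2 : (2 : F) ≠ 0)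
    (h60 : ((60 : ℕ) : F) ≠ 0 ∨ ((3 : ℕ) : F) = 0) {M : Subgroup PGL(2, F)}
    (h : M ⋖ LL F) (e : M ≃* alternatingGroup (Fin 5)) :
    (Nat.card F % 10 = 1 ∨ Nat.card F % 10 = 9) ∧
      (Nat.card F = p ∨ (Nat.card F = p ^ 2 ∧ (p % 10 = 3 ∨ p % 10 = 7))) := by
  have h5 : ((5 : ℕ) : F) ≠ 0 := fun h5 => by
    rcases h60 with h | h
    · exact h (by rw [show (60 : ℕ) = 5 * 12 by rfl, Nat.cast_mul, h5, zero_mul])
    · exact h2 (by push_cast at h h5; linear_combination h5 - h)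
  obtain ⟨x, hx⟩ := exists_five
  obtain ⟨y, hy, ho⟩ := exists_order e x
  obtain ⟨t, rfl⟩ := tP_range.ge (h.le hy)
  have h10 := mod10_of_five h2 h5 (x := t) (by rw [← orderOf_injective _ tP_inj, ho, hx])
  refine ⟨h10, ?_⟩
  have p2 : p ≠ 2 := by
    rintro rfl
    exact h2 (by simpa using CharP.cast_eq_zero F 2)
  have p5 : p ≠ 5 := by
    rintro rfl
    exact h5 (CharP.cast_eq_zero F 5)
  have := hp.out.eq_two_or_odd
  have p5' : p % 5 ≠ 0 := fun h =>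
    p5 ((Nat.prime_dvd_prime_iff_eq Nat.prime_five hp.out).1 (by omega)).symm
  let ι := ZMod.castHom (dvd_refl p) F
  by_cases h1 : p % 10 = 1 ∨ p % 10 = 9
  · left
    rw [← A5_field h2 h5 h e ι (by simpa using five_dvd h1), Nat.card_zmod]
  have h3 : p % 10 = 3 ∨ p % 10 = 7 := by omega
  have := Fintype.ofFinite F
  obtain ⟨n, -, hn⟩ := FiniteField.card F p
  rw [← Nat.card_eq_fintype_card] at hn
  obtain ⟨k, hk | hk⟩ := Nat.even_or_odd' (n : ℕ)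
  · obtain ⟨E, _, _, j, ι', -, hE⟩ := exists_mid ι (m := n) (d := 2) (by rw [hn, Nat.card_zmod])
      ⟨k, hk⟩ two_pos
    rw [Nat.card_zmod] at hE
    refine Or.inr ⟨?_, h3⟩
    rw [← A5_field h2 h5 h e ι' (five_dvd (by
      rw [hE, sq, Nat.mul_mod]; rcases h3 with h | h <;> simp [h])), hE]
  · have := pow_mod_ten h3 k
    rw [← hk, ← hn] at this
    omega

theorem cyc_case (h3 : 3 ≤ Nat.card F) {M : Subgroup PSL(2, F)} (hM : IsCoatom M)
    (hc : IsCyclic M) (hn : (Nat.card M : F) ≠ 0) : False := by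
  obtain ⟨g, hg, hle⟩ := le_Tb_of_cyclic hc hn
  obtain ⟨w, hw, hw'⟩ := exists_mem_Db hg
  have := (hM.le_iff.1 (hle.trans (Tb_le_Db g))).resolve_left (Db_ne_top hg h3)
  exact hw' (hle (this ▸ hw))

theorem dih_case (h3 : 3 ≤ Nat.card F) {M : Subgroup PSL(2, F)} (hM : IsCoatom M) {n : ℕ}
    (h2 : 2 ≤ n) (hn : (n : F) ≠ 0) (e : M ≃* DihedralGroup n) : ∃ g, SS g ∧ M = Db g := by
  obtain ⟨g, hg, -, -, hle⟩ := le_Db_of_dihedral h2 hn e
  exact ⟨g, hg, ((hM.le_iff.1 hle).resolve_left (Db_ne_top hg h3)).symm⟩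

theorem Db_sylow {g : SL(2, F)} (hg : SS g) (hM : IsCoatom (Db g)) {Γ : Type*} [Group Γ]
    {φ : Γ →* PSL(2, F)} (hφ : Function.Injective φ) {k m : ℕ} (h1 : Nat.card (Tb g) = 2 ^ k)
    (h2 : Nat.card PSL(2, F) = Nat.card Γ * (2 * m + 3)) (h3 : 2 ^ (k + 1) < Nat.card Γ) :
    False := by
  have c := φ.range.card_mul_index
  rw [card_range hφ, h2] at c
  have i := Nat.eq_of_mul_eq_mul_left (by omega) c
  have d : Nat.card (Db g) = 2 ^ (k + 1) := by rw [card_Db hg, h1, pow_succ']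
  exact sylow_case hM (S := φ.range) d (by omega) (by omega) (by rw [card_range hφ]; omega)

theorem Db_norm {g : SL(2, F)} (hg : SS g) (hM : IsCoatom (Db g)) {Γ : Type*} [Group Γ]
    {φ : Γ →* PSL(2, F)} (hφ : Function.Injective φ) {r : ℕ} (hr : r.Prime) (h2 : r ≠ 2)
    (h1 : Nat.card (Tb g) = r) (hi : ¬ r * r ∣ Nat.card PSL(2, F))
    (h3 : Nat.card Γ ≠ Nat.card PSL(2, F)) (h4 : 2 * r < Nat.card Γ)
    (h5 : ∃ x w : Γ, x ≠ 1 ∧ x ^ r = 1 ∧ w ≠ 1 ∧ w ^ 2 = 1 ∧ w * x * w⁻¹ = x⁻¹) : False := by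
  obtain ⟨x, w, x1, x2, w1, w2, h⟩ := h5
  have := Fact.mk hr
  refine norm_case hM (R := Tb g) (S := φ.range) (normalizer_eq_Db hg le_rfl fun e => ?_) h1 hi
    (by rw [card_Db hg, h1]) (fun e => h3 (by rw [← card_range hφ, e, Subgroup.card_top]))
    (by rwa [card_range hφ]) ⟨x, rfl⟩ ⟨w, rfl⟩ ?_ ?_ ?_ h2
  · rw [e, Subgroup.card_bot] at h1
    exact hr.one_lt.ne h1
  · rw [orderOf_injective φ hφ, orderOf_eq_prime x2 x1]
  · rw [orderOf_injective φ hφ, orderOf_eq_prime w2 w1]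
  · rw [← map_inv, ← map_inv, ← map_mul, ← map_mul, h]

theorem inv_S4 : ∃ x w : Equiv.Perm (Fin 4),
    x ≠ 1 ∧ x ^ 3 = 1 ∧ w ≠ 1 ∧ w ^ 2 = 1 ∧ w * x * w⁻¹ = x⁻¹ :=
  ⟨Equiv.swap 0 1 * Equiv.swap 1 2, Equiv.swap 0 1, by decide⟩

theorem inv_A5 : ∃ x w : alternatingGroup (Fin 5),
    x ≠ 1 ∧ x ^ 5 = 1 ∧ w ≠ 1 ∧ w ^ 2 = 1 ∧ w * x * w⁻¹ = x⁻¹ :=
  ⟨⟨finRotate 5, Equiv.Perm.mem_alternatingGroup.2 (by decide)⟩,
    ⟨Equiv.swap 1 4 * Equiv.swap 2 3, Equiv.Perm.mem_alternatingGroup.2 (by decide)⟩,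
    by decide +kernel⟩

theorem Db_odd (h2 : (2 : F) ≠ 0) (h5 : 5 ≤ Nat.card F) {g : SL(2, F)} (hg : SS g)
    (hM : IsCoatom (Db g)) :
    (13 ≤ Nat.card F ∧ 2 * Nat.card (Tb g) = Nat.card F - 1) ∨
    (Nat.card F ≠ 7 ∧ Nat.card F ≠ 9 ∧ 2 * Nat.card (Tb g) = Nat.card F + 1) := by
  have ho := Nat.odd_iff.1 (odd_card_of_two_ne_zero h2)
  have hG := card_odd h2
  have hT := card_Tb_cases hg
  rw [dd_odd h2] at hT
  have hS : Nat.card F = 7 ∨ Nat.card F = 9 → ∃ φ : Equiv.Perm (Fin 4) →* PSL(2, F),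
      Function.Injective φ := fun h => by
    have := Fintype.ofFinite F
    exact exists_S4 h2 (FiniteField.isSquare_two_iff.2 (by
      rw [← Nat.card_eq_fintype_card]; omega))
  have hA : Nat.card F = 9 ∨ Nat.card F = 11 → ∃ φ : alternatingGroup (Fin 5) →* PSL(2, F),
      Function.Injective φ := fun h => exists_A5 (five_dvd (by omega))
  by_contra hc
  have : (Nat.card F = 5 ∧ Nat.card (Tb g) = 2 ^ 1) ∨ (Nat.card F = 7 ∧ Nat.card (Tb g) = 3) ∨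
      (Nat.card F = 7 ∧ Nat.card (Tb g) = 2 ^ 2) ∨ (Nat.card F = 9 ∧ Nat.card (Tb g) = 2 ^ 2) ∨
      (Nat.card F = 9 ∧ Nat.card (Tb g) = 5) ∨ (Nat.card F = 11 ∧ Nat.card (Tb g) = 5) := by
    clear hG hS hA
    generalize Nat.card F = q at *
    generalize Nat.card (Tb g) = t at *
    by_cases h13 : 13 ≤ q
    · omega
    · obtain rfl | rfl | rfl | rfl : q = 5 ∨ q = 7 ∨ q = 9 ∨ q = 11 := by omega
      all_goals omega
  rcases this with ⟨h, t⟩ | ⟨h, t⟩ | ⟨h, t⟩ | ⟨h, t⟩ | ⟨h, t⟩ | ⟨h, t⟩ <;> rw [h] at hG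
  · obtain ⟨φ, hφ⟩ := exists_A4 (F := F) fun h => (h2 h).elim
    exact Db_sylow hg hM hφ (m := 1) t (by rw [card_A4]; omega) (by rw [card_A4]; omega)
  · obtain ⟨φ, hφ⟩ := hS (Or.inl h)
    exact Db_norm hg hM hφ Nat.prime_three (by omega) t (by omega) (by rw [card_S4]; omega)
      (by rw [card_S4]; omega) inv_S4
  · obtain ⟨φ, hφ⟩ := hS (Or.inl h)
    exact Db_sylow hg hM hφ (m := 2) t (by rw [card_S4]; omega) (by rw [card_S4]; omega)
  · obtain ⟨φ, hφ⟩ := hS (Or.inr h)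
    exact Db_sylow hg hM hφ (m := 6) t (by rw [card_S4]; omega) (by rw [card_S4]; omega)
  · obtain ⟨φ, hφ⟩ := hA (Or.inl h)
    exact Db_norm hg hM hφ Nat.prime_five (by omega) t (by omega) (by rw [card_A5]; omega)
      (by rw [card_A5]; omega) inv_A5
  · obtain ⟨φ, hφ⟩ := hA (Or.inr h)
    exact Db_norm hg hM hφ Nat.prime_five (by omega) t (by omega) (by rw [card_A5]; omega)
      (by rw [card_A5]; omega) inv_A5

/-- conjugate subgroups are isomorphic -/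
noncomputable def eCj {G : Type*} [Group G] (γ : G) (M : Subgroup G) : M ≃* cj γ M :=
  M.equivMapOfInjective _ (MulAut.conj γ).injective

/-- the image of `PGL₂(K)` -/
noncomputable def ePGL {K F : Type*} [Field K] [Field F] (ι : K →+* F) :
    PGL(2, K) ≃* (ProjGenLinGroup.map ι : PGL(2, K) →* PGL(2, F)).range :=
  MonoidHom.ofInjective (map_injective ι)

/-- the image of `PSL₂(K)` -/
noncomputable def ePSL {K F : Type*} [Field K] [Field F] (ι : K →+* F) :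
    PSL(2, K) ≃* (piS ι).range :=
  (eLL K).trans (((LL K).equivMapOfInjective _ (map_injective ι)).trans
    (MulEquiv.subgroupCongr (piS_range ι).symm))

theorem psl_odd (p : ℕ) [Fact p.Prime] [CharP F p] (ho : Odd (Nat.card F)) (h5 : 5 ≤ Nat.card F)
    {M : Subgroup PSL(2, F)} (hM : IsCoatom M) :
    2 * Nat.card M = Nat.card F * (Nat.card F - 1) ∨
    (13 ≤ Nat.card F ∧ (∃ k : ℕ, 2 * k = Nat.card F - 1 ∧ Nonempty (M ≃* DihedralGroup k))) ∨
    (Nat.card F ≠ 7 ∧ Nat.card F ≠ 9 ∧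
      (∃ k : ℕ, 2 * k = Nat.card F + 1 ∧ Nonempty (M ≃* DihedralGroup k))) ∨
    (∃ (K : Type) (_ : Field K) (_ : Fintype K), Nat.card F = Nat.card K ^ 2 ∧
        Nonempty (M ≃* PGL(2, K))) ∨
    (∃ (K : Type) (_ : Field K) (_ : Fintype K) (r : ℕ), r.Prime ∧ Odd r ∧
        Nat.card F = Nat.card K ^ r ∧ Nonempty (M ≃* PSL(2, K))) ∨
    ((Nat.card F % 10 = 1 ∨ Nat.card F % 10 = 9) ∧
        (Nat.card F = p ∨ (Nat.card F = p ^ 2 ∧ (p % 10 = 3 ∨ p % 10 = 7))) ∧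
        Nonempty (M ≃* alternatingGroup (Fin 5))) ∨
    (Nat.card F = p ∧ (p % 8 = 3 ∨ p % 8 = 5) ∧ ¬ (p % 10 = 1 ∨ p % 10 = 9) ∧
        Nonempty (M ≃* alternatingGroup (Fin 4))) ∨
    (Nat.card F = p ∧ (p % 8 = 1 ∨ p % 8 = 7) ∧ Nonempty (M ≃* Equiv.Perm (Fin 4))) := by
  classical
  have h := cov_L.1 hM
  have h2 : (2 : F) ≠ 0 := two_ne rfl (Nat.odd_iff.1 ho)
  let eM := M.equivMapOfInjective _ (tP_inj (F := F))
  have cM := Nat.card_congr eM.toEquiv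
  rcases dicksonPGL (M.map (tP F)) with ⟨x, hx⟩ | ⟨h1, h3⟩ | ⟨n, h1, h3, ⟨e⟩⟩ | ⟨h1, ⟨e⟩⟩ |
    ⟨h1, ⟨e⟩⟩ | ⟨h1, ⟨e⟩⟩ | ⟨K, _, _, ι, γ, h1, h3 | ⟨h3, h4⟩⟩
  · left
    have := card_borel le_rfl x
    rw [← borel_case h le_rfl hx, ← cM] at this
    refine mul_succ_eq ?_
    rw [mul_assoc, this, card_LL ho]
  · exact (cyc_case (by omega) hM (eM.isCyclic.2 h1) (cM ▸ h3)).elim
  · obtain ⟨g, hg, rfl⟩ := dih_case (by omega) hM h1 h3 (eM.trans e)
    rcases Db_odd h2 h5 hg hM with ⟨a, b⟩ | ⟨a, b, c⟩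
    · exact .inr (.inl ⟨a, _, b, dihedral_Db hg⟩)
    · exact .inr (.inr (.inl ⟨a, b, _, c, dihedral_Db hg⟩))
  · obtain ⟨a, b, c⟩ := A4_case p h1 h e
    exact .inr (.inr (.inr (.inr (.inr (.inr (.inl ⟨a, b, c, ⟨eM.trans e⟩⟩))))))
  · obtain ⟨a, -⟩ := S4_case p h1 h (Or.inl rfl) e
    obtain ⟨x, hx⟩ := exists_four
    obtain ⟨y, -, hy⟩ := exists_order (eM.trans e) x
    exact .inr (.inr (.inr (.inr (.inr (.inr (.inr
      ⟨a, a ▸ mod8_of_four h2 (hy.trans hx), ⟨eM.trans e⟩⟩))))))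
  · obtain ⟨a, b⟩ := A5_case p h2 h1 h e
    exact .inr (.inr (.inr (.inr (.inr (.inl ⟨a, b, ⟨eM.trans e⟩⟩)))))
  · refine .inr (.inr (.inr (.inl ⟨K, _, ‹_›, (cov_PGL_L ho ι (h3 ▸ cov_cj h γ)).symm,
      ⟨eM.trans ((eCj γ _).trans ((MulEquiv.subgroupCongr h3).trans (ePGL ι).symm))⟩⟩)))
  · obtain ⟨m, a, b, c⟩ := cov_PSL_L ho ι (h4 ▸ cov_cj h γ)
    exact .inr (.inr (.inr (.inr (.inl ⟨K, _, ‹_›, m, a, b, c.symm,
      ⟨eM.trans ((eCj γ _).trans ((MulEquiv.subgroupCongr h4).trans (ePSL ι).symm))⟩⟩))))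

theorem LL_eq_top (h2 : (2 : F) = 0) : LL F = ⊤ := by
  refine eq_top_iff.2 fun g _ => ?_
  obtain ⟨g, rfl⟩ := ProjGenLinGroup.mk_surjective g
  obtain ⟨r, hr⟩ := isSquare_of_two_eq_zero h2 g.1.det
  exact mk_mem_LL ⟨r, by rw [hr, sq]⟩

theorem psl_even (he : Even (Nat.card F)) (h4 : 4 ≤ Nat.card F)
    {M : Subgroup PSL(2, F)} (hM : IsCoatom M) :
    Nat.card M = Nat.card F * (Nat.card F - 1) ∨
    Nonempty (M ≃* DihedralGroup (Nat.card F - 1)) ∨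
    Nonempty (M ≃* DihedralGroup (Nat.card F + 1)) ∨
    (∃ (K : Type) (_ : Field K) (_ : Fintype K) (r : ℕ), r.Prime ∧ Nat.card K ≠ 2 ∧
        Nat.card F = Nat.card K ^ r ∧ Nonempty (M ≃* PSL(2, K))) := by
  classical
  have h := cov_L.1 hM
  have h2 : (2 : F) = 0 := by
    by_contra h
    exact Nat.not_odd_iff_even.2 he (odd_card_of_two_ne_zero h)
  let eM := M.equivMapOfInjective _ (tP_inj (F := F))
  have cM := Nat.card_congr eM.toEquiv
  rw [LL_eq_top h2] at h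
  rcases dicksonPGL (M.map (tP F)) with ⟨x, hx⟩ | ⟨h1, h3⟩ | ⟨n, h1, h3, ⟨e⟩⟩ | ⟨h1, ⟨e⟩⟩ |
    ⟨h1, ⟨e⟩⟩ | ⟨h1, ⟨e⟩⟩ | ⟨K, _, _, ι, γ, h1, h3 | ⟨h3, h4⟩⟩
  · left
    have := card_borel le_top x
    rw [← borel_case h le_top hx, ← cM] at this
    refine mul_succ_eq ?_
    rw [this, Subgroup.card_top, SLnCard.card_PGL2]
  · exact (cyc_case (by omega) hM (eM.isCyclic.2 h1) (cM ▸ h3)).elim
  · obtain ⟨g, hg, rfl⟩ := dih_case (by omega) hM h1 h3 (eM.trans e)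
    have := card_Tb_cases hg
    rw [dd_even h2, Nat.div_one, Nat.div_one] at this
    rcases this with a | a
    · exact .inr (.inl (a ▸ dihedral_Db hg))
    · exact .inr (.inr (.inl (a ▸ dihedral_Db hg)))
  · exact (two_ne_of_cast (by decide) (Or.inl h1) h2).elim
  · exact (two_ne_of_cast (by decide) (Or.inl h1) h2).elim
  · exact (two_ne_of_cast (by decide) h1 h2).elim
  · obtain ⟨m, a, b⟩ := cov_PGL_top ι (h3 ▸ cov_cj h γ)
    have hK : (2 : K) = 0 := ι.injective (by rw [map_ofNat, h2, map_zero])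
    exact .inr (.inr (.inr ⟨K, _, ‹_›, m, a, by omega, b.symm,
      ⟨eM.trans ((eCj γ _).trans ((MulEquiv.subgroupCongr h3).trans ((ePGL ι).symm.trans
        (Subgroup.topEquiv.symm.trans
          ((MulEquiv.subgroupCongr (LL_eq_top hK).symm).trans (eLL K).symm)))))⟩⟩))
  · exact (two_ne rfl (Nat.odd_iff.1 h3) (ι.injective (by rw [map_ofNat, h2, map_zero]))).elim

end CA.PSL2Cl4
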