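import Cfsg.Agent.Lib.Lin.SnPres
import Cfsg.Agent.Lib.Lin.CFormOBr

/-! Symmetric groups generated by orthogonal transvections in characteristic two. -/

set_option autoImplicit false

namespace CA.SnOrth

open Matrix CA.CForm CA.CForm.Form

theorem exists_inj {α F : Type*} {ι : Type} [Fintype α] [DecidableEq α] [Fintype ι]
    [DecidableEq ι] [Field F] (h5 : 5 ≤ Nat.card α) (h2 : (2 : F) = 0)
    (f : Form (Kind.orth F) (ι → F)) (p : α) (v : α → ι → F) (hQ : ∀ i, i ≠ p → f.Q (v i) = 1)
    (hB : ∀ i j, i ≠ p → j ≠ p → i ≠ j → f.B (v i) (v j) = 1) :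
    ∃ φ : Equiv.Perm α →* Cfsg.isometryGroup F f.Q, Function.Injective φ := by
  obtain ⟨φ, hφ, -⟩ := CA.SnPres.exists_inj_transv h5 h2
    ((Units.coeHom _).comp (Cfsg.isometryGroup F f.Q).subtype)
    (Units.val_injective.comp Subtype.val_injective) p v (fun i => Cfsg.polarVec f.Q (v i))
    (fun i hi => ⟨(orthEquiv f).symm (f.refl (v i)), by
      refine ((coe_eq_reflectionMatrix_iff f _ (v i)).2 (MulEquiv.apply_symm_apply _ _)).trans ?_
      rw [Cfsg.reflectionMatrix, hQ i hi, inv_one, one_smul]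
      ext a b
      simp only [Matrix.sub_apply, Matrix.add_apply]
      linear_combination (-vecMulVec (v i) (Cfsg.polarVec f.Q (v i)) a b) * h2⟩)
    (fun i _ => by rw [polarVec_dotProduct, orth_B_self, h2, zero_mul])
    (fun i j hi hj hij => by rw [polarVec_dotProduct, hB i j hi hj hij])
  exact ⟨φ, hφ⟩

end CA.SnOrth
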