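/-
Lower bounds for character degrees of symplectic and unitary groups.
-/
import Cfsg.Agent.Lib.Lin.AutForm1
import Cfsg.Agent.Lib.Lin.CFormMisc2
import Cfsg.Agent.Lib.Char.Wt

set_option autoImplicit false

namespace CA.DegLS

open Cfsg CA.Wt CA.CForm CA.CForm.Form CA.AutForm CChar.CharFun CChar.CharKer Finset Module

variable {F : Type*} [Field F] {k : Kind F} {V : Type*} [AddCommGroup V] [Module F V] {f : Form k V}

/-- the transvection group with centre `x` -/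
def T {x : V} (hx : f.Q x = 0) : AddChar k.π.ker f.Eich where
  toFun c := ⟨f.eichler x 0 c (f.eichlerCond_zero hx c.2), f.eichler_mem_Eich _ _ _ _⟩
  map_zero_eq_one' := Subtype.ext (f.eichler_zero (f.eichlerCond_zero hx (map_zero _)))
  map_add_eq_mul' a b := Subtype.ext <| by
    rw [Subgroup.coe_mul, eichler_mul]
    exact f.eichler_congr (f.eichlerCond_zero hx (a + b).2) _ rfl (by simp) (by simp)

theorem coe_T {x : V} (hx : f.Q x = 0) (c : k.π.ker) : (T hx c : f.Isom) = f.eichler x 0 c (f.eichlerCond_zero hx c.2) := rfl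

theorem T_inj (hf : f.Nondeg) {x : V} (hx : f.Q x = 0) (h0 : x ≠ 0) : Function.Injective (T hx) := fun _ _ H => by
  obtain ⟨y, h⟩ := hf.exists_isHyp hx h0
  exact Subtype.ext (eichler_inj h (map_zero _) (map_zero _) (Subtype.mk.inj H)).2

/-- the tautological parametrisation -/
def P (A : Type*) [AddCommGroup A] [Fintype A] : Par (AddChar A ℂ) A :=
  ⟨id, fun _ _ _ => rfl, fun _ ha => AddChar.exists_apply_ne_zero.2 ha, by simp [AddChar.card_eq]⟩

theorem π_τ (b : F) : k.π (b - k.ε * k.σ b) = 0 := by rw [map_sub, k.π_conj, sub_self]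

variable (f) in
/-- the abelian group attached to a totally singular subspace -/
def AW (W : Submodule F V) : Subgroup f.Eich where
  carrier := {g | (∀ v, (g.1 : V ≃ₗ[F] V) v - v ∈ W) ∧ ∀ w ∈ W, (g.1 : V ≃ₗ[F] V) w = w}
  one_mem' := ⟨fun v => by simp, fun _ _ => rfl⟩
  mul_mem' {a b} ha hb := ⟨fun v => by simpa using W.add_mem (ha.1 ((b.1 : V ≃ₗ[F] V) v)) (hb.1 v), fun w hw => by
    rw [Subgroup.coe_mul, isom_mul_apply, hb.2 w hw, ha.2 w hw]⟩
  inv_mem' {a} ha := ⟨fun v => by simpa using W.neg_mem (ha.1 ((a.1⁻¹ : f.Isom).1 v)), fun w hw => by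
    nth_rewrite 1 [← ha.2 w hw]; exact isom_inv_apply_apply ..⟩

instance (W : Submodule F V) : CommGroup (AW f W) :=
  { (inferInstance : Group (AW f W)) with
    mul_comm := fun a b => Subtype.ext <| Subtype.ext <| f.isom_ext fun v => by
      have h1 := a.2.2 _ (b.2.1 v)
      have h2 := b.2.2 _ (a.2.1 v)
      rw [map_sub] at h1 h2
      change a.1.1.1 (b.1.1.1 v) = b.1.1.1 (a.1.1.1 v)
      linear_combination (norm := abel) h1 - h2 }

variable {W : Submodule F V} (hW : f.TS W)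

/-- the transvections in `AW` -/
def tW (x : W) : k.π.ker →+ Additive (AW f W) :=
  AddMonoidHom.mk' (fun c => .ofMul ⟨T (hW.Q_eq x x.2) c, fun v => by
    rw [coe_T, eichler_zero_apply, sub_sub_cancel_left]; exact W.neg_mem (W.smul_mem _ x.2), fun w hw => by
    rw [coe_T, eichler_zero_apply, hW.B_eq x x.2 w hw]; simp⟩) fun a b => by simp only [AddChar.map_add_eq_mul]; rfl

include hW in
theorem econd (x y : W) : f.EichlerCond (x : V) y 0 := ⟨hW.Q_eq x x.2, hW.B_eq x x.2 y y.2, by rw [map_zero, hW.Q_eq y y.2]⟩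

/-- the long root elements in `AW` -/
def eW (x : W) : W →+ Additive (AW f W) :=
  AddMonoidHom.mk' (fun y => .ofMul ⟨⟨f.eichler x y 0 (econd hW x y), f.eichler_mem_Eich _ _ _ _⟩, fun v => by
    rw [eichler_apply, add_sub_assoc, add_sub_cancel_left]; exact W.sub_mem (W.smul_mem _ y.2) (W.smul_mem _ x.2), fun w hw => by
    rw [eichler_apply, hW.B_eq x x.2 w hw, hW.B_eq y y.2 w hw]; simp⟩) fun a b => Subtype.ext <| Subtype.ext <|
      (f.eichler_congr (econd hW x (a + b)) _ rfl rfl (by simp [hW.B_eq a a.2 b b.2])).trans (f.eichler_mul (econd hW x a) (econd hW x b)).symm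

theorem eW_self (x : W) (b : F) : eW hW x (k.σ b • x) = tW hW x ⟨_, π_τ b⟩ := Subtype.ext <| Subtype.ext <| f.isom_ext fun v => by
  change (f.eichler x (k.σ b • x) 0 (econd hW x (k.σ b • x))).1 v = (T (hW.Q_eq x x.2) ⟨_, π_τ b⟩).1.1 v
  rw [coe_T, eichler_zero_apply, eichler_apply, B_smul_left, k.σσ]
  match_scalars
  · rfl
  · linear_combination (-k.σ b * f.B x v) * k.εε

theorem norm_mem (a : F) (c : k.π.ker) : a * k.σ a * c ∈ k.π.ker := by
  rw [AddMonoidHom.mem_ker, k.π_norm, AddMonoidHom.mem_ker.1 c.2, mul_zero]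

theorem tW_add (x y : W) (a : F) (c : k.π.ker) :
    tW hW (x + a • y) c = tW hW x c + tW hW y ⟨_, norm_mem a c⟩ + eW hW y ((-(k.ε * c * k.σ a)) • x) :=
  Subtype.ext <| Subtype.ext <| f.isom_ext fun v => by
    change (T (hW.Q_eq _ (x + a • y).2) c).1.1 v = (T (hW.Q_eq x x.2) c).1.1 ((T (hW.Q_eq y y.2) ⟨_, norm_mem a c⟩).1.1
      ((f.eichler y ((-(k.ε * c * k.σ a)) • x) 0 (econd hW y ((-(k.ε * c * k.σ a)) • x))).1 v))
    have := k.δπ c
    rw [AddMonoidHom.mem_ker.1 c.2, mul_zero] at this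
    simp only [coe_T, B_zero_left, map_zero, eichler_apply, B_smul_left, B_add_left, map_add, map_sub, map_smul, hW.B_eq _ x.2 _ x.2,
      hW.B_eq _ x.2 _ y.2, hW.B_eq _ y.2 _ x.2, hW.B_eq _ y.2 _ y.2, Submodule.coe_add, Submodule.coe_smul, map_neg, map_mul, k.σσ, k.σε]
    match_scalars
    · rfl
    · ring
    · linear_combination (k.ε * a * f.B x v) * this


variable [Fintype F] [Fintype k.π.ker] {χ : f.Eich → ℂ} {ψ : AddChar k.π.ker ℂ}

omit [Fintype F] in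
theorem wt_T (hχ : IsClassFunction _ χ) {x y : V} (hx : f.Q x = 0) (hy : f.Q y = 0) {g : f.Isom} (hg : g ∈ f.Eich)
    (e : (g : V ≃ₗ[F] V) x = y) : wt χ (T hy) ψ 1 = wt χ (T hx) ψ 1 := by
  have : ∀ a, T hy a = ⟨g, hg⟩ * T hx a * ⟨g, hg⟩⁻¹ := fun a => Subtype.ext <| by
    change _ = g * T hx a * g⁻¹
    rw [coe_T, coe_T, conj_eichler]
    exact f.eichler_congr _ _ e.symm (map_zero _).symm rfl
  simp only [wt, one_mul, this, hχ _ _]

variable [FiniteDimensional F V] (hf : f.Nondeg) (hτ : ∀ c, k.π c = 0 → ∃ b, b - k.ε * k.σ b = c) (hχ : IsCharacter _ χ) (hψ : ψ ≠ 0)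
include hf hτ hχ hψ

theorem heis_T {x : V} (hx : f.Q x = 0) (h0 : x ≠ 0) {m : ℕ} (hm : wt χ (T hx) ψ 1 = m) (m0 : m ≠ 0) :
    Nat.card F ^ (finrank F V - 2) ≤ m ^ 2 := by
  have hc : ∀ (s : f.Qgrp x) a, Subgroup.inclusion (f.Qgrp_le_Eich x) s * T hx a * (Subgroup.inclusion (f.Qgrp_le_Eich x) s)⁻¹ = T hx a :=
    fun s a => mul_inv_eq_iff_eq_mul.2 (Subtype.ext (commute_of_mem_Tgrp hx (f.eichler_mem_Tgrp _ _ (f.eichlerCond_zero hx a.2)) s.2).eq.symm)
  have := heis (char_wt (ψ := ψ) hχ _ (fun s a => ⟨a, hc s a, rfl⟩) (T_inj hf hx h0)) (by simpa using hm) m0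
    ((f.Tgrp x).subgroupOf (f.Qgrp x)) fun ⟨g, hg⟩ h => ?_
  · have h1 := ((f.Tgrp x).subgroupOf (f.Qgrp x)).card_mul_index
    rw [Nat.card_congr (Subgroup.subgroupOfEquivOfLe (f.Tgrp_le_Qgrp x)).toEquiv, card_Tgrp hf hx h0, card_Qgrp hf hx h0, mul_comm,
      mul_left_inj' Nat.card_pos.ne'] at h1
    exact h1 ▸ this
  obtain ⟨w, c, hw, rfl⟩ := (mem_Qgrp hx).1 hg
  have h1 : w ∉ F ∙ x := fun h1 => h <| by
    obtain ⟨a, rfl⟩ := Submodule.mem_span_singleton.1 h1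
    have h2 : k.π (c - k.ε * a + k.σ a) = 0 := by
      rw [map_add, map_sub, hw.π_c, f.Q_smul_of_Q hx, ← k.π_conj (k.σ a), k.σσ]; simp
    have := f.eichler_add_smul (f.eichlerCond_zero hx h2) a (by convert hw using 1 <;> abel)
    rw [f.eichler_congr _ hw rfl (by abel) (by abel)] at this
    exact Subgroup.mem_subgroupOf.2 (this.symm ▸ f.eichler_mem_Tgrp _ _ _ : f.eichler x _ c hw ∈ _)
  obtain ⟨a, ha⟩ := AddChar.ne_zero_iff.1 hψ
  obtain ⟨b, hb⟩ := hτ a a.2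
  obtain ⟨w', h2, h3⟩ := hf.exists_perp_B_eq' h1 b
  obtain ⟨c', h4⟩ := f.exists_eichlerCond hx (f.mem_perp_span_singleton.1 h2)
  have h5 := wt_conj (char_classFun hχ) (ψ := ψ) (.refl _) (hc ⟨_, f.eichler_mem_Qgrp _ _ _ h4⟩) (fun _ => rfl)
    ⟨_, f.eichler_mem_Eich _ _ _ hw⟩
  have h6 := wt_mul' (x := T hx) (ψ := ψ) (char_classFun hχ) (Subgroup.inclusion (f.Qgrp_le_Eich x) ⟨_, f.eichler_mem_Qgrp _ _ _ h4⟩ *
    ⟨_, f.eichler_mem_Eich _ _ _ hw⟩ * (Subgroup.inclusion (f.Qgrp_le_Eich x) ⟨_, f.eichler_mem_Qgrp _ _ _ h4⟩)⁻¹) a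
  rw [h5, show T hx a * _ = ⟨_, f.eichler_mem_Eich _ _ _ hw⟩ from Subtype.ext ?_] at h6
  · exact (mul_left_eq_self₀.1 h6.symm).resolve_left ha
  · have := f.commutator_eichler hw h4
    rw [f.eichler_congr _ (f.eichlerCond_zero hx a.2) rfl rfl (by rw [f.symm w w', h3, hb])] at this
    change T hx a * (f.eichler x w' c' h4 * f.eichler x w c hw * (f.eichler x w' c' h4)⁻¹) = f.eichler x w c hw
    rw [coe_T, ← this, commutatorElement_def]; group

omit hχ hf [Fintype k.π.ker] [FiniteDimensional F V] in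
theorem count {s : ℕ} (hs : ∀ a, k.σ a = a ^ s) [Fintype W] (β : AddChar (Additive (AW f W)) ℂ)
    [DecidablePred fun x => β.compAddMonoidHom (tW hW x) = ψ] :
    #{x | β.compAddMonoidHom (tW hW x) = ψ} * Nat.card F ≤ (s + 1) * Nat.card W := by
  classical
  set S : Finset W := {x | β.compAddMonoidHom (tW hW x) = ψ}
  have hS : ∀ x ∈ S, ∀ c, β (tW hW x c) = ψ c := fun x hx c => DFunLike.congr_fun (mem_filter.1 hx).2 c
  rcases S.eq_empty_or_nonempty with h | ⟨e, he⟩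
  · simp [h]
  let Φ : W →+ AddChar F ℂ := AddMonoidHom.mk' (fun x => β.compAddMonoidHom ((eW hW e).comp (LinearMap.toSpanSingleton F W x).toAddMonoidHom))
    fun x y => DFunLike.ext _ _ fun u => by simp [AddChar.map_add_eq_mul]
  have hΦ : ∀ x u, Φ x u = β (eW hW e (u • x)) := fun _ _ => rfl
  obtain ⟨a, ha⟩ := AddChar.ne_zero_iff.1 hψ
  have h1 : Function.Bijective (Φ.comp (LinearMap.toSpanSingleton F W e).toAddMonoidHom) := by
    refine (Nat.bijective_iff_injective_and_card _).2 ⟨(injective_iff_map_eq_zero _).2 fun t ht => by_contra fun t0 => ha ?_,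
      by simp [AddChar.card_eq]⟩
    obtain ⟨b, hb⟩ := hτ a a.2
    have := DFunLike.congr_fun ht (k.σ b / t)
    rw [AddMonoidHom.comp_apply, hΦ, LinearMap.toAddMonoidHom_coe, LinearMap.toSpanSingleton_apply, smul_smul, div_mul_cancel₀ _ t0, eW_self,
      hS e he] at this
    simpa [hb] using this
  choose r hr using fun x => h1.2 (Φ x)
  have h2 : Nat.card Φ.ker * Nat.card F = Nat.card W := by
    rw [← Φ.ker.card_mul_index, AddSubgroup.index_ker, (AddMonoidHom.range_eq_top (f := Φ)).2 fun y => (h1.2 y).elim fun _ h => ⟨_, h⟩]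
    simp [AddChar.card_eq]
  have h3 : ∀ x, x - r x • e ∈ Φ.ker := fun x => by rw [AddMonoidHom.mem_ker, map_sub, ← hr, sub_eq_zero]; rfl
  have h4 : ∀ x ∈ S, ∀ c, ψ c = β (tW hW (x - r x • e) c) * ψ ⟨_, norm_mem (r x) c⟩ := fun x hx c => by
    rw [← hS x hx, ← hS e he, ← mul_one (_ * _), ← show _ = (1 : ℂ) from DFunLike.congr_fun (h3 x) (-(k.ε * c * k.σ (r x))), hΦ,
      ← AddChar.map_add_eq_mul, ← AddChar.map_add_eq_mul, ← tW_add, sub_add_cancel]
  rw [← h2, ← mul_assoc, Nat.card_eq_fintype_card (α := Φ.ker), ← card_univ]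
  refine Nat.mul_le_mul_right _ (card_le_mul_card_image_of_maps_to (f := fun x => (⟨_, h3 x⟩ : Φ.ker)) (fun _ _ => mem_univ _) _ fun y _ => ?_)
  rcases ({x ∈ S | (⟨_, h3 x⟩ : Φ.ker) = y}).eq_empty_or_nonempty with h | ⟨z, hz⟩
  · simp [h]
  refine (card_le_card_of_injOn (t := (Polynomial.nthRoots (s + 1) (r z ^ (s + 1))).toFinset) r (fun x hx => ?_) fun x hx x' hx' h => ?_).trans
    ((Multiset.toFinset_card_le _).trans (Polynomial.card_nthRoots _ _))
  · rw [mem_coe, mem_filter] at hx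
    rw [mem_filter] at hz
    rw [mem_coe, Multiset.mem_toFinset, Polynomial.mem_nthRoots s.succ_pos, pow_succ', pow_succ', ← hs, ← hs, ← sub_eq_zero]
    refine by_contra fun d0 => ha ?_
    set d := r x * k.σ (r x) - r z * k.σ (r z) with hd
    have h5 := (h4 x hx.1 ⟨_, norm_mem d⁻¹ (⟨_, norm_mem (r x) a⟩ - ⟨_, norm_mem (r z) a⟩)⟩).symm.trans (h4 z hz.1 _)
    rw [show x - r x • e = z - r z • e from Subtype.mk.inj (hx.2.trans hz.2.symm), mul_right_inj' (β.val_isUnit _).ne_zero,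
      ← div_eq_one_iff_eq (ψ.val_isUnit _).ne_zero, ← AddChar.map_sub_eq_div] at h5
    rw [← h5]
    refine congrArg _ (Subtype.ext ?_)
    have : k.σ d = d := by simp [hd, k.σσ, mul_comm]
    simp only [AddSubgroup.coe_sub, map_inv₀, this, ← sub_mul, ← hd]
    field_simp
  · rw [mem_coe, mem_filter] at hx hx'
    simpa [h] using Subtype.mk.inj (hx.2.trans hx'.2.symm)

omit hψ [Fintype k.π.ker] in
theorem bound {s : ℕ} (hs : ∀ a, k.σ a = a ^ s) (htr : ∀ x y, f.Q x = 0 → x ≠ 0 → f.Q y = 0 → y ≠ 0 → ∃ g ∈ f.Eich, (g : V ≃ₗ[F] V) x = y)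
    {d : ℕ} (hd : χ 1 = d) (hne : ¬ ∀ x c h, ⟨_, f.eichler_mem_Eich x 0 c h⟩ ∈ charKer χ) (hW : f.TS W) :
    ∃ M, Nat.card F ^ (finrank F V - 2) ≤ M ^ 2 ∧ (Nat.card F ^ finrank F W - 1) * M * Nat.card F ≤ d * ((s + 1) * Nat.card F ^ finrank F W) := by
  classical
  have := Fintype.ofFinite k.π.ker
  have := Module.finite_of_finite F (M := V)
  have := Fintype.ofFinite W
  have := Fintype.ofFinite (Additive (AW f W))
  push Not at hne
  obtain ⟨x, c, h, hne⟩ := hne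
  have x0 : x ≠ 0 := by
    rintro rfl
    exact hne (by simp only [eichler_zero_left]; exact one_mem _)
  obtain ⟨μ, μ1, μ2, -⟩ := exists_mults (P _) hχ (T_inj hf h.Q_p x0)
  obtain ⟨ψ, hψ, ψ0⟩ : ∃ ψ ≠ 0, μ ψ ≠ 0 := by
    by_contra! H
    refine hne ((mem_charKer hχ).2 ((μ2 ⟨c, h.π_eq_zero⟩).trans (Eq.trans ?_ (by simpa using (μ2 0).symm))))
    refine sum_congr rfl fun y _ => ?_
    by_cases hy : y = 0
    exacts [by simp [hy, P], by simp [H y hy]]
  refine ⟨μ ψ, heis_T hf hτ hχ hψ h.Q_p x0 (μ1 ψ) ψ0, ?_⟩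
  let X : AddChar (Additive (AW f W)) f.Eich := ⟨fun a => a.toMul.1, rfl, fun _ _ => rfl⟩
  obtain ⟨m, m1, m2, -⟩ := exists_mults (x := X) (P _) hχ fun a b h => Subtype.ext h
  have m3 : d = ∑ β, m β := by simpa [hd, ← Nat.cast_sum] using m2 0
  have m4 : ∀ y ∈ univ.erase (0 : W), μ ψ = ∑ β with β.compAddMonoidHom (tW hW y) = ψ, m β := fun y hy => by
    obtain ⟨g, hg, e⟩ := htr x y h.Q_p x0 (hW.Q_eq y y.2) (by simpa using hy)
    have := wt_res (P _) (χ := χ) (x := X) (tW hW y) ψ 1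
    simp only [m1] at this
    exact_mod_cast ((wt_T (char_classFun hχ) h.Q_p (hW.Q_eq y y.2) hg e).trans (μ1 ψ)).symm.trans this
  rw [← Module.natCard_eq_pow_finrank, m3, sum_mul, Nat.card_eq_fintype_card (α := W), ← card_univ, ← card_erase_of_mem (mem_univ 0),
    ← smul_eq_mul _ (μ ψ), ← sum_const, sum_congr rfl m4, sum_comm' (t' := univ) (s' := fun β => {y ∈ univ.erase 0 | β.compAddMonoidHom (tW hW y) = ψ})
      (by simp), sum_mul]
  refine sum_le_sum fun β _ => ?_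
  rw [sum_const, smul_eq_mul, mul_comm _ (m β), mul_assoc, card_univ, ← Nat.card_eq_fintype_card]
  exact Nat.mul_le_mul_left _ ((Nat.mul_le_mul_right _ (card_le_card (filter_subset_filter _ (subset_univ _)))).trans (count hW hτ hψ hs β))

omit hτ hχ hψ [Fintype k.π.ker] hf

theorem arith {d s m e a Q M : ℕ} (h1 : a ^ 2 ≤ M ^ 2) (h2 : (Q ^ (m + 1) - 1) * M * Q ≤ d * (s * Q ^ (m + 1))) (h3 : a = e * Q ^ m) (hQ : 0 < Q) :
    (e * Q ^ (m + 1) - e) / s ≤ d := by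
  refine Nat.div_le_of_le_mul (Nat.le_of_mul_le_mul_right (c := Q ^ (m + 1)) ?_ (by positivity))
  calc _ = (Q ^ (m + 1) - 1) * a * Q := by rw [h3, ← Nat.mul_sub_one]; ring
    _ ≤ (Q ^ (m + 1) - 1) * M * Q := by gcongr; exact (Nat.pow_le_pow_iff_left two_ne_zero).1 h1
    _ ≤ _ := h2.trans_eq (by ring)

theorem symp_bound {f : Form (Kind.symp F) V} (hf : f.Nondeg) (h2 : (2 : F) ≠ 0) {m : ℕ} (hm : finrank F V = 2 * (m + 1)) {χ : f.Isom → ℂ}
    (hχ : IsCharacter _ χ) {d : ℕ} (hd : χ 1 = d) (hne : charKer χ ≠ ⊤) : (Nat.card F ^ (m + 1) - 1) / 2 ≤ d := by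
  obtain ⟨⟨W, hW, e⟩, -⟩ := hf.symp_isIndex
  obtain ⟨M, h3, h4⟩ := bound hf (fun c _ => ⟨c / 2, by simp; field_simp; ring⟩) (char_restrict hχ f.Eich) (s := 1) (by simp)
    (fun x y hx x0 hy y0 => (hf.witt_one x0 y0 (hx.trans hy.symm)).imp fun g h => ⟨hf.symp_Eich_eq_top ▸ trivial, h⟩) hd
    (fun H => hne (hf.symp_eq_top_of_Tgrp fun x c h => (mem_charKer hχ).2 (by simpa using apply_of_mem_charKer (H x c h)))) hW
  rw [e, hm, Nat.mul_div_cancel_left _ two_pos] at h4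
  rw [hm, show 2 * (m + 1) - 2 = m * 2 by omega, pow_mul] at h3
  simpa using arith h3 h4 (one_mul _).symm Nat.card_pos

theorem herm_bound {q : ℕ} (hF : Fintype.card F = q ^ 2) {f : Form (hermKind hF) V} (hf : f.Nondeg) {m e : ℕ} (he : e ≤ 1)
    (hm : finrank F V = 2 * (m + 1) + e) (h3 : 3 ≤ finrank F V) (h32 : ¬(finrank F V = 3 ∧ q = 2)) {χ : f.SIsom → ℂ}
    (hχ : IsCharacter _ χ) {d : ℕ} (hd : χ 1 = d) (hne : charKer χ ≠ ⊤) : (q ^ finrank F V - q ^ e) / (q + 1) ≤ d := by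
  obtain ⟨⟨W, hW, e1⟩, -⟩ := hf.herm_isIndex (conj_ne_id hF)
  refine (bound hf (herm_exists_sub_eq _ (conj_ne_id hF)) (char_comp hχ (Subgroup.inclusion f.Eich_le_SIsom)) (s := q) (d := d) (fun _ => rfl)
    (fun x y hx x0 hy y0 => ?_) (by simpa using hd) (fun H => hne ?_) hW).elim fun M ⟨h4, h5⟩ => ?_
  rotate_right
  · rw [e1, hm, show (2 * (m + 1) + e) / 2 = m + 1 by omega, Nat.card_eq_fintype_card, hF] at h5
    rw [hm, Nat.card_eq_fintype_card, hF, ← pow_mul, mul_comm, pow_mul] at h4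
    have := two_le_of_card_sq hF
    convert arith h4 h5 (e := q ^ e) (by rw [show 2 * (m + 1) + e - 2 = e + 2 * m by omega]; ring) (by positivity) using 3
    rw [hm]; ring
  · obtain ⟨g, rfl⟩ := hf.witt_one x0 y0 (hx.trans hy.symm)
    obtain ⟨z, hz⟩ := hf.exists_isHyp hx x0
    obtain ⟨v, hv, v1⟩ := f.herm_exists_Q_eq (conj_ne_id hF) (hf.disjoint_perp_perp hz.isCompl.disjoint)
      (fun h => by have := hz.finrank_perp; rw [h, finrank_bot] at this; omega) (map_one _)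
    obtain ⟨h, e⟩ := herm_exists_det_eq hF (f := f) (v := v) (a := (f.detHom g⁻¹ : F)) (by rw [v1]; exact one_ne_zero)
      ((herm_mem_range_detHom hF hf (by omega) _).1 ⟨_, rfl⟩)
    refine ⟨g * f.qrefl v _ h, herm_Eich_eq hF hf (by omega) ▸ mem_SIsom.2 ?_, ?_⟩
    · rw [map_mul, Units.ext e, ← map_mul, mul_inv_cancel, map_one]
    · rw [isom_mul_apply, f.qrefl_apply_of_B _ _ _ (f.eq_zero_symm (f.mem_perp_span_pair.1 hv).1)]
  · refine top_unique fun g _ => ?_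
    obtain ⟨g', h, e⟩ := herm_SIsom_le_of_Tgrp hF hf h3 h32 (G := (charKer χ).map f.SIsom.subtype)
      (fun x c h => ⟨⟨_, f.eichler_mem_SIsom x 0 c h⟩, (mem_charKer hχ).2 (apply_of_mem_charKer (H x c h) :), rfl⟩) g.2
    exact Subtype.ext e ▸ h

omit [Fintype F] [FiniteDimensional F V] in
theorem ker_ne {G H : Type*} [Group G] [Group H] [Finite G] (e : H ≃* G) {d : ℕ} {ρ : Representation ℂ G (Fin d → ℂ)} (hρ : ρ.IsIrreducible) (hd : 2 ≤ d) :
    charKer (fun h => ρ.character (e h)) ≠ ⊤ := fun h => by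
  have h1 : IsIrrCharacter G ρ.character := ⟨d, ρ, hρ, rfl⟩
  have := congrFun ((charKer_eq_top_iff h1).1 (top_unique fun g _ => (mem_charKer (char_of_irr h1)).2
    (by simpa only [MulEquiv.apply_symm_apply, map_one] using apply_of_mem_charKer (h.ge (Subgroup.mem_top (e.symm g)))))) 1
  simp at this
  omega

end CA.DegLS
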