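/-
The smallest character degree of symplectic groups in characteristic two.
-/
import Cfsg.Agent.Lib.Lin.DegLS

set_option autoImplicit false
set_option linter.unusedSectionVars false

namespace CA.DegSp

open Cfsg CA.Wt CA.CForm CA.CForm.Form CA.AutForm CChar.CharFun CChar.CharKer Finset Module

section
variable {G A : Type*} [Group G] [AddCommGroup A] [Fintype A] {χ : G → ℂ} {x : AddChar A G}

theorem wt_conj' (hχ : IsClassFunction G χ) (hx : Function.Injective x) {h : G} (σ : A → A)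
    (hσ : ∀ a, h * x a * h⁻¹ = x (σ a)) {ψ ψ' : AddChar A ℂ} (e : ∀ a, ψ' (σ a) = ψ a) (g : G) :
    wt χ x ψ' (h * g * h⁻¹) = wt χ x ψ g :=
  wt_conj hχ (AddEquiv.ofBijective (AddMonoidHom.mk' σ fun a b => hx (by
      rw [AddChar.map_add_eq_mul, ← hσ, ← hσ, ← hσ, AddChar.map_add_eq_mul]; group))
    (Finite.injective_iff_bijective.1 fun a b e => hx (mul_left_cancel (mul_right_cancel
      ((hσ a).trans ((congrArg x e).trans (hσ b).symm)))))) hσ e g

theorem norm_wt_le [Finite G] (hχ : IsCharacter G χ) (hx : Function.Injective x) {ψ : AddChar A ℂ} {m : ℕ}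
    (hm : wt χ x ψ 1 = m) {g : G} (hg : ∀ a, ∃ b, g * x a * g⁻¹ = x b) : ‖wt χ x ψ g‖ ≤ m := by
  by_cases h : g ∈ stab x hx ψ
  · simpa [hm] using char_norm_le (char_stab hχ hx ψ) ⟨g, h⟩
  obtain ⟨a, ha⟩ := not_forall.1 h
  obtain ⟨b, hb⟩ := hg a
  rw [wt_eq_zero (char_classFun hχ) (mul_inv_eq_iff_eq_mul.1 hb) fun e => ha ⟨b, hb, e.symm⟩]; simp
end

variable {F : Type*} [Field F] [Fintype F]

theorem card_fiber {V : Type*} [AddCommGroup V] [Fintype V] [DecidableEq F] (φ : V →+ F) (h : Function.Surjective φ) (k : F) :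
    Fintype.card F * #{u | φ u = k} = Fintype.card V := by
  rw [← card_univ (α := V), card_eq_sum_card_fiberwise (s := univ) (f := φ) (t := univ) fun _ _ => mem_univ _,
    sum_congr rfl fun j _ => AddMonoidHom.card_fiber_eq_of_mem_range φ (h j) (h k)]
  simp

theorem exists_psi (h2 : (2 : F) = 0) : ∃ ψ : AddChar F ℂ, (∃ c, ψ c = -1) ∧ (∀ a, ψ a = 1 ∨ ψ a = -1) ∧
    (∀ a, ψ (a ^ 2) = ψ a) ∧ ∀ k, ψ k = 1 → ∃ z, z ^ 2 + z = k := by
  classical
  let L : F →+ F := AddMonoidHom.mk' (fun z => z ^ 2 + z) fun a b => by linear_combination (a * b) * h2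
  have h1 : Nat.card L.ker = 2 := by
    rw [← Set.ncard_pair (zero_ne_one (α := F)), ← Nat.card_coe_set_eq]
    refine congrArg (fun s : Set F => Nat.card s) (Set.ext fun z => ?_)
    change z ^ 2 + z = 0 ↔ _
    rw [show z ^ 2 + z = z * (z - 1) by linear_combination z * h2]
    simp [sub_eq_zero]
  have h3 : L.range.index = 2 := by
    have a := L.range.card_mul_index
    have b := L.ker.card_mul_index
    rw [AddSubgroup.index_ker, h1, ← a, mul_comm] at b
    exact (Nat.eq_of_mul_eq_mul_left Nat.card_pos b).symm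
  refine ⟨⟨fun a => if a ∈ L.range then 1 else -1, by simp, fun a b => ?_⟩, ?_, fun a => ?_, fun a => ?_, fun k hk => ?_⟩
  · simp only [AddSubgroup.add_mem_iff_of_index_two h3]
    by_cases ha : a ∈ L.range <;> by_cases hb : b ∈ L.range <;> simp [ha, hb]
  · obtain ⟨c, hc⟩ : ∃ c, c ∉ L.range := by
      by_contra! h
      rw [(AddSubgroup.eq_top_iff' _).2 h] at h3; simp at h3
    exact ⟨c, if_neg hc⟩
  · exact (em (a ∈ L.range)).imp (fun h => if_pos h) fun h => if_neg h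
  · have := (AddSubgroup.add_mem_iff_of_index_two h3 (a := a ^ 2) (b := a)).1 ⟨a, rfl⟩
    change ite _ _ _ = ite _ _ _
    simp only [this]
  · by_contra h
    change ite _ _ _ = _ at hk
    rw [if_neg (c := k ∈ L.range) h] at hk
    norm_num at hk

universe u
variable {V : Type u} [AddCommGroup V] [Module F V] [FiniteDimensional F V] {f : Form (Kind.symp F) V}

omit [Fintype F] in
theorem exists_quad (hf : f.Nondeg) (h2 : (2 : F) = 0) : ∃ θ : V → F, (∀ u w, θ (u + w) = θ u + θ w + f.B u w) ∧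
    ∀ (a : F) u, θ (a • u) = a ^ 2 * θ u := by
  obtain ⟨m, hm⟩ := hf.symp_even
  obtain ⟨e, he⟩ := hf.symp_equivalent (f' := (plusForm F m).toSymp h2) (plusForm_nondeg F m) (by rw [finrank_plus, hm, two_mul])
  exact ⟨fun u => (plusForm F m).Q (e u), fun u w => by simp only [map_add, orth_Q_add, ← he.B_eq]; rfl,
    fun a u => by simp only [map_smul, orth_Q_smul]⟩

theorem sum_B [Fintype V] [DecidableEq V] {k : Kind F} {f : Form k V} (hf : f.Nondeg) {ψ : AddChar F ℂ} {c : F} (hc : ψ c ≠ 1) (d : V) :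
    ∑ u, ψ (f.B d u) = if d = 0 then (Fintype.card V : ℂ) else 0 := by
  split_ifs with h
  · simp [h]
  obtain ⟨w, hw⟩ := hf.exists_B_ne_zero h
  exact AddChar.sum_eq_zero_of_ne_one (ψ := ψ.compAddMonoidHom (f.B d).toAddMonoidHom)
    (AddChar.ne_one_iff.2 ⟨(c / f.B d w) • w, by simpa [div_mul_cancel₀ c hw]⟩)

theorem card_class [Fintype V] (hf : f.Nondeg) {θ : V → F} (h1 : ∀ u w, θ (u + w) = θ u + θ w + f.B u w)
    {ψ : AddChar F ℂ} {c : F} (hc : ψ c = -1) (hψ : ∀ a, ψ a = 1 ∨ ψ a = -1) {Q : ℕ} (hQ : Fintype.card V = Q ^ 2)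
    [DecidablePred fun u => ψ (θ u) = 1] :
    Q ^ 2 ≤ 2 * #{u | ψ (θ u) = 1} + Q ∧ Q ^ 2 ≤ 2 * #{u | ¬ ψ (θ u) = 1} + Q := by
  classical
  have h0 : θ 0 = 0 := by simpa using h1 0 0
  have h2 : (∑ u, ψ (θ u)) * ∑ u, ψ (θ u) = Q ^ 2 := by
    rw [sum_mul_sum, sum_congr rfl fun u _ => (Equiv.sum_comp (Equiv.addRight u) _).symm, sum_comm]
    have : ∀ d u, ψ (θ u) * ψ (θ (d + u)) = ψ (θ d) * ψ (f.B d u) := fun d u => by
      rw [h1, AddChar.map_add_eq_mul, AddChar.map_add_eq_mul]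
      rcases hψ (θ u) with e | e <;> rw [e] <;> ring
    simp only [Equiv.coe_addRight, this, ← mul_sum, sum_B hf (c := c) (by rw [hc]; norm_num)]
    simp [h0, hQ]
  have h3 : ∑ u, ψ (θ u) = ((#{u | ψ (θ u) = 1} - #{u | ¬ ψ (θ u) = 1} : ℤ) : ℂ) := by
    rw [← sum_filter_add_sum_filter_not univ fun u => ψ (θ u) = 1, sum_congr rfl fun u hu => (mem_filter.1 hu).2,
      sum_congr rfl fun u hu => (hψ _).resolve_left (mem_filter.1 hu).2]
    simp [sub_eq_add_neg]
  have h4 := card_filter_add_card_filter_not (s := univ) fun u => ψ (θ u) = 1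
  rw [card_univ, hQ] at h4
  rw [h3, ← sq] at h2
  have h5 : (#{u | ψ (θ u) = 1} - #{u | ¬ ψ (θ u) = 1} : ℤ) ^ 2 = Q ^ 2 := by exact_mod_cast h2
  rcases sq_eq_sq_iff_eq_or_eq_neg.1 h5 with e | e <;> omega

section
variable {x y : V} (h : f.IsHyp x y) {θ : f.perp (Submodule.span F {x, y}) → F}
  (h1 : ∀ u w, θ (u + w) = θ u + θ w + f.B u w)

theorem Bx (w : f.perp (Submodule.span F {x, y})) : f.B x w = 0 := (f.mem_perp_span_pair.1 w.2).1
theorem By (w : f.perp (Submodule.span F {x, y})) : f.B y w = 0 := (f.mem_perp_span_pair.1 w.2).2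

/-- the unipotent radical -/
def X : AddChar (f.perp (Submodule.span F {x, y}) × F) f.Isom where
  toFun a := f.eichler x a.1 (a.2 + θ a.1) (symp_eichlerCond (Bx a.1) _)
  map_zero_eq_one' := (f.eichler_congr _ (symp_eichlerCond (map_zero _) 0) rfl rfl (by simpa using h1 0 0)).trans (f.eichler_zero _)
  map_add_eq_mul' a b := by
    rw [eichler_mul]
    exact f.eichler_congr _ _ rfl rfl (by simp only [Prod.fst_add, Prod.snd_add, h1]; ring)

theorem X_apply (a : f.perp (Submodule.span F {x, y}) × F) :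
    X h1 a = f.eichler x a.1 (a.2 + θ a.1) (symp_eichlerCond (Bx a.1) _) := rfl

include h in
theorem X_inj : Function.Injective (X h1) := fun a b H => by
  obtain ⟨e1, e2⟩ := eichler_inj h (By a.1) (By b.1) ((X_apply h1 a).symm.trans (H.trans (X_apply h1 b)))
  obtain e := Subtype.ext e1
  exact Prod.ext e (by simpa [e] using e2)

variable (h2 : (2 : F) = 0) (h3 : ∀ (a : F) u, θ (a • u) = a ^ 2 * θ u)
include h2 h3

theorem conj_tv (v w : f.perp (Submodule.span F {x, y})) (b c : F) :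
    f.eichler v 0 b (symp_eichlerCond (map_zero _) _) * X h1 (w, c) * (f.eichler v 0 b (symp_eichlerCond (map_zero _) _))⁻¹ =
      X h1 (w + (b * f.B v w) • v, c + (b ^ 2 * θ v + b) * f.B v w ^ 2) := by
  rw [X_apply, X_apply, conj_eichler]
  refine f.eichler_congr _ _ ?_ ?_ ?_
  · simp [eichler_zero_apply, f.eq_zero_symm (Bx v)]
  · simp [eichler_zero_apply]
  · simp only [h1, h3, Submodule.coe_smul, map_smul, f.symp_symm v w, smul_eq_mul]
    linear_combination (-(b ^ 2 * f.B v w ^ 2 * θ v)) * h2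

theorem conj_torus (t : Fˣ) (w : f.perp (Submodule.span F {x, y})) (c : F) :
    h.torus t * X h1 (w, c) * (h.torus t)⁻¹ = X h1 ((t : F) • w, t ^ 2 * c) := by
  rw [X_apply, X_apply, h.torus_conj_eichler _ _ (By w) (symp_eichlerCond (by simp [Bx w]) _)]
  exact f.eichler_congr _ _ rfl rfl (by simp [h3]; ring)

end

theorem arith {q Q s M : ℝ} (k5 : 2 * q * M ≤ (q - 1) * (s * Q ^ 2)) (k6 : q ^ 2 ≤ Q) (k7 : s * Q ^ 2 ≤ 2 * M + s * Q)
    (k8 : 1 ≤ s) (k9 : 2 ≤ q) : False := by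
  have : 0 < s * (Q * (Q - q)) := mul_pos (by linarith) (mul_pos (by nlinarith) (by nlinarith))
  nlinarith [mul_le_mul_of_nonneg_left k7 (show 0 ≤ q by linarith)]

theorem step (hf : f.Nondeg) (h2 : (2 : F) = 0) {m : ℕ} (hm : finrank F V = 2 * (m + 1)) {x y : V} (h : f.IsHyp x y)
    {χ : f.Isom → ℂ} (hχ : IsCharacter _ χ) (hne : charKer χ ≠ ⊤) {d : ℕ} (hd : χ 1 = d) :
    ∃ (φ : (f.restrict (f.perp (Submodule.span F {x, y}))).Isom → ℂ) (t M : ℕ), IsCharacter _ φ ∧ φ 1 = t ∧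
      d = t + (Fintype.card F - 1) * M ∧ (Fintype.card F ^ m) ^ 2 ≤ 2 * M + Fintype.card F ^ m ∧ (2 ≤ m → charKer φ ≠ ⊤) := by
  classical
  have := Module.finite_of_finite F (M := V)
  let U := f.perp (Submodule.span F {x, y})
  have := Fintype.ofFinite U
  have hU : (f.restrict U).Nondeg := h.nondeg_perp hf
  have fr : finrank F U + 2 = finrank F V := h.finrank_perp
  have cU : Fintype.card U = (Fintype.card F ^ m) ^ 2 := by
    rw [Module.card_eq_pow_finrank (K := F), show finrank F U = m * 2 by omega, pow_mul]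
  obtain ⟨θ, h0, h3⟩ := exists_quad hU h2
  have h1 : ∀ u w : U, θ (u + w) = θ u + θ w + f.B u w := h0
  obtain ⟨ψ, ⟨c, hc⟩, p1, p2, p3⟩ := exists_psi h2
  have hc' : ψ c ≠ 1 := by rw [hc]; norm_num
  have sq : ∀ a : F, ∃ t, a = t ^ 2 := fun a => (isSquare_of_two_eq_zero h2 a).imp fun t e => by rw [e, pow_two]
  have θ0 : θ 0 = 0 := by simpa using h1 0 0
  have hB : ∀ v : U, v ≠ 0 → ∀ s, ∃ w : U, f.B v w = s := fun v hv s => by
    obtain ⟨w, hw⟩ := hU.exists_B_ne_zero hv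
    exact ⟨(s / f.B v w) • w, by simpa using div_mul_cancel₀ s hw⟩
  let P : Par (U × F) (U × F) := ⟨fun z => ⟨fun a => ψ (f.B z.1 a.1 + z.2 * a.2), by simp, fun a b => by
      rw [← AddChar.map_add_eq_mul]; simp only [Prod.fst_add, Prod.snd_add, Submodule.coe_add, map_add]; congr 1; ring⟩,
    fun z w a => by
      change ψ _ = ψ _ * ψ _
      rw [← AddChar.map_add_eq_mul]; simp only [Prod.fst_add, Prod.snd_add, Submodule.coe_add, B_add_left]; congr 1; ring,
    fun a ha => by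
      by_cases e : a.1 = 0
      · have : a.2 ≠ 0 := fun e' => ha (Prod.ext e e')
        exact ⟨(0, c / a.2), by simpa [div_mul_cancel₀ c this]⟩
      · obtain ⟨w, hw⟩ := hB _ e (-c)
        exact ⟨(w, 0), by simpa [f.symp_symm a.1 w, hw]⟩, rfl⟩
  have pe : ∀ z a, P.e z a = ψ (f.B z.1 a.1 + z.2 * a.2) := fun _ _ => rfl
  have hx := X_inj h h1
  obtain ⟨n, m1, m2, -⟩ := exists_mults P hχ hx
  have m3 : ∀ (g : f.Isom) (σ : U × F → U × F), (∀ a, g * X h1 a * g⁻¹ = X h1 (σ a)) → ∀ z w, (∀ a, P.e w (σ a) = P.e z a) →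
      n w = n z := fun g σ e z w e' => by simpa [m1] using wt_conj' (char_classFun hχ) hx σ e e' 1
  have m4 : ∀ (t : F), t ≠ 0 → ∀ u, n (t • u, t ^ 2) = n (u, 1) := fun t ht u =>
    (m3 _ _ (fun a => conj_torus h h1 h2 h3 (.mk0 t ht) a.1 a.2) _ _ fun a => by simp [pe]).symm
  have m5 : ∀ u u', ψ (θ u) = ψ (θ u') → n (u', 1) = n (u, 1) := fun u u' e => by
    obtain ⟨v, rfl⟩ : ∃ v, u = u' + v := ⟨u - u', by simp⟩
    rw [h1, add_assoc, AddChar.map_add_eq_mul, mul_eq_left₀ (ψ.val_isUnit _).ne_zero, AddChar.map_add_eq_mul, ← p2 (f.B _ _),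
      ← AddChar.map_add_eq_mul] at e
    obtain ⟨b, hb⟩ : ∃ b, b ^ 2 * (θ v + f.B u' v ^ 2) + b = 1 := by
      obtain ⟨z, hz⟩ := p3 _ e
      by_cases k : θ v + f.B u' v ^ 2 = 0
      · exact ⟨1, by simp [k]⟩
      · exact ⟨z / (θ v + f.B u' v ^ 2), by field_simp; linear_combination hz⟩
    refine m3 _ _ (fun a => conj_tv h1 h2 h3 v a.1 b a.2) _ _ fun a => ?_
    simp only [pe, Submodule.coe_add, Submodule.coe_smul, map_add, map_smul, B_add_left, one_mul, smul_eq_mul, AddChar.map_add_eq_mul]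
    rw [← p2 (b * _ * _), ← p2 (f.B v _), mul_assoc, mul_assoc (ψ _), mul_left_comm (ψ (_ ^ 2)), mul_comm (ψ (_ ^ 2)) (ψ a.2),
      ← AddChar.map_add_eq_mul]
    congr 3
    linear_combination (f.B v a.1 ^ 2) * hb
  obtain ⟨sp, sm, hs⟩ : ∃ sp sm : ℕ, ∀ u, n (u, 1) = if ψ (θ u) = 1 then sp else sm := by
    by_cases e : ∃ u, ψ (θ u) ≠ 1
    · obtain ⟨u0, e⟩ := e
      refine ⟨n (0, 1), n (u0, 1), fun u => ?_⟩
      split_ifs with e'
      exacts [m5 _ _ (by simp [θ0, e']), m5 _ _ (((p1 _).resolve_left e).trans ((p1 _).resolve_left e').symm)]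
    · push Not at e
      exact ⟨n (0, 1), 0, fun u => by rw [if_pos (e u)]; exact m5 _ _ (by simp [θ0, e])⟩
  set M := ∑ u, n (u, 1) with hM
  set t := ∑ u, n (u, 0) with ht
  have m6 : ∀ a ≠ 0, ∑ u, n (u, a) = M := fun a ha => by
    obtain ⟨r, rfl⟩ := sq a
    have hr : r ≠ 0 := fun e => ha (by simp [e])
    exact (Fintype.sum_equiv (MulAction.toPerm (Units.mk0 r hr)) _ _ fun u => (m4 r hr u).symm).symm
  have m7 : ∀ b, χ (X h1 (0, b)) = t - M + M * ∑ a, ψ (a * b) := fun b => by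
    rw [m2, Fintype.sum_prod_type_right, ← add_sum_erase _ _ (mem_univ 0), ← add_sum_erase _ (fun a => ψ (a * b)) (mem_univ 0), mul_add, mul_sum]
    simp only [pe, ZeroMemClass.coe_zero, map_zero, zero_add, zero_mul, AddChar.map_zero_eq_one, mul_one, ← sum_mul, ← Nat.cast_sum]
    rw [sum_congr (s₁ := univ.erase (0 : F)) rfl fun a ha => by rw [m6 a (ne_of_mem_erase ha)]]
    ring
  have hq : 2 ≤ Fintype.card F := Fintype.one_lt_card
  have m8 : d = t + (Fintype.card F - 1) * M := by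
    have := m7 0
    rw [show ((0, 0) : U × F) = 0 from rfl, AddChar.map_zero_eq_one, hd] at this
    simp only [mul_zero, AddChar.map_zero_eq_one, sum_const, card_univ, nsmul_eq_mul, mul_one] at this
    have : (d : ℂ) = (t + (Fintype.card F - 1) * M : ℕ) := by rw [this]; push_cast [show 1 ≤ Fintype.card F by omega]; ring
    exact_mod_cast this
  have m9 : ∀ b ≠ 0, χ (X h1 (0, b)) = t - M := fun b hb => by
    rw [m7, AddChar.sum_eq_zero_of_ne_one (ψ := ψ.compAddMonoidHom (AddMonoidHom.mulRight b))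
      (AddChar.ne_one_iff.2 ⟨c / b, by simpa [div_mul_cancel₀ c hb]⟩) |> (by simpa using · : _ → ∑ a, ψ (a * b) = 0)]
    simp
  have M0 : M ≠ 0 := fun e => hne (hf.symp_eq_top_of_Tgrp_le h.x_ne_zero (f.Tgrp_le fun b hb => (mem_charKer hχ).2 (by
    by_cases b0 : b = 0
    · subst b0; rw [f.eichler_zero]
    · rw [hd, m8, ← (X_apply h1 (0, b)).trans (f.eichler_congr _ hb rfl rfl (by simp [θ0])), m9 b b0, e]; simp)))
  obtain ⟨c1, c2⟩ := card_class hU h0 hc p1 cU
  have hM' : M = sp * #{u | ψ (θ u) = 1} + sm * #{u | ¬ ψ (θ u) = 1} := by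
    simp only [hM, hs, sum_ite, sum_const, smul_eq_mul, mul_comm]
  have M1 : (sp + sm) * (Fintype.card F ^ m) ^ 2 ≤ 2 * M + (sp + sm) * Fintype.card F ^ m := by
    have := Nat.mul_le_mul_left sp c1
    have := Nat.mul_le_mul_left sm c2
    rw [hM']; nlinarith
  have s0 : 1 ≤ sp + sm := Nat.pos_of_ne_zero fun e => M0 (by rw [hM', show sp = 0 by omega, show sm = 0 by omega]; simp)
  have hz : Function.Injective ((X h1).compAddMonoidHom (AddMonoidHom.inr U F)) := fun a b e => (Prod.mk.inj (hx e)).2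
  have res : ∀ g, wt χ ((X h1).compAddMonoidHom (AddMonoidHom.inr U F)) 0 g = ∑ u, wt χ (X h1) (P.e (u, 0)) g := fun g => by
    rw [wt_res P]
    refine sum_bij' (fun z _ => z.1) (fun u _ => (u, 0)) (fun _ _ => mem_univ _) (fun u _ => mem_filter.2 ⟨mem_univ _,
      DFunLike.ext _ _ fun a => by simp [pe]⟩) (fun z hz => ?_) (fun _ _ => rfl) fun z hz => ?_ <;>
    · obtain ⟨u, a⟩ := z
      obtain rfl : a = 0 := by_contra fun e => hc' (by
        simpa [pe, mul_div_cancel₀ c e] using DFunLike.congr_fun (mem_filter.1 hz).2 (c / a))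
      rfl
  refine ⟨fun g => wt χ _ 0 (f.extRight h.isCompl g), t, M, char_wt hχ _ (fun g a => ⟨a, ?_, rfl⟩) hz, ?_, m8, ?_, fun hm2 hk => ?_⟩
  · change _ * X h1 (0, a) * _ = X h1 (0, a)
    rw [X_apply, conj_eichler]
    exact f.eichler_congr _ _ (f.extRight_apply_left _ _ (Submodule.subset_span (by simp))) (by simp) rfl
  · simp [res, m1, ht]
  · have : 1 ≤ Fintype.card F ^ m := Nat.one_le_pow _ _ (by omega)
    obtain ⟨s, e⟩ := Nat.exists_eq_add_of_le s0
    have : s * Fintype.card F ^ m ≤ s * (Fintype.card F ^ m) ^ 2 := Nat.mul_le_mul_left _ (Nat.le_self_pow two_ne_zero _)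
    rw [e] at M1; nlinarith
  obtain ⟨v, hv⟩ : ∃ v : U, v ≠ 0 := by
    have : Nontrivial U := Module.nontrivial_of_finrank_pos (R := F) (by omega)
    exact exists_ne 0
  have k1 := apply_of_mem_charKer (hk.ge (Subgroup.mem_top ((f.restrict U).eichler v 0 1 (symp_eichlerCond (map_zero _) _))))
  let g := f.eichler v 0 1 (symp_eichlerCond (map_zero _) _)
  rw [show f.extRight h.isCompl _ = g from f.extRight_eichler _ _ _ _ _] at k1
  simp only [res, map_one, m1, ← Nat.cast_sum, ← ht] at k1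
  have k2 : χ g = t - M := by
    obtain ⟨k, e⟩ := hf.witt_one (v := x) (w := v) h.x_ne_zero (by simpa using hv) (by rw [symp_Q, symp_Q])
    rw [← m9 1 one_ne_zero, ← char_classFun hχ (X h1 _) k, X_apply, conj_eichler]
    exact congrArg χ (f.eichler_congr _ _ e.symm (by simp) (by simp [θ0]))
  have k3 : ∀ a ≠ 0, (2 * Fintype.card F : ℝ) * ‖∑ u, wt χ (X h1) (P.e (u, a)) g‖ ≤ (sp + sm) * (Fintype.card F ^ m) ^ 2 := fun a ha => by
    obtain ⟨r, rfl⟩ := sq a
    obtain ⟨k, hk⟩ := sq (θ v + 1)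
    obtain ⟨j, hj⟩ := sq c
    have hr : r ≠ 0 := fun e => ha (by simp [e])
    let H : Finset U := {u | f.B v u = k}
    have a1 : ‖∑ u, wt χ (X h1) (P.e (u, r ^ 2)) g‖ ≤ ((∑ u ∈ H, n (u, 1) : ℕ) : ℝ) := by
      rw [← Equiv.sum_comp (MulAction.toPerm (Units.mk0 r hr)), sum_filter, Nat.cast_sum]
      refine norm_sum_le_of_le _ fun u _ => ?_
      change ‖wt χ _ (P.e (r • u, r ^ 2)) g‖ ≤ _
      split_ifs with e
      · rw [← m4 r hr]
        exact norm_wt_le hχ hx (m1 _) fun a => ⟨_, conj_tv h1 h2 h3 v a.1 1 a.2⟩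
      · have e' : r * (f.B v u - k) ≠ 0 := mul_ne_zero hr (sub_ne_zero.2 e)
        obtain ⟨w, hw⟩ := hB v hv (j / (r * (f.B v u - k)))
        rw [wt_eq_zero (char_classFun hχ) (mul_inv_eq_iff_eq_mul.1 (conj_tv h1 h2 h3 v w 1 0)) fun e => hc' ?_]
        · simp
        simp only [pe, Submodule.coe_add, Submodule.coe_smul, map_add, map_smul, one_mul, smul_eq_mul, AddChar.map_add_eq_mul,
          mul_zero, one_pow, hk, zero_add, AddChar.map_zero_eq_one, mul_one, mul_assoc, left_eq_mul₀ (ψ.val_isUnit _).ne_zero] at e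
        rw [← p2, ← AddChar.map_add_eq_mul, B_smul_left, f.symp_symm v u, hw] at e
        rw [← e, hj]
        congr 1
        simp only [Kind.symp_σ]
        field_simp
        linear_combination (-(j ^ 2 * f.B v u * k)) * h2
    have a2 : 2 * ∑ u ∈ H, n (u, 1) = (sp + sm) * #H := by
      have : ∑ u ∈ H, n (u + j • v, 1) = ∑ u ∈ H, n (u, 1) :=
        sum_equiv (Equiv.addRight (j • v)) (fun u => by simp [H, symp_B_self]) fun _ _ => rfl
      rw [two_mul, mul_comm, ← smul_eq_mul, ← sum_const]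
      nth_rewrite 1 [← this]
      rw [← sum_add_distrib]
      refine sum_congr rfl fun u hu => ?_
      have : ψ (θ (u + j • v)) = -ψ (θ u) := by
        rw [h1, h3, add_assoc, AddChar.map_add_eq_mul, AddChar.map_add_eq_mul, ← p2 (f.B _ _), ← AddChar.map_add_eq_mul, ← mul_neg_one, ← hc, hj]
        congr 2
        simp only [Submodule.coe_smul, map_smul, f.symp_symm v u, (mem_filter.1 hu).2, smul_eq_mul]
        linear_combination (-j ^ 2) * hk + (j ^ 2 * θ v) * h2
      rw [hs, hs, this]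
      rcases p1 (θ u) with e | e <;> rw [e] <;> norm_num [add_comm]
    have a3 := card_fiber ((f.restrict U).B v).toAddMonoidHom (fun s => hB v hv s) k
    have a4 : 2 * Fintype.card F * ∑ u ∈ H, n (u, 1) = (sp + sm) * (Fintype.card F ^ m) ^ 2 := by
      rw [← cU, ← a3, mul_right_comm, a2]; exact (mul_assoc _ _ _).trans (congrArg _ (mul_comm _ _))
    refine (mul_le_mul_of_nonneg_left a1 (by positivity)).trans_eq ?_
    exact_mod_cast a4
  have k4 := sum_wt P (χ := χ) (x := X h1) g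
  rw [Fintype.sum_prod_type_right, ← add_sum_erase _ _ (mem_univ 0), k1, k2] at k4
  have k5 : (2 * Fintype.card F : ℝ) * M ≤ (Fintype.card F - 1) * ((sp + sm) * (Fintype.card F ^ m) ^ 2) := by
    have : (M : ℝ) = ‖∑ a ∈ univ.erase 0, ∑ u, wt χ (X h1) (P.e (u, a)) g‖ := by
      rw [show ∑ a ∈ univ.erase 0, ∑ u, wt χ (X h1) (P.e (u, a)) g = -M by linear_combination k4]; simp
    rw [this]
    refine (mul_le_mul_of_nonneg_left (norm_sum_le _ _) (by positivity)).trans ?_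
    rw [mul_sum]
    refine (sum_le_sum fun a ha => k3 a (ne_of_mem_erase ha)).trans_eq ?_
    simp [Nat.cast_sub (show 1 ≤ Fintype.card F by omega)]
  have k6 : (Fintype.card F : ℝ) ^ 2 ≤ Fintype.card F ^ m := pow_le_pow_right₀ (by exact_mod_cast (by omega : 1 ≤ _)) hm2
  have k7 : ((sp + sm : ℝ)) * (Fintype.card F ^ m) ^ 2 ≤ 2 * M + (sp + sm) * Fintype.card F ^ m := by exact_mod_cast M1
  have k8 : (1 : ℝ) ≤ sp + sm := by exact_mod_cast s0
  have k9 : (2 : ℝ) ≤ Fintype.card F := by exact_mod_cast hq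
  exact arith k5 k6 k7 k8 k9

theorem bound (h2 : (2 : F) = 0) : ∀ (m : ℕ) {V : Type u} [AddCommGroup V] [Module F V] [FiniteDimensional F V]
    {f : Form (Kind.symp F) V}, f.Nondeg → finrank F V = 2 * m → ∀ {χ : f.Isom → ℂ}, IsCharacter _ χ → charKer χ ≠ ⊤ →
    ∀ {d : ℕ}, χ 1 = d → ((Fintype.card F : ℤ) ^ m - 1) * (Fintype.card F ^ m - Fintype.card F) ≤ 2 * (Fintype.card F + 1) * d := by
  intro m
  induction m with
  | zero => intros; simp
  | succ m ih =>
    intro V _ _ _ f hf hm χ hχ hne d hd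
    have : Nontrivial V := Module.nontrivial_of_finrank_pos (R := F) (by omega)
    obtain ⟨x, hx⟩ := exists_ne (0 : V)
    obtain ⟨y, h⟩ := hf.exists_isHyp (f.symp_Q x) hx
    obtain ⟨φ, t, M, a1, a2, a3, a4, a5⟩ := step hf h2 hm h hχ hne hd
    have hq : 1 ≤ Fintype.card F := Fintype.card_pos
    have a6 : ((Fintype.card F : ℤ) ^ m - 1) * (Fintype.card F ^ m - Fintype.card F) ≤ 2 * (Fintype.card F + 1) * t := by
      rcases (by omega : m = 0 ∨ m = 1 ∨ 2 ≤ m) with rfl | rfl | h3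
      · simp
      · simp
      · exact ih (h.nondeg_perp hf) (by have := h.finrank_perp; omega) a1 (a5 h3) a2
    zify [hq] at a3 a4
    rw [a3, pow_succ]
    have : (0 : ℤ) ≤ (Fintype.card F + 1) * (Fintype.card F - 1) := mul_nonneg (by positivity) (by omega)
    nlinarith [mul_le_mul_of_nonneg_left a4 this]

end CA.DegSp
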