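/-
Character degrees of orthogonal groups: weight projectors, Eichler transformations, counting.
-/
import Cfsg.Agent.Lib.Lin.DegSp
import Cfsg.Agent.Lib.Lin.CFormOBr

set_option autoImplicit false
set_option linter.unusedSectionVars false

namespace CA.DegO

open Cfsg CA.Wt CA.CForm CA.CForm.Form CA.AutForm CChar.CharFun CChar.CharKer CChar.CharRep Finset Module
open scoped commutatorElement

section
variable {G A M : Type*} [Group G] [AddCommGroup A] [Fintype A] [AddCommGroup M] [Module ℂ M]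
  (ρ : Representation ℂ G M) (x : AddChar A G) (ψ : AddChar A ℂ)

/-- the weight projector -/
noncomputable def pj : End ℂ M := (Fintype.card A : ℂ)⁻¹ • ∑ a, ψ (-a) • ρ (x a)

/-- the weight space -/
def Ws : Submodule ℂ M where
  carrier := {v | ∀ a, ρ (x a) v = ψ a • v}
  add_mem' ha hb a := by rw [map_add, ha, hb, smul_add]
  zero_mem' a := by simp
  smul_mem' c v hv a := by rw [map_smul, hv, smul_comm]

theorem mul_pj (b : A) : ρ (x b) * pj ρ x ψ = ψ b • pj ρ x ψ := by
  rw [pj, mul_smul_comm, smul_comm (ψ b), mul_sum, smul_sum (r := ψ b)]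
  refine congrArg _ (Fintype.sum_equiv (Equiv.addLeft b) _ _ fun a => ?_)
  simp [smul_smul, ← AddChar.map_add_eq_mul, ← map_mul]

theorem pj_mem (v : M) : pj ρ x ψ v ∈ Ws ρ x ψ := fun a => LinearMap.congr_fun (mul_pj ρ x ψ a) v

variable {ρ x ψ}
theorem pj_of_mem {v : M} (hv : v ∈ Ws ρ x ψ) : pj ρ x ψ v = v := by
  simp [pj, LinearMap.sum_apply, hv _, smul_smul, ← AddChar.map_add_eq_mul, ← Nat.cast_smul_eq_nsmul ℂ]

theorem pj_comm (hx : Function.Injective x) {g : G} (hg : g ∈ stab x hx ψ) : ρ g * pj ρ x ψ = pj ρ x ψ * ρ g := by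
  choose σ h1 h2 using hg
  have : Function.Bijective σ := Finite.injective_iff_bijective.1 fun a b h => hx (mul_left_cancel (mul_right_cancel ((h1 a).trans (h ▸ (h1 b).symm))))
  rw [pj, mul_smul_comm, smul_mul_assoc, mul_sum, sum_mul]
  refine congrArg _ (Fintype.sum_bijective σ this _ _ fun a => ?_)
  rw [mul_smul_comm, smul_mul_assoc, ← map_mul, ← map_mul, ← h1, inv_mul_cancel_right, AddChar.map_neg_eq_inv, AddChar.map_neg_eq_inv, h2]

theorem sum_pj {Y : Type*} [AddCommGroup Y] [Fintype Y] (P : Par Y A) (v : M) : ∑ y, pj ρ x (P.e y) v = v := by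
  classical
  simp only [pj, LinearMap.smul_apply, LinearMap.sum_apply, ← smul_sum]
  rw [sum_comm]
  simp [← sum_smul, P.sum, ite_smul, smul_smul]

theorem x_mem_stab (hx : Function.Injective x) (b : A) : x b ∈ stab x hx ψ := fun a => ⟨a, by
  rw [← AddChar.map_neg_eq_inv, ← AddChar.map_add_eq_mul, ← AddChar.map_add_eq_mul]; simp, rfl⟩

variable [FiniteDimensional ℂ M]

theorem exists_sub (hx : Function.Injective x) {S : Type*} [Group S] (f : S →* G) (hS : ∀ s, f s ∈ stab x hx ψ) :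
    ∃ σ : Representation ℂ S (Ws ρ x ψ), (∀ s v, (σ s v : M) = ρ (f s) v) ∧ σ.character = fun s => wt ρ.character x ψ (f s) := by
  have h : ∀ s v, (ρ (f s) * pj ρ x ψ) v ∈ Ws ρ x ψ := fun s v => by rw [pj_comm hx (hS s)]; exact pj_mem _ _ _ _
  let W : Subrepresentation (ρ.comp f) := ⟨Ws ρ x ψ, fun s v hv => by have := h s v; rwa [End.mul_apply, pj_of_mem hv] at this⟩
  refine ⟨W.toRepresentation, fun _ _ => rfl, funext fun s => Eq.symm ?_⟩
  trans LinearMap.trace ℂ _ (ρ (f s) * pj ρ x ψ)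
  · simp [wt, pj, mul_sum, Representation.character, mul_comm]
  rw [← LinearMap.trace_restrict_eq_of_forall_mem _ _ (h s)]
  exact congrArg _ (LinearMap.ext fun v => Subtype.ext (congrArg (ρ (f s)) (pj_of_mem v.2)))

theorem finrank_Ws (hx : Function.Injective x) : (finrank ℂ (Ws ρ x ψ) : ℂ) = wt ρ.character x ψ 1 := by
  obtain ⟨σ, -, h⟩ := exists_sub (ρ := ρ) (ψ := ψ) hx (1 : Unit →* G) fun _ => one_mem _
  simpa using (σ.char_one).symm.trans (congrFun h 1)

theorem eq_zero_of_wt (hx : Function.Injective x) (h : wt ρ.character x ψ 1 = 0) {v : M} (hv : v ∈ Ws ρ x ψ) : v = 0 := by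
  rw [← finrank_Ws hx, Nat.cast_eq_zero, Submodule.finrank_eq_zero] at h
  exact (Submodule.mem_bot ℂ).1 (h ▸ hv)

theorem fix_of_wt [Finite G] (hx : Function.Injective x) {g : G} (hg : g ∈ stab x hx ψ)
    (h : wt ρ.character x ψ g = wt ρ.character x ψ 1) {v : M} (hv : v ∈ Ws ρ x ψ) : ρ g v = v := by
  obtain ⟨σ, h1, h2⟩ := exists_sub (ρ := ρ) (ψ := ψ) hx (stab x hx ψ).subtype fun s => s.2
  have : (⟨g, hg⟩ : stab x hx ψ) ∈ charKer σ.character := (mem_charKer (isCharacter_character σ)).2 (by rw [h2]; exact h)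
  rw [charKer_character] at this
  exact (h1 ⟨g, hg⟩ ⟨v, hv⟩).symm.trans (by rw [MonoidHom.mem_ker.1 this]; rfl)

theorem exists_irr [Finite G] {χ : G → ℂ} (hχ : IsCharacter G χ) (hne : charKer χ ≠ ⊤) {d : ℕ} (hd : χ 1 = d) :
    ∃ φ, IsIrrCharacter G φ ∧ charKer φ ≠ ⊤ ∧ ∃ e ≤ d, φ 1 = e := by
  revert d hne
  refine char_induction (P := fun χ => charKer χ ≠ ⊤ → ∀ {d : ℕ}, χ 1 = d → ∃ φ, IsIrrCharacter G φ ∧ charKer φ ≠ ⊤ ∧ ∃ e ≤ d, φ 1 = e)
    (fun h => (h (top_unique fun _ _ => (mem_charKer char_zero).2 rfl)).elim) (fun φ h h1 d h2 => ⟨φ, h, h1, d, le_rfl, h2⟩)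
    (fun a b ha hb ia ib h d hd => ?_) hχ
  obtain ⟨m, hm⟩ := char_apply_one ha
  obtain ⟨n, hn⟩ := char_apply_one hb
  have : m + n = d := by rw [Pi.add_apply, hm, hn] at hd; exact_mod_cast hd
  rw [charKer_add ha hb, Ne, inf_eq_top_iff, not_and_or] at h
  rcases h with h | h
  · obtain ⟨φ, h1, h2, e, h3, h4⟩ := ia h hm; exact ⟨φ, h1, h2, e, by omega, h4⟩
  · obtain ⟨φ, h1, h2, e, h3, h4⟩ := ib h hn; exact ⟨φ, h1, h2, e, by omega, h4⟩
end

universe u
variable {F : Type*} [Field F] {V : Type u} [AddCommGroup V] [Module F V] {f : Form (Kind.orth F) V}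

open Classical in
variable (f) in
/-- Eichler transformations, as a total function -/
noncomputable def E (a b : V) : f.Eich :=
  if h : f.Q a = 0 ∧ f.B a b = 0 then ⟨f.eichler a b _ (f.orth_eichlerCond h.1 h.2), f.eichler_mem_Eich _ _ _ _⟩ else 1

scoped notation:75 g " ▹ " v:74 => (Subtype.val (Subtype.val g) v)

theorem coe_E {a b : V} (ha : f.Q a = 0) (h : f.B a b = 0) : (E f a b : f.Isom) = f.eichler a b _ (f.orth_eichlerCond ha h) := by
  rw [E, dif_pos ⟨ha, h⟩]

theorem E_apply {a b : V} (ha : f.Q a = 0) (h : f.B a b = 0) (v : V) :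
    E f a b ▹ v = v + f.B a v • b - (f.B b v + f.Q b * f.B a v) • a := by rw [coe_E ha h, eichler_apply]; simp

theorem E_fix {a b v : V} (ha : f.Q a = 0) (h : f.B a b = 0) (h1 : f.B a v = 0) (h2 : f.B b v = 0) : E f a b ▹ v = v := by
  simp [E_apply ha h, h1, h2]

theorem E_add {a b c : V} (ha : f.Q a = 0) (h : f.B a b = 0) (h' : f.B a c = 0) : E f a (b + c) = E f a b * E f a c :=
  Subtype.ext <| by
    rw [Subgroup.coe_mul, coe_E ha h, coe_E ha h', coe_E ha (by simp [h, h']), eichler_mul]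
    exact f.eichler_congr _ _ rfl rfl (f.orth_Q_add _ _)

theorem E_zero (a : V) : E f a 0 = 1 := by
  by_cases ha : f.Q a = 0
  · exact Subtype.ext (f.isom_ext fun v => by simp [E_apply ha (map_zero _)])
  · rw [E, dif_neg fun h => ha h.1]

theorem E_neg {a b : V} (ha : f.Q a = 0) (h : f.B a b = 0) : E f a (-b) = (E f a b)⁻¹ :=
  eq_inv_of_mul_eq_one_left (by rw [← E_add ha (by simp [h]) h, neg_add_cancel, E_zero])

theorem E_conj (g : f.Eich) {a b : V} (ha : f.Q a = 0) (h : f.B a b = 0) : g * E f a b * g⁻¹ = E f (g ▹ a) (g ▹ b) :=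
  Subtype.ext <| by
    rw [Subgroup.coe_mul, Subgroup.coe_mul, Subgroup.coe_inv, coe_E ha h, conj_eichler, coe_E (by simp [ha]) (by simp [h])]
    exact f.eichler_congr _ _ rfl rfl (by simp)

theorem E_smul (t : F) {a b : V} (ha : f.Q a = 0) (h : f.B a b = 0) : E f (t • a) b = E f a (t • b) :=
  Subtype.ext <| f.isom_ext fun v => by
    rw [E_apply (f.Q_smul_of_Q ha t) (by simp [h]), E_apply ha (by simp [h]), orth_Q_smul]
    simp only [B_smul_left, Kind.orth_σ]
    module

theorem E_self (t : F) {a : V} (ha : f.Q a = 0) : E f a (t • a) = 1 :=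
  Subtype.ext <| f.isom_ext fun v => by
    rw [E_apply ha (by simp [f.B_self_of_Q ha]), f.Q_smul_of_Q ha]
    simp only [B_smul_left, Kind.orth_σ]
    change _ = v
    module

theorem E_swap {a b : V} (ha : f.Q a = 0) (hb : f.Q b = 0) (h : f.B a b = 0) : E f a b = E f b (-a) :=
  Subtype.ext <| f.isom_ext fun v => by
    rw [E_apply ha h, E_apply hb (by simp [f.eq_zero_symm h]), Q_neg, ha, hb]
    simp only [B_neg_left]
    module

variable [FiniteDimensional F V]

theorem fr2 (a b : V) : finrank F (Submodule.span F {a, b}) ≤ 2 := by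
  classical
  have := (finrank_span_finset_le_card (R := F) {a, b}).trans Finset.card_le_two
  rwa [Set.finrank, coe_insert, coe_singleton] at this

theorem fr3 (a b c : V) : finrank F (Submodule.span F {a, b, c}) ≤ 3 := by
  classical
  have := (finrank_span_finset_le_card (R := F) {a, b, c}).trans Finset.card_le_three
  rwa [Set.finrank, coe_insert, coe_insert, coe_singleton] at this

theorem ext_nondeg {k : Kind F} {f : Form k V} (hf : f.Nondeg) {N : Submodule F V} (hN : Disjoint N (f.perp N)) (v : V) :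
    ∃ N', N ≤ N' ∧ v ∈ N' ∧ Disjoint N' (f.perp N') ∧ finrank F N' ≤ finrank F N + 2 := by
  obtain ⟨n, w, rfl⟩ := exists_add_of_isCompl (hf.isCompl_perp hN) v
  have key : ∀ K : Submodule F V, K ≤ f.perp N → Disjoint K (f.perp K) → Disjoint (N ⊔ K) (f.perp (N ⊔ K)) := fun K h1 h2 => by
    rw [Submodule.disjoint_def]
    intro z hz hz'
    obtain ⟨a, ha, b, hb, rfl⟩ := Submodule.mem_sup.1 hz
    rw [perp_sup] at hz'
    have a0 : a = 0 := Submodule.disjoint_def.1 hN a ha (by simpa using (f.perp N).sub_mem hz'.1 (h1 hb))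
    rw [a0, zero_add] at hz' ⊢
    exact Submodule.disjoint_def.1 h2 b hb hz'.2
  have fin : ∀ K : Submodule F V, K ≤ f.perp N → Disjoint K (f.perp K) → (w : V) ∈ K → finrank F K ≤ 2 →
      ∃ N', N ≤ N' ∧ (n : V) + w ∈ N' ∧ Disjoint N' (f.perp N') ∧ finrank F N' ≤ finrank F N + 2 := fun K h1 h2 h3 h4 =>
    ⟨N ⊔ K, le_sup_left, Submodule.add_mem_sup n.2 h3, key K h1 h2, (Submodule.finrank_add_le_finrank_add_finrank _ _).trans (by omega)⟩
  by_cases w0 : w = 0
  · exact fin ⊥ bot_le disjoint_bot_left (by simp [w0]) (by simp)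
  by_cases h : f.B w w = 0
  · obtain ⟨w', hw⟩ := (hf.restrict_perp hN).exists_B_ne_zero w0
    refine fin (Submodule.span F {w.1, w'.1}) (Submodule.span_le.2 (by simp [Set.insert_subset_iff])) (Submodule.disjoint_def.2 fun z hz hz' => ?_)
      (Submodule.subset_span (by simp)) (fr2 _ _)
    obtain ⟨a, b, rfl⟩ := Submodule.mem_span_pair.1 hz
    obtain ⟨h1, h2⟩ := f.mem_perp_span_pair.1 hz'
    have hw : f.B w w' ≠ 0 := hw
    have b0 : b = 0 := by simpa [h, hw] using h1
    have a0 : a = 0 := by simpa [b0, mt f.eq_zero_symm hw] using h2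
    simp [a0, b0]
  · exact fin (F ∙ w.1) (by simp) (disjoint_perp_singleton h) (Submodule.mem_span_singleton_self _) ((finrank_span_le_card _).trans (by simp))

theorem exists_pair {k : Kind F} {f : Form k V} (hf : f.Nondeg) (H : Submodule F V) (h : 2 * finrank F H < finrank F V) (c : F) :
    ∃ w ∈ f.perp H, ∃ w' ∈ f.perp H, f.B w' w = c := by
  obtain ⟨w', hw', e⟩ : ∃ w' ∈ f.perp H, w' ∉ H := by
    by_contra! e
    have := Submodule.finrank_mono (show f.perp H ≤ H from e)
    have := hf.finrank_perp H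
    omega
  obtain ⟨w, hw, e⟩ := hf.exists_perp_B_eq' e c
  exact ⟨w, hw, w', hw', e⟩

variable [Finite F]

theorem adj (hf : f.Nondeg) (h5 : 5 ≤ finrank F V) {N : Submodule F V} (hN : Disjoint N (f.perp N))
    (h : finrank F N + 2 ≤ finrank F V) (g : f.Isom) : ∃ k : f.Eich, ∀ v, g.1 v ∈ N → k ▹ v = g.1 v := by
  have hg : f.Good := good_of_five_le h5
  have h1 := hf.finrank_perp N
  have h2 := hf.disjoint_perp_perp hN
  obtain ⟨s, hs, e⟩ := hf.exists_mul_mem_commutator hg (S := f.fix N) (by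
      obtain ⟨v, hv, v0⟩ := f.exists_nonsingular h2 (fun e => by rw [e, finrank_bot] at h1; omega)
      exact ⟨_, refl_mem_fix hv, hf.dick_refl hg v0⟩) (fun t => by
      obtain ⟨u, hu, v, hv, e⟩ := hf.exists_refl_mul_refl_spin hg t h2 (by omega)
      exact ⟨_, mul_mem (refl_mem_fix hu) (refl_mem_fix hv), e⟩) g
  rw [hf.commutator_eq_Eich hg (by omega)] at e
  exact ⟨⟨_, e⟩, fun v hv => hs _ hv⟩

theorem card_level {c : F} (d : ℕ) (e : ℤ) (hb : ∀ {V : Type u} [AddCommGroup V] [Module F V] [FiniteDimensional F V]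
      {f : Form (Kind.orth F) V}, f.IsIndex 0 → f.Nondeg → finrank F V = d →
      (Nat.card F : ℤ) * Nat.card {v // f.Q v = c} = Nat.card F ^ d + e) :
    ∀ (m : ℕ) {V : Type u} [AddCommGroup V] [Module F V] [FiniteDimensional F V] {f : Form (Kind.orth F) V},
      f.IsIndex m → f.Nondeg → finrank F V = 2 * m + d →
      (Nat.card F : ℤ) * Nat.card {v // f.Q v = c} = Nat.card F ^ (2 * m + d) + Nat.card F ^ m * e := by
  intro m
  induction m with
  | zero => intro V _ _ _ f h hf hd; simpa using hb h hf (by simpa using hd)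
  | succ m ih =>
    intro V _ _ _ f h hf hd
    obtain ⟨x, y, hy⟩ := h.exists_isHyp hf (by omega)
    have h1 := ih (hy.isIndex_perp hf h) (hy.nondeg_perp hf) (by have := hy.finrank_perp; omega)
    rw [hy.card_Q_eq hf (c := c) ⟨c, rfl⟩ (r := 2 * m + d) (by omega), card_ker_π_orth]
    push_cast [(one_lt_natCard (F := F)).le]
    linear_combination (Nat.card F : ℤ) * h1

theorem card_plus {c : F} (hc : c ≠ 0) {m : ℕ} (h : f.IsIndex m) (hf : f.Nondeg) (hd : finrank F V = 2 * m) :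
    (Nat.card F : ℤ) * Nat.card {v // f.Q v = c} = Nat.card F ^ (2 * m) - Nat.card F ^ m := by
  simpa [sub_eq_add_neg] using card_level (c := c) 0 (-1) (fun {V} _ _ _ f _ _ h => by
    have : Subsingleton V := finrank_zero_iff.1 h
    have : IsEmpty {v // f.Q v = c} := ⟨fun v => hc (by rw [← v.2, Subsingleton.elim v.1 0, Q_zero])⟩
    simp) m h hf hd

theorem card_minus {c : F} (hc : c ≠ 0) {m : ℕ} (h : f.IsIndex m) (hf : f.Nondeg) (hd : finrank F V = 2 * m + 2) :
    (Nat.card F : ℤ) * Nat.card {v // f.Q v = c} = Nat.card F ^ (2 * m + 2) + Nat.card F ^ (m + 1) := by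
  simpa [pow_succ] using card_level (c := c) 2 (Nat.card F) (fun {V} _ _ _ f h hf hd => by
    rw [card_Q_eq_of_aniso_two hf hd (isIndex_zero_iff.1 h) hc]; push_cast; ring) m h hf hd

end CA.DegO
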