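import Cfsg.Agent.Lib.Lin.SL2Reps
import Cfsg.Agent.Lib.Char.CharKer
import Cfsg.Agent.Lib.Char.CharGen
import Cfsg.Agent.Lib.Char.MatRep
import Cfsg.Agent.Lib.Char.Ind
import Mathlib.NumberTheory.MulChar.Duality

/-! General tools for the character tables of `GL₂(q)` and `SL₂(q)`. -/

set_option autoImplicit false

namespace CA.Ch2Gen

open Matrix Cfsg CA.SL2Basic CA.Mat2 CA.SL2Torus CA.SL2Embed CA.SL2Unip
open CChar.CharFun CChar.CharOrth CChar.CharGen CChar.CharKer
open scoped MatrixGroups ComplexConjugate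

section general

variable {G : Type*} [Group G]

theorem indFun_reps [Fintype G] (H : Subgroup G) {ι : Type*} [Fintype ι] (r : ι → G)
    (hr : Function.Bijective (fun i => (r i : G ⧸ H))) {θ : H → ℂ} (hθ : IsClassFunction H θ)
    (g : G) : indFun H θ g = ∑ i, extendByZero H θ ((r i)⁻¹ * g * r i) := by
  classical
  have := Fintype.ofFinite (G ⧸ H)
  rw [CA.Ind.indFun_eq_sum_quotient H hθ]
  symm
  refine Fintype.sum_bijective _ hr _ _ fun i => ?_
  obtain ⟨h, hh⟩ := QuotientGroup.mk_out_eq_mul H (r i)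
  rw [hh]
  have := CA.Ind.ext_conj' hθ h.2 ((r i)⁻¹ * g * r i)
  rw [← this]
  congr 1
  group

theorem indFun_two [Fintype G] {H : Subgroup G} (θ : H → ℂ) (g : G) (a b : H) (hab : a ≠ b)
    (ha : IsConj g a) (hb : IsConj g b) (h : ∀ x ∈ H, IsConj g x → x = a ∨ x = b)
    (hc : Nat.card (Subgroup.centralizer ({g} : Set G)) = Nat.card H) :
    indFun H θ g = θ a + θ b := by
  classical
  rw [CA.Ind.indFun_def', sum_conj_eq, hc, nsmul_eq_mul, ← mul_assoc,
    inv_mul_cancel₀ (CA.Ind.card_ne_zero H), one_mul]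
  rw [← CA.Ind.ext_coe H θ a, ← CA.Ind.ext_coe H θ b,
    ← Finset.sum_pair (f := extendByZero H θ) (fun e => hab (Subtype.ext e))]
  symm
  refine Finset.sum_subset ?_ ?_
  · intro x hx
    simp only [Finset.mem_insert, Finset.mem_singleton] at hx
    rcases hx with rfl | rfl
    · exact Finset.mem_filter.2 ⟨Finset.mem_univ _, ha⟩
    · exact Finset.mem_filter.2 ⟨Finset.mem_univ _, hb⟩
  · intro x hx hx'
    simp only [Finset.mem_insert, Finset.mem_singleton, Finset.mem_filter, Finset.mem_univ,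
      true_and] at hx hx'
    exact CA.Ind.ext_of_not_mem H θ fun hm => hx' (h x hm hx)

theorem indFun_central [Fintype G] {H : Subgroup G} (θ : H → ℂ) (z : H)
    (hz : (z : G) ∈ Subgroup.center G) : indFun H θ z = (H.index : ℂ) * θ z := by
  rw [CA.Ind.indFun_def']
  have : ∀ x : G, x * z * x⁻¹ = z := fun x => by
    rw [Subgroup.mem_center_iff.1 hz x]; group
  simp only [this, CA.Ind.ext_coe, Finset.sum_const, Finset.card_univ, nsmul_eq_mul]
  rw [← Nat.card_eq_fintype_card, ← H.card_mul_index, Nat.cast_mul]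
  have := CA.Ind.card_ne_zero H
  field_simp

theorem indFun_central_mul [Fintype G] {H : Subgroup G} (θ : H →* ℂˣ) (z : H)
    (hz : (z : G) ∈ Subgroup.center G) (g : G) :
    indFun H (fun h => (θ h : ℂ)) (z * g) = θ z * indFun H (fun h => (θ h : ℂ)) g := by
  rw [CA.Ind.indFun_def', CA.Ind.indFun_def', mul_left_comm]
  congr 1
  rw [Finset.mul_sum]
  refine Finset.sum_congr rfl fun x _ => ?_
  have e : x * (z * g) * x⁻¹ = z * (x * g * x⁻¹) := by
    rw [← mul_assoc, Subgroup.mem_center_iff.1 hz x]; group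
  rw [e]
  by_cases hm : x * g * x⁻¹ ∈ H
  · rw [CA.Ind.ext_of_mem H _ hm, CA.Ind.ext_of_mem H _ (H.mul_mem z.2 hm), ← Units.val_mul,
      ← map_mul]
    rfl
  · rw [CA.Ind.ext_of_not_mem H _ hm, CA.Ind.ext_of_not_mem H _, mul_zero]
    intro h
    exact hm ((H.mul_mem_cancel_left z.2).1 h)

theorem hom_ext_coe {θ θ' : G →* ℂˣ} (h : (fun g => (θ g : ℂ)) = fun g => (θ' g : ℂ)) : θ = θ' :=
  MonoidHom.ext fun g => Units.ext (congrFun h g)

open Classical in
theorem sum_hom_conj [Fintype G] (θ θ' : G →* ℂˣ) :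
    ∑ g, (θ g : ℂ) * conj (θ' g : ℂ) = if θ = θ' then (Nat.card G : ℂ) else 0 := by
  rw [← card_mul_inner, inner_irr_irr (irr_of_unitsHom θ) (irr_of_unitsHom θ')]
  by_cases h : θ = θ'
  · simp [h]
  · rw [if_neg h, if_neg (fun e => h (hom_ext_coe e)), mul_zero]

theorem conj_hom [Finite G] (θ : G →* ℂˣ) (g : G) : conj (θ g : ℂ) = ((θ g)⁻¹ : ℂˣ) := by
  rw [← char_apply_inv (char_of_unitsHom θ) g, map_inv]

theorem norm_hom [Finite G] (θ : G →* ℂˣ) (g : G) : ‖(θ g : ℂ)‖ = 1 := by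
  have h := conj_hom θ g
  have : (θ g : ℂ) * conj (θ g : ℂ) = 1 := by rw [h]; simp
  rw [Complex.mul_conj, Complex.normSq_eq_norm_sq] at this
  have h2 : ‖(θ g : ℂ)‖ ^ 2 = 1 := by exact_mod_cast this
  nlinarith [norm_nonneg (θ g : ℂ)]

theorem fourier_zero [Fintype G] (hG : ∀ a b : G, a * b = b * a) (f : G → ℂ)
    (h : ∀ θ : G →* ℂˣ, ∑ g, (θ g : ℂ) * conj (f g) = 0) : f = 0 := by
  refine eq_zero_of_inner_irr_eq_zero (fun g x => by rw [hG x g]; group) fun χ hχ => ?_
  obtain ⟨θ, rfl⟩ := char_exists_unitsHom_of_apply_one (char_of_irr hχ) (irr_apply_one_of_comm hG hχ)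
  rw [inner_eq_zero_comm, inner_def, h, mul_zero]

theorem card_hom [Finite G] (hG : ∀ a b : G, a * b = b * a) :
    Nat.card (G →* ℂˣ) = Nat.card G := by
  rw [card_unitsHom]
  have : commutator G = ⊥ := by
    rw [commutator_eq_bot_iff_center_eq_top, eq_top_iff]
    intro x _
    exact Subgroup.mem_center_iff.2 fun y => hG y x
  rw [this, Subgroup.index_bot]

theorem two_mul_card_range {X Y : Type*} [Finite X] (f : X → Y) (τ : X → X) (hτ : ∀ x, τ x ≠ x)
    (hf : ∀ x y, f x = f y ↔ y = x ∨ y = τ x) : 2 * Nat.card (Set.range f) = Nat.card X := by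
  classical
  have := Fintype.ofFinite X
  have h1 : Nat.card (Set.range f) = (Finset.univ.image f).card := by
    rw [← Nat.card_eq_finsetCard]
    exact Nat.card_congr (Equiv.subtypeEquivRight (by simp))
  rw [h1, Nat.card_eq_fintype_card (α := X), ← Finset.card_univ,
    Finset.card_eq_sum_card_image f Finset.univ, Finset.sum_congr rfl (g := fun _ => 2)]
  · simp [mul_comm]
  · intro y hy
    obtain ⟨x, -, rfl⟩ := Finset.mem_image.1 hy
    rw [← Finset.card_pair (hτ x).symm]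
    congr 1
    ext y
    simp only [Finset.mem_filter, Finset.mem_univ, true_and, Finset.mem_insert,
      Finset.mem_singleton]
    rw [eq_comm, hf]

theorem card_eq_sum_fibers {I Y : Type*} [Finite I] (d : I → Y) (l : List Y) (hl : l.Nodup)
    (h : ∀ i, d i ∈ l) : Nat.card I = (l.map fun v => Nat.card {i // d i = v}).sum := by
  classical
  have := Fintype.ofFinite I
  rw [Nat.card_eq_fintype_card, ← Finset.card_univ,
    Finset.card_eq_sum_card_fiberwise (f := d) (t := l.toFinset) (fun i _ => by simpa using h i),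
    List.sum_toFinset _ hl]
  congr 2
  funext v
  rw [Nat.card_eq_fintype_card, Fintype.card_subtype]

theorem card_irr_of_bij {X : Type*} (p : (G → ℂ) → Prop) (f : X → G → ℂ)
    (hi : Function.Injective f) (h : ∀ χ, (IsIrrCharacter G χ ∧ p χ) ↔ ∃ x, χ = f x) :
    Nat.card {χ : IrrCharacter G // p χ} = Nat.card X := by
  symm
  refine Nat.card_congr (Equiv.ofBijective
    (fun x => ⟨⟨f x, ((h _).2 ⟨x, rfl⟩).1⟩, ((h _).2 ⟨x, rfl⟩).2⟩) ⟨?_, ?_⟩)
  · intro x y e
    exact hi (congrArg (fun z => z.1.1) e)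
  · rintro ⟨⟨χ, h1⟩, h2⟩
    obtain ⟨x, rfl⟩ := (h χ).1 ⟨h1, h2⟩
    exact ⟨x, rfl⟩

theorem two_mul_card_irr {X : Type*} [Finite X] (p : (G → ℂ) → Prop) (f : X → G → ℂ) (τ : X → X)
    (hτ : ∀ x, τ x ≠ x) (hf : ∀ x y, f x = f y ↔ y = x ∨ y = τ x)
    (h : ∀ χ, (IsIrrCharacter G χ ∧ p χ) ↔ ∃ x, χ = f x) :
    2 * Nat.card {χ : IrrCharacter G // p χ} = Nat.card X := by
  rw [← two_mul_card_range f τ hτ hf,
    card_irr_of_bij p (fun x : Set.range f => x.1) Subtype.val_injective]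
  intro χ
  rw [h]
  constructor
  · rintro ⟨x, rfl⟩
    exact ⟨⟨_, x, rfl⟩, rfl⟩
  · rintro ⟨⟨_, x, rfl⟩, rfl⟩
    exact ⟨x, rfl⟩

theorem units_sq_one {u : ℂˣ} (h : u ^ 2 = 1) : u = 1 ∨ u = -1 := by
  have : (u : ℂ) ^ 2 = 1 := by simpa using congrArg Units.val h
  rcases sq_eq_one_iff.1 this with e | e
  · exact Or.inl (Units.ext e)
  · exact Or.inr (Units.ext e)

theorem sq_one_cases [IsCyclic G] {θ θ' : G →* ℂˣ} (h : θ ^ 2 = 1) (h' : θ' ^ 2 = 1) (h1 : θ ≠ 1)
    (h1' : θ' ≠ 1) : θ = θ' := by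
  obtain ⟨g, hg⟩ := IsCyclic.exists_generator (α := G)
  have key : ∀ θ : G →* ℂˣ, θ ^ 2 = 1 → θ ≠ 1 → θ g = -1 := by
    intro θ h h1
    have h2 : θ g ^ 2 = 1 := by simpa using DFunLike.congr_fun h g
    rcases units_sq_one h2 with e | e
    · exfalso
      apply h1
      ext x
      obtain ⟨k, rfl⟩ := hg x
      simp [e]
    · exact e
  ext x
  obtain ⟨k, rfl⟩ := hg x
  simp [key θ h h1, key θ' h' h1']

theorem eq_one_of_sq_odd [Finite G] (hG : Odd (Nat.card G)) {θ : G →* ℂˣ} (h : θ ^ 2 = 1) :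
    θ = 1 := by
  ext x
  obtain ⟨k, hk⟩ := hG
  have h2 : θ x ^ 2 = 1 := by simpa using DFunLike.congr_fun h x
  have h3 : θ x ^ (2 * k + 1) = 1 := by rw [← hk, ← map_pow, pow_card_eq_one', map_one]
  rw [pow_succ, pow_mul, h2, one_pow, one_mul] at h3
  simp [h3]

theorem exists_sq_one [Finite G] [IsCyclic G] (hG : Even (Nat.card G)) :
    ∃ θ : G →* ℂˣ, θ ^ 2 = 1 ∧ θ ≠ 1 := by
  obtain ⟨g, hg⟩ := IsCyclic.exists_generator (α := G)
  have ho : orderOf (-1 : ℂˣ) ∣ orderOf g := by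
    rw [orderOf_eq_card_of_forall_mem_zpowers hg]
    apply orderOf_dvd_of_pow_eq_one
    exact hG.neg_one_pow
  refine ⟨monoidHomOfForallMemZpowers hg ho, ?_, ?_⟩
  · refine MonoidHom.ext fun x => ?_
    obtain ⟨k, rfl⟩ := hg x
    simp only [MonoidHom.pow_apply, map_zpow, monoidHomOfForallMemZpowers_apply_gen,
      MonoidHom.one_apply]
    simp
  · intro e
    have := DFunLike.congr_fun e g
    rw [monoidHomOfForallMemZpowers_apply_gen] at this
    exact absurd (congrArg Units.val this) (by norm_num)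

theorem hom_sq_one_apply [Finite G] [IsCyclic G] {θ : G →* ℂˣ} (h : θ ^ 2 = 1) (h1 : θ ≠ 1)
    {m : ℕ} (hm : Nat.card G = 2 * m) (x : G) :
    (x ^ m = 1 → θ x = 1) ∧ (x ^ m ≠ 1 → θ x = -1) := by
  obtain ⟨g, hg⟩ := IsCyclic.exists_monoid_generator (α := G)
  have h2 : θ g ^ 2 = 1 := by simpa using DFunLike.congr_fun h g
  have hg1 : θ g = -1 := by
    rcases units_sq_one h2 with e | e
    · exfalso
      apply h1
      ext x
      obtain ⟨k, rfl⟩ := hg x
      simp [e]
    · exact e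
  have ho : orderOf g = 2 * m := by
    rw [← hm]; exact orderOf_eq_card_of_forall_mem_powers hg
  have hm0 : 0 < m := by have := Nat.card_pos (α := G); omega
  obtain ⟨k, rfl⟩ := hg x
  have : (g ^ k) ^ m = 1 ↔ 2 ∣ k := by
    rw [← pow_mul, ← orderOf_dvd_iff_pow_eq_one, ho, Nat.mul_dvd_mul_iff_right hm0]
  simp only [map_pow, hg1, ne_eq, this]
  exact ⟨fun e => (even_iff_two_dvd.2 e).neg_one_pow,
    fun e => (Nat.not_even_iff_odd.1 fun e' => e (even_iff_two_dvd.1 e')).neg_one_pow⟩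

end general

section mulchar

variable {F : Type*} [Field F] [Fintype F] [DecidableEq F]

open Classical in
theorem sum_mulChar_conj (α β : MulChar F ℂ) :
    ∑ a : Fˣ, α a * conj (β a) = if α = β then (Fintype.card F : ℂ) - 1 else 0 := by
  have := sum_hom_conj α.toUnitHom β.toUnitHom
  simp only [MulChar.coe_toUnitHom] at this
  rw [this]
  have hi : α.toUnitHom = β.toUnitHom ↔ α = β := MulChar.equivToUnitHom.injective.eq_iff
  by_cases h : α = β
  · rw [if_pos h, if_pos (hi.2 h), Nat.card_units, Nat.card_eq_fintype_card, Nat.cast_pred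
      Fintype.card_pos]
  · rw [if_neg h, if_neg (fun e => h (hi.1 e))]

omit [DecidableEq F] in
theorem card_mulChar : Nat.card (MulChar F ℂ) = Fintype.card F - 1 := by
  rw [MulChar.card_eq_card_units_of_hasEnoughRootsOfUnity, Nat.card_units,
    Nat.card_eq_fintype_card]

omit [DecidableEq F] in
theorem conj_mulChar (α : MulChar F ℂ) (a : F) : conj (α a) = α a⁻¹ := by
  rw [← MulChar.inv_apply']
  exact MulChar.star_apply' α a

omit [DecidableEq F] in
theorem norm_mulChar (α : MulChar F ℂ) {a : F} (ha : a ≠ 0) : ‖α a‖ = 1 := by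
  have := norm_hom α.toUnitHom (Units.mk0 a ha)
  simpa using this

omit [DecidableEq F] in
theorem q_sub_one_ne : (Fintype.card F : ℂ) - 1 ≠ 0 := by
  have := Fintype.one_lt_card (α := F)
  rw [sub_ne_zero]
  exact_mod_cast this.ne'

omit [DecidableEq F] in
theorem q_ne : (Fintype.card F : ℂ) ≠ 0 := by
  exact_mod_cast Fintype.card_ne_zero

omit [DecidableEq F] [Field F] in
theorem q_add_one_ne : (Fintype.card F : ℂ) + 1 ≠ 0 := by
  exact_mod_cast Nat.succ_ne_zero (Fintype.card F)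

theorem sum_units_const (c : ℂ) : ∑ _a : Fˣ, c = ((Fintype.card F : ℂ) - 1) * c := by
  rw [Finset.sum_const, Finset.card_univ, nsmul_eq_mul, Fintype.card_units, Nat.cast_pred
    Fintype.card_pos]

theorem sum_split_zero (f : F → ℂ) : ∑ b, f b = f 0 + ∑ b : Fˣ, f b := by
  rw [← Finset.add_sum_erase _ _ (Finset.mem_univ 0)]
  congr 1
  symm
  refine Finset.sum_bij (fun b _ => (b : F)) (by simp) (fun a _ b _ h => Units.ext h) ?_ (by simp)
  intro b hb
  exact ⟨Units.mk0 b (by simpa using hb), by simp, rfl⟩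

/-- The value of a principal series character at a matrix. -/
noncomputable def psF (α β : MulChar F ℂ) (A : Matrix (Fin 2) (Fin 2) F) : ℂ :=
  (if A 1 0 = 0 then α (A 0 0) * β (A 1 1) else 0) +
    ∑ c : F, if A 0 1 + (A 0 0 - A 1 1) * c - A 1 0 * c ^ 2 = 0 then
      α (A 1 0 * c + A 1 1) * β (A 0 0 - c * A 1 0) else 0

theorem psF_split (α β : MulChar F ℂ) {A : Matrix (Fin 2) (Fin 2) F} (h : A 1 0 = 0)
    (hne : A 0 0 ≠ A 1 1) : psF α β A = α (A 0 0) * β (A 1 1) + α (A 1 1) * β (A 0 0) := by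
  have h0 := sub_ne_zero.2 hne
  rw [psF, if_pos h, Finset.sum_eq_single (-A 0 1 / (A 0 0 - A 1 1))]
  · rw [if_pos (by rw [h]; field_simp; ring)]
    simp [h]
  · intro c _ hc
    rw [if_neg]
    intro e
    apply hc
    rw [h] at e
    field_simp
    linear_combination e
  · simp

theorem psF_scalar (α β : MulChar F ℂ) {A : Matrix (Fin 2) (Fin 2) F} (h : A 1 0 = 0)
    (he : A 0 0 = A 1 1) (h1 : A 0 1 = 0) :
    psF α β A = ((Fintype.card F : ℂ) + 1) * (α (A 0 0) * β (A 0 0)) := by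
  simp [psF, h, he, h1]
  ring

theorem psF_unip (α β : MulChar F ℂ) {A : Matrix (Fin 2) (Fin 2) F} (h : A 1 0 = 0)
    (he : A 0 0 = A 1 1) (h1 : A 0 1 ≠ 0) : psF α β A = α (A 0 0) * β (A 0 0) := by
  simp [psF, h, he, h1]

theorem psF_aniso (α β : MulChar F ℂ) {A : Matrix (Fin 2) (Fin 2) F} (h : Aniso A) :
    psF α β A = 0 := by
  rw [psF, if_neg, Finset.sum_eq_zero, add_zero]
  · intro c _
    rw [if_neg]
    intro e
    apply h (A 1 0 * c + A 1 1)
    rw [trace_fin_two, det_fin_two]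
    linear_combination (-A 1 0) * e
  · intro e
    apply h (A 0 0)
    rw [trace_fin_two, det_fin_two, e]
    ring

/-- coset representatives of the Borel subgroup -/
def rep : Option F → SL(2, F)
  | none => 1
  | some c => mk2 c (-1) 1 0 (by simp)

omit [Fintype F] [DecidableEq F] in
theorem rep_inj {i j : Option F} (h : ((rep i)⁻¹ * rep j : SL(2, F)).1 1 0 = 0) : i = j := by
  rcases i with _ | c <;> rcases j with _ | d
  · rfl
  · simp only [rep, inv_one, one_mul] at h
    simp [mk2] at h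
  · simp only [rep, mul_one, mk2_inv] at h
    simp [mk2] at h
  · simp only [rep, mk2_inv, mk2_mul] at h
    simp [mk2] at h
    congr 1
    linear_combination h

omit [Fintype F] [DecidableEq F] in
theorem rep_surj (A : Matrix (Fin 2) (Fin 2) F) : ∃ i, (((rep i)⁻¹ : SL(2, F)).1 * A) 1 0 = 0 := by
  by_cases h : A 1 0 = 0
  · exact ⟨none, by simpa [rep] using h⟩
  · refine ⟨some (A 0 0 / A 1 0), ?_⟩
    simp only [rep, mk2_inv]
    simp [mk2, mul_apply2]
    field_simp
    ring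

omit [Fintype F] [DecidableEq F] in
theorem rep_conj (c : F) (A : Matrix (Fin 2) (Fin 2) F) :
    ((rep (some c))⁻¹ : SL(2, F)).1 * A * (rep (some c)).1 =
      !![A 1 0 * c + A 1 1, -A 1 0; -(A 0 1 + (A 0 0 - A 1 1) * c - A 1 0 * c ^ 2),
        A 0 0 - c * A 1 0] := by
  simp only [rep, mk2_inv]
  apply ext4 <;> simp only [mul_apply2] <;> simp [mk2] <;> ring

end mulchar

end CA.Ch2Gen
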