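import Cfsg.Agent.Lib.Lin.Ch2Gen

/-! Splitting of two generalised characters of norm two under an outer automorphism. -/

set_option autoImplicit false

namespace CA.Ch2Pair

open Cfsg CChar.CharFun CChar.CharOrth CChar.CharGen CChar.CharKer
open scoped ComplexConjugate

variable {G : Type*} [Group G]

/-- `R` is the sum of two irreducible characters swapped by `σ`. -/
structure Half (σ : G ≃* G) (x : G) (n : ℂ) (R φ ψ : G → ℂ) : Prop where
  irr1 : IsIrrCharacter G φ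
  irr2 : IsIrrCharacter G ψ
  ne : φ ≠ ψ
  sum : R = φ + ψ
  s1 : ∀ g, φ (σ g) = ψ g
  s2 : ∀ g, ψ (σ g) = φ g
  d : (φ x - ψ x) * conj (φ x - ψ x) = n

theorem Half.symm {σ : G ≃* G} {x : G} {n : ℂ} {R φ ψ : G → ℂ} (h : Half σ x n R φ ψ) :
    Half σ x n R ψ φ :=
  ⟨h.irr2, h.irr1, h.ne.symm, by rw [h.sum, add_comm], h.s2, h.s1, by
    rw [← h.d]; simp only [map_sub]; ring⟩

theorem Half.val {σ : G ≃* G} {x : G} {n : ℂ} {R φ ψ : G → ℂ} (h : Half σ x n R φ ψ) {g : G}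
    (hg : IsConj g (σ g)) : 2 * φ g = R g := by
  have := classFun_of_isConj (irr_classFun h.irr1) hg
  rw [h.s1] at this
  rw [h.sum, Pi.add_apply, ← this]; ring

variable [Fintype G]

theorem Half.eq_or {σ : G ≃* G} {x : G} {n : ℂ} {R φ ψ : G → ℂ} (h : Half σ x n R φ ψ)
    {χ : G → ℂ} (hχ : IsIrrCharacter G χ) (hi : classInner R χ ≠ 0) : χ = φ ∨ χ = ψ := by
  by_contra hn
  push Not at hn
  apply hi
  rw [h.sum, ci_add_left, inner_irr_of_ne h.irr1 hχ hn.1.symm, inner_irr_of_ne h.irr2 hχ hn.2.symm,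
    add_zero]

theorem Half.of_inner {σ : G ≃* G} {x : G} {n : ℂ} {R φ ψ : G → ℂ} (h : Half σ x n R φ ψ)
    {χ : G → ℂ} (hχ : IsIrrCharacter G χ) (hi : classInner R χ ≠ 0) : ∃ ψ, Half σ x n R χ ψ := by
  rcases h.eq_or hχ hi with rfl | rfl
  · exact ⟨_, h⟩
  · exact ⟨_, h.symm⟩

theorem Half.inner {σ : G ≃* G} {x : G} {n : ℂ} {R φ ψ : G → ℂ} (h : Half σ x n R φ ψ) :
    classInner R φ = 1 := by
  rw [h.sum, ci_add_left, inner_irr_self h.irr1, inner_irr_of_ne h.irr2 h.irr1 h.ne.symm, add_zero]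

theorem pair (σ : G ≃* G) {z : G} (hz : z ∈ Subgroup.center G) {R : G → ℂ}
    (hR : IsGeneralizedCharacter G R) (h2 : classInner R R = 2) (hσ : ∀ g, R (σ g) = R g) {ω : ℂ}
    (hω : ∀ g, R (z * g) = ω * R g) (hpos : 0 < (R 1).re) :
    ∃ φ ψ, IsIrrCharacter G φ ∧ IsIrrCharacter G ψ ∧ φ ≠ ψ ∧ (∀ g, φ (z * g) = ω * φ g) ∧
      (∀ g, ψ (z * g) = ω * ψ g) ∧ (∃ ε δ : ℂ, ε ≠ 0 ∧ δ ≠ 0 ∧ R = ε • φ + δ • ψ) ∧
      (((∀ g, φ (σ g) = φ g) ∧ ∀ g, ψ (σ g) = ψ g) ∨
        (R = φ + ψ ∧ (∀ g, φ (σ g) = ψ g) ∧ ∀ g, ψ (σ g) = φ g)) := by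
  obtain ⟨ε, δ, hε, hδ, φ, ψ, hφ, hψ, hne, rfl⟩ := gen_norm_two hR h2
  have ε0 : ε ≠ 0 := by rcases hε with rfl | rfl <;> norm_num
  have δ0 : δ ≠ 0 := by rcases hδ with rfl | rfl <;> norm_num
  obtain ⟨l1, hl1⟩ := exists_central_unitsHom hφ (le_refl _)
  obtain ⟨l2, hl2⟩ := exists_central_unitsHom hψ (le_refl _)
  have h1 := hl1 ⟨z, hz⟩
  have h2 := hl2 ⟨z, hz⟩
  simp only at h1 h2
  have e : (ε * l1 ⟨z, hz⟩) • φ + (δ * l2 ⟨z, hz⟩) • ψ = (ω * ε) • φ + (ω * δ) • ψ := by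
    funext g
    have := hω g
    simp only [Pi.add_apply, Pi.smul_apply, smul_eq_mul, h1, h2] at this ⊢
    linear_combination this
  have e1 := congrArg (fun f => classInner f φ) e
  have e2 := congrArg (fun f => classInner f ψ) e
  simp only [ci_add_left, ci_smul_left, inner_irr_self hφ, inner_irr_self hψ,
    inner_irr_of_ne hφ hψ hne, inner_irr_of_ne hψ hφ hne.symm] at e1 e2
  have w1 : (l1 ⟨z, hz⟩ : ℂ) = ω := mul_left_cancel₀ ε0 (by linear_combination e1)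
  have w2 : (l2 ⟨z, hz⟩ : ℂ) = ω := mul_left_cancel₀ δ0 (by linear_combination e2)
  refine ⟨φ, ψ, hφ, hψ, hne, w1 ▸ h1, w2 ▸ h2, ⟨ε, δ, ε0, δ0, rfl⟩, ?_⟩
  have hφ' := irr_comp_mulEquiv hφ σ
  have hψ' := irr_comp_mulEquiv hψ σ
  have hne' : (fun x => ψ (σ x)) ≠ fun x => φ (σ x) := fun h => hne (funext fun g => by
    simpa using (congrFun h (σ.symm g)).symm)
  have f : (ε • (fun x => φ (σ x)) + δ • fun x => ψ (σ x)) = ε • φ + δ • ψ := funext fun g => hσ g
  have f1 := congrArg (fun f => classInner f fun x => φ (σ x)) f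
  simp only [ci_add_left, ci_smul_left, inner_irr_self hφ', inner_irr_of_ne hψ' hφ' hne'] at f1
  by_cases c1 : φ = fun x => φ (σ x)
  · refine Or.inl ⟨fun g => (congrFun c1 g).symm, fun g => ?_⟩
    have := hσ g
    simp only [Pi.add_apply, Pi.smul_apply, smul_eq_mul, ← congrFun c1 g] at this
    exact mul_left_cancel₀ δ0 (by linear_combination this)
  · rw [inner_irr_of_ne hφ hφ' c1] at f1
    have c2 : ψ = fun x => φ (σ x) := by
      by_contra c2
      rw [inner_irr_of_ne hψ hφ' c2] at f1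
      exact ε0 (by linear_combination f1)
    rw [← c2, inner_irr_self hψ] at f1
    obtain rfl : ε = δ := by linear_combination f1
    refine Or.inr ⟨?_, fun g => (congrFun c2 g).symm, fun g => ?_⟩
    · rcases hε with rfl | rfl
      · simp
      · exfalso
        obtain ⟨m, hm, hm1⟩ := irr_apply_one hφ
        obtain ⟨k, hk, hk1⟩ := irr_apply_one hψ
        simp only [Pi.add_apply, Pi.smul_apply, smul_eq_mul, hm1, hk1] at hpos
        simp at hpos
        have : (0 : ℝ) ≤ m := Nat.cast_nonneg m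
        have : (0 : ℝ) ≤ k := Nat.cast_nonneg k
        linarith
    · have := hσ g
      simp only [Pi.add_apply, Pi.smul_apply, smul_eq_mul, ← congrFun c2 g] at this
      exact mul_left_cancel₀ δ0 (by linear_combination this)

theorem inner_eq_zero_or {z : G} (hz : z ∈ Subgroup.center G) {P Q : G → ℂ} {ω ω' : ℂ}
    (hPω : ∀ g, P (z * g) = ω * P g) (hQω : ∀ g, Q (z * g) = ω' * Q g) (hne : ω ≠ ω') (χ : G → ℂ)
    (hχ : IsIrrCharacter G χ) : classInner P χ = 0 ∨ classInner Q χ = 0 := by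
  obtain ⟨l, hl⟩ := exists_central_unitsHom hχ (le_refl _)
  have h1 := hl ⟨z, hz⟩
  simp only at h1
  have key : ∀ (R : G → ℂ) (w : ℂ), (∀ g, R (z * g) = w * R g) → classInner R χ ≠ 0 →
      w * conj (l ⟨z, hz⟩ : ℂ) = 1 := by
    intro R w hR h
    have : classInner R χ = w * conj (l ⟨z, hz⟩ : ℂ) * classInner R χ := by
      rw [inner_def, mul_left_comm]
      congr 1
      rw [Finset.mul_sum, ← Equiv.sum_comp (Equiv.mulLeft z)]
      refine Finset.sum_congr rfl fun g _ => ?_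
      simp only [Equiv.coe_mulLeft, hR, h1, map_mul]
      ring
    exact (mul_eq_right₀ h).1 this.symm
  by_contra hc
  push Not at hc
  have a := key P ω hPω hc.1
  have b := key Q ω' hQω hc.2
  apply hne
  have : conj (l ⟨z, hz⟩ : ℂ) ≠ 0 := right_ne_zero_of_mul_eq_one a
  exact mul_right_cancel₀ this (a.trans b.symm)

theorem sum_four (f : (G → ℂ) → ℂ) {a b c d : G → ℂ} (ha : IsIrrCharacter G a)
    (hb : IsIrrCharacter G b) (hc : IsIrrCharacter G c) (hd : IsIrrCharacter G d) (hab : a ≠ b)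
    (hac : a ≠ c) (had : a ≠ d) (hbc : b ≠ c) (hbd : b ≠ d) (hcd : c ≠ d)
    (h : ∀ χ, IsIrrCharacter G χ → χ ≠ a → χ ≠ b → χ ≠ c → χ ≠ d → f χ = 0) :
    ∑ χ : IrrCharacter G, f χ = f a + f b + f c + f d := by
  classical
  rw [← Finset.sum_subset (Finset.subset_univ {⟨a, ha⟩, ⟨b, hb⟩, ⟨c, hc⟩, ⟨d, hd⟩})]
  · rw [Finset.sum_insert (by simp [hab, hac, had]), Finset.sum_insert (by simp [hbc, hbd]),
      Finset.sum_pair (by simp [hcd])]
    ring
  · intro χ _ hχ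
    simp only [Finset.mem_insert, Finset.mem_singleton, not_or, Subtype.ext_iff] at hχ
    exact h _ χ.2 hχ.1 hχ.2.1 hχ.2.2.1 hχ.2.2.2

theorem half_of (σ : G ≃* G) {z : G} (hz : z ∈ Subgroup.center G) (x : G) {n : ℂ}
    (hn : (Nat.card (Subgroup.centralizer ({x} : Set G)) : ℂ) = 2 * n)
    (x1 : ¬ IsConj x (σ x)) (x2 : ¬ IsConj x (z * x)) (x3 : ¬ IsConj x (z * σ x))
    {P Q : G → ℂ} {ω ω' : ℂ} (hω1 : ω = 1 ∨ ω = -1) (hω1' : ω' = 1 ∨ ω' = -1)
    (hP : IsGeneralizedCharacter G P) (hP2 : classInner P P = 2) (hPσ : ∀ g, P (σ g) = P g)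
    (hPω : ∀ g, P (z * g) = ω * P g) (hPpos : 0 < (P 1).re)
    (hQ : IsGeneralizedCharacter G Q) (hQ2 : classInner Q Q = 2) (hQσ : ∀ g, Q (σ g) = Q g)
    (hQω : ∀ g, Q (z * g) = ω' * Q g) (hQpos : 0 < (Q 1).re)
    (hPQ : ∀ χ, IsIrrCharacter G χ → classInner P χ = 0 ∨ classInner Q χ = 0)
    (hinv : ∀ χ, IsIrrCharacter G χ → classInner P χ = 0 → classInner Q χ = 0 →
      χ (σ x) = χ x ∧ χ (z * σ x) = χ (z * x)) :
    ω' = -ω ∧ ∃ φ ψ, Half σ x n P φ ψ := by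
  classical
  obtain ⟨a, b, ha, hb, hab, za, zb, ⟨ε, δ, ε0, δ0, eP⟩, cP⟩ := pair σ hz hP hP2 hPσ hPω hPpos
  obtain ⟨c, d, hc, hd, hcd, zc, zd, ⟨ε', δ', ε0', δ0', eQ⟩, cQ⟩ := pair σ hz hQ hQ2 hQσ hQω hQpos
  have Pa : classInner P a ≠ 0 := by
    simpa [eP, ci_add_left, ci_smul_left, inner_irr_self ha, inner_irr_of_ne hb ha hab.symm]
  have Pb : classInner P b ≠ 0 := by
    simpa [eP, ci_add_left, ci_smul_left, inner_irr_self hb, inner_irr_of_ne ha hb hab]
  have Qc : classInner Q c ≠ 0 := by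
    simpa [eQ, ci_add_left, ci_smul_left, inner_irr_self hc, inner_irr_of_ne hd hc hcd.symm]
  have Qd : classInner Q d ≠ 0 := by
    simpa [eQ, ci_add_left, ci_smul_left, inner_irr_self hd, inner_irr_of_ne hc hd hcd]
  have hac : a ≠ c := by rintro rfl; rcases hPQ a ha with h | h <;> contradiction
  have had : a ≠ d := by rintro rfl; rcases hPQ a ha with h | h <;> contradiction
  have hbc : b ≠ c := by rintro rfl; rcases hPQ b hb with h | h <;> contradiction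
  have hbd : b ≠ d := by rintro rfl; rcases hPQ b hb with h | h <;> contradiction
  have hoth : ∀ χ, IsIrrCharacter G χ → χ ≠ a → χ ≠ b → χ ≠ c → χ ≠ d →
      χ (σ x) = χ x ∧ χ (z * σ x) = χ (z * x) := by
    intro χ hχ n1 n2 n3 n4
    refine hinv χ hχ ?_ ?_
    · simp [eP, ci_add_left, ci_smul_left, inner_irr_of_ne ha hχ n1.symm,
        inner_irr_of_ne hb hχ n2.symm]
    · simp [eQ, ci_add_left, ci_smul_left, inner_irr_of_ne hc hχ n3.symm,
        inner_irr_of_ne hd hχ n4.symm]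
  have s1 := sum_four (fun χ => χ x * conj (χ x) - χ x * conj (χ (σ x))) ha hb hc hd hab hac had hbc
    hbd hcd (fun χ hχ n1 n2 n3 n4 => by rw [(hoth χ hχ n1 n2 n3 n4).1, sub_self])
  have s2 := sum_four (fun χ => χ x * conj (χ (z * x)) - χ x * conj (χ (z * σ x))) ha hb hc hd hab
    hac had hbc hbd hcd (fun χ hχ n1 n2 n3 n4 => by rw [(hoth χ hχ n1 n2 n3 n4).2, sub_self])
  rw [Finset.sum_sub_distrib, sum_irr_mul_conj_of_isConj (IsConj.refl x),
    sum_irr_mul_conj_of_not_isConj x1, hn] at s1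
  rw [Finset.sum_sub_distrib, sum_irr_mul_conj_of_not_isConj x2,
    sum_irr_mul_conj_of_not_isConj x3] at s2
  have cω : conj ω = ω := by rcases hω1 with rfl | rfl <;> simp
  have cω' : conj ω' = ω' := by rcases hω1' with rfl | rfl <;> simp
  simp only [za, zb, zc, zd, map_mul, cω, cω'] at s2
  have n0 : n ≠ 0 := by
    rintro rfl
    exact CA.Ind.card_ne_zero _ (hn.trans (mul_zero _))
  have key : ω' = -ω ∧
      a x * conj (a x) - a x * conj (a (σ x)) + (b x * conj (b x) - b x * conj (b (σ x))) = n := by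
    rcases hω1 with rfl | rfl <;> rcases hω1' with rfl | rfl
    · exact absurd (by linear_combination (1 / 2) * s1 - (1 / 2) * s2) n0
    · exact ⟨rfl, by linear_combination (-1 / 2) * s1 - (1 / 2) * s2⟩
    · exact ⟨by simp, by linear_combination (-1 / 2) * s1 + (1 / 2) * s2⟩
    · exact absurd (by linear_combination (1 / 2) * s1 + (1 / 2) * s2) n0
  refine ⟨key.1, a, b, ?_⟩
  rcases cP with ⟨h1, h2⟩ | ⟨h0, h1, h2⟩
  · rw [h1, h2] at key
    exact absurd (by linear_combination -key.2) n0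
  · refine ⟨ha, hb, hab, h0, h1, h2, ?_⟩
    rw [h1, h2] at key
    rw [map_sub]
    linear_combination key.2

end CA.Ch2Pair
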