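import Cfsg.Agent.Lib.Lin.LayCnt3

/-!
Class numbers of special linear and special unitary groups.
-/

set_option autoImplicit false

namespace CA.Rcf
open Polynomial Module CA.LayCnt Finset

section Grp
variable {G H A β : Type*} [Group G] [Group H] [CommGroup A]

theorem card_classes_le [Finite H] (φ : G →* A) (hφ : Function.Surjective φ) (e : H ≃* φ.ker)
    (Q : H → Prop) (ι : H → β) (hι : ∀ g g', Q g → Q g' → ι g = ι g' → IsConj (e g : G) (e g'))
    (R : β → ℕ → Prop) (hR : ∀ g, Q g → R (ι g) ((Subgroup.centralizer {(e g : G)}).map φ).index)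
    {B : ℕ} (hB : ∀ (s : Finset β) (wt : β → ℕ), (∀ y ∈ s, R y (wt y)) → ∑ y ∈ s, wt y ≤ B) :
    Nat.card {c : ConjClasses H // ∃ g, ConjClasses.mk g = c ∧ Q g} ≤ B := by
  classical
  have := Fintype.ofFinite {c : ConjClasses H // ∃ g, ConjClasses.mk g = c ∧ Q g}
  choose r hr using fun c : {c : ConjClasses H // ∃ g, ConjClasses.mk g = c ∧ Q g} => c.2
  choose! x hx using fun y (hy : y ∈ univ.image fun c => ι (r c)) =>
    (show ∃ g, Q g ∧ ι g = y from (mem_image.1 hy).elim fun c h => ⟨r c, (hr c).2, h.2⟩)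
  rw [Nat.card_eq_fintype_card, ← card_univ, card_eq_sum_card_image fun c => ι (r c)]
  refine le_trans (sum_le_sum fun y hy => ?_) (hB _ (fun y => ((Subgroup.centralizer
    {(e (x y) : G)}).map φ).index) fun y hy => (hx y hy).2 ▸ (by
      simpa only [(hx y hy).2] using hR _ (hx y hy).1))
  rw [← card_classes_split φ hφ e (x y) _ fun _ => Iff.rfl, ← Nat.card_eq_finsetCard]
  exact Nat.card_le_card_of_injective (fun c => ⟨c.1.1, r c.1, (hr c.1).1, hι _ _ (hx y hy).1
    (hr c.1).2 ((hx y hy).2.trans (mem_filter.1 c.2).2.symm)⟩) fun _ _ h =>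
      Subtype.ext (Subtype.ext (congrArg (·.1) h))

theorem index_le_of_pow [Finite A] [IsCyclic A] {S : Subgroup A} {e : ℕ} (he : e ≠ 0)
    (h : ∀ a, a ^ e ∈ S) : S.index ≤ e :=
  Nat.le_of_dvd (Nat.pos_of_ne_zero he) ((Subgroup.index_dvd_of_le (H := (powMonoidHom e).range)
    (by rintro _ ⟨a, rfl⟩; exact h a)).trans (by
      rw [IsCyclic.index_powMonoidHom_range]; exact Nat.gcd_dvd_right _ _))

open Classical in
theorem card_classes_quot_center [Finite G] [Fintype (Subgroup.center G)] :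
    Nat.card (Subgroup.center G) * Nat.card (ConjClasses (G ⧸ Subgroup.center G)) =
      ∑ z : Subgroup.center G,
        Nat.card {c : ConjClasses G // ∃ g, ConjClasses.mk g = c ∧ IsConj g (z * g)} := by
  have h1 : ∀ (z : Subgroup.center G) (a b : G), IsConj a b → IsConj (z * a) (z * b) :=
    fun z a b h => by
      obtain ⟨c, rfl⟩ := isConj_iff.1 h
      exact isConj_iff.2 ⟨c, by rw [← mul_assoc c, Subgroup.mem_center_iff.1 z.2 c]; group⟩
  let _ : MulAction (Subgroup.center G) (ConjClasses G) :=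
    { smul := fun z => Quotient.map (z * ·) (h1 z)
      one_smul := fun c => Quotient.inductionOn c fun g => congrArg ConjClasses.mk (one_mul g)
      mul_smul := fun z w c => Quotient.inductionOn c fun g =>
        congrArg ConjClasses.mk (mul_assoc _ _ g) }
  have h2 : ∀ (z : Subgroup.center G) (g : G), z • ConjClasses.mk g = ConjClasses.mk (z * g) :=
    fun _ _ => rfl
  have := Fintype.ofFinite (ConjClasses G)
  have := MulAction.sum_card_fixedBy_eq_card_orbits_mul_card_group (Subgroup.center G) (ConjClasses G)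
  simp only [← Nat.card_eq_fintype_card] at this
  rw [mul_comm, ← Nat.card_congr (Setoid.quotientKerEquivOfSurjective _
    (ConjClasses.map_surjective (QuotientGroup.mk'_surjective (Subgroup.center G)))),
    show Setoid.ker _ = MulAction.orbitRel (Subgroup.center G) (ConjClasses G) from ?_, ← this]
  · refine sum_congr rfl fun z _ => Nat.card_congr (Equiv.subtypeEquivRight fun c => ?_)
    obtain ⟨g, rfl⟩ := ConjClasses.mk_surjective c
    rw [MulAction.mem_fixedBy, h2, ConjClasses.mk_eq_mk_iff_isConj]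
    refine ⟨fun h => ⟨g, rfl, h.symm⟩, fun ⟨a, h, h'⟩ => ?_⟩
    rw [ConjClasses.mk_eq_mk_iff_isConj] at h
    exact ((h1 z _ _ h).symm.trans h'.symm).trans h
  ext c c'
  obtain ⟨g, rfl⟩ := ConjClasses.mk_surjective c
  obtain ⟨g', rfl⟩ := ConjClasses.mk_surjective c'
  rw [Setoid.ker_def, MulAction.orbitRel_apply]
  change ConjClasses.mk _ = ConjClasses.mk _ ↔ ∃ z, z • _ = _
  simp only [h2, ConjClasses.mk_eq_mk_iff_isConj]
  constructor
  · intro h
    obtain ⟨c, hc⟩ := isConj_iff.1 h.symm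
    obtain ⟨c, rfl⟩ := QuotientGroup.mk'_surjective _ c
    obtain ⟨z, hz, h⟩ := (QuotientGroup.mk'_eq_mk' _).1 (show QuotientGroup.mk' (Subgroup.center G)
      (c * g' * c⁻¹) = QuotientGroup.mk' _ g by rwa [map_mul, map_mul, map_inv])
    exact ⟨⟨z, hz⟩, isConj_iff.2 ⟨c, by
      rw [← h, Subgroup.mem_center_iff.1 hz, ← mul_assoc c, Subgroup.mem_center_iff.1 hz c]
      group⟩⟩
  · rintro ⟨z, h⟩
    have := ((QuotientGroup.mk' (Subgroup.center G)).map_isConj h).symm
    rwa [map_mul, show QuotientGroup.mk' _ (z : G) = 1 from (QuotientGroup.eq_one_iff _).2 z.2,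
      one_mul] at this

end Grp

variable {F : Type*} [Field F] {V : Type*} [AddCommGroup V] [Module F V] [FiniteDimensional F V]
  {W : Type*} [AddCommGroup W] [Module F W] [FiniteDimensional F W] {m : Multiset F[X]}

theorem det_aeval_X_add_C {ι : Type*} [Fintype ι] [DecidableEq ι] (A : Matrix ι ι F) (a : F) :
    (aeval A (X + C a)).det = (-1) ^ Fintype.card ι * A.charpoly.eval (-a) := by
  rw [Matrix.eval_charpoly, ← Matrix.det_neg]
  simp [Matrix.algebraMap_eq_diagonal, Matrix.scalar_apply, ← Matrix.diagonal_neg]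
  rfl

theorem det_aeval_matrix {ι κ : Type*} [Fintype ι] [DecidableEq ι] [Fintype κ] [DecidableEq κ]
    {A : Matrix ι ι F} {B : Matrix κ κ F} {e : ℕ} (h : A.charpoly = B.charpoly ^ e) {g : F[X]}
    (hg : g.Splits) : (aeval A g).det = (aeval B g).det ^ e := by
  have h1 : Fintype.card ι = Fintype.card κ * e := by
    rw [← A.charpoly_natDegree_eq_dim, h, B.charpoly_monic.natDegree_pow, B.charpoly_natDegree_eq_dim,
      mul_comm]
  induction hg using Submonoid.closure_induction with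
  | one => simp
  | mul _ _ _ _ h h' => simp [h, h', mul_pow]
  | mem x hx =>
    rcases hx with ⟨a, rfl⟩ | ⟨a, rfl⟩
    · simp [Matrix.algebraMap_eq_diagonal, h1, pow_mul]
    · rw [det_aeval_X_add_C, det_aeval_X_add_C, h, h1, eval_pow, mul_pow, pow_mul]

theorem algebraMap_det_aeval (L : Type*) [Field L] [Algebra F L] (A : End F V) (g : F[X]) :
    algebraMap F L (LinearMap.det (aeval A g)) = (aeval ((LinearMap.toMatrix (finBasis F V)
      (finBasis F V) A).map (algebraMap F L)) (g.map (algebraMap F L))).det := by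
  rw [← LinearMap.det_toMatrix (finBasis F V), RingHom.map_det, aeval_map_algebraMap]
  congr 1
  exact ((aeval_algHom_apply ((Algebra.ofId F L).mapMatrix.comp (LinearMap.toMatrixAlgEquiv
    (finBasis F V)).toAlgHom) A g)).symm

theorem det_aeval_pow {A : End F V} {B : End F W} {e : ℕ} (h : A.charpoly = B.charpoly ^ e)
    (g : F[X]) : LinearMap.det (aeval A g) = LinearMap.det (aeval B g) ^ e := by
  apply (algebraMap F (AlgebraicClosure F)).injective
  rw [map_pow, algebraMap_det_aeval, algebraMap_det_aeval]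
  exact det_aeval_matrix (by rw [Matrix.charpoly_map, Matrix.charpoly_map, LinearMap.charpoly_toMatrix,
    LinearMap.charpoly_toMatrix, h, Polynomial.map_pow]) (IsAlgClosed.splits _)

theorem exists_commute_det_exp [Finite F] {A : End F V} {p : F[X]} (h1 : p.Monic)
    (h2 : Irreducible p) {i : ℕ} (hd : p ^ (i + 1) ∈ edivs A) {a : F} (ha : a ≠ 0) :
    ∃ c : V ≃ₗ[F] V, (∀ v, c (A v) = A (c v)) ∧ LinearMap.det (c : End F V) = a ^ (i + 1) := by
  have := Fact.mk h2
  have h0 := finite_adjoinRoot h1.ne_zero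
  have h0' := finite_adjoinRoot (h1.pow (i + 1)).ne_zero
  have : Finite (AdjoinRoot p) := Module.finite_of_finite F
  obtain ⟨y, hy⟩ := FiniteField.norm_surjective F (AdjoinRoot p) a
  obtain ⟨g, rfl⟩ := AdjoinRoot.mk_surjective y
  have h3 := det_aeval_pow (A := cyc (p ^ (i + 1))) (B := cyc p) (e := i + 1)
    (by rw [charpoly_cyc h1, charpoly_cyc (h1.pow _)]) g
  rw [aeval_cyc, aeval_cyc, show LinearMap.det (LinearMap.mulLeft F (AdjoinRoot.mk p g)) = a from hy]
    at h3
  obtain ⟨y, hy⟩ : IsUnit (AdjoinRoot.mk (p ^ (i + 1)) g) := Algebra.lmul_isUnit_iff (R := F).1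
    ((LinearMap.isUnit_iff_isUnit_det _).2 (h3 ▸ (pow_ne_zero _ ha).isUnit :
      IsUnit (LinearMap.det (LinearMap.mulLeft F (AdjoinRoot.mk (p ^ (i + 1)) g)))))
  obtain ⟨c, h4, h5⟩ := exists_commute_det hd y
  exact ⟨c, h4, by rw [h5, hy]; exact h3⟩

theorem sim_cyc_mul {d d' : F[X]} (hd : d ≠ 0) (hd' : d' ≠ 0) (h : IsCoprime d d') :
    Sim (cyc (d * d')) ((cyc d).prodMap (cyc d')) := by
  have := finite_adjoinRoot hd
  have := finite_adjoinRoot hd'
  obtain ⟨a, b, h⟩ := h
  refine sim_cyc_of_cyclic (mul_ne_zero hd hd') (by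
    rw [aeval_prodMap, aeval_cyc, aeval_cyc]; ext <;> simp) (by
    simp [finrank_adjoinRoot, natDegree_mul hd hd']) (1, 1) fun w => ?_
  obtain ⟨x, hx⟩ := AdjoinRoot.mk_surjective w.1
  obtain ⟨y, hy⟩ := AdjoinRoot.mk_surjective w.2
  have h1 := congrArg (AdjoinRoot.mk d) h
  have h2 := congrArg (AdjoinRoot.mk d') h
  refine ⟨x * (b * d') + y * (a * d), ?_⟩
  rw [aeval_prodMap, aeval_cyc, aeval_cyc]
  simp only [map_add, map_mul, AdjoinRoot.mk_self, mul_zero, zero_add, add_zero, map_one] at h1 h2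
  ext <;> simp [h1, h2, hx, hy]

theorem layM_map (τ : F[X] →* F[X]) (hτ : ∀ p, p.Monic → Irreducible p → (τ p).Monic ∧
    Irreducible (τ p)) (hm : ∀ d ∈ m, IsPrim d) (h : m.map τ = m) (i : ℕ) :
    τ (lay m i) = lay m i := by
  have key : ∀ d ∈ m, bs (τ d) = τ (bs d) ∧ ex (τ d) = ex d := fun d hd => by
    obtain ⟨h1, h2, h3⟩ := (hm d hd).spec
    have := bs_ex (hτ _ h1 h2).1 (hτ _ h1 h2).2 (ex d)
    rwa [← map_pow, ← h3] at this
  rw [lay, map_multiset_prod]
  congr 1
  conv_rhs => rw [layM, ← h, Multiset.filter_map, Multiset.map_map]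
  rw [layM, Multiset.map_map, Multiset.filter_congr (q := (ex · = i) ∘ τ) fun d hd => by
    simp [(key d hd).2]]
  exact Multiset.map_congr rfl fun d hd => (key d (Multiset.mem_filter.1 hd).1).1.symm

theorem lay_coeff_ne (hm : ∀ d ∈ m, IsPrim d) (hX : ∀ d ∈ m, ¬X ∣ d) (i : ℕ) :
    (lay m i).coeff 0 ≠ 0 := fun H => by
  obtain ⟨d, hd, h⟩ := prime_X.exists_mem_multiset_dvd (X_dvd_iff.2 H)
  exact hX _ ((mem_layM hm).1 hd).2.2 (h.trans (dvd_pow_self _ i.succ_ne_zero))

theorem pow_eq_one_of_sim_smul {g : V ≃ₗ[F] V} {z : F} (hz : z ≠ 0)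
    (h : Sim (g : End F V) (z • (g : End F V))) {i k : ℕ}
    (hk : (lay (edivs (g : End F V)) i).coeff k ≠ 0) : z ^ k = 1 := by
  let θ := algEquivOfCompEqX (C z * X) (C z⁻¹ * X) (by simp [← mul_assoc, ← C_mul, hz])
    (by simp [← mul_assoc, ← C_mul, hz])
  have h1 : ∀ p, θ p = p.comp (C z * X) := fun p => rfl
  have h2 := edivs_eq_map θ.toMulEquiv (fun p => by
    change (θ p).natDegree = _
    rw [h1, natDegree_comp, natDegree_C_mul_X _ hz, mul_one]) (A := z • (g : End F V))
    (B := (g : End F V)) fun p => by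
      rw [show aeval (g : End F V) (θ.toMulEquiv p) = aeval (z • (g : End F V)) p from
        (aeval_comp _).trans (by simp [Algebra.smul_def])]
  rw [← sim_iff_edivs.1 h] at h2
  have h3 := layM_map (mon.comp θ.toMulEquiv.toMonoidHom) (fun p _ hp => by
    have := (MulEquiv.irreducible_iff θ.toMulEquiv).2 hp
    exact ⟨mon_monic this.ne_zero, (mon_associated _).symm.irreducible this⟩)
    (fun _ => isPrim_of_mem_edivs) h2.symm i
  have h4 := lay_coeff_ne (m := edivs (g : End F V)) (fun _ => isPrim_of_mem_edivs)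
    (fun _ => not_X_dvd_of_mem_edivs g) i
  generalize lay (edivs (g : End F V)) i = p at *
  have h5 : ∀ j, p.coeff j * z ^ j * (θ p).leadingCoeff⁻¹ = p.coeff j := fun j => by
    rw [← comp_C_mul_X_coeff, ← coeff_mul_C]
    exact congrArg (coeff · j) h3
  have h6 := h5 k
  rwa [show (θ p).leadingCoeff⁻¹ = 1 from (mul_eq_left₀ h4).1 (by simpa using h5 0), mul_one,
    mul_eq_left₀ hk] at h6

theorem expand_contract_of {s : ℕ} (hs : s ≠ 0) {p : F[X]} (h : ∀ k, p.coeff k ≠ 0 → s ∣ k) :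
    expand F s (contract s p) = p := by
  ext k
  rw [coeff_expand hs.bot_lt, coeff_contract hs]
  split_ifs with H
  · rw [Nat.div_mul_cancel H]
  · exact (by_contra fun H' => H (h k H') : _ = _).symm

theorem wd_lay (hm : ∀ d ∈ m, IsPrim d) {s n : ℕ} (hs : s ≠ 0) (hn : (m.map natDegree).sum = n * s)
    {y : ℕ → F[X]} (hy : ∀ i, expand F s (y i) = lay m i) {P : F[X] → Prop} (hP : ∀ i, P (y i))
    {r w : ℕ} (hr : w ≤ r) (hw : ∀ p i, p.Monic → Irreducible p → p ^ (i + 1) ∈ m → w ≤ i + 1) :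
    WD 1 natDegree P (coeff · 0) r n (m.prod.coeff 0) y w := by
  have h1 : ∀ i, (y i).Monic := fun i => (monic_expand_iff hs.bot_lt).1 (hy i ▸ lay_monic hm i)
  have h2 := sum_natDegree_lay hm (E := n * s + 1) (by omega)
  simp only [← hy, natDegree_expand, ← mul_assoc, ← sum_mul, hn, mul_left_inj' hs] at h2
  have h3 : ∀ i, n < i → y i = 1 := fun i hi => by
    by_cases h : i < n * s + 1
    · have := h2 ▸ single_le_sum (f := fun i => (i + 1) * (y i).natDegree) (fun _ _ => Nat.zero_le _)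
        (mem_range.2 h)
      exact (h1 i).natDegree_eq_zero.1 (by_contra fun H => by nlinarith [Nat.pos_of_ne_zero H])
    · exact expand_injective hs.bot_lt (by rw [hy, lay_eq_one hm (by omega), map_one])
  have h4 : range (n + 1) ⊆ range (n * s + 1) :=
    range_subset_range.2 (by nlinarith [Nat.pos_of_ne_zero hs])
  refine ⟨⟨hP, h3, (sum_subset h4 fun i _ hi => by simp [h3 i (by simpa using hi)]).trans h2⟩, ?_, hr,
    fun i hi => ?_⟩
  · rw [← prod_lay hm (E := n * s + 1) (by omega), prod_subset h4 fun i _ hi => by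
      simp [h3 i (by simpa using hi)], coeff_zero_prod]
    simp only [← hy, ← map_pow, coeff_expand hs.bot_lt, dvd_zero, if_true, Nat.zero_div,
      coeff_zero_eq_eval_zero, eval_pow]
  · obtain ⟨p, h5, h6, h7⟩ := exists_mem_of_lay hm (i := i) fun H => hi (expand_injective hs.bot_lt
      (by rw [hy, H, map_one]))
    exact hw p i h5 h6 h7

theorem lay_gl [Finite F] : Lay 1 natDegree (fun p : F[X] => p.Monic ∧ p.coeff 0 ≠ 0) (coeff · 0)
    (Nat.card F - 1) (Nat.card F) where
  deg_one := natDegree_one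
  P_one := by simp
  v_one := by simp
  eq_one _ h h' := h.1.natDegree_eq_zero.1 h'
  v_ne _ h := h.2
  card_v t h := by
    rw [← Nat.card_units, ← Nat.card_eq_finsetCard]
    exact Nat.card_le_card_of_injective (fun x => Units.mk0 x.1 (by
      obtain ⟨a, ha, h⟩ := h _ x.2; exact h ▸ ha.2)) fun _ _ h => Subtype.ext (by simpa using h)
  card_fib k x t h := by
    have h1 := card_monic_coeff_zero k (· = x)
    rw [Nat.card_unique (α := {a // a = x}), one_mul] at h1
    have := Nat.finite_of_card_ne_zero (h1 ▸ pow_ne_zero k (Nat.card_pos (α := F)).ne')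
    rw [← h1, ← Nat.card_eq_finsetCard]
    exact Nat.card_le_card_of_injective (fun a => ⟨a.1, ⟨(h _ a.2).1.1, (h _ a.2).2.1⟩, (h _ a.2).2.2⟩)
      fun _ _ h => Subtype.ext (by simpa using h)

theorem card_classes_SL_le [Finite F] {n s : ℕ} (hn : n ≠ 0) (hs : s ≠ 0) {z : F} (hz : z ≠ 0)
    (hzs : ∀ k, z ^ k = 1 → s ∣ k) (Q : Matrix.SpecialLinearGroup (Fin (n * s)) F → Prop)
    (hQ : ∀ g, Q g → Sim (Matrix.toLin' g.1) (z • Matrix.toLin' g.1)) {B : ℕ}
    (hB : ∀ (t : Finset (ℕ → F[X])) (wt : (ℕ → F[X]) → ℕ), (∀ y ∈ t, WD 1 natDegree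
      (fun p : F[X] => p.Monic ∧ p.coeff 0 ≠ 0) (coeff · 0) (Nat.card F - 1) n ((-1) ^ (n * s)) y
        (wt y)) → ∑ y ∈ t, wt y ≤ B) :
    Nat.card {c : ConjClasses _ // ∃ g, ConjClasses.mk g = c ∧ Q g} ≤ B := by
  have : Nonempty (Fin (n * s)) := ⟨⟨0, Nat.pos_of_ne_zero (mul_ne_zero hn hs)⟩⟩
  have h1 : ∀ g, Q g → ∀ i, expand F s (contract s (lay (edivs (Matrix.toLin' g.1)) i)) =
      lay (edivs (Matrix.toLin' g.1)) i := fun g hg i => expand_contract_of hs fun k hk =>
    hzs k (pow_eq_one_of_sim_smul (g := CForm.glEquiv g.toGL) hz (hQ g hg) hk)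
  refine card_classes_le (Matrix.GeneralLinearGroup.det : GL (Fin (n * s)) F →* Fˣ)
    Matrix.GeneralLinearGroup.det_surjective CA.SLnCard.slEquivKer Q
    (fun g i => contract s (lay (edivs (Matrix.toLin' g.1)) i)) (fun g g' hg hg' h => ?_) _
    (fun g hg => ?_) hB
  · exact isConj_GL_iff.2 (sim_iff_edivs.2 (eq_of_lay (fun _ => isPrim_of_mem_edivs)
      (fun _ => isPrim_of_mem_edivs) (funext fun i => (h1 g hg i).symm.trans
        ((congrArg _ (congrFun h i)).trans (h1 g' hg' i)))))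
  have h2 : (edivs (Matrix.toLin' g.1)).prod.coeff 0 = (-1) ^ (n * s) := by
    rw [← charpoly_eq_prod, coeff_zero_charpoly]; simp
  rw [← h2]
  refine wd_lay (fun _ => isPrim_of_mem_edivs) hs (by simp [sum_natDegree_edivs]) (h1 g hg)
    (fun i => ⟨(monic_expand_iff hs.bot_lt).1 ((h1 g hg i).symm ▸ lay_monic
      (fun _ => isPrim_of_mem_edivs) i), by
        rw [coeff_contract hs, zero_mul]
        exact lay_coeff_ne (fun _ => isPrim_of_mem_edivs)
          (fun _ => not_X_dvd_of_mem_edivs (CForm.glEquiv g.toGL)) i⟩)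
    (Nat.card_units F ▸ Nat.le_of_dvd Nat.card_pos (Subgroup.index_dvd_card _))
    fun p i h3 h4 h5 => index_le_of_pow i.succ_ne_zero fun a => ?_
  obtain ⟨c, h6, h7⟩ := exists_commute_det_exp h3 h4 h5 a.ne_zero
  obtain ⟨c, rfl⟩ := CForm.glEquiv.surjective c
  refine ⟨c, Subgroup.mem_centralizer_singleton_iff.2 (CForm.glEquiv.injective ?_), Units.ext ?_⟩
  · rw [map_mul, map_mul]; exact LinearEquiv.ext h6
  · simpa [coe_glEquiv] using h7

theorem card_classes_eq_subtype {G : Type*} [Group G] : Nat.card (ConjClasses G) =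
    Nat.card {c : ConjClasses G // ∃ g, ConjClasses.mk g = c ∧ True} :=
  (Nat.card_congr (Equiv.subtypeUnivEquiv fun c => by simpa using ConjClasses.mk_surjective c)).symm

theorem card_fix_SL_le [Finite F] {n s : ℕ} (hn : n ≠ 0) (hs : s ≠ 0) {z : F} (hz : z ≠ 0)
    (hzs : ∀ k, z ^ k = 1 → s ∣ k) (Q : Matrix.SpecialLinearGroup (Fin (n * s)) F → Prop)
    (hQ : ∀ g, Q g → Sim (Matrix.toLin' g.1) (z • Matrix.toLin' g.1)) {k : ℕ}
    (hk : k = Nat.card {c : ConjClasses _ // ∃ g, ConjClasses.mk g = c ∧ Q g}) :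
    (n = 1 → k ≤ 1) ∧ (n = 2 → k ≤ Nat.card F + min 2 (Nat.card F - 1) ^ 2) ∧
      (3 ≤ n → k ≤ Nat.card F ^ (n - 1) + 3 * Nat.card F ^ (n - 2)) ∧
      2 * k ≤ 5 * Nat.card F ^ (n - 1) := by
  have h2 := Finite.one_lt_card (α := F)
  have h := fun B => card_classes_SL_le hn hs hz hzs Q hQ (B := B)
  have h1 := fun t wt => lay_gl.sum_wt_sl (F := F) (s := t) (wt := wt) (n := n) (x := (-1) ^ (n * s))
    (by omega) (by omega)
  rw [← hk] at h
  have h3 : n = 1 → k ≤ 1 := fun H => h _ fun t wt ht => (h1 t wt ht).1 H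
  have h4 : n = 2 → k ≤ _ := fun H => h _ fun t wt ht => (h1 t wt ht).2.1 H
  have h5 : 3 ≤ n → k ≤ _ := fun H => h _ fun t wt ht => (h1 t wt ht).2.2 H
  refine ⟨h3, h4, h5, ?_⟩
  obtain rfl | rfl | H : n = 1 ∨ n = 2 ∨ 3 ≤ n := by omega
  · have := h3 rfl; simp; omega
  · have := h4 rfl
    have h6 := Nat.pow_le_pow_left (min_le_left 2 (Nat.card F - 1)) 2
    have h7 := Nat.pow_le_pow_left (min_le_right 2 (Nat.card F - 1)) 2
    rw [show 2 - 1 = 1 from rfl, pow_one]
    rcases (show Nat.card F = 2 ∨ 2 < Nat.card F by omega) with h2 | h2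
    · rw [h2] at h7 this ⊢; omega
    · omega
  · have := h5 H
    obtain ⟨n, rfl⟩ := Nat.exists_eq_add_of_le' (show 2 ≤ n by omega)
    rw [show n + 2 - 1 = n + 1 from rfl, Nat.add_sub_cancel, pow_succ] at this
    rw [show n + 2 - 1 = n + 1 from rfl, pow_succ]
    nlinarith [Nat.zero_le (Nat.card F ^ n)]

section Herm
open CForm CForm.Form
variable [Fintype F] {q : ℕ} (hF : Fintype.card F = q ^ 2)

theorem mul_conj_coeff {p : F[X]} (h1 : p.Monic) (h2 : p.coeff 0 ≠ 0) (h3 : dual (conj hF) p = p) :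
    p.coeff 0 * conj hF (p.coeff 0) = 1 := by
  simpa [h1.coeff_natDegree, mul_comm] using ((dual_eq_iff_coeff h2).1 h3 0).symm

theorem lay_gu : Lay 1 natDegree (fun p : F[X] => p.Monic ∧ p.coeff 0 ≠ 0 ∧ dual (conj hF) p = p)
    (coeff · 0) (q + 1) q where
  deg_one := natDegree_one
  P_one := by simp
  v_one := by simp
  eq_one _ h h' := h.1.natDegree_eq_zero.1 h'
  v_ne _ h := h.2.1
  card_v t h := le_trans (Multiset.card_le_card ((Multiset.le_iff_subset t.nodup).2 fun z hz =>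
    (mem_nthRoots q.succ_pos).2 (by
      obtain ⟨a, ha, rfl⟩ := h z hz
      rw [pow_succ']; exact mul_conj_coeff hF ha.1 ha.2.1 ha.2.2))) (card_nthRoots _ 1)
  card_fib k x t h := by
    rcases t.eq_empty_or_nonempty with rfl | ⟨a, ha⟩
    · simp
    have hx : x * conj hF x = 1 := (h a ha).2.2 ▸ mul_conj_coeff hF (h a ha).1.1 (h a ha).1.2.1
      (h a ha).1.2.2
    let J : (Fin k → F) →+ (Fin k → F) := AddMonoidHom.mk' (fun c i => x * conj hF (c i.rev))
      fun _ _ => funext fun i => by simp [mul_add]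
    have h1 := card_eq_card_fix_sq (conj_ne_id hF) (conj_conj hF) J
      (fun v => funext fun i => by simp [J, conj_conj, ← mul_assoc, hx])
      fun a v => funext fun i => by simp [J, mul_left_comm]
    rw [Nat.card_fun, Nat.card_fin, Nat.card_eq_fintype_card, hF, ← pow_mul, mul_comm, pow_mul,
      Nat.pow_left_inj two_ne_zero] at h1
    rw [h1, ← Nat.card_eq_finsetCard]
    refine Nat.card_le_card_of_injective (fun a => ⟨fun i => a.1.coeff (i + 1), funext fun i => ?_⟩)
      fun a b H => Subtype.ext ((ext_iff_natDegree_le (h _ a.2).2.1.le (h _ b.2).2.1.le).2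
        fun i hi => ?_)
    · obtain ⟨⟨-, h2, h3⟩, h4, h5⟩ := h _ a.2
      have := (dual_eq_iff_coeff h2).1 h3 ⟨i + 1, by omega⟩
      rw [show ((Fin.rev ⟨i + 1, _⟩ : Fin _) : ℕ) = i.rev + 1 by simp [Fin.val_rev]; omega, h5] at this
      change x * conj hF (coeff _ (i.rev + 1)) = _
      rw [this, ← mul_assoc, hx, one_mul]
    · rcases i with _ | i
      · rw [(h _ a.2).2.2, (h _ b.2).2.2]
      · rcases hi.eq_or_lt with hi | hi
        · rw [hi, ← (h _ a.2).2.1, (h _ a.2).1.1.coeff_natDegree, (h _ a.2).2.1, ← (h _ b.2).2.1,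
            (h _ b.2).1.1.coeff_natDegree]
        · exact congrFun (congrArg Subtype.val H) ⟨i, by omega⟩

theorem herm_commute_det_exp {f : Form (hermKind hF) V} (hf : f.Nondeg) {g : f.Isom} {p : F[X]}
    (h1 : p.Monic) (h2 : Irreducible p) {i : ℕ} (hd : p ^ (i + 1) ∈ edivs (g.1 : End F V)) {a : F}
    (ha : a ^ (q + 1) = 1) : ∃ c : f.Isom, c * g = g * c ∧ (f.detHom c : F) = a ^ (i + 1) := by
  classical
  obtain ⟨b, hb, rfl⟩ := exists_div_conj_eq hF ha
  have h3 := isPrim_of_mem_edivs hd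
  have h4 : dual (conj hF) (p ^ (i + 1)) ∈ edivs (g.1 : End F V) :=
    hf.edivs_dual g ▸ Multiset.mem_map_of_mem _ hd
  obtain ⟨m, hm, hm0, hm1, hm2⟩ : ∃ m ≤ edivs (g.1 : End F V), p ^ (i + 1) ∈ m ∧
      m.map (dual (conj hF)) = m ∧ ∀ {n : ℕ} {A : End F (Fin n → F)}, edivs A = m →
        Sim A (cyc m.prod) := by
    by_cases h : dual (conj hF) (p ^ (i + 1)) = p ^ (i + 1)
    · exact ⟨{p ^ (i + 1)}, Multiset.singleton_le.2 hd, by simp, by simpa using h,
        fun H => sim_cyc_of_edivs (by simpa using H)⟩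
    have h5 := isPrim_of_mem_edivs h4
    have := finite_adjoinRoot h3.ne_zero
    have := finite_adjoinRoot h5.ne_zero
    refine ⟨{p ^ (i + 1), dual (conj hF) (p ^ (i + 1))}, (Multiset.le_iff_subset
      (by simpa using Ne.symm h)).2 (by simpa [Multiset.subset_iff, hd] using h4), by simp, by
        rw [Multiset.insert_eq_cons, Multiset.map_cons, Multiset.map_singleton,
          dual_dual (conj_conj hF) h3.monic]
        exact Multiset.pair_comm _ _, fun H => ?_⟩
    rw [Multiset.prod_pair]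
    refine Sim.trans (sim_iff_edivs.2 ?_) (sim_cyc_mul h3.ne_zero h5.ne_zero ?_).symm
    · rw [H, edivs_prodMap, edivs_eq_of_sim_cyc h3 (Sim.refl _), edivs_eq_of_sim_cyc h5 (Sim.refl _)]
      rfl
    · rw [map_pow] at h ⊢
      exact (isCoprime_of_ne h1 h2 (dual_monic _ h1.ne_zero) (irreducible_dual (conj_conj hF) h2)
        fun H => h (by rw [← H])).pow
  obtain ⟨m', hm'⟩ := Multiset.le_iff_exists_add.1 hm
  obtain ⟨n, n', p, p', u, u', hp, -, h5, -, h6⟩ := hf.split (tame_herm (conj_ne_id hF) _) hm' hm1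
  obtain ⟨c, hc, hc'⟩ := exists_commute_det_exp h1 h2 (h5 ▸ hm0) hb
  obtain ⟨c', k1, k2⟩ := hp.exists_commute_det_cyc (hm2 h5) c hc
  obtain ⟨c'', k3, k4⟩ := h6.exists_commute_left k1
  refine ⟨c'', k3, ?_⟩
  rw [k4, mul_pow, inv_pow, eq_mul_inv_iff_mul_eq₀ (by positivity), ← hc', ← k2, hc', map_pow]
  rfl

theorem herm_card_classes_le {f : Form (hermKind hF) V} (hf : f.Nondeg) (hn : 2 ≤ finrank F V) :
    100 * Nat.card (ConjClasses f.SIsom) ≤ 826 * q ^ (finrank F V - 1) := by
  have : Finite V := Module.finite_of_finite F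
  have h4 : Nat.card f.detHom.range = q + 1 := by
    rw [← Subgroup.index_ker, ← herm_index_SIsom hF hf (by omega)]; rfl
  rw [card_classes_eq_subtype, mul_comm, ← Nat.le_div_iff_mul_le (by norm_num)]
  refine card_classes_le f.detHom.rangeRestrict (MonoidHom.rangeRestrict_surjective _)
    (MulEquiv.subgroupCongr (MonoidHom.ker_rangeRestrict _).symm) _
    (fun g => lay (edivs (g.1.1 : End F V))) (fun g g' _ _ h => hf.isConj_of_sim
      (tame_herm (conj_ne_id hF) _) (isConj_iff_edivs.2 (eq_of_lay (fun _ => isPrim_of_mem_edivs)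
        (fun _ => isPrim_of_mem_edivs) h))) _ (fun g _ => ?_) fun s wt h =>
    (Nat.le_div_iff_mul_le (by norm_num)).2 (mul_comm 100 _ ▸ (lay_gu hF).sum_wt_su rfl
      (two_le_of_card_sq hF) hn (x := (-1) ^ finrank F V) h)
  have h2 : (edivs (g.1.1 : End F V)).prod.coeff 0 = (-1) ^ finrank F V := by
    rw [← charpoly_eq_prod, coeff_zero_charpoly, ← coe_detHom, show f.detHom g.1 = 1 from g.2]; simp
  rw [← h2]
  refine wd_lay (fun _ => isPrim_of_mem_edivs) one_ne_zero (by simp [sum_natDegree_edivs])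
    (fun _ => expand_one _) (fun i => ⟨lay_monic (fun _ => isPrim_of_mem_edivs) i,
      lay_coeff_ne (fun _ => isPrim_of_mem_edivs) (fun _ => not_X_dvd_of_mem_edivs _) i, by
        rw [lay, map_multiset_prod, dual_lay (conj_conj hF) (fun _ => isPrim_of_mem_edivs)
          (hf.edivs_dual _)]⟩) (h4 ▸ Nat.le_of_dvd Nat.card_pos (Subgroup.index_dvd_card _))
    fun p i h3 h4 h5 => index_le_of_pow i.succ_ne_zero fun a => ?_
  obtain ⟨c, h6, h7⟩ := herm_commute_det_exp hF hf h3 h4 h5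
    ((herm_mem_range_detHom hF hf (by omega) a.1).1 a.2)
  exact ⟨c, Subgroup.mem_centralizer_singleton_iff.2 h6, Subtype.ext (Units.ext (by simpa using h7))⟩

end Herm

end CA.Rcf
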