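import Cfsg.Agent.Lib.Lin.Ch2Gen

/-! The character table of `GL₂(q)`. -/

set_option autoImplicit false

namespace CA.GL2Char

open Matrix Cfsg CA.SL2Basic CA.Mat2 CA.SL2Torus CA.SL2Embed CA.SL2Unip CA.SL2Reps CA.SL2Class
open CChar.CharFun CChar.CharOrth CChar.CharGen CChar.CharKer CA.Ch2Gen
open scoped MatrixGroups ComplexConjugate

variable {F : Type*} [Field F]

/-- upper triangular matrices -/
def tri (a : Fˣ) (b : F) (d : Fˣ) : GL (Fin 2) F :=
  GeneralLinearGroup.mkOfDetNeZero !![(a : F), b; 0, d] (by simp)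

theorem tri_coe (a : Fˣ) (b : F) (d : Fˣ) : (tri a b d).1 = !![(a : F), b; 0, d] := rfl

@[simp] theorem tri_00 (a : Fˣ) (b : F) (d : Fˣ) : (tri a b d).1 0 0 = a := rfl
@[simp] theorem tri_01 (a : Fˣ) (b : F) (d : Fˣ) : (tri a b d).1 0 1 = b := rfl
@[simp] theorem tri_10 (a : Fˣ) (b : F) (d : Fˣ) : (tri a b d).1 1 0 = 0 := rfl
@[simp] theorem tri_11 (a : Fˣ) (b : F) (d : Fˣ) : (tri a b d).1 1 1 = d := rfl

theorem tri_det (a : Fˣ) (b : F) (d : Fˣ) : (tri a b d).1.det = a * d := by simp [tri_coe]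

theorem tri_trace (a : Fˣ) (b : F) (d : Fˣ) : (tri a b d).1.trace = a + d := by simp [tri_coe]

theorem tri_mem (a : Fˣ) (b : F) (d : Fˣ) : tri a b d ∈ upperTriangularGL 2 F := mem_BG.2 rfl

theorem tri_one : tri (1 : Fˣ) 0 1 = 1 := Units.ext (by simp [tri_coe, one_fin_two])

theorem tri_scalar (a : Fˣ) : tri a 0 a = GeneralLinearGroup.scalar (Fin 2) a :=
  Units.ext (by
    rw [tri_coe]
    apply ext4 <;> simp [scalar_apply])

theorem exists_tri {g : GL (Fin 2) F} (h : g.1 1 0 = 0) : ∃ a b d, g = tri a b d :=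
  ⟨Units.mk0 _ (BG_ne_zero h).1, g.1 0 1, Units.mk0 _ (BG_ne_zero h).2, Units.ext (by
    apply ext4 <;> simp [h])⟩

theorem isConj_tri_split {a d : Fˣ} (h : a ≠ d) (b : F) : IsConj (tri a b d) (tri a 0 d) := by
  have : (a : F) ≠ d := fun e => h (Units.ext e)
  exact isConj_GL (Or.inr (Or.inr this)) (Or.inr (Or.inr this)) (by simp [tri_trace])
    (by simp [tri_det])

theorem isConj_tri_unip (a : Fˣ) {b : F} (h : b ≠ 0) : IsConj (tri a b a) (tri a 1 a) :=
  isConj_GL (Or.inl h) (Or.inl one_ne_zero) (by simp [tri_trace]) (by simp [tri_det])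

/-- linear characters of the Borel subgroup -/
noncomputable def bHom (α β : MulChar F ℂ) : upperTriangularGL 2 F →* ℂ where
  toFun b := α ((b : GL (Fin 2) F).1 0 0) * β ((b : GL (Fin 2) F).1 1 1)
  map_one' := by simp
  map_mul' x y := by
    have hx := mem_BG.1 x.2
    have hy := mem_BG.1 y.2
    simp only [Subgroup.coe_mul, Units.val_mul, mul_apply2, hx, hy, mul_zero, add_zero, zero_mul,
      zero_add, map_mul]
    ring

theorem bHom_apply (α β : MulChar F ℂ) (b : upperTriangularGL 2 F) :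
    bHom α β b = α ((b : GL (Fin 2) F).1 0 0) * β ((b : GL (Fin 2) F).1 1 1) := rfl

/-- the linear character `α ∘ det` -/
noncomputable def lin1 (α : MulChar F ℂ) : GL (Fin 2) F → ℂ := fun g => α g.1.det

theorem irr_lin1 (α : MulChar F ℂ) : IsIrrCharacter (GL (Fin 2) F) (lin1 α) := by
  have := irr_of_unitsHom (α.toUnitHom.comp (GeneralLinearGroup.det (n := Fin 2)))
  convert this using 2 with g
  simp [lin1]

theorem lin1_tri (α : MulChar F ℂ) (a : Fˣ) (b : F) (d : Fˣ) : lin1 α (tri a b d) = α a * α d := by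
  rw [lin1, tri_det, map_mul]

theorem lin1_one (α : MulChar F ℂ) : lin1 α 1 = 1 := by simp [lin1]

theorem lin1_inj {α β : MulChar F ℂ} (h : lin1 α = lin1 β) : α = β := by
  ext a
  have := congrFun h (tri a 0 1)
  simpa [lin1_tri] using this

variable [Fintype F] [DecidableEq F]

local notation "q" => (Fintype.card F : ℂ)

/-- principal series -/
noncomputable def ps (α β : MulChar F ℂ) : GL (Fin 2) F → ℂ :=
  indFun (upperTriangularGL 2 F) (fun b => α (((b : GL (Fin 2) F) : Matrix (Fin 2) (Fin 2) F) 0 0) *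
    β (((b : GL (Fin 2) F) : Matrix (Fin 2) (Fin 2) F) 1 1))

theorem char_ps (α β : MulChar F ℂ) : IsCharacter (GL (Fin 2) F) (ps α β) :=
  CA.MatRep.isCharacter_indFun _ (char_of_irr (irr_of_monoidHom (bHom α β)))

theorem classFun_ps (α β : MulChar F ℂ) : IsClassFunction (GL (Fin 2) F) (ps α β) :=
  char_classFun (char_ps α β)

omit [Fintype F] [DecidableEq F] in
theorem rep_bij : Function.Bijective
    (fun i => ((Matrix.SpecialLinearGroup.toGL (rep (F := F) i) : GL (Fin 2) F) :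
      GL (Fin 2) F ⧸ upperTriangularGL 2 F)) := by
  constructor
  · intro i j h
    have := mem_BG.1 (QuotientGroup.eq.1 h)
    rw [← map_inv, ← map_mul] at this
    exact rep_inj this
  · intro x
    obtain ⟨g, rfl⟩ := QuotientGroup.mk_surjective x
    obtain ⟨i, hi⟩ := rep_surj g.1
    refine ⟨i, QuotientGroup.eq.2 (mem_BG.2 ?_)⟩
    rw [← map_inv]
    exact hi

theorem ps_apply (α β : MulChar F ℂ) (g : GL (Fin 2) F) : ps α β g = psF α β g.1 := by
  classical
  refine (indFun_reps _ _ rep_bij (irr_classFun (irr_of_monoidHom (bHom α β))) g).trans ?_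
  rw [Fintype.sum_option, psF]
  congr 1
  · simp only [rep, map_one, inv_one, one_mul, mul_one, CA.Ind.ext_eq_dite, mem_BG]
    split_ifs <;> rfl
  · refine Finset.sum_congr rfl fun c _ => ?_
    have e : ((Matrix.SpecialLinearGroup.toGL (rep (some c)))⁻¹ * g *
        Matrix.SpecialLinearGroup.toGL (rep (some c))).1 = _ :=
      (congrArg (fun x : GL (Fin 2) F => (x * g * Matrix.SpecialLinearGroup.toGL (rep (some c))).1)
        (map_inv Matrix.SpecialLinearGroup.toGL _).symm).trans (rep_conj c g.1)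
    rw [CA.Ind.ext_eq_dite]
    simp only [mem_BG, bHom_apply, e]
    simp only [of_apply, cons_val', cons_val_zero, cons_val_one, cons_val_fin_one, neg_eq_zero]
    split_ifs <;> rfl

theorem ps_split (α β : MulChar F ℂ) {a d : Fˣ} (h : a ≠ d) (b : F) :
    ps α β (tri a b d) = α a * β d + α d * β a := by
  rw [ps_apply, psF_split α β rfl (fun e => h (Units.ext e))]; rfl

theorem ps_scalar (α β : MulChar F ℂ) (a : Fˣ) : ps α β (tri a 0 a) = (q + 1) * (α a * β a) := by
  rw [ps_apply, psF_scalar α β rfl rfl rfl]; rfl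

theorem ps_unip (α β : MulChar F ℂ) (a : Fˣ) {b : F} (h : b ≠ 0) :
    ps α β (tri a b a) = α a * β a := by
  rw [ps_apply, psF_unip α β rfl rfl h]; rfl

theorem ps_aniso (α β : MulChar F ℂ) {g : GL (Fin 2) F} (h : Aniso g.1) : ps α β g = 0 := by
  rw [ps_apply, psF_aniso α β h]

theorem ps_one (α β : MulChar F ℂ) : ps α β 1 = q + 1 := by
  rw [← tri_one, ps_scalar]; simp

theorem sum_B [Fintype (upperTriangularGL 2 F)] (f : upperTriangularGL 2 F → ℂ) :
    ∑ x, f x = ∑ a : Fˣ, ∑ d : Fˣ, ∑ b : F, f ⟨tri a b d, tri_mem a b d⟩ := by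
  rw [← Fintype.sum_prod_type', ← Fintype.sum_prod_type']
  symm
  refine Fintype.sum_bijective (fun z : (Fˣ × Fˣ) × F => ⟨tri z.1.1 z.2 z.1.2, tri_mem _ _ _⟩) ?_ _ _
    (fun _ => rfl)
  constructor
  · rintro ⟨⟨a, d⟩, b⟩ ⟨⟨a', d'⟩, b'⟩ h
    have h1 := congrArg (fun x : upperTriangularGL 2 F => (x : GL (Fin 2) F).1) h
    simp only [tri_coe, eq_iff4, Units.val_inj] at h1
    simp [h1.1, h1.2.1, h1.2.2.2]
  · rintro ⟨g, hg⟩
    obtain ⟨a, b, d, rfl⟩ := exists_tri (mem_BG.1 hg)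
    exact ⟨((a, d), b), rfl⟩

/-- the (unnormalised) Jacquet functor on class functions -/
noncomputable def J (χ : GL (Fin 2) F → ℂ) (a d : Fˣ) : ℂ := ∑ b : F, χ (tri a b d)

omit [DecidableEq F] in
theorem J_split {χ : GL (Fin 2) F → ℂ} (hχ : IsClassFunction _ χ) {a d : Fˣ} (h : a ≠ d) :
    J χ a d = q * χ (tri a 0 d) := by
  rw [J, Finset.sum_congr rfl fun b _ => classFun_of_isConj hχ (isConj_tri_split h b)]
  simp

theorem J_diag {χ : GL (Fin 2) F → ℂ} (hχ : IsClassFunction _ χ) (a : Fˣ) :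
    J χ a a = χ (tri a 0 a) + (q - 1) * χ (tri a 1 a) := by
  rw [J, sum_split_zero,
    Finset.sum_congr rfl fun b _ => classFun_of_isConj hχ (isConj_tri_unip a b.ne_zero),
    sum_units_const]

theorem inner_ps (α β : MulChar F ℂ) {χ : GL (Fin 2) F → ℂ} (hχ : IsClassFunction _ χ) :
    classInner (ps α β) χ =
      (q * (q - 1) ^ 2)⁻¹ * ∑ a : Fˣ, ∑ d : Fˣ, α a * β d * conj (J χ a d) := by
  have := Fintype.ofFinite (upperTriangularGL 2 F)
  rw [ps, CA.Ind.inner_ind_left _ _ hχ, inner_def, sum_B, card_BG, Nat.card_eq_fintype_card]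
  congr 1
  · push_cast [Nat.cast_pred (Fintype.card_pos (α := F))]; rfl
  · refine Finset.sum_congr rfl fun a _ => Finset.sum_congr rfl fun d _ => ?_
    rw [J, map_sum, Finset.mul_sum]
    rfl

theorem J_ps (α β : MulChar F ℂ) (a d : Fˣ) : J (ps α β) a d = q * (α a * β d + α d * β a) := by
  by_cases h : a = d
  · subst h
    rw [J_diag (classFun_ps α β), ps_scalar, ps_unip _ _ _ one_ne_zero]; ring
  · rw [J_split (classFun_ps α β) h, ps_split _ _ h]

omit [DecidableEq F] in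
theorem J_lin1 (α : MulChar F ℂ) (a d : Fˣ) : J (lin1 α) a d = q * (α a * α d) := by
  simp [J, lin1_tri]

open Classical in
theorem sum_sum_conj (α β α' β' : MulChar F ℂ) :
    ∑ a : Fˣ, ∑ d : Fˣ, α a * β d * conj (α' a * β' d) =
      if α = α' ∧ β = β' then (q - 1) ^ 2 else 0 := by
  have : ∀ a d : Fˣ, α a * β d * conj (α' a * β' d) = (α a * conj (α' a)) * (β d * conj (β' d)) := by
    intro a d; rw [map_mul]; ring
  simp only [this, ← Finset.sum_mul_sum, sum_mulChar_conj]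
  by_cases h1 : α = α' <;> by_cases h2 : β = β' <;> simp [h1, h2, sq]

open Classical in
theorem inner_ps_ps (α β α' β' : MulChar F ℂ) : classInner (ps α β) (ps α' β') =
    (if α = α' ∧ β = β' then 1 else 0) + (if α = β' ∧ β = α' then 1 else 0) := by
  rw [inner_ps α β (classFun_ps _ _)]
  have : ∀ a d : Fˣ, α a * β d * conj (J (ps α' β') a d) =
      q * (α a * β d * conj (α' a * β' d)) + q * (α a * β d * conj (β' a * α' d)) := by
    intro a d
    rw [J_ps]
    simp only [map_mul, map_add, map_natCast]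
    ring
  simp only [this, Finset.sum_add_distrib, ← Finset.mul_sum, sum_sum_conj]
  have h1 := q_ne (F := F)
  have h2 := q_sub_one_ne (F := F)
  split_ifs <;> field_simp <;> ring

open Classical in
theorem inner_ps_lin1 (α β γ : MulChar F ℂ) : classInner (ps α β) (lin1 γ) =
    if α = γ ∧ β = γ then 1 else 0 := by
  rw [inner_ps α β (irr_classFun (irr_lin1 _))]
  have : ∀ a d : Fˣ, α a * β d * conj (J (lin1 γ) a d) =
      q * (α a * β d * conj (γ a * γ d)) := by
    intro a d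
    rw [J_lin1]
    simp only [map_mul, map_natCast]
    ring
  simp only [this, ← Finset.mul_sum, sum_sum_conj]
  have h1 := q_ne (F := F)
  have h2 := q_sub_one_ne (F := F)
  split_ifs
  · field_simp
  · simp

theorem irr_ps {α β : MulChar F ℂ} (h : α ≠ β) : IsIrrCharacter (GL (Fin 2) F) (ps α β) :=
  irr_of_char_of_inner_self (char_ps α β) (by simp [inner_ps_ps, h])

theorem ps_eq_iff (α β α' β' : MulChar F ℂ) :
    ps α β = ps α' β' ↔ (α = α' ∧ β = β') ∨ (α = β' ∧ β = α') := by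
  constructor
  · intro h
    by_contra hn
    push Not at hn
    have h1 := inner_ps_ps α β α' β'
    rw [if_neg (fun e => hn.1 e.1 e.2), if_neg (fun e => hn.2 e.1 e.2), ← h, inner_ps_ps,
      if_pos ⟨rfl, rfl⟩] at h1
    split_ifs at h1 <;> norm_num at h1
  · rintro (⟨rfl, rfl⟩ | ⟨rfl, rfl⟩)
    · rfl
    · have h : ∀ α β α' β' : MulChar F ℂ,
          classInner (ps α β) (ps α' β') = classInner (ps β α) (ps α' β') := by
        intro α β α' β'
        simp only [inner_ps_ps, and_comm, add_comm]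
      rw [← sub_eq_zero, ← ci_self_eq_zero, ci_sub_left, ci_sub_right, ci_sub_right,
        h α β, h α β]
      ring

/-- the Steinberg character twisted by `α ∘ det` -/
noncomputable def St (α : MulChar F ℂ) : GL (Fin 2) F → ℂ := ps α α - lin1 α

theorem St_one (α : MulChar F ℂ) : St α 1 = q := by simp [St, ps_one, lin1_one]

theorem irr_St (α : MulChar F ℂ) : IsIrrCharacter (GL (Fin 2) F) (St α) := by
  refine irr_of_gen_norm_one (gen_sub (gen_of_char (char_ps _ _)) (gen_of_irr (irr_lin1 _))) ?_ ?_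
  · rw [St, ci_sub_left, ci_sub_right, ci_sub_right, inner_ps_ps,
      ← inner_char_comm (char_ps _ _) (char_of_irr (irr_lin1 _)), inner_ps_lin1,
      inner_irr_self (irr_lin1 _)]
    simp
  · rw [St_one]; simp

theorem St_split (α : MulChar F ℂ) {a d : Fˣ} (h : a ≠ d) (b : F) :
    St α (tri a b d) = α a * α d := by
  simp only [St, Pi.sub_apply, ps_split _ _ h, lin1_tri]; ring

theorem St_scalar (α : MulChar F ℂ) (a : Fˣ) : St α (tri a 0 a) = q * (α a * α a) := by
  simp only [St, Pi.sub_apply, ps_scalar, lin1_tri]; ring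

theorem St_unip (α : MulChar F ℂ) (a : Fˣ) {b : F} (h : b ≠ 0) : St α (tri a b a) = 0 := by
  simp only [St, Pi.sub_apply, ps_unip _ _ _ h, lin1_tri]; ring

theorem St_aniso (α : MulChar F ℂ) {g : GL (Fin 2) F} (h : Aniso g.1) :
    St α g = -α g.1.det := by
  simp only [St, Pi.sub_apply, ps_aniso _ _ h, lin1]; ring

theorem St_inj {α β : MulChar F ℂ} (h : St α = St β) : α = β := by
  ext a
  by_cases h1 : a = 1
  · simp [h1]
  · have := congrFun h (tri a 0 1)
    simpa [St_split _ h1] using this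

/-! ### cuspidal characters -/

omit [Fintype F] [DecidableEq F] in
theorem tri_mem_center (a : Fˣ) : tri a 0 a ∈ Subgroup.center (GL (Fin 2) F) := by
  rw [mem_center_GL, tri_scalar]; exact not_NS_scalar a

/-- scalars in the centraliser of `g` -/
def sc (g : GL (Fin 2) F) : Fˣ →* C g where
  toFun a := ⟨tri a 0 a, mem_C_iff.2 (Subgroup.mem_center_iff.1 (tri_mem_center a) g).symm⟩
  map_one' := Subtype.ext tri_one
  map_mul' a b := Subtype.ext (by simp only [tri_scalar, map_mul]; rfl)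

omit [Fintype F] [DecidableEq F] in
theorem sc_coe (g : GL (Fin 2) F) (a : Fˣ) : (sc g a : GL (Fin 2) F) = tri a 0 a := rfl

/-- the restriction to the scalars -/
noncomputable def res {g : GL (Fin 2) F} (θ : C g →* ℂˣ) : MulChar F ℂ :=
  MulChar.ofUnitHom (θ.comp (sc g))

omit [Fintype F] [DecidableEq F] in
theorem res_apply {g : GL (Fin 2) F} (θ : C g →* ℂˣ) (a : Fˣ) : res θ a = θ (sc g a) := by
  simp [res]

/-- the Galois conjugate character -/
noncomputable def bar {g : GL (Fin 2) F} (θ : C g →* ℂˣ) : C g →* ℂˣ :=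
  θ.comp ((sc g).comp (GeneralLinearGroup.det.comp (C g).subtype)) * θ⁻¹

omit [Fintype F] [DecidableEq F] in
theorem bar_apply {g : GL (Fin 2) F} (θ : C g →* ℂˣ) (t : C g) :
    bar θ t = θ (sc g (GeneralLinearGroup.det t.1) * t⁻¹) := by
  simp [bar]

omit [Fintype F] [DecidableEq F] in
theorem bar_sc {g : GL (Fin 2) F} (θ : C g →* ℂˣ) (a : Fˣ) : bar θ (sc g a) = θ (sc g a) := by
  have : GeneralLinearGroup.det (sc g a).1 = a * a := Units.ext (tri_det a 0 a)
  rw [bar_apply, this, map_mul (sc g), mul_inv_cancel_right]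

omit [Fintype F] [DecidableEq F] in
theorem bar_coe (t : GL (Fin 2) F) :
    (tri (GeneralLinearGroup.det t) 0 (GeneralLinearGroup.det t) * t⁻¹).1 = lin t.1 t.1.trace (-1) := by
  have h := mul_lin_trace t.1
  have : lin t.1 t.1.trace (-1) = (t⁻¹).1 * (t.1.det • 1) := by
    rw [← h, ← mul_assoc, ← Units.val_mul, inv_mul_cancel, Units.val_one, one_mul]
  rw [this, ← Subgroup.mem_center_iff.1 (tri_mem_center _), tri_scalar]
  simp [scalar_apply, smul_eq_diagonal_mul]

variable {g0 : GL (Fin 2) F}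

omit [Fintype F] [DecidableEq F] in
theorem T_comm (hg0 : Aniso g0.1) (a b : C g0) : a * b = b * a := by
  obtain ⟨x, y, h⟩ := (mem_centralizer_GL hg0.ns _).1 a.2
  obtain ⟨x', y', h'⟩ := (mem_centralizer_GL hg0.ns _).1 b.2
  refine Subtype.ext (Units.ext ?_)
  simp only [Subgroup.coe_mul, Units.val_mul, h, h', lin_comm g0.1 x y x' y']

omit [Fintype F] [DecidableEq F] in
theorem T_aniso (hg0 : Aniso g0.1) {t : GL (Fin 2) F} (ht : t ∈ C g0) (hn : NS t.1) :
    Aniso t.1 := by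
  obtain ⟨x, y, h⟩ := (mem_centralizer_GL hg0.ns _).1 ht
  rw [h] at hn ⊢
  exact hg0.lin x (hg0.ns.lin_iff.1 hn)

omit [DecidableEq F] in
theorem card_T (hg0 : Aniso g0.1) : (Nat.card (C g0) : ℂ) = q ^ 2 - 1 := by
  rw [hg0.card_centralizer_GL, Nat.card_eq_fintype_card, Nat.cast_sub (Nat.one_le_pow _ _
    Fintype.card_pos)]
  push_cast; rfl

omit [DecidableEq F] in
theorem card_GL2 : (Nat.card (GL (Fin 2) F) : ℂ) = q * (q - 1) ^ 2 * (q + 1) := by
  rw [← (upperTriangularGL 2 F).card_mul_index, card_BG, index_BG, Nat.card_eq_fintype_card]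
  push_cast [Nat.cast_pred (Fintype.card_pos (α := F))]; rfl

omit [DecidableEq F] in
theorem index_T (hg0 : Aniso g0.1) : ((C g0).index : ℂ) = q * (q - 1) := by
  have h := congrArg (Nat.cast : ℕ → ℂ) (C g0).card_mul_index
  rw [Nat.cast_mul, card_T hg0, card_GL2] at h
  have h1 := q_add_one_ne (F := F)
  have h2 := q_sub_one_ne (F := F)
  have : (q - 1) * (q + 1) ≠ 0 := mul_ne_zero h2 h1
  apply mul_left_cancel₀ this
  linear_combination h

theorem ind_T (hg0 : Aniso g0.1) (θ : C g0 →* ℂˣ) (t : C g0) (hn : NS t.1.1) :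
    indFun (C g0) (fun x => (θ x : ℂ)) t = θ t + bar θ t := by
  have ha := T_aniso hg0 t.2 hn
  have e : (sc g0 (GeneralLinearGroup.det t.1) * t⁻¹).1.1 = lin t.1.1 t.1.1.trace (-1) := bar_coe t.1
  rw [bar_apply]
  refine indFun_two _ _ t _ ?_ (IsConj.refl _) ?_ ?_ ?_
  · intro h
    rw [← h] at e
    have := (hn.lin_inj ((lin_zero_one _).trans e))
    apply ha.disc_ne
    have h2 : (2 : F) = 0 := by linear_combination this.2
    rw [disc, ← this.1]
    linear_combination (-2 * t.1.1.det) * h2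
  · refine isConj_GL hn ?_ ?_ ?_
    · rw [e]; exact hn.lin_iff.2 (by simp)
    · rw [e, trace_lin]; ring
    · rw [e, det_lin]; ring
  · intro x hx hc
    obtain ⟨P, hP⟩ := conj_eq_GL hc
    have hcm := congrArg (fun z : C g0 => z.1.1) (T_comm hg0 ⟨x, hx⟩ t)
    rcases eq_or_eq_of_comm ha.disc_ne hcm (trace_of_conj P hP) (det_of_conj P hP) with h | h
    · exact Or.inl (Units.ext h)
    · exact Or.inr (Units.ext (h.trans e.symm))
  · exact ha.card_centralizer_GL.trans hg0.card_centralizer_GL.symm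

theorem ind_T_zero (hg0 : Aniso g0.1) (θ : C g0 → ℂ) {g : GL (Fin 2) F} (hn : NS g.1)
    (ha : ¬ Aniso g.1) : indFun (C g0) θ g = 0 := by
  refine CA.Ind.indFun_eq_zero_of_not_conj θ fun x hx => ha ?_
  have hc : IsConj g (x * g * x⁻¹) := isConj_iff.2 ⟨x, rfl⟩
  obtain ⟨P, hP⟩ := conj_eq_GL hc
  exact (T_aniso hg0 hx (NS_of_isConj_GL hc hn)).of_eq (trace_of_conj P hP).symm
    (det_of_conj P hP).symm

omit [Fintype F] [DecidableEq F] in
theorem not_aniso_tri (a : Fˣ) (b : F) (d : Fˣ) : ¬ Aniso (tri a b d).1 := fun h =>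
  h a (by rw [tri_trace, tri_det]; ring)

/-- the cuspidal (generalised) character attached to `θ` -/
noncomputable def cu (θ : C g0 →* ℂˣ) : GL (Fin 2) F → ℂ :=
  ps (res θ) 1 * (ps 1 1 - (2 : ℕ) • 1) - indFun (C g0) (fun x => (θ x : ℂ))

theorem gen_cu (θ : C g0 →* ℂˣ) : IsGeneralizedCharacter (GL (Fin 2) F) (cu θ) :=
  gen_sub (gen_mul (gen_of_char (char_ps _ _))
    (gen_sub (gen_of_char (char_ps _ _)) (gen_nsmul 2 gen_one')))
    (gen_of_char (CA.MatRep.isCharacter_indFun _ (char_of_unitsHom θ)))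

theorem cu_scalar (hg0 : Aniso g0.1) (θ : C g0 →* ℂˣ) (a : Fˣ) :
    cu θ (tri a 0 a) = (q - 1) * res θ a := by
  have := indFun_central (fun x => (θ x : ℂ)) (sc g0 a) (tri_mem_center a)
  rw [sc_coe, index_T hg0, ← res_apply] at this
  simp only [cu, Pi.sub_apply, Pi.mul_apply, this, ps_scalar, Pi.smul_apply, Pi.one_apply,
    MulChar.one_apply_coe]
  simp only [nsmul_eq_mul]
  push_cast
  ring

theorem cu_one (hg0 : Aniso g0.1) (θ : C g0 →* ℂˣ) : cu θ 1 = q - 1 := by
  rw [← tri_one, cu_scalar hg0]; simp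

theorem cu_unip (hg0 : Aniso g0.1) (θ : C g0 →* ℂˣ) (a : Fˣ) {b : F} (h : b ≠ 0) :
    cu θ (tri a b a) = -res θ a := by
  simp only [cu, Pi.sub_apply, Pi.mul_apply, ps_unip _ _ _ h, Pi.smul_apply, Pi.one_apply,
    MulChar.one_apply_coe, ind_T_zero hg0 _ (Or.inl h) (not_aniso_tri a b a)]
  simp only [nsmul_eq_mul]
  push_cast
  ring

theorem cu_split (hg0 : Aniso g0.1) (θ : C g0 →* ℂˣ) {a d : Fˣ} (h : a ≠ d) (b : F) :
    cu θ (tri a b d) = 0 := by
  simp only [cu, Pi.sub_apply, Pi.mul_apply, ps_split _ _ h, Pi.smul_apply, Pi.one_apply,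
    MulChar.one_apply_coe,
    ind_T_zero hg0 _ (Or.inr (Or.inr fun e => h (Units.ext e))) (not_aniso_tri a b d)]
  simp only [nsmul_eq_mul]
  push_cast
  ring

theorem cu_T (hg0 : Aniso g0.1) (θ : C g0 →* ℂˣ) (t : C g0) (hn : NS t.1.1) :
    cu θ t = -(θ t + bar θ t) := by
  simp only [cu, Pi.sub_apply, Pi.mul_apply, ps_aniso _ _ (T_aniso hg0 t.2 hn), ind_T hg0 θ t hn]
  ring

theorem J_cu (hg0 : Aniso g0.1) (θ : C g0 →* ℂˣ) (a d : Fˣ) : J (cu θ) a d = 0 := by
  by_cases h : a = d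
  · subst h
    rw [J_diag (gen_classFun (gen_cu θ)), cu_scalar hg0, cu_unip hg0 _ _ one_ne_zero]; ring
  · rw [J_split (gen_classFun (gen_cu θ)) h, cu_split hg0 _ h, mul_zero]

theorem inner_cu [Fintype (C g0)] (hg0 : Aniso g0.1) (θ : C g0 →* ℂˣ) {χ : GL (Fin 2) F → ℂ}
    (hχ : IsClassFunction _ χ) : classInner (cu θ) χ =
      (q * (q - 1))⁻¹ * ∑ a : Fˣ, res θ a * conj (χ (tri a 0 a) - χ (tri a 1 a)) -
        (q ^ 2 - 1)⁻¹ * ∑ t : C g0, θ t * conj (χ t) := by
  have hc : IsClassFunction (GL (Fin 2) F) (fun g => conj ((ps 1 1 - (2 : ℕ) • 1 : _ → ℂ) g) * χ g) :=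
    classFun_mul (classFun_conj (classFun_sub (classFun_ps _ _) (classFun_nsmul 2 classFun_one))) hχ
  rw [cu, ci_sub_left, CA.Ind.inner_ind_left _ _ hχ, inner_mul_left, inner_ps _ _ hc, inner_def,
    card_T hg0]
  congr 1
  have : ∀ a : Fˣ, ∑ d : Fˣ, res θ a * (1 : MulChar F ℂ) d *
      conj (J (fun g => conj ((ps 1 1 - (2 : ℕ) • 1 : _ → ℂ) g) * χ g) a d) =
      (q - 1) * (res θ a * conj (χ (tri a 0 a) - χ (tri a 1 a))) := by
    intro a
    rw [Finset.sum_eq_single a]
    · rw [J_diag hc]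
      simp only [Pi.sub_apply, ps_scalar, ps_unip _ _ _ one_ne_zero, MulChar.one_apply_coe,
        Pi.smul_apply, Pi.one_apply]
      simp only [nsmul_eq_mul, map_add, map_mul, map_sub, map_natCast, map_one]
      push_cast
      ring
    · intro d _ hd
      rw [J_split hc hd.symm]
      simp only [Pi.sub_apply, ps_split _ _ hd.symm, MulChar.one_apply_coe,
        Pi.smul_apply, Pi.one_apply]
      norm_num
    · simp
  simp only [this, ← Finset.mul_sum]
  have h1 := q_ne (F := F)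
  have h2 := q_sub_one_ne (F := F)
  field_simp

open Classical in
theorem sum_T_scalar [Fintype (C g0)] (f : C g0 → ℂ) :
    ∑ t, (if NS t.1.1 then 0 else f t) = ∑ a : Fˣ, f (sc g0 a) := by
  symm
  refine Finset.sum_of_injOn (sc g0) ?_ (by simp) ?_ ?_
  · intro a _ b _ h
    exact Units.ext (congrArg (fun z : C g0 => z.1.1 0 0) h)
  · intro t _ ht
    rw [if_pos]
    by_contra hn
    obtain ⟨c, hc⟩ := exists_scalar hn
    exact ht ⟨c, by simp, Subtype.ext (by rw [hc, sc_coe, tri_scalar])⟩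
  · intro a _
    rw [if_neg]
    rw [sc_coe, tri_scalar]
    exact not_NS_scalar a

open Classical in
theorem inner_cu_cu (hg0 : Aniso g0.1) (θ θ' : C g0 →* ℂˣ) :
    classInner (cu θ) (cu θ') = (if θ = θ' then 1 else 0) + (if θ = bar θ' then 1 else 0) := by
  have := Fintype.ofFinite (C g0)
  rw [inner_cu hg0 θ (gen_classFun (gen_cu θ'))]
  have e1 : ∀ a : Fˣ, res θ a * conj (cu θ' (tri a 0 a) - cu θ' (tri a 1 a)) =
      q * (res θ a * conj (res θ' a)) := by
    intro a
    rw [cu_scalar hg0, cu_unip hg0 _ _ one_ne_zero]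
    simp only [map_sub, map_mul, map_neg, map_natCast, map_one]
    ring
  have e2 : ∀ t : C g0, θ t * conj (cu θ' t) = -(θ t * conj (θ' t : ℂ)) - θ t * conj (bar θ' t : ℂ) +
      (q + 1) * (if NS t.1.1 then 0 else θ t * conj (θ' t : ℂ)) := by
    intro t
    split_ifs with hn
    · rw [cu_T hg0 _ _ hn]
      simp only [map_neg, map_add]
      ring
    · obtain ⟨c, hc⟩ := exists_scalar hn
      obtain rfl : t = sc g0 c := Subtype.ext (by rw [hc, sc_coe, tri_scalar])
      rw [sc_coe, cu_scalar hg0, bar_sc, res_apply]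
      simp only [map_sub, map_mul, map_natCast, map_one]
      ring
  simp only [e1, e2, Finset.sum_add_distrib, Finset.sum_sub_distrib, Finset.sum_neg_distrib,
    ← Finset.mul_sum, sum_T_scalar, ← res_apply, sum_hom_conj, card_T hg0]
  have h1 := q_ne (F := F)
  have h2 := q_sub_one_ne (F := F)
  have h3 := q_add_one_ne (F := F)
  have h4 : q ^ 2 - 1 = (q - 1) * (q + 1) := by ring
  rw [h4]
  split_ifs <;> field_simp <;> ring

theorem irr_cu (hg0 : Aniso g0.1) {θ : C g0 →* ℂˣ} (h : θ ≠ bar θ) :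
    IsIrrCharacter (GL (Fin 2) F) (cu θ) := by
  refine irr_of_gen_norm_one (gen_cu θ) (by simp [inner_cu_cu hg0, h]) ?_
  rw [cu_one hg0]
  have := Fintype.one_lt_card (α := F)
  simp only [Complex.sub_re, Complex.natCast_re, Complex.one_re, sub_nonneg]
  exact_mod_cast this.le

omit [DecidableEq F] in
theorem exists_rep (hg0 : Aniso g0.1) (g : GL (Fin 2) F) :
    (∃ a, g = tri a 0 a) ∨ (∃ a, IsConj g (tri a 1 a)) ∨ (∃ a d, a ≠ d ∧ IsConj g (tri a 0 d)) ∨
      ∃ t : C g0, NS t.1.1 ∧ IsConj g t := by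
  by_cases hn : NS g.1
  swap
  · obtain ⟨c, hc⟩ := exists_scalar hn
    exact Or.inl ⟨c, by rw [hc, tri_scalar]⟩
  right
  have hd := g.det_ne_zero
  rcases trichotomy g.1 with h | ⟨a, b, hab, ht, hdet⟩ | ⟨a, ht, hdet⟩
  · obtain ⟨x, y, h1, h2⟩ := exists_lin_aniso hg0 h
    have ha : Aniso (lin g0.1 x y) := h.of_eq h1.symm h2.symm
    refine Or.inr (Or.inr ⟨⟨GeneralLinearGroup.mkOfDetNeZero (lin g0.1 x y) (h2 ▸ hd),
      (mem_centralizer_GL hg0.ns _).2 ⟨x, y, rfl⟩⟩, ha.ns, ?_⟩)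
    exact isConj_GL hn ha.ns h1.symm h2.symm
  · rw [hdet] at hd
    refine Or.inr (Or.inl ⟨Units.mk0 a (left_ne_zero_of_mul hd), Units.mk0 b (right_ne_zero_of_mul hd),
      fun e => hab (congrArg Units.val e), ?_⟩)
    exact isConj_GL hn (Or.inr (Or.inr hab)) (by rw [tri_trace, ht]; rfl) (by rw [tri_det, hdet]; rfl)
  · rw [hdet] at hd
    have ha : a ≠ 0 := fun e => hd (by simp [e])
    refine Or.inl ⟨Units.mk0 a ha, ?_⟩
    exact isConj_GL hn (Or.inl one_ne_zero) (by rw [tri_trace, ht]; simp [two_mul])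
      (by rw [tri_det, hdet]; simp [sq])

omit [Fintype F] [DecidableEq F] in
theorem exists_sq_eq (hg0 : Aniso g0.1) (hd : disc g0.1 ≠ 0) (s : C g0) (hs : s.1.1.det = 1) :
    ∃ t : C g0, t * t = sc g0 (GeneralLinearGroup.det t.1) * s := by
  obtain ⟨x, y, h⟩ := (mem_centralizer_GL hg0.ns _).1 s.2
  have key : ∀ x' y', (x' ≠ 0 ∨ y' ≠ 0) →
      lin g0.1 x' y' * lin g0.1 x' y' = lin g0.1 (lin g0.1 x' y').det 0 * lin g0.1 x y →
      ∃ t : C g0, t * t = sc g0 (GeneralLinearGroup.det t.1) * s := by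
    intro x' y' hne e
    refine ⟨⟨GeneralLinearGroup.mkOfDetNeZero (lin g0.1 x' y') (hg0.det_lin_ne hne),
      (mem_centralizer_GL hg0.ns _).2 ⟨x', y', rfl⟩⟩, Subtype.ext (Units.ext ?_)⟩
    simp only [Subgroup.coe_mul, Units.val_mul, sc_coe, h, tri_scalar]
    refine e.trans ?_
    rw [lin_zero_right]
    simp [scalar_apply, smul_eq_diagonal_mul]
  rw [h, det_lin] at hs
  by_cases h1 : 1 + x ≠ 0 ∨ y ≠ 0
  · refine key (1 + x) y h1 ?_
    rw [lin_mul, lin_mul, det_lin]
    congr 1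
    · linear_combination (-1 - x) * hs
    · linear_combination (-y) * hs
  · push Not at h1
    refine key (-g0.1.trace) 2 ?_ ?_
    · by_contra hc
      push Not at hc
      apply hd
      rw [disc]
      linear_combination (-g0.1.trace) * hc.1 - (2 * g0.1.det) * hc.2
    · have hx : x = -1 := by linear_combination h1.1
      rw [lin_mul, lin_mul, det_lin, hx, h1.2]
      congr 1 <;> ring

theorem cu_of_bar (hg0 : Aniso g0.1) {θ : C g0 →* ℂˣ} (h : θ = bar θ) :
    ∃ α, cu θ = St α - lin1 α := by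
  let d : C g0 →* Fˣ := GeneralLinearGroup.det.comp (C g0).subtype
  have hd : Function.Surjective d := by
    intro c
    obtain ⟨x, y, hxy⟩ := exists_det_lin hg0.disc_ne (c : F)
    exact ⟨⟨GeneralLinearGroup.mkOfDetNeZero (lin g0.1 x y) (hxy ▸ c.ne_zero),
      (mem_centralizer_GL hg0.ns _).2 ⟨x, y, rfl⟩⟩, Units.ext hxy⟩
  have hk : d.ker ≤ θ.ker := by
    intro s hs
    obtain ⟨t, ht⟩ := exists_sq_eq hg0 hg0.disc_ne s (congrArg Units.val hs)
    have h1 := DFunLike.congr_fun h t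
    rw [bar_apply, map_mul, map_inv, eq_mul_inv_iff_mul_eq, ← map_mul, ht, map_mul] at h1
    exact mul_eq_left.1 h1
  let φ : Fˣ →* ℂˣ := d.liftOfSurjective hd ⟨θ, hk⟩
  have hφ : ∀ t : C g0, MulChar.ofUnitHom φ t.1.1.det = θ t := by
    intro t
    have : φ (d t) = θ t := MonoidHom.liftOfRightInverse_comp_apply ..
    rw [← this, ← MulChar.ofUnitHom_coe]
    rfl
  have hr : ∀ a : Fˣ, res θ a = MulChar.ofUnitHom φ a * MulChar.ofUnitHom φ a := by
    intro a
    rw [res_apply, ← hφ, sc_coe, tri_det, map_mul]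
  refine ⟨MulChar.ofUnitHom φ, funext fun g => ?_⟩
  have c1 := gen_classFun (gen_cu θ)
  have c2 := classFun_sub (irr_classFun (irr_St (MulChar.ofUnitHom φ)))
    (irr_classFun (irr_lin1 (MulChar.ofUnitHom φ)))
  rcases exists_rep hg0 g with ⟨a, rfl⟩ | ⟨a, hc⟩ | ⟨a, d, had, hc⟩ | ⟨t, hn, hc⟩
  · rw [cu_scalar hg0, Pi.sub_apply, St_scalar, lin1_tri, hr]; ring
  · rw [classFun_of_isConj c1 hc, classFun_of_isConj c2 hc, cu_unip hg0 _ _ one_ne_zero,
      Pi.sub_apply, St_unip _ _ one_ne_zero, lin1_tri, hr]; ring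
  · rw [classFun_of_isConj c1 hc, classFun_of_isConj c2 hc, cu_split hg0 _ had,
      Pi.sub_apply, St_split _ had, lin1_tri]; ring
  · rw [classFun_of_isConj c1 hc, classFun_of_isConj c2 hc, cu_T hg0 _ _ hn,
      Pi.sub_apply, St_aniso _ (T_aniso hg0 t.2 hn), lin1, hφ, ← h]; ring

theorem J_eq_zero {χ : GL (Fin 2) F → ℂ} (hχ : IsClassFunction _ χ)
    (h : ∀ α β, classInner (ps α β) χ = 0) (a d : Fˣ) : J χ a d = 0 := by
  have h0 : ∀ α β : MulChar F ℂ, ∑ a : Fˣ, ∑ d : Fˣ, α a * β d * conj (J χ a d) = 0 := by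
    intro α β
    have := h α β
    rw [inner_ps _ _ hχ] at this
    exact (mul_eq_zero.1 this).resolve_left (inv_ne_zero
      (mul_ne_zero q_ne (pow_ne_zero _ q_sub_one_ne)))
  have h1 : ∀ (β : MulChar F ℂ) (a : Fˣ), ∑ d : Fˣ, β d * conj (J χ a d) = 0 := by
    intro β a
    have := fourier_zero (G := Fˣ) mul_comm (fun a => conj (∑ d : Fˣ, β d * conj (J χ a d))) (by
      intro θ
      rw [← h0 (MulChar.ofUnitHom θ) β]
      refine Finset.sum_congr rfl fun a _ => ?_
      simp only [Complex.conj_conj, Finset.mul_sum, MulChar.ofUnitHom_coe, mul_assoc])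
    simpa only [Pi.zero_apply, map_eq_zero] using congrFun this a
  have := fourier_zero (G := Fˣ) mul_comm (fun d => J χ a d) (by
    intro θ
    rw [← h1 (MulChar.ofUnitHom θ) a]
    simp only [MulChar.ofUnitHom_coe])
  exact congrFun this d

theorem irr_cases (hg0 : Aniso g0.1) {χ : GL (Fin 2) F → ℂ} (hχ : IsIrrCharacter _ χ) :
    (∃ α, χ = lin1 α) ∨ (∃ α, χ = St α) ∨ (∃ α β, α ≠ β ∧ χ = ps α β) ∨
      ∃ θ : C g0 →* ℂˣ, θ ≠ bar θ ∧ χ = cu θ := by
  classical
  by_contra hn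
  push Not at hn
  obtain ⟨n1, n2, n3, n4⟩ := hn
  have i1 : ∀ α, classInner (lin1 α) χ = 0 := fun α => inner_irr_of_ne (irr_lin1 α) hχ (n1 α).symm
  have i2 : ∀ α, classInner (St α) χ = 0 := fun α => inner_irr_of_ne (irr_St α) hχ (n2 α).symm
  have i3 : ∀ α β, classInner (ps α β) χ = 0 := by
    intro α β
    by_cases h : α = β
    · subst h
      have : ps α α = St α + lin1 α := by simp [St]
      rw [this, ci_add_left, i1, i2, add_zero]
    · exact inner_irr_of_ne (irr_ps h) hχ (n3 α β h).symm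
  have i4 : ∀ θ : C g0 →* ℂˣ, classInner (cu θ) χ = 0 := by
    intro θ
    by_cases h : θ = bar θ
    · obtain ⟨α, hα⟩ := cu_of_bar hg0 h
      rw [hα, ci_sub_left, i1, i2, sub_zero]
    · exact inner_irr_of_ne (irr_cu hg0 h) hχ (n4 θ h).symm
  have hc := irr_classFun hχ
  have hJ := J_eq_zero hc i3
  have := Fintype.ofFinite (C g0)
  have h1 := q_ne (F := F)
  have h2 := q_sub_one_ne (F := F)
  have h3 := q_add_one_ne (F := F)
  have hu : ∀ a, χ (tri a 1 a) = -(q - 1)⁻¹ * χ (tri a 0 a) := by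
    intro a
    have := hJ a a
    rw [J_diag hc] at this
    field_simp
    linear_combination this
  have := fourier_zero (T_comm hg0)
    (fun t => ((q - 1) ^ 2)⁻¹ * (if NS t.1.1 then 0 else χ t) - (q ^ 2 - 1)⁻¹ * χ t) (by
    intro θ
    refine Eq.trans ?_ (i4 θ)
    rw [inner_cu hg0 θ hc]
    have e : ∀ t : C g0, (θ t : ℂ) * conj (((q - 1) ^ 2)⁻¹ * (if NS t.1.1 then 0 else χ t) -
        (q ^ 2 - 1)⁻¹ * χ t) = ((q - 1) ^ 2)⁻¹ * (if NS t.1.1 then 0 else θ t * conj (χ t)) -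
        (q ^ 2 - 1)⁻¹ * (θ t * conj (χ t)) := by
      intro t
      split_ifs <;> simp only [map_sub, map_mul, map_inv₀, map_pow, map_natCast, map_one,
        map_zero] <;> ring
    simp only [e, Finset.sum_sub_distrib, ← Finset.mul_sum, sum_T_scalar, hu, sc_coe, ← res_apply]
    congr 1
    rw [Finset.mul_sum, Finset.mul_sum]
    refine Finset.sum_congr rfl fun a _ => ?_
    simp only [map_sub, map_mul, map_inv₀, map_neg, map_natCast, map_one]
    field_simp
    ring)
  have h5 := congrFun this 1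
  rw [if_neg (by
    rw [not_NS_iff]; exact ⟨1, by simp⟩)] at h5
  have h4 : q ^ 2 - 1 = (q - 1) * (q + 1) := by ring
  have h6 := irr_apply_one_ne_zero hχ
  simp only [h4, OneMemClass.coe_one, Pi.zero_apply] at h5
  field_simp at h5
  apply h6
  linear_combination (1 / 2) * h5

omit [DecidableEq F] in
theorem exists_aniso_GL (F : Type*) [Field F] [Finite F] : ∃ g : GL (Fin 2) F, Aniso g.1 := by
  obtain ⟨t, ht⟩ := exists_aniso (F := F) one_ne_zero
  exact ⟨compG t 1, ht⟩

end CA.GL2Char
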