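import Cfsg.Agent.Lib.Lin.Phan2a

/-! Unit vectors as a `SU`-set: stabilisers, transitivity, generation by blocks. -/

set_option autoImplicit false

namespace CA.Phan

open Matrix Cfsg CA.CForm

variable {F : Type*} [Field F] {q N n : ℕ}

local notation "⟪" u ", " v "⟫" => hermForm _ F q u v

/-- Unit vectors. -/
def Un (N : ℕ) (F : Type*) [Field F] (q : ℕ) := {v : Fin N → F // hermForm N F q v v = 1}

instance : MulAction (SU N F q) (Un N F q) where
  smul g v := ⟨g.1.1 *ᵥ v.1, by rw [mem_SU.1 g.2, v.2]⟩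
  one_smul v := Subtype.ext (one_mulVec _)
  mul_smul g h v := Subtype.ext (mulVec_mulVec v.1 g.1.1 h.1.1).symm

theorem smul_val (g : SU N F q) (v : Un N F q) : (g • v).1 = g.1.1 *ᵥ v.1 := rfl

theorem h_smul (g : SU N F q) (a b : Un N F q) : ⟪(g • a).1, (g • b).1⟫ = ⟪a.1, b.1⟫ := mem_SU.1 g.2 _ _

theorem E_single (m : Fin (n + 1)) (g : Matrix (Fin n) (Fin n) F) {a b c : Fin n} {α β : F}
    (h : g *ᵥ Pi.single a 1 = α • Pi.single b 1 + β • Pi.single c 1) :
    E m g *ᵥ Pi.single (m.succAbove a) 1 = α • Pi.single (m.succAbove b) 1 + β • Pi.single (m.succAbove c) 1 := by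
  funext i
  induction i using m.succAboveCases with
  | x => simp [mulVec_single_one, Pi.single_apply]
  | p i => simpa [mulVec_single_one, Pi.single_apply] using congrFun h i

theorem E_supp (m : Fin (n + 1)) {g : Matrix (Fin n) (Fin n) F} {k : Fin (n + 1)}
    (hk : ∀ a, k = m.succAbove a → ∀ b, (g - 1) a b = 0 ∧ (g - 1) b a = 0) (l : Fin (n + 1)) :
    (E m g - 1) k l = 0 ∧ (E m g - 1) l k = 0 := by
  rw [← E_one m]
  induction k using m.succAboveCases <;> induction l using m.succAboveCases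
  · simp
  · simp
  · simp
  · simpa using hk _ rfl _

/-- The `i`-th block `SU 2` of `SU (m + 2)`. -/
def blk : (m : ℕ) → ℕ → (SU 2 F q →* SU (m + 2) F q)
  | 0, _ => MonoidHom.id _
  | m + 1, 0 => (up (m + 2)).comp (blk m 0)
  | m + 1, i + 1 => (lo (m + 2)).comp (blk m i)

theorem blk_up : ∀ (m i : ℕ), i ≤ m → blk (F := F) (q := q) (m + 1) i = (up (m + 2)).comp (blk m i)
  | _, 0, _ => rfl
  | m + 1, i + 1, h => MonoidHom.ext fun x => by
    change lo _ (blk (m + 1) i x) = up _ (lo _ (blk m i x))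
    rw [blk_up m i (by omega), up_lo]; rfl

theorem blk_supp : ∀ (m i : ℕ) (x : SU 2 F q), i ≤ m → ∀ k l : Fin (m + 2), k.1 ≠ i → k.1 ≠ i + 1 →
    ((blk m i x).1.1 - 1) k l = 0 ∧ ((blk m i x).1.1 - 1) l k = 0
  | 0, i, x, h, k, l, h1, h2 => by omega
  | m + 1, 0, x, h, k, l, h1, h2 => E_supp _ (fun a e b => blk_supp m 0 x (by omega) a b
      (by rw [e, Fin.succAbove_last] at h1; exact h1) (by rw [e, Fin.succAbove_last] at h2; exact h2)) l
  | m + 1, i + 1, x, h, k, l, h1, h2 => E_supp _ (fun a e b => blk_supp m i x (by omega) a b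
      (by rw [e, Fin.succAbove_zero, Fin.val_succ] at h1; omega)
      (by rw [e, Fin.succAbove_zero, Fin.val_succ] at h2; omega)) l

theorem blk_comm {m i j : ℕ} (h : i + 2 ≤ j) (hj : j ≤ m) (x y : SU 2 F q) : Commute (blk m i x) (blk m j y) := by
  have k : ∀ {i j : ℕ} (x y : SU 2 F q), i ≤ m → j ≤ m → (i + 2 ≤ j ∨ j + 2 ≤ i) →
      ((blk m i x).1.1 - 1) * ((blk m j y).1.1 - 1) = 0 := fun {i j} x y hi hj h => by
    ext a b
    rw [mul_apply]
    refine Finset.sum_eq_zero fun k _ => ?_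
    by_cases c : k.1 ≠ i ∧ k.1 ≠ i + 1
    · rw [(blk_supp m i x hi k a c.1 c.2).2, zero_mul]
    · rw [(blk_supp m j y hj k b (by omega) (by omega)).1, mul_zero]
  refine Subtype.ext (Subtype.ext ?_)
  change (blk m i x).1.1 * (blk m j y).1.1 = (blk m j y).1.1 * (blk m i x).1.1
  have h1 := k x y (by omega) hj (Or.inl h)
  have h2 := k y x hj (by omega) (Or.inr h)
  rw [← sub_eq_zero, ← h1.trans h2.symm |> sub_eq_zero.2]
  noncomm_ring

variable [Fintype F] (hF : Fintype.card F = q ^ 2)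

local notation "σ" => conj hF

/-- Basis vectors. -/
def pt (i : Fin N) : Un N F q := ⟨Pi.single i 1, by rw [hsingle hF]; simp⟩

theorem pt_perp {i j : Fin N} (h : i ≠ j) : ⟪(pt hF i).1, (pt hF j).1⟫ = 0 := by
  change ⟪Pi.single i 1, Pi.single j 1⟫ = 0
  rw [hsingle hF, Pi.single_eq_of_ne h.symm]

theorem emb_fix (m : Fin (n + 1)) (g : SU n F q) : emb m g • pt hF m = pt hF m := Subtype.ext (by
  change E m g.1.1 *ᵥ Pi.single m 1 = Pi.single m 1
  funext i
  induction i using m.succAboveCases <;> simp [mulVec_single_one])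

theorem stab (m : Fin (n + 1)) {g : SU (n + 1) F q} (h : g • pt hF m = pt hF m) : g ∈ (emb m).range := by
  have h1 : g.1.1 *ᵥ Pi.single m 1 = Pi.single m 1 := congrArg Subtype.val h
  have h2 : ∀ l, g.1.1 l m = (Pi.single m 1 : Fin (n + 1) → F) l := fun l => by
    simpa [mulVec_single_one] using congrFun h1 l
  refine mem_range_emb m (by simp [h2]) (fun l hl => ⟨?_, by simp [h2, hl]⟩)
    (by have := two_le_of_card_sq hF; omega)
  have := mem_SU.1 g.2 (Pi.single l 1) (Pi.single m 1)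
  rw [h1, hsingle hF, hsingle hF] at this
  simpa [mulVec_single_one, hl.symm] using this

theorem fix_of_emb (m : Fin (n + 1)) (a : Fin n) {g : SU n F q}
    (h : emb m g • pt hF (m.succAbove a) = pt hF (m.succAbove a)) : g • pt hF a = pt hF a := Subtype.ext (by
  have h1 : E m g.1.1 *ᵥ Pi.single (m.succAbove a) 1 = Pi.single (m.succAbove a) 1 := congrArg Subtype.val h
  change g.1.1 *ᵥ Pi.single a 1 = Pi.single a 1
  funext i
  simpa [mulVec_single_one, Pi.single_apply] using congrFun h1 (m.succAbove i))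

theorem trans2 {i j : Fin (n + 3)} (h : i ≠ j) {y : Un (n + 3) F q} (hy : ⟪y.1, (pt hF i).1⟫ = 0) :
    ∃ g : SU (n + 2) F q, emb i g • pt hF j = y := by
  obtain ⟨m, hi, hj⟩ := Fin.exists_ne_and_ne_of_two_lt i j (by omega)
  obtain ⟨g, c, -, hg⟩ := witt hF (κ := Fin 2) ![i, j] (by
    intro a b; fin_cases a <;> fin_cases b <;> simp [h, h.symm]) ![(pt hF i).1, y.1] (fun a b => by
    fin_cases a <;> fin_cases b <;> simp [(pt hF i).2, y.2, hy, hz hF hy]) m
  have h1 := hg 0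
  have h2 := hg 1
  rw [if_neg (show ¬![i, j] 0 = m from Ne.symm hi), one_smul] at h1
  rw [if_neg (show ¬![i, j] 1 = m from Ne.symm hj), one_smul] at h2
  obtain ⟨g, rfl⟩ := stab hF i (g := g) (Subtype.ext h1)
  exact ⟨g, Subtype.ext h2⟩

include hF in
theorem su2 {α β : F} (h : α * σ α + β * σ β = 1) {i j : Fin 2} (hij : i ≠ j) :
    ∃ x : SU 2 F q, x.1.1 *ᵥ Pi.single i 1 = α • Pi.single i 1 + β • Pi.single j 1 := by
  obtain ⟨g, c, -, hg⟩ := witt hF (κ := Fin 1) ![i] (fun a b _ => Subsingleton.elim a b)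
    ![α • Pi.single i 1 + β • Pi.single j 1] (fun a b => by
      fin_cases a; fin_cases b
      simp [hal, har hF, hml, hmr hF, hsingle hF, hij, hij.symm, mul_comm, h]) j
  exact ⟨g, by simpa [hij] using hg 0⟩

include hF in
theorem blk_first {α β : F} (h : α * σ α + β * σ β = 1) : ∀ m : ℕ, ∃ x : SU 2 F q,
    (blk m 0 x).1.1 *ᵥ Pi.single 0 1 = α • Pi.single 0 1 + β • Pi.single 1 1
  | 0 => su2 hF h (by decide)
  | m + 1 => (blk_first h m).imp fun x hx => by
    have := E_single (Fin.last _) _ hx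
    rw [Fin.succAbove_last, Fin.castSucc_zero, Fin.castSucc_one] at this
    exact this

include hF in
theorem blk_last {α β : F} (h : α * σ α + β * σ β = 1) : ∀ m : ℕ, ∃ x : SU 2 F q,
    (blk m m x).1.1 *ᵥ Pi.single (Fin.last _) 1 =
      α • Pi.single (Fin.last _) 1 + β • Pi.single (Fin.last _).castSucc 1
  | 0 => su2 hF h (by decide)
  | m + 1 => (blk_last h m).imp fun x hx => by
    have := E_single 0 _ hx
    rw [Fin.succAbove_zero, Fin.succ_castSucc, Fin.succ_last] at this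
    exact this

include hF in
theorem gen (hq : 3 < q) : (up (n + 2)).range ⊔ (lo (n + 2)).range = (⊤ : Subgroup (SU (n + 3) F q)) := by
  have l0 : Fin.last (n + 2) ≠ 0 := Fin.last_pos.ne'
  set M := (up (n + 2)).range ⊔ (lo (F := F) (q := q) (n + 2)).range
  set v := pt (q := q) hF (Fin.last (n + 2))
  have c1 : ∀ w : Un (n + 3) F q, ⟪w.1, v.1⟫ * σ ⟪w.1, v.1⟫ ≠ 1 → ∃ g ∈ M, g • v = w := fun w hw => by
    obtain ⟨b, β, -, k1, k2, k3, -⟩ := gs hF v.2 w.2 hw
    obtain ⟨y, y1, y2, y3⟩ := ex2 hF (by omega) v.2 k1 k2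
    obtain ⟨h, hh⟩ := trans2 hF l0 (y := ⟨y, y1⟩) y2
    obtain ⟨k, hk⟩ := trans2 hF l0.symm (y := (up _ h)⁻¹ • w) (by
      rw [← h_smul (up _ h), smul_inv_smul, hh, hz hF]
      rw [k3, har hF, hmr hF, hmr hF, y2, y3]; simp)
    exact ⟨up _ h * lo _ k, M.mul_mem (Subgroup.mem_sup_left ⟨h, rfl⟩) (Subgroup.mem_sup_right ⟨k, rfl⟩),
      by rw [mul_smul, hk, smul_inv_smul]⟩
  refine eq_top_iff.2 fun g _ => ?_
  obtain ⟨p, p1, p2⟩ := ex1 hF (by omega) v.2
  obtain ⟨r, r1, r2, r3⟩ := ex2 hF (by omega) v.2 p1 p2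
  obtain ⟨y, y1, y2, y3, -⟩ := line hF hq p1 r1 r3 (g • v).1 v.1
  obtain ⟨a, ha, e⟩ := c1 ⟨y, y1⟩ (by rw [y2 _ p2 r2]; simp)
  obtain ⟨b, hb, e'⟩ := c1 (a⁻¹ • g • v) (by
    rw [← h_smul a, smul_inv_smul, e, hsy hF, conj_conj, mul_comm]; exact y3)
  have : (a * b)⁻¹ * g ∈ M := Subgroup.mem_sup_left (stab hF _ (by
    rw [mul_smul, inv_smul_eq_iff, mul_smul, e', smul_inv_smul]))
  have := M.mul_mem (M.mul_mem ha hb) this
  rwa [mul_inv_cancel_left] at this

include hF in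
theorem gen3 (hq : 3 < q) : (up 2).range ⊔ (lo 2).range = (⊤ : Subgroup (SU 3 F q)) := gen hF (n := 0) hq

include hF in
theorem blk_ext (hq : 3 < q) {J : Type*} [Group J] : ∀ (m : ℕ) (f g : SU (m + 2) F q →* J),
    (∀ i ≤ m, f.comp (blk m i) = g.comp (blk m i)) → f = g
  | 0, _, _, h => h 0 le_rfl
  | m + 1, f, g, h => by
    have h1 := blk_ext hq m (f.comp (up _)) (g.comp (up _)) fun i hi => by
      rw [MonoidHom.comp_assoc, MonoidHom.comp_assoc, ← blk_up m i hi, h i (by omega)]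
    have h2 := blk_ext hq m (f.comp (lo _)) (g.comp (lo _)) fun i hi => h (i + 1) (by omega)
    have : (⊤ : Subgroup (SU (m + 3) F q)) ≤ f.eqLocus g := by
      rw [← gen hF hq]
      refine sup_le ?_ ?_ <;> rintro _ ⟨x, rfl⟩
      exacts [DFunLike.congr_fun h1 x, DFunLike.congr_fun h2 x]
    exact MonoidHom.ext fun x => this (Subgroup.mem_top x)

end CA.Phan
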