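import Cfsg.Agent.Lib.Lin.PhanA
import Cfsg.Agent.Lib.Lin.Phan2b

/-! Generators of `SU₃(2)`. -/

set_option autoImplicit false
set_option linter.unusedSectionVars false

namespace CA.H10Ph

open Matrix Cfsg CA.Phan CA.CForm CA.PhanA

variable {F : Type*} [Field F] [Fintype F] [CharP F 2] (hF : Fintype.card F = 2 ^ 2) {N : ℕ}

include hF in
theorem cube {x : F} (h : x ≠ 0) : x ^ 3 = 1 := by
  have := FiniteField.pow_card_sub_one_eq_one x h
  rwa [hF] at this

include hF in
theorem cs {w : F} (hw : w ^ 2 + w + 1 = 0) (x : F) : x = 0 ∨ x = 1 ∨ x = w ∨ x = w ^ 2 := by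
  by_cases h : x = 0
  · exact Or.inl h
  · have := cube hF h
    have : (x - 1) * (x - w) * (x - w ^ 2) = 0 := by grind
    simp only [mul_eq_zero, sub_eq_zero] at this
    tauto

theorem cs3 {w : F} (hw : w ^ 2 + w + 1 = 0) {x : F} (h : x ^ 3 = 1) : x = 1 ∨ x = w ∨ x = w ^ 2 := by
  have : (x - 1) * (x - w) * (x - w ^ 2) = 0 := by grind
  simp only [mul_eq_zero, sub_eq_zero] at this
  tauto

include hF in
theorem exw : ∃ w : F, w ^ 2 + w + 1 = 0 := by
  classical
  obtain ⟨x, h0, h1, -⟩ := CA.PhanA.ex3 (X := F) (by rw [Nat.card_eq_fintype_card, hF]; norm_num) 0 1 1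
  refine ⟨x, ?_⟩
  have := cube hF h0
  have : (x - 1) * (x ^ 2 + x + 1) = 0 := by grind
  exact (mul_eq_zero.1 this).resolve_left (sub_ne_zero.2 h1)

def mk3 (A : Matrix (Fin 3) (Fin 3) F) (hd : A.det = 1) (hu : Aᵀ.map (conj hF) * A = 1) : SU 3 F 2 :=
  ⟨⟨A, hd⟩, (memU hF).2 hu⟩

@[simp] theorem mk3_val (A : Matrix (Fin 3) (Fin 3) F) (hd : A.det = 1) (hu : Aᵀ.map (conj hF) * A = 1) :
    (mk3 hF A hd hu).1.1 = A := rfl

def dd {x y : F} (hx : x ^ 3 = 1) (hy : y ^ 3 = 1) : SU 3 F 2 :=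
  mk3 hF !![x, 0, 0; 0, x * y, 0; 0, 0, x * y ^ 2] (by simp [det_fin_three]; grind) (by
    ext i j
    fin_cases i <;> fin_cases j <;> simp [mul_apply, Fin.sum_univ_three, conj_apply] <;> grind)

def cc : SU 3 F 2 :=
  mk3 hF !![0, 0, 1; 1, 0, 0; 0, 1, 0] (by simp [det_fin_three]) (by
    ext i j
    fin_cases i <;> fin_cases j <;> simp [mul_apply, Fin.sum_univ_three, conj_apply])

variable {w : F} (hw : w ^ 2 + w + 1 = 0)

include hw in
theorem w3 : w ^ 3 = 1 := by grind

def hh : SU 3 F 2 :=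
  mk3 hF !![1, 1, 1; 1, w, w ^ 2; 1, w ^ 2, w] (by simp [det_fin_three]; grind) (by
    ext i j
    fin_cases i <;> fin_cases j <;> simp [mul_apply, Fin.sum_univ_three, conj_apply] <;> grind)

def kk : SU 3 F 2 :=
  mk3 hF !![1, 1, w ^ 2; 1, w, w; w, 1, w] (by simp [det_fin_three]; grind) (by
    ext i j
    fin_cases i <;> fin_cases j <;> simp [mul_apply, Fin.sum_univ_three, conj_apply] <;> grind)

def d1 : SU 3 F 2 := dd hF (one_pow 3) (w3 hw)
def z1 : SU 3 F 2 := dd hF (w3 hw) (one_pow 3)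

theorem su_one : (1 : SU N F 2).1.1 = 1 := rfl

theorem r_dc : d1 hF hw * cc hF = z1 hF hw * (cc hF * d1 hF hw) := su_ext fun i j => by
  fin_cases i <;> fin_cases j <;> simp [su_mul, d1, z1, dd, cc, mul_apply, Fin.sum_univ_three] <;> grind

theorem r_zd : z1 hF hw * d1 hF hw = d1 hF hw * z1 hF hw := su_ext fun i j => by
  fin_cases i <;> fin_cases j <;> simp [su_mul, d1, z1, dd, cc, mul_apply, Fin.sum_univ_three] <;> grind

theorem r_zc : z1 hF hw * cc hF = cc hF * z1 hF hw := su_ext fun i j => by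
  fin_cases i <;> fin_cases j <;> simp [su_mul, d1, z1, dd, cc, mul_apply, Fin.sum_univ_three]

theorem r_d3 : d1 hF hw * (d1 hF hw * d1 hF hw) = 1 := su_ext fun i j => by
  fin_cases i <;> fin_cases j <;> simp [su_mul, su_one, d1, dd, mul_apply, Fin.sum_univ_three] <;> grind

theorem r_z3 : z1 hF hw * (z1 hF hw * z1 hF hw) = 1 := su_ext fun i j => by
  fin_cases i <;> fin_cases j <;> simp [su_mul, su_one, z1, dd, mul_apply, Fin.sum_univ_three] <;> grind

theorem r_c3 : cc hF * (cc hF * cc hF) = 1 := su_ext fun i j => by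
  fin_cases i <;> fin_cases j <;> simp [su_mul, su_one, cc, mul_apply, Fin.sum_univ_three]

theorem r_dh : d1 hF hw * hh hF hw = hh hF hw * cc hF := su_ext fun i j => by
  fin_cases i <;> fin_cases j <;> simp [su_mul, d1, hh, dd, cc, mul_apply, Fin.sum_univ_three] <;> grind

theorem r_ch : cc hF * hh hF hw = hh hF hw * (d1 hF hw * d1 hF hw) := su_ext fun i j => by
  fin_cases i <;> fin_cases j <;> simp [su_mul, d1, hh, dd, cc, mul_apply, Fin.sum_univ_three] <;> grind

theorem r_dk : d1 hF hw * kk hF hw = kk hF hw * (cc hF * d1 hF hw) := su_ext fun i j => by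
  fin_cases i <;> fin_cases j <;> simp [su_mul, d1, kk, dd, cc, mul_apply, Fin.sum_univ_three] <;> grind

theorem r_ck : cc hF * kk hF hw =
    kk hF hw * (d1 hF hw * (d1 hF hw * (cc hF * (d1 hF hw * (cc hF * d1 hF hw))))) := su_ext fun i j => by
  fin_cases i <;> fin_cases j <;> simp [su_mul, d1, kk, dd, cc, mul_apply, Fin.sum_univ_three] <;> grind

theorem hh2 : (hh hF hw * hh hF hw).1.1 = !![1, 0, 0; 0, 0, 1; 0, 1, 0] := by
  ext i j
  fin_cases i <;> fin_cases j <;> simp [su_mul, hh, mul_apply, Fin.sum_univ_three] <;> grind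

theorem kk2 : (kk hF hw * kk hF hw).1.1 = !![1, 0, 0; 0, 0, w ^ 2; 0, w, 0] := by
  ext i j
  fin_cases i <;> fin_cases j <;> simp [su_mul, kk, mul_apply, Fin.sum_univ_three] <;> grind

theorem r_h4 : (hh hF hw * hh hF hw) * (hh hF hw * hh hF hw) = 1 := su_ext fun i j => by
  rw [su_mul, hh2]
  fin_cases i <;> fin_cases j <;> simp [su_one, mul_apply, Fin.sum_univ_three]

theorem r_k4 : (kk hF hw * kk hF hw) * (kk hF hw * kk hF hw) = 1 := su_ext fun i j => by
  rw [su_mul, kk2]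
  fin_cases i <;> fin_cases j <;> simp [su_one, mul_apply, Fin.sum_univ_three] <;> grind

theorem dd_mul {x y x' y' : F} (hx : x ^ 3 = 1) (hy : y ^ 3 = 1) (hx' : x' ^ 3 = 1) (hy' : y' ^ 3 = 1)
    {a b : F} (ha : a ^ 3 = 1) (hb : b ^ 3 = 1) (e1 : a = x * x') (e2 : b = y * y') :
    dd hF ha hb = dd hF hx hy * dd hF hx' hy' := su_ext fun i j => by
  subst e1 e2
  fin_cases i <;> fin_cases j <;> simp [su_mul, dd, mul_apply, Fin.sum_univ_three] <;> grind

theorem dd_one : dd hF (one_pow 3) (one_pow 3) = 1 := su_ext fun i j => by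
  fin_cases i <;> fin_cases j <;> simp [su_one, dd]

theorem gen3 (H : Subgroup (SU 3 F 2)) (hd : d1 hF hw ∈ H) (hc : cc hF ∈ H) (h1 : hh hF hw ∈ H)
    (h2 : kk hF hw ∈ H) : H = ⊤ := by
  have hz : z1 hF hw ∈ H := by
    have := H.mul_mem (H.mul_mem hd hc) (H.inv_mem (H.mul_mem hc hd))
    rwa [r_dc, mul_inv_cancel_right] at this
  have hD : ∀ (x y : F) (hx : x ^ 3 = 1) (hy : y ^ 3 = 1), dd hF hx hy ∈ H := by
    intro x y hx hy
    rw [dd_mul hF hx (one_pow 3) (one_pow 3) hy hx hy (mul_one _).symm (one_mul _).symm]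
    refine H.mul_mem ?_ ?_
    · rcases cs3 hw hx with rfl | rfl | rfl
      · rw [dd_one]; exact H.one_mem
      · exact hz
      · rw [dd_mul hF (w3 hw) (one_pow 3) (w3 hw) (one_pow 3) hx (one_pow 3) (sq _) (mul_one _).symm]
        exact H.mul_mem hz hz
    · rcases cs3 hw hy with rfl | rfl | rfl
      · rw [dd_one]; exact H.one_mem
      · exact hd
      · rw [dd_mul hF (one_pow 3) (w3 hw) (one_pow 3) (w3 hw) (one_pow 3) hy (mul_one _).symm (sq _)]
        exact H.mul_mem hd hd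
  have hlo : ∀ g : SU 2 F 2, lo 2 g ∈ H := by
    intro g
    obtain ⟨e1, e2⟩ := (mem2 hF).1 g.2
    have e3 := (det_fin_two _).symm.trans g.1.2
    rw [conj_apply] at e1 e2
    by_cases h0 : g.1.1 0 0 = 0
    · have hb : g.1.1 0 1 ^ 3 = 1 := cube hF fun h => by
        rw [h0, h] at e3; simp at e3
      have : lo 2 g = dd hF (one_pow 3) hb * (hh hF hw * hh hF hw) := su_ext fun i j => by
        rw [su_mul, hh2, lo_two]
        change g.1.1 1 1 = g.1.1 0 0 ^ 2 at e1
        change g.1.1 1 0 = -g.1.1 0 1 ^ 2 at e2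
        fin_cases i <;> fin_cases j <;> simp [dd, mul_apply, Fin.sum_univ_three] <;> grind
      rw [this]
      exact H.mul_mem (hD _ _ _ _) (H.mul_mem h1 h1)
    · have ha := cube hF h0
      change g.1.1 1 1 = g.1.1 0 0 ^ 2 at e1
      change g.1.1 1 0 = -g.1.1 0 1 ^ 2 at e2
      have hb : g.1.1 0 1 = 0 := by
        by_contra h
        have := cube hF h
        grind
      have : lo 2 g = dd hF (one_pow 3) ha := su_ext fun i j => by
        rw [lo_two]
        fin_cases i <;> fin_cases j <;> simp [dd] <;> grind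
      rw [this]
      exact hD _ _ _ _
  have key : ∀ a b c : F, a * a ^ 2 + b * b ^ 2 + c * c ^ 2 = 1 →
      ∃ x ∈ H, x.1.1 0 0 = a ∧ x.1.1 1 0 = b ∧ x.1.1 2 0 = c := by
    intro a b c h
    by_cases ha : a = 0 <;> by_cases hb : b = 0 <;> by_cases hc' : c = 0
    · grind
    · exact ⟨dd hF (cube hF hc') (one_pow 3) * (cc hF * cc hF), H.mul_mem (hD _ _ _ _) (H.mul_mem hc hc), by
        simp [su_mul, dd, cc, mul_apply, Fin.sum_univ_three, ha, hb]⟩
    · exact ⟨dd hF (cube hF hb) (one_pow 3) * cc hF, H.mul_mem (hD _ _ _ _) hc, by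
        simp [su_mul, dd, cc, mul_apply, Fin.sum_univ_three, ha, hc']⟩
    · have := cube hF hb; have := cube hF hc'; grind
    · exact ⟨dd hF (cube hF ha) (one_pow 3), hD _ _ _ _, by simp [dd, hb, hc']⟩
    · have := cube hF ha; have := cube hF hc'; grind
    · have := cube hF ha; have := cube hF hb; grind
    · have a3 := cube hF ha
      have b3 := cube hF hb
      have c3 := cube hF hc'
      have hy : (b * a ^ 2) ^ 3 = 1 := by grind
      have ht : (a * b * c) ^ 3 = 1 := by grind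
      rcases cs3 hw ht with e | e | e
      · exact ⟨dd hF a3 hy * hh hF hw, H.mul_mem (hD _ _ _ _) h1, by
          simp [su_mul, dd, hh, mul_apply, Fin.sum_univ_three]; grind⟩
      · exact ⟨dd hF a3 hy * kk hF hw, H.mul_mem (hD _ _ _ _) h2, by
          simp [su_mul, dd, kk, mul_apply, Fin.sum_univ_three]; grind⟩
      · exact ⟨dd hF a3 hy * (z1 hF hw * (z1 hF hw * (hh hF hw * kk hF hw))),
          H.mul_mem (hD _ _ _ _) (H.mul_mem hz (H.mul_mem hz (H.mul_mem h1 h2))), by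
          simp [su_mul, dd, kk, hh, z1, mul_apply, Fin.sum_univ_three]; grind⟩
  rw [eq_top_iff]
  intro g _
  have hu := congrFun (congrFun ((memU hF).1 g.2) 0) 0
  simp only [mul_apply, Fin.sum_univ_three, map_apply, transpose_apply, conj_apply, one_apply_eq] at hu
  obtain ⟨x, hx, e0, e1, e2⟩ := key (g.1.1 0 0) (g.1.1 1 0) (g.1.1 2 0) (by linear_combination hu)
  have : x • pt hF (0 : Fin 3) = g • pt hF 0 := Subtype.ext (by
    rw [smul_val, smul_val]
    ext i
    fin_cases i <;> simp [pt, e0, e1, e2])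
  obtain ⟨y, hy⟩ := stab hF (0 : Fin 3) (g := x⁻¹ * g) (by rw [mul_smul, ← this, inv_smul_smul])
  have := H.mul_mem hx (hy ▸ hlo y)
  rwa [mul_inv_cancel_left] at this

end CA.H10Ph
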