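import Cfsg.Agent.Lib.Lin.H10Ph1

/-! Embeddings of `SU₃(2)` in `SU₄(2)`. -/

set_option autoImplicit false
set_option linter.unusedSectionVars false

namespace CA.H10Ph

open Matrix Cfsg CA.Phan CA.CForm CA.PhanA

variable {F : Type*} [Field F] [Fintype F] [CharP F 2] (hF : Fintype.card F = 2 ^ 2) {N : ℕ}

local notation "⟪" u ", " v "⟫" => hermForm _ F 2 u v
local notation:75 g:75 " ⊳ " v:74 => Matrix.mulVec (Subtype.val (Subtype.val (g : SU _ F 2))) v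

theorem mul_act (g h : SU N F 2) (v : Fin N → F) : (g * h) ⊳ v = g ⊳ h ⊳ v := (mulVec_mulVec _ _ _).symm
theorem one_act (v : Fin N → F) : (1 : SU N F 2) ⊳ v = v := one_mulVec v
theorem h_act (g : SU N F 2) (u v : Fin N → F) : ⟪g ⊳ u, g ⊳ v⟫ = ⟪u, v⟫ := mem_SU.1 g.2 _ _
theorem inv_act (g : SU N F 2) (v : Fin N → F) : g⁻¹ ⊳ g ⊳ v = v := by rw [← mul_act, inv_mul_cancel, one_act]
theorem act_inv (g : SU N F 2) (v : Fin N → F) : g ⊳ g⁻¹ ⊳ v = v := by rw [← mul_act, mul_inv_cancel, one_act]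

def P (X : SU N F 2) (a : F) (v : Fin N → F) : Fin N → F := v + a ^ 2 • X ⊳ v + a • X ⊳ X ⊳ v

theorem P1 {X : SU N F 2} (hX : X * (X * X) = 1) {a : F} (ha : a ^ 3 = 1) (v : Fin N → F) :
    X ⊳ P X a v = a • P X a v := by
  have : X ⊳ X ⊳ X ⊳ v = v := by rw [← mul_act, ← mul_act, mul_assoc, hX, one_act]
  simp only [P, mulVec_add, mulVec_smul, this]
  ext i
  simp only [Pi.add_apply, Pi.smul_apply, smul_eq_mul]
  grind

theorem P2 {X Y : SU N F 2} (h : X * Y = Y * X) (a : F) {b : F} {v : Fin N → F} (hv : Y ⊳ v = b • v) :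
    Y ⊳ P X a v = b • P X a v := by
  have : ∀ u, Y ⊳ X ⊳ u = X ⊳ Y ⊳ u := fun u => by rw [← mul_act, ← h, mul_act]
  simp only [P, mulVec_add, mulVec_smul, this, hv]
  ext i
  simp only [Pi.add_apply, Pi.smul_apply, smul_eq_mul]
  ring

include hF in
theorem P3 {X : SU N F 2} {a : F} (ha : a ^ 3 = 1) {u : Fin N → F} (hu : X ⊳ u = a • u) (v : Fin N → F) :
    ⟪u, P X a v⟫ = ⟪u, v⟫ := by
  have k : ∀ v, a * ⟪u, X ⊳ v⟫ = ⟪u, v⟫ := fun v => by rw [← hml, ← hu, h_act]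
  have k1 := k v
  have k2 := k (X ⊳ v)
  simp only [P, har hF, hmr hF, conj_apply]
  grind

theorem P4 {w : F} (hw : w ^ 2 + w + 1 = 0) (X : SU N F 2) (v : Fin N → F) :
    v = P X 1 v + P X w v + P X (w ^ 2) v := by
  ext i
  simp only [P, Pi.add_apply, Pi.smul_apply, smul_eq_mul]
  grind

/-- weight vectors -/
def Wt (X Y : SU N F 2) (a b : F) (y : Fin N → F) : Prop := ⟪y, y⟫ = 1 ∧ X ⊳ y = a • y ∧ Y ⊳ y = b • y

include hF in
theorem eig2 {X Y : SU N F 2} (hX : X * (X * X) = 1) (hY : Y * (Y * Y) = 1) (h : X * Y = Y * X) (h1 : X ≠ 1) :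
    ∃ a b y, a ^ 3 = 1 ∧ a ≠ 1 ∧ b ^ 3 = 1 ∧ Wt X Y a b y := by
  obtain ⟨w, hw⟩ := exw hF
  have w1 := w3 hw
  have w2 : (w ^ 2) ^ 3 = 1 := by grind
  obtain ⟨u, hu⟩ : ∃ u, X ⊳ u ≠ u := by
    by_contra! hc
    exact h1 (su_ext fun i j => by
      have := congrFun (hc (Pi.single j 1)) i
      simpa [su_one, one_apply, Pi.single_apply] using this)
  obtain ⟨a, a3, a1, v, v0, hv⟩ : ∃ a : F, a ^ 3 = 1 ∧ a ≠ 1 ∧ ∃ v, v ≠ 0 ∧ X ⊳ v = a • v := by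
    by_cases e1 : P X w u = 0
    · by_cases e2 : P X (w ^ 2) u = 0
      · have := P4 hw X u
        rw [e1, e2, add_zero, add_zero] at this
        exact absurd (by rw [this, P1 hX (one_pow 3), one_smul]) hu
      · exact ⟨w ^ 2, w2, by grind, _, e2, P1 hX w2 u⟩
    · exact ⟨w, w1, by grind, _, e1, P1 hX w1 u⟩
  obtain ⟨b, b3, x, x0, hx1, hx2⟩ : ∃ b : F, b ^ 3 = 1 ∧ ∃ x, x ≠ 0 ∧ X ⊳ x = a • x ∧ Y ⊳ x = b • x := by
    by_cases e0 : P Y 1 v = 0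
    · by_cases e1 : P Y w v = 0
      · by_cases e2 : P Y (w ^ 2) v = 0
        · have := P4 hw Y v
          rw [e0, e1, e2, add_zero, add_zero] at this
          exact absurd this v0
        · exact ⟨_, w2, _, e2, P2 h.symm _ hv, P1 hY w2 v⟩
      · exact ⟨_, w1, _, e1, P2 h.symm _ hv, P1 hY w1 v⟩
    · exact ⟨1, one_pow 3, _, e0, P2 h.symm _ hv, P1 hY (one_pow 3) v⟩
  obtain ⟨i, hi⟩ := Function.ne_iff.1 x0
  obtain ⟨x', hx1', hx2', hx'⟩ : ∃ x', X ⊳ x' = a • x' ∧ Y ⊳ x' = b • x' ∧ ⟪x, x'⟫ ≠ 0 :=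
    ⟨P Y b (P X a (Pi.single i 1)), P2 h.symm _ (P1 hX a3 _), P1 hY b3 _, by
      rw [P3 hF b3 hx2, P3 hF a3 hx1, hsingle hF]; exact hi⟩
  have fin : ∀ y, X ⊳ y = a • y → Y ⊳ y = b • y → ⟪y, y⟫ ≠ 0 → ∃ a b y, a ^ 3 = 1 ∧ a ≠ 1 ∧ b ^ 3 = 1 ∧ Wt X Y a b y := by
    intro y h1 h2 h3
    refine ⟨a, b, y, a3, a1, b3, ?_, h1, h2⟩
    have := hsy hF y y
    rw [conj_apply] at this
    grind
  by_cases n1 : ⟪x, x⟫ = 0
  · by_cases n2 : ⟪x', x'⟫ = 0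
    · have t3 := cube hF hx'
      refine fin (x' + (w * ⟪x, x'⟫ ^ 2) • x) ?_ ?_ ?_
      · rw [mulVec_add, mulVec_smul, hx1, hx1', smul_add, smul_comm]
      · rw [mulVec_add, mulVec_smul, hx2, hx2', smul_add, smul_comm]
      · rw [hal, har hF, har hF, hml, hml, hmr hF, hmr hF, n1, n2, hsy hF x x', conj_apply, conj_apply]
        grind
    · exact fin x' hx1' hx2' n2
  · exact fin x hx1 hx2 n1

include hF in
theorem orth {X : SU N F 2} {a b : F} (hb : b ^ 3 = 1) (h : a ≠ b) {u v : Fin N → F} (hu : X ⊳ u = a • u)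
    (hv : X ⊳ v = b • v) : ⟪u, v⟫ = 0 := by
  have := h_act X u v
  rw [hu, hv, hml, hmr hF, conj_apply] at this
  have : (a - b) * ⟪u, v⟫ = 0 := by grind
  exact (mul_eq_zero.1 this).resolve_left (sub_ne_zero.2 h)

include hF in
theorem worth {X Y : SU N F 2} {a b a' b' : F} (ha : a' ^ 3 = 1) (hb : b' ^ 3 = 1) (h : a ≠ a' ∨ b ≠ b')
    {u v : Fin N → F} (hu : Wt X Y a b u) (hv : Wt X Y a' b' v) : ⟪u, v⟫ = 0 :=
  h.elim (fun h => orth hF ha h hu.2.1 hv.2.1) fun h => orth hF hb h hu.2.2 hv.2.2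

include hF in
theorem five (v : Fin N → Fin N → F) (hv : ∀ i k, ⟪v i, v k⟫ = if i = k then 1 else 0) (m : Fin N) {y : Fin N → F}
    (hy : ∀ i, ⟪y, v i⟫ = 0) : ⟪y, y⟫ = 0 := by
  obtain ⟨T, c, -, hT⟩ := witt hF id Function.injective_id v hv m
  have : T⁻¹ ⊳ y = 0 := by
    ext i
    rw [← hsingle hF (T⁻¹ ⊳ y) i, ← h_act T, act_inv]
    exact (congrArg _ (hT i)).trans (by rw [hmr hF, hy, mul_zero]; rfl)
  rw [← h_act T⁻¹, this]
  simp [hermForm]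

theorem wts {a b : F} (a3 : a ^ 3 = 1) (a1 : a ≠ 1) (b3 : b ^ 3 = 1) :
    Function.Injective ![(a, b), (b, a ^ 2), (a ^ 2, b ^ 2), (b ^ 2, (a ^ 2) ^ 2), (a * b, a * b ^ 2)] := by
  intro i j
  fin_cases i <;> fin_cases j <;> simp <;> grind

include hF in
theorem five' {X Y : SU 4 F 2} {a b : F} (a3 : a ^ 3 = 1) (a1 : a ≠ 1) (b3 : b ^ 3 = 1) {y0 y1 y2 y3 y4 : Fin 4 → F}
    (h0 : Wt X Y a b y0) (h1 : Wt X Y b (a ^ 2) y1) (h2 : Wt X Y (a ^ 2) (b ^ 2) y2)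
    (h3 : Wt X Y (b ^ 2) ((a ^ 2) ^ 2) y3) (h4 : Wt X Y (a * b) (a * b ^ 2) y4) : False := by
  have inj := wts a3 a1 b3
  generalize hW : ![(a, b), (b, a ^ 2), (a ^ 2, b ^ 2), (b ^ 2, (a ^ 2) ^ 2), (a * b, a * b ^ 2)] = W at inj
  obtain ⟨v, hv⟩ : ∃ v : Fin 5 → Fin 4 → F, ∀ i, (W i).1 ^ 3 = 1 ∧ (W i).2 ^ 3 = 1 ∧ Wt X Y (W i).1 (W i).2 (v i) := by
    refine ⟨![y0, y1, y2, y3, y4], fun i => ?_⟩
    subst hW
    have e1 : (a ^ 2) ^ 3 = 1 := by grind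
    have e2 : (b ^ 2) ^ 3 = 1 := by grind
    have e3 : ((a ^ 2) ^ 2) ^ 3 = 1 := by grind
    have e4 : (a * b) ^ 3 = 1 := by grind
    have e5 : (a * b ^ 2) ^ 3 = 1 := by grind
    fin_cases i
    exacts [⟨a3, b3, h0⟩, ⟨b3, e1, h1⟩, ⟨e1, e2, h2⟩, ⟨e2, e3, h3⟩, ⟨e4, e5, h4⟩]
  have k : ∀ i j, i ≠ j → ⟪v i, v j⟫ = 0 := fun i j h =>
    worth hF (hv j).1 (hv j).2.1 (not_and_or.1 fun e => h (inj (Prod.ext e.1 e.2))) (hv i).2.2 (hv j).2.2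
  have := five hF (fun i => v i.castSucc) (fun i j => by
    split_ifs with h
    · rw [h]; exact (hv _).2.2.1
    · exact k _ _ fun e => h (Fin.castSucc_injective _ e)) 0 (y := v (Fin.last 4))
    fun i => k _ _ (Fin.castSucc_lt_last i).ne'
  rw [(hv _).2.2.1] at this
  exact one_ne_zero this

variable {w : F} (hw : w ^ 2 + w + 1 = 0)

theorem z_ne (ρ : SU 3 F 2 →* SU 4 F 2) (hd : ρ (d1 hF hw) ≠ 1) : ρ (z1 hF hw) ≠ 1 := by
  intro hz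
  have hc : ρ (d1 hF hw) * ρ (cc hF) = ρ (cc hF) * ρ (d1 hF hw) := by
    rw [← map_mul, r_dc, map_mul, hz, one_mul, map_mul]
  obtain ⟨a, b, y, a3, a1, b3, hy⟩ := eig2 hF (by rw [← map_mul, ← map_mul, r_d3, map_one])
    (by rw [← map_mul, ← map_mul, r_c3, map_one]) hc hd
  have sh : ∀ {a b y}, Wt (ρ (d1 hF hw)) (ρ (cc hF)) a b y →
      Wt (ρ (d1 hF hw)) (ρ (cc hF)) b (a ^ 2) (ρ (hh hF hw) ⊳ y) := fun {a b y} h => by
    refine ⟨(h_act _ _ _).trans h.1, ?_, ?_⟩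
    · rw [← mul_act, ← map_mul, r_dh, map_mul, mul_act, h.2.2, mulVec_smul]
    · rw [← mul_act, ← map_mul, r_ch, map_mul, map_mul, mul_act, mul_act, h.2.1, mulVec_smul, h.2.1, smul_smul,
        mulVec_smul, sq]
  have sk : Wt (ρ (d1 hF hw)) (ρ (cc hF)) (a * b) (a * b ^ 2) (ρ (kk hF hw) ⊳ y) := by
    refine ⟨(h_act _ _ _).trans hy.1, ?_, ?_⟩
    · rw [← mul_act, ← map_mul, r_dk, map_mul, map_mul, mul_act, mul_act, hy.2.1, mulVec_smul, hy.2.2, smul_smul,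
        mulVec_smul]
    · rw [← mul_act, ← map_mul, r_ck]
      simp only [map_mul, mul_act, hy.2.1, hy.2.2, mulVec_smul, smul_smul]
      congr 1
      grind
  exact five' hF a3 a1 b3 hy (sh hy) (sh (sh hy)) (sh (sh (sh hy))) sk

end CA.H10Ph
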