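import Cfsg.Agent.Lib.Lin.H10Ph2

/-! Embeddings of `SU₃(2)` in `SU₄(2)` are standard. -/

set_option autoImplicit false
set_option linter.unusedSectionVars false

namespace CA.H10Ph

open Matrix Cfsg CA.Phan CA.CForm CA.PhanA

variable {F : Type*} [Field F] [Fintype F] [CharP F 2] (hF : Fintype.card F = 2 ^ 2) {N : ℕ}

local notation "⟪" u ", " v "⟫" => hermForm _ F 2 u v
local notation:75 g:75 " ⊳ " v:74 => Matrix.mulVec (Subtype.val (Subtype.val (g : SU _ F 2))) v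

noncomputable def fa (τ : F →+* F) : SU N F 2 →* SU N F 2 := dc hF (fun _ => 1) (fun _ => by simp) τ

theorem fa_val (τ : F →+* F) (g : SU N F 2) : (fa hF τ g).1.1 = g.1.1.map τ := by
  ext i j
  rw [fa, dc_val]
  simp

theorem fa_surj (τ : F →+* F) : Function.Surjective (fa hF (N := N) τ) := dc_surj hF _ τ

theorem up_three (g : SU 3 F 2) : (up 3 g).1.1 = !![g.1.1 0 0, g.1.1 0 1, g.1.1 0 2, 0; g.1.1 1 0, g.1.1 1 1, g.1.1 1 2, 0;
    g.1.1 2 0, g.1.1 2 1, g.1.1 2 2, 0; 0, 0, 0, 1] := by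
  ext i j
  fin_cases i <;> fin_cases j <;> rfl

include hF in
theorem eq3 {x y : SU 4 F 2} (h : ∀ i : Fin 3, x ⊳ Pi.single i.castSucc 1 = y ⊳ Pi.single i.castSucc 1) : x = y := by
  suffices y⁻¹ * x = 1 by rwa [inv_mul_eq_one, eq_comm] at this
  generalize hu : y⁻¹ * x = u
  have h' : ∀ (i : Fin 3) k, u.1.1 k i.castSucc = if k = i.castSucc then 1 else 0 := fun i k => by
    have : u ⊳ Pi.single i.castSucc 1 = Pi.single i.castSucc 1 := by rw [← hu, mul_act, h, inv_act]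
    simpa [Pi.single_apply] using congrFun this k
  have h2 : ∀ i : Fin 3, u.1.1 i.castSucc 3 = 0 := fun i => by
    have := congrFun (congrFun ((memU hF).1 u.2) i.castSucc) 3
    simp only [mul_apply, map_apply, transpose_apply] at this
    replace this : ∑ k, conj hF (u.1.1 k i.castSucc) * u.1.1 k 3 = 0 :=
      this.trans (one_apply_ne (Fin.castSucc_lt_last i).ne)
    simpa [h', apply_ite] using this
  have e : u.1.1 = diagonal ![1, 1, 1, u.1.1 3 3] := by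
    ext i j
    have a0 := h' 0 i
    have a1 := h' 1 i
    have a2 := h' 2 i
    have b0 := h2 0
    have b1 := h2 1
    have b2 := h2 2
    fin_cases i <;> fin_cases j <;> simp at a0 a1 a2 b0 b1 b2 ⊢ <;> assumption
  have d := u.1.2
  rw [e, det_diagonal] at d
  simp [Fin.prod_univ_four] at d
  refine su_ext fun i j => ?_
  rw [e, d]
  fin_cases i <;> fin_cases j <;> simp [su_one]

variable {w : F} (hw : w ^ 2 + w + 1 = 0)

theorem cent (τ : F →+* F) {u : SU 4 F 2} (h1 : fa hF τ (up 3 (d1 hF hw)) * u = u * fa hF τ (up 3 (d1 hF hw)))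
    (h2 : fa hF τ (up 3 (cc hF)) * u = u * fa hF τ (up 3 (cc hF))) :
    u * (u * u) = 1 ∧ ∀ x, u * fa hF τ (up 3 x) = fa hF τ (up 3 x) * u := by
  have ht : τ w ^ 2 + τ w + 1 = 0 := by simpa using congrArg τ hw
  have e1 := congrArg (fun g : SU 4 F 2 => g.1.1) h1
  have e2 := congrArg (fun g : SU 4 F 2 => g.1.1) h2
  simp only [su_mul, fa_val, up_three, d1, dd, cc, mk3_val, ← Matrix.ext_iff, Fin.forall_fin_succ, mul_apply,
    Fin.sum_univ_four] at e1 e2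
  simp [Fin.sum_univ_four] at e1 e2
  clear h1 h2
  generalize τ w = t at ht e1
  have e : u.1.1 = diagonal ![u.1.1 0 0, u.1.1 0 0, u.1.1 0 0, u.1.1 3 3] := by
    ext i j
    fin_cases i <;> fin_cases j <;> simp <;> grind
  have d := u.1.2
  rw [e, det_diagonal] at d
  simp [Fin.prod_univ_four] at d
  have a3 : u.1.1 0 0 ^ 3 = 1 := cube hF fun h => by simp [h] at d
  have b1 : u.1.1 3 3 = 1 := by grind
  generalize u.1.1 0 0 = a at e a3
  rw [b1] at e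
  refine ⟨su_ext fun i j => ?_, fun x => su_ext fun i j => ?_⟩
  · rw [su_mul, su_mul, e]
    fin_cases i <;> fin_cases j <;> simp [su_one] <;> grind
  · rw [su_mul, su_mul, e, fa_val, up_three]
    fin_cases i <;> fin_cases j <;> simp [mul_comm]

include hF in
theorem emb34 (ρ : SU 3 F 2 →* SU 4 F 2) (hk : ρ.ker ≤ Subgroup.center _) :
    ∃ (T : SU 4 F 2) (τ : F →+* F), ∀ x, ρ x = T * fa hF τ (up 3 x) * T⁻¹ := by
  obtain ⟨w, hw⟩ := exw hF
  have hd : ρ (d1 hF hw) ≠ 1 := fun h => by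
    have := Subgroup.mem_center_iff.1 (hk h) (cc hF)
    rw [r_dc, right_eq_mul] at this
    have := congrArg (fun g : SU 3 F 2 => g.1.1 0 0) this
    simp [z1, dd, su_one] at this
    grind
  obtain ⟨a, b, y, a3, a1, b3, hy⟩ := eig2 hF (X := ρ (z1 hF hw)) (Y := ρ (d1 hF hw))
    (by rw [← map_mul, ← map_mul, r_z3, map_one]) (by rw [← map_mul, ← map_mul, r_d3, map_one])
    (by rw [← map_mul, r_zd, map_mul]) (z_ne hF hw ρ hd)
  have st : ∀ {b y}, Wt (ρ (z1 hF hw)) (ρ (d1 hF hw)) a b y →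
      Wt (ρ (z1 hF hw)) (ρ (d1 hF hw)) a (a * b) (ρ (cc hF) ⊳ y) := fun {b y} h => by
    have k : ρ (z1 hF hw) ⊳ ρ (cc hF) ⊳ y = a • ρ (cc hF) ⊳ y := by
      rw [← mul_act, ← map_mul, r_zc, map_mul, mul_act, h.2.1, mulVec_smul]
    refine ⟨(h_act _ _ _).trans h.1, k, ?_⟩
    rw [← mul_act, ← map_mul, r_dc, map_mul, map_mul, mul_act, mul_act, h.2.2, mulVec_smul, mulVec_smul, k, smul_smul,
      mul_comm]
  obtain ⟨y, hy⟩ : ∃ y, Wt (ρ (z1 hF hw)) (ρ (d1 hF hw)) a 1 y := by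
    have : b = 1 ∨ a * b = 1 ∨ a * (a * b) = 1 := by
      rcases cs3 hw a3 with e | e | e <;> rcases cs3 hw b3 with e' | e' | e' <;> grind
    rcases this with e | e | e
    exacts [⟨_, e ▸ hy⟩, ⟨_, e ▸ st hy⟩, ⟨_, e ▸ st (st hy)⟩]
  obtain ⟨τ, hτ⟩ : ∃ τ : F →+* F, τ w = a := by
    rcases cs3 hw a3 with e | e | e
    exacts [absurd e a1, ⟨RingHom.id F, e.symm⟩, ⟨conj hF, e.symm⟩]
  have y1 := st hy
  have y2 := st y1
  rw [mul_one] at y1 y2
  have a2 : (a * a) ^ 3 = 1 := by grind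
  obtain ⟨T, c, -, hT⟩ := witt hF Fin.castSucc (Fin.castSucc_injective 3)
    ![y, ρ (cc hF) ⊳ y, ρ (cc hF) ⊳ ρ (cc hF) ⊳ y] (fun i j => by
      fin_cases i <;> fin_cases j
      exacts [hy.1, orth hF a3 a1.symm hy.2.2 y1.2.2, orth hF a2 (by grind) hy.2.2 y2.2.2,
        orth hF (one_pow 3) a1 y1.2.2 hy.2.2, y1.1, orth hF a2 (by grind) y1.2.2 y2.2.2,
        orth hF (one_pow 3) (by grind) y2.2.2 hy.2.2, orth hF a3 (by grind) y2.2.2 y1.2.2, y2.1]) (Fin.last 3)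
  have t0 : T ⊳ Pi.single 0 1 = y := by simpa using hT 0
  have t1 : T ⊳ Pi.single 1 1 = ρ (cc hF) ⊳ y := by simpa using hT 1
  have t2 : T ⊳ Pi.single 2 1 = ρ (cc hF) ⊳ ρ (cc hF) ⊳ y := by simpa using hT 2
  have c3 : ρ (cc hF) ⊳ ρ (cc hF) ⊳ ρ (cc hF) ⊳ y = y := by
    rw [← mul_act, ← mul_act, mul_assoc, ← map_mul, ← map_mul, r_c3, map_one, one_act]
  let ρ1 : SU 3 F 2 →* SU 4 F 2 := (MulAut.conj T⁻¹).toMonoidHom.comp ρ
  let ρ2 : SU 3 F 2 →* SU 4 F 2 := (fa hF τ).comp (up 3)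
  have r1 : ∀ x, ρ1 x = T⁻¹ * ρ x * T := fun x => by simp [ρ1]
  have r2 : ∀ x, ρ2 x = fa hF τ (up 3 x) := fun x => rfl
  have md : d1 hF hw ∈ ρ1.eqLocus ρ2 := eq3 hF fun i => by
    rw [r1, r2, mul_act, mul_act]
    apply_fun (T ⊳ ·) using fun u v e => by simpa only [inv_act] using congrArg (T⁻¹ ⊳ ·) e
    simp only [act_inv]
    fin_cases i
    · have : fa hF τ (up 3 (d1 hF hw)) ⊳ Pi.single 0 1 = (1 : F) • Pi.single 0 1 := by
        ext k; fin_cases k <;> simp [fa_val, up_three, d1, dd]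
      change _ ⊳ T ⊳ Pi.single 0 1 = T ⊳ _ ⊳ Pi.single 0 1
      rw [this, mulVec_smul, t0, hy.2.2]
    · have : fa hF τ (up 3 (d1 hF hw)) ⊳ Pi.single 1 1 = a • Pi.single 1 1 := by
        ext k; fin_cases k <;> simp [fa_val, up_three, d1, dd, hτ]
      change _ ⊳ T ⊳ Pi.single 1 1 = T ⊳ _ ⊳ Pi.single 1 1
      rw [this, mulVec_smul, t1, y1.2.2]
    · have : fa hF τ (up 3 (d1 hF hw)) ⊳ Pi.single 2 1 = (a * a) • Pi.single 2 1 := by
        ext k; fin_cases k <;> simp [fa_val, up_three, d1, dd, hτ, sq]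
      change _ ⊳ T ⊳ Pi.single 2 1 = T ⊳ _ ⊳ Pi.single 2 1
      rw [this, mulVec_smul, t2, y2.2.2]
  have mc : cc hF ∈ ρ1.eqLocus ρ2 := eq3 hF fun i => by
    rw [r1, r2, mul_act, mul_act]
    apply_fun (T ⊳ ·) using fun u v e => by simpa only [inv_act] using congrArg (T⁻¹ ⊳ ·) e
    simp only [act_inv]
    fin_cases i
    · have : fa hF τ (up 3 (cc hF)) ⊳ Pi.single 0 1 = Pi.single 1 1 := by
        ext k; fin_cases k <;> simp [fa_val, up_three, cc]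
      change _ ⊳ T ⊳ Pi.single 0 1 = T ⊳ _ ⊳ Pi.single 0 1
      rw [this, t0, t1]
    · have : fa hF τ (up 3 (cc hF)) ⊳ Pi.single 1 1 = Pi.single 2 1 := by
        ext k; fin_cases k <;> simp [fa_val, up_three, cc]
      change _ ⊳ T ⊳ Pi.single 1 1 = T ⊳ _ ⊳ Pi.single 1 1
      rw [this, t1, t2]
    · have : fa hF τ (up 3 (cc hF)) ⊳ Pi.single 2 1 = Pi.single 0 1 := by
        ext k; fin_cases k <;> simp [fa_val, up_three, cc]
      change _ ⊳ T ⊳ Pi.single 2 1 = T ⊳ _ ⊳ Pi.single 2 1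
      rw [this, t2, t0, c3]
  have nm : ∀ x e1 e2, (x * x) * (x * x) = 1 → e1 ∈ ρ1.eqLocus ρ2 → e2 ∈ ρ1.eqLocus ρ2 → d1 hF hw * x = x * e1 →
      cc hF * x = x * e2 → x ∈ ρ1.eqLocus ρ2 := by
    intro x e1 e2 h4 m1 m2 h1 h2
    have k : ∀ g e, g ∈ ρ1.eqLocus ρ2 → e ∈ ρ1.eqLocus ρ2 → g * x = x * e →
        ρ2 g * (ρ1 x * (ρ2 x)⁻¹) = (ρ1 x * (ρ2 x)⁻¹) * ρ2 g := fun g e hg he h => by
      have a1 := congrArg ρ1 h
      have a2 := congrArg ρ2 h
      rw [map_mul, map_mul] at a1 a2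
      rw [show ρ1 g = ρ2 g from hg, show ρ1 e = ρ2 e from he] at a1
      rw [← mul_assoc, a1, mul_assoc, mul_assoc, mul_right_inj, eq_inv_mul_iff_mul_eq, ← mul_assoc, ← a2,
        mul_inv_cancel_right]
    obtain ⟨u3, hu⟩ := cent hF hw τ (k _ _ md m1 h1) (k _ _ mc m2 h2)
    have hc : Commute (ρ1 x * (ρ2 x)⁻¹) (ρ2 x) := hu x
    have p1 : ρ1 x ^ 4 = 1 := by rw [← map_pow, show x ^ 4 = (x * x) * (x * x) by simp [pow_succ, mul_assoc], h4, map_one]
    have p2 : ρ2 x ^ 4 = 1 := by rw [← map_pow, show x ^ 4 = (x * x) * (x * x) by simp [pow_succ, mul_assoc], h4, map_one]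
    have := hc.mul_pow 4
    rw [inv_mul_cancel_right, p1, p2, mul_one] at this
    generalize hu' : ρ1 x * (ρ2 x)⁻¹ = u at this u3
    have : u = 1 := by
      rw [show u ^ 4 = u * (u * (u * u)) by simp [pow_succ, mul_assoc], u3, mul_one] at this
      exact this.symm
    exact mul_inv_eq_one.1 (hu'.trans this)
  have := gen3 hF hw _ md mc (nm _ _ _ (r_h4 hF hw) mc (mul_mem md md) (r_dh hF hw) (r_ch hF hw))
    (nm _ _ _ (r_k4 hF hw) (mul_mem mc md) (mul_mem md (mul_mem md (mul_mem mc (mul_mem md (mul_mem mc md)))))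
      (r_dk hF hw) (r_ck hF hw))
  refine ⟨T, τ, fun x => ?_⟩
  have e : ρ1 x = ρ2 x := (this ▸ Subgroup.mem_top x : x ∈ ρ1.eqLocus ρ2)
  rw [← r2, ← e, r1]
  group

end CA.H10Ph
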