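import Cfsg.Agent.Lib.Lin.Phan2

/-! Orthonormal lists and blocks of size three. -/

set_option autoImplicit false

namespace CA.Phan

open Matrix Cfsg CA.CForm

variable {F : Type*} [Field F] {N n : ℕ}

/-- Orthonormal lists. -/
def ON (q : ℕ) (l : List (Fin N → F)) : Prop :=
  l.Pairwise (fun a b => hermForm N F q a b = 0) ∧ ∀ a ∈ l, hermForm N F q a a = 1

variable {q : ℕ}

local notation "⟪" u ", " v "⟫" => hermForm _ F q u v

/-- The `i`-th block `SU 3` of `SU (m + 3)`. -/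
def blk3 : (m : ℕ) → ℕ → (SU 3 F q →* SU (m + 3) F q)
  | 0, _ => MonoidHom.id _
  | m + 1, 0 => (up (m + 3)).comp (blk3 m 0)
  | m + 1, i + 1 => (lo (m + 3)).comp (blk3 m i)

theorem blk3_up : ∀ (m i : ℕ), i ≤ m → blk3 (F := F) (q := q) (m + 1) i = (up (m + 3)).comp (blk3 m i)
  | _, 0, _ => rfl
  | m + 1, i + 1, h => MonoidHom.ext fun x => by
    change lo _ (blk3 (m + 1) i x) = up _ (lo _ (blk3 m i x))
    rw [blk3_up m i (by omega), up_lo]; rfl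

theorem blk3_comp_up : ∀ (m i : ℕ) (x : SU 2 F q), i ≤ m → blk3 m i (up 2 x) = blk (m + 1) i x
  | 0, 0, _, _ => rfl
  | m + 1, 0, x, _ => congrArg (up _) (blk3_comp_up m 0 x (by omega))
  | m + 1, i + 1, x, _ => congrArg (lo _) (blk3_comp_up m i x (by omega))

theorem blk3_comp_lo : ∀ (m i : ℕ) (x : SU 2 F q), i ≤ m → blk3 m i (lo 2 x) = blk (m + 1) (i + 1) x
  | 0, 0, _, _ => rfl
  | m + 1, 0, x, _ => by
    rw [blk_up (m + 1) (0 + 1) (by omega)]; exact congrArg (up _) (blk3_comp_lo m 0 x (by omega))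
  | m + 1, i + 1, x, _ => congrArg (lo _) (blk3_comp_lo m i x (by omega))

theorem blk3_supp : ∀ (m i : ℕ) (x : SU 3 F q), i ≤ m → ∀ k l : Fin (m + 3), k.1 ≠ i → k.1 ≠ i + 1 →
    k.1 ≠ i + 2 → ((blk3 m i x).1.1 - 1) k l = 0 ∧ ((blk3 m i x).1.1 - 1) l k = 0
  | 0, i, x, h, k, l, h1, h2, h3 => by omega
  | m + 1, 0, x, h, k, l, h1, h2, h3 => E_supp _ (fun a e b => blk3_supp m 0 x (by omega) a b
      (by rw [e, Fin.succAbove_last] at h1; exact h1) (by rw [e, Fin.succAbove_last] at h2; exact h2)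
      (by rw [e, Fin.succAbove_last] at h3; exact h3)) l
  | m + 1, i + 1, x, h, k, l, h1, h2, h3 => E_supp _ (fun a e b => blk3_supp m i x (by omega) a b
      (by rw [e, Fin.succAbove_zero, Fin.val_succ] at h1; omega)
      (by rw [e, Fin.succAbove_zero, Fin.val_succ] at h2; omega)
      (by rw [e, Fin.succAbove_zero, Fin.val_succ] at h3; omega)) l

theorem comm_of_supp {A B : SU N F q} (h : ∀ k, (∀ l, (A.1.1 - 1) k l = 0 ∧ (A.1.1 - 1) l k = 0) ∨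
    ∀ l, (B.1.1 - 1) k l = 0 ∧ (B.1.1 - 1) l k = 0) : Commute A B := by
  have h1 : (A.1.1 - 1) * (B.1.1 - 1) = 0 := by
    ext a b
    rw [mul_apply]
    exact Finset.sum_eq_zero fun k _ => (h k).elim (fun e => by rw [(e a).2, zero_mul])
      fun e => by rw [(e b).1, mul_zero]
  have h2 : (B.1.1 - 1) * (A.1.1 - 1) = 0 := by
    ext a b
    rw [mul_apply]
    exact Finset.sum_eq_zero fun k _ => (h k).elim (fun e => by rw [(e b).1, mul_zero])
      fun e => by rw [(e a).2, zero_mul]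
  refine Subtype.ext (Subtype.ext ?_)
  change A.1.1 * B.1.1 = B.1.1 * A.1.1
  rw [← sub_eq_zero, ← h1.trans h2.symm |> sub_eq_zero.2]
  noncomm_ring

theorem blk3_comm {m i j : ℕ} (hj : j ≤ m) {x y : SU 3 F q}
    (h : (i + 2 ≤ j ∧ (x ∈ (up 2).range ∨ y ∈ (lo 2).range)) ∨ i + 3 ≤ j) : Commute (blk3 m i x) (blk3 m j y) := by
  refine comm_of_supp fun k => ?_
  rcases h with ⟨h, ⟨x, rfl⟩ | ⟨y, rfl⟩⟩ | h
  · rw [blk3_comp_up m i x (by omega)]
    by_cases c : k.1 ≠ i ∧ k.1 ≠ i + 1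
    · exact Or.inl fun l => blk_supp (m + 1) i x (by omega) k l c.1 c.2
    · exact Or.inr fun l => blk3_supp m j y hj k l (by omega) (by omega) (by omega)
  · rw [blk3_comp_lo m j y hj]
    by_cases c : k.1 ≠ j + 1 ∧ k.1 ≠ j + 1 + 1
    · exact Or.inr fun l => blk_supp (m + 1) (j + 1) y (by omega) k l c.1 c.2
    · exact Or.inl fun l => blk3_supp m i x (by omega) k l (by omega) (by omega) (by omega)
  · by_cases c : k.1 ≠ i ∧ k.1 ≠ i + 1 ∧ k.1 ≠ i + 2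
    · exact Or.inl fun l => blk3_supp m i x (by omega) k l c.1 c.2.1 c.2.2
    · exact Or.inr fun l => blk3_supp m j y hj k l (by omega) (by omega) (by omega)

theorem E_single3 (m : Fin (n + 1)) (g : Matrix (Fin n) (Fin n) F) {a b c d : Fin n} {α β γ : F}
    (h : g *ᵥ Pi.single a 1 = α • Pi.single b 1 + β • Pi.single c 1 + γ • Pi.single d 1) :
    E m g *ᵥ Pi.single (m.succAbove a) 1 = α • Pi.single (m.succAbove b) 1 + β • Pi.single (m.succAbove c) 1 +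
      γ • Pi.single (m.succAbove d) 1 := by
  funext i
  induction i using m.succAboveCases with
  | x => simp [mulVec_single_one, Pi.single_apply]
  | p i => simpa [mulVec_single_one, Pi.single_apply] using congrFun h i

theorem ON.cons {l : List (Fin N → F)} (h : ON q l) {a : Fin N → F} (h1 : ⟪a, a⟫ = 1) (h2 : ∀ b ∈ l, ⟪a, b⟫ = 0) :
    ON q (a :: l) := ⟨List.pairwise_cons.2 ⟨h2, h.1⟩, List.forall_mem_cons.2 ⟨h1, h.2⟩⟩

variable [Fintype F] (hF : Fintype.card F = q ^ 2)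

local notation "σ" => conj hF

include hF

theorem ON.fam {l : List (Fin N → F)} (h : ON q l) (i k : Fin l.length) :
    ⟪l.get i, l.get k⟫ = if i = k then 1 else 0 := by
  rcases lt_trichotomy i k with e | rfl | e
  · rw [if_neg e.ne]; exact List.pairwise_iff_get.1 h.1 i k e
  · rw [if_pos rfl]; exact h.2 _ (List.get_mem _ _)
  · rw [if_neg e.ne']; exact hz hF (List.pairwise_iff_get.1 h.1 k i e)

theorem ON.ext {l : List (Fin N → F)} (h : ON q l) (hN : l.length < N) : ∃ y, ⟪y, y⟫ = 1 ∧ ∀ a ∈ l, ⟪y, a⟫ = 0 := by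
  obtain ⟨y, h1, h2⟩ := Phan.ext hF (by simpa using hN) l.get (h.fam hF)
  exact ⟨y, h1, fun a ha => by obtain ⟨i, rfl⟩ := List.get_of_mem ha; exact h2 i⟩

theorem ON.len {l : List (Fin N → F)} (h : ON q l) : l.length ≤ N := by
  have : LinearIndependent F l.get := Fintype.linearIndependent_iff.2 fun c hc k => by
    have := congrArg ((hermStd hF N).B (l.get k)) hc
    rw [map_zero, map_sum] at this
    simp only [map_smul, hermStd_B, h.fam hF] at this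
    simpa using this
  simpa using this.fintype_card_le_finrank

theorem ON.split {r z : Fin N → F} (h0 : ⟪r, r⟫ = 0) (hz1 : ⟪z, z⟫ = 1) (h : ⟪r, z⟫ ≠ 0) :
    ∃ (p : Fin N → F) (β : F), ⟪p, p⟫ = 1 ∧ ⟪p, z⟫ = 0 ∧ r = ⟪r, z⟫ • z + β • p ∧
      ∀ y, ⟪r, y⟫ = 0 → ⟪z, y⟫ = 0 → ⟪p, y⟫ = 0 := by
  obtain ⟨p, β, b0, b1, b2, -⟩ := nrm hF (y := r - ⟪r, z⟫ • z) (by
    rw [hsl, hsr hF, hsr hF, hml, hml, hmr hF, hmr hF, h0, hz1, hsy hF r z]
    have : σ ⟪r, z⟫ ≠ 0 := by simpa using h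
    intro e; apply mul_ne_zero h this; linear_combination -e)
  have k : ∀ y, ⟪r, y⟫ - ⟪r, z⟫ * ⟪z, y⟫ = β * ⟪p, y⟫ := fun y => by rw [← hml, ← hml, ← hsl, b2]
  refine ⟨p, β, b1, ?_, by rw [← b2]; simp, fun y h1 h2 => ?_⟩
  · have := k z
    rw [hz1, mul_one, sub_self] at this
    exact (mul_eq_zero.1 this.symm).resolve_left b0
  · have := k y
    rw [h1, h2, mul_zero, sub_self] at this
    exact (mul_eq_zero.1 this.symm).resolve_left b0

theorem ON.iso {l : List (Fin N → F)} (h : ON q l) {r : Fin N → F} (hr : r ≠ 0) (h0 : ⟪r, r⟫ = 0)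
    (hl : ∀ a ∈ l, ⟪r, a⟫ = 0) : ∃ (p₁ p₂ : Fin N → F) (α β : F), ON q (p₂ :: p₁ :: l) ∧ r = α • p₁ + β • p₂ := by
  obtain ⟨j⟩ : Nonempty (Fin l.length ↪ Fin N) := Function.Embedding.nonempty_of_card_le (by simpa using h.len hF)
  obtain ⟨m, -⟩ := Function.ne_iff.1 hr
  obtain ⟨g, c, hc, hg⟩ := witt hF j j.2 l.get (h.fam hF) m
  have e : g.1.1 *ᵥ (g⁻¹).1.1 *ᵥ r = r := by
    rw [mulVec_mulVec]; exact (congrArg (fun x : SU N F q => x.1.1 *ᵥ r) (mul_inv_cancel g)).trans (one_mulVec r)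
  obtain ⟨k, hk⟩ : ∃ k, ((g⁻¹).1.1 *ᵥ r) k ≠ 0 := Function.ne_iff.1 fun e' => hr (by rw [← e, e']; exact mulVec_zero _)
  rw [← hsingle hF ((g⁻¹).1.1 *ᵥ r) k, ← mem_SU.1 g.2, e] at hk
  have z1 : ⟪g.1.1 *ᵥ Pi.single k 1, g.1.1 *ᵥ Pi.single k 1⟫ = 1 := by rw [mem_SU.1 g.2, hsingle hF]; simp
  have z2 : ∀ a ∈ l, ⟪g.1.1 *ᵥ Pi.single k 1, a⟫ = 0 := fun a ha => by
    obtain ⟨i, rfl⟩ := List.get_of_mem ha
    have e1 : j i ≠ k := fun e1 => hk (by rw [← e1, hg, hmr hF, hl _ ha, mul_zero])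
    have := mem_SU.1 g.2 (Pi.single k 1) (Pi.single (j i) 1)
    rw [hg, hmr hF, hsingle hF, Pi.single_eq_of_ne e1] at this
    refine (mul_eq_zero.1 this).resolve_left ?_
    split_ifs
    · intro e2; simp [e2] at hc
    · simp
  obtain ⟨p, β, p1, p2, p3, p4⟩ := ON.split hF h0 z1 hk
  exact ⟨_, p, _, β, (h.cons z1 z2).cons p1 (List.forall_mem_cons.2 ⟨p2, fun a ha => p4 a (hl a ha) (z2 a ha)⟩), p3⟩

theorem ON.one {l : List (Fin N → F)} (h : ON q l) (hN : l.length < N) {r : Fin N → F} (hr : r = 0 ∨ ⟪r, r⟫ ≠ 0)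
    (hl : ∀ a ∈ l, ⟪r, a⟫ = 0) : ∃ (p : Fin N → F) (α : F), ON q (p :: l) ∧ r = α • p := by
  rcases hr with rfl | hr
  · obtain ⟨y, h1, h2⟩ := h.ext hF hN
    exact ⟨y, 0, h.cons h1 h2, by simp⟩
  · obtain ⟨p, β, b0, b1, rfl, -⟩ := nrm hF hr
    exact ⟨p, β, h.cons b1 fun a ha => by simpa [hml, b0] using hl a ha, rfl⟩

theorem ON.two {l : List (Fin N → F)} (h : ON q l) (hN : l.length + 1 < N) {r : Fin N → F}
    (hl : ∀ a ∈ l, ⟪r, a⟫ = 0) : ∃ (p₁ p₂ : Fin N → F) (α β : F), ON q (p₂ :: p₁ :: l) ∧ r = α • p₁ + β • p₂ := by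
  by_cases hr : r = 0 ∨ ⟪r, r⟫ ≠ 0
  · obtain ⟨p, α, h1, rfl⟩ := h.one hF (by omega) hr hl
    obtain ⟨y, y1, y2⟩ := h1.ext hF hN
    exact ⟨p, y, α, 0, h1.cons y1 y2, by simp⟩
  · push Not at hr
    exact h.iso hF hr.1 hr.2 hl

theorem g5 (hN : 5 ≤ N) {a b : Fin N → F} (ha : ⟪a, a⟫ = 1) (hb : ⟪b, b⟫ = 1) (h : ⟪b, a⟫ = 0) (c : Fin N → F) :
    ∃ y, ⟪y, y⟫ = 1 ∧ ⟪y, a⟫ = 0 ∧ ⟪y, b⟫ = 0 ∧ ⟪y, c⟫ = 0 := by
  obtain ⟨r, r1, r2, r3, -⟩ := proj hF ha hb h c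
  obtain ⟨p, p', α, β, h1, rfl⟩ := ON.two hF (l := [b, a]) ⟨by simp [h], by simp [ha, hb]⟩ (by simp; omega)
    (r := r) (by simp [r1, r2])
  obtain ⟨y, y1, y2⟩ := h1.ext hF (by simp; omega)
  simp only [List.mem_cons, forall_eq_or_imp, List.not_mem_nil, false_imp_iff, implies_true, and_true] at y2
  obtain ⟨y2, y3, y4, y5⟩ := y2
  exact ⟨y, y1, y5, y4, by rw [← r3 y y5 y4, har hF, hmr hF, hmr hF, y2, y3]; simp⟩

theorem e4 (hN : 4 ≤ N) {a : Fin N → F} (ha : ⟪a, a⟫ = 1) (c : Fin N → F) :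
    ∃ y, ⟪y, y⟫ = 1 ∧ ⟪y, a⟫ = 0 ∧ ⟪y, c⟫ = 0 := by
  obtain ⟨p, p', α, β, h1, e⟩ := ON.two hF (l := [a]) ⟨by simp, by simp [ha]⟩ (by simp; omega)
    (r := c - ⟪c, a⟫ • a) (by simp [hsl, hml, ha])
  obtain ⟨y, y1, y2⟩ := h1.ext hF (by simp; omega)
  simp only [List.mem_cons, forall_eq_or_imp, List.not_mem_nil, false_imp_iff, implies_true, and_true] at y2
  obtain ⟨y2, y3, y4⟩ := y2
  refine ⟨y, y1, y4, ?_⟩
  rw [sub_eq_iff_eq_add.1 e, har hF, har hF, hmr hF, hmr hF, hmr hF, y2, y3, y4]; simp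

theorem gen4 : (up (n + 3)).range ⊔ (lo (n + 3)).range = (⊤ : Subgroup (SU (n + 4) F q)) := by
  have l0 : Fin.last (n + 3) ≠ 0 := Fin.last_pos.ne'
  set M := (up (n + 3)).range ⊔ (lo (F := F) (q := q) (n + 3)).range
  set v := pt (q := q) hF (Fin.last (n + 3))
  refine eq_top_iff.2 fun g _ => ?_
  obtain ⟨y, y1, y2, y3⟩ := e4 hF (by omega) v.2 (g • v).1
  obtain ⟨h, hh⟩ := trans2 hF l0 (y := ⟨y, y1⟩) y2
  obtain ⟨k, hk⟩ := trans2 hF l0.symm (y := (up _ h)⁻¹ • g • v) (by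
    rw [← h_smul (up _ h), smul_inv_smul, hh]; exact hz hF y3)
  have m := M.mul_mem (Subgroup.mem_sup_left ⟨h, rfl⟩) (Subgroup.mem_sup_right ⟨k, rfl⟩)
  have : (up _ h * lo _ k)⁻¹ * g ∈ M := Subgroup.mem_sup_left (stab hF _ (by
    rw [mul_smul, inv_smul_eq_iff, mul_smul, hk, smul_inv_smul]))
  have := M.mul_mem m this
  rwa [mul_inv_cancel_left] at this

theorem blk3_ext {J : Type*} [Group J] : ∀ (m : ℕ) (f g : SU (m + 3) F q →* J),
    (∀ i ≤ m, f.comp (blk3 m i) = g.comp (blk3 m i)) → f = g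
  | 0, _, _, h => h 0 le_rfl
  | m + 1, f, g, h => by
    have h1 := blk3_ext m (f.comp (up _)) (g.comp (up _)) fun i hi => by
      rw [MonoidHom.comp_assoc, MonoidHom.comp_assoc, ← blk3_up m i hi, h i (by omega)]
    have h2 := blk3_ext m (f.comp (lo _)) (g.comp (lo _)) fun i hi => h (i + 1) (by omega)
    have : (⊤ : Subgroup (SU (m + 4) F q)) ≤ f.eqLocus g := by
      rw [← gen4 hF]
      refine sup_le ?_ ?_ <;> rintro _ ⟨x, rfl⟩
      exacts [DFunLike.congr_fun h1 x, DFunLike.congr_fun h2 x]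
    exact MonoidHom.ext fun x => this (Subgroup.mem_top x)

theorem su3 {α β γ : F} (h : α * σ α + β * σ β + γ * σ γ = 1) {i j k : Fin 3} (h1 : i ≠ j) (h2 : i ≠ k)
    (h3 : j ≠ k) :
    ∃ x : SU 3 F q, x.1.1 *ᵥ Pi.single i 1 = α • Pi.single i 1 + β • Pi.single j 1 + γ • Pi.single k 1 := by
  obtain ⟨g, c, -, hg⟩ := witt hF (κ := Fin 1) ![i] (fun a b _ => Subsingleton.elim a b)
    ![α • Pi.single i 1 + β • Pi.single j 1 + γ • Pi.single k 1] (fun a b => by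
      fin_cases a; fin_cases b
      simp [hal, har hF, hml, hmr hF, hsingle hF, h1, h1.symm, h2, h2.symm, h3, h3.symm, mul_comm, h]) j
  exact ⟨g, by simpa [h1] using hg 0⟩

theorem blk3_first {α β γ : F} (h : α * σ α + β * σ β + γ * σ γ = 1) : ∀ m : ℕ, ∃ x : SU 3 F q,
    (blk3 m 0 x).1.1 *ᵥ Pi.single 0 1 = α • Pi.single 0 1 + β • Pi.single 1 1 + γ • Pi.single ⟨2, by omega⟩ 1
  | 0 => su3 hF h (k := 2) (by decide) (by decide) (by decide)
  | m + 1 => (blk3_first h m).imp fun x hx => by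
    have := E_single3 (Fin.last _) _ hx
    rw [Fin.succAbove_last, Fin.castSucc_zero, Fin.castSucc_one] at this
    exact this

theorem blk3_last {α β γ : F} (h : α * σ α + β * σ β + γ * σ γ = 1) : ∀ m : ℕ, ∃ x : SU 3 F q,
    (blk3 m m x).1.1 *ᵥ Pi.single (Fin.last _) 1 = α • Pi.single (Fin.last _) 1 +
      β • Pi.single (Fin.last _).castSucc 1 + γ • Pi.single (Fin.last _).castSucc.castSucc 1
  | 0 => su3 hF h (by decide) (by decide) (by decide)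
  | m + 1 => (blk3_last h m).imp fun x hx => by
    have := E_single3 0 _ hx
    rw [Fin.succAbove_zero, Fin.succ_castSucc, Fin.succ_castSucc, Fin.succ_castSucc, Fin.succ_last,
      Fin.succ_last, Fin.succ_last] at this
    exact this

open Polynomial in
theorem exists_t2 (hq : 2 < q) (α β : F) :
    ∃ t, 1 + t * σ t ≠ 0 ∧ (α + t * β) * σ (α + t * β) ≠ 1 + t * σ t := by
  let P : F → F → F[X] := fun α β => C (1 - β * σ β) * X ^ (q + 1) + C (-(α * σ β)) * X ^ q +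
    C (-(β * σ α)) * X ^ 1 + C (1 - α * σ α) * X ^ 0
  have h1 : ∀ α β, P α β ≠ 0 := fun α β h => by
    have c0 := congrArg (coeff · 0) h
    have c1 := congrArg (coeff · 1) h
    have c2 := congrArg (coeff · (q + 1)) h
    simp only [P, coeff_add, coeff_C_mul, coeff_X_pow, coeff_zero] at c0 c1 c2
    rw [if_neg (by omega), if_neg (by omega), if_neg (by omega), if_pos trivial] at c0
    rw [if_neg (by omega), if_neg (by omega), if_pos trivial, if_neg (by omega)] at c1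
    rw [if_pos trivial, if_neg (by omega), if_neg (by omega), if_neg (by omega)] at c2
    have : (1 : F) = 0 := by
      linear_combination c0 + α * σ α * c2 - α * σ β * c1
    exact one_ne_zero this
  have h2 : ∀ α β, (P α β).natDegree ≤ q + 1 := fun α β =>
    natDegree_add_le_of_degree_le (natDegree_add_le_of_degree_le (natDegree_add_le_of_degree_le
      (natDegree_C_mul_X_pow_le _ _) ((natDegree_C_mul_X_pow_le _ _).trans (by omega)))
      ((natDegree_C_mul_X_pow_le _ _).trans (by omega))) ((natDegree_C_mul_X_pow_le _ _).trans (by omega))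
  have h3 : ∀ α β t, (P α β).eval t = 1 + t * σ t - (α + t * β) * σ (α + t * β) := fun α β t => by
    simp only [P, eval_add, eval_mul, eval_C, eval_pow, eval_X, map_add, map_mul, pow_succ, ← conj_apply hF]
    ring
  by_contra hc
  push Not at hc
  refine mul_ne_zero (h1 0 0) (h1 α β)
    (eq_zero_of_natDegree_lt_card_of_eval_eq_zero _ Function.injective_id (fun t => ?_) ?_)
  · rw [eval_mul, h3, h3, id]
    by_cases a : 1 + t * σ t = 0
    · simp [a]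
    · rw [hc t a]; simp
  · have := h2 0 0; have := h2 α β
    have := natDegree_mul_le (p := P 0 0) (q := P α β)
    rw [hF]; nlinarith

theorem line2 (hq : 2 < q) {p r : Fin N → F} (hp : ⟪p, p⟫ = 1) (hr : ⟪r, r⟫ = 1) (h : ⟪r, p⟫ = 0) (a : Fin N → F) :
    ∃ y, ⟪y, y⟫ = 1 ∧ (∀ x, ⟪p, x⟫ = 0 → ⟪r, x⟫ = 0 → ⟪y, x⟫ = 0) ∧ ⟪y, a⟫ * σ ⟪y, a⟫ ≠ 1 := by
  obtain ⟨t, h1, h2⟩ := exists_t2 hF hq ⟪p, a⟫ ⟪r, a⟫
  have e : ⟪p + t • r, p + t • r⟫ = 1 + t * σ t := by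
    simp only [hal, har hF, hml, hmr hF, hp, hr, h, hz hF h]; ring
  obtain ⟨z, β, h0, h4, h5, h6⟩ := nrm hF (y := p + t • r) (e ▸ h1)
  have e1 : ∀ x, ⟪p, x⟫ + t * ⟪r, x⟫ = β * ⟪z, x⟫ := fun x => by rw [← hml, ← hml, ← hal, h5]
  rw [e] at h6
  refine ⟨z, h4, fun x a b => ?_, fun a => h2 ?_⟩
  · have := e1 x
    rw [a, b, mul_zero, add_zero] at this
    exact (mul_eq_zero.1 this.symm).resolve_left h0
  all_goals rw [e1, map_mul, ← h6]; linear_combination β * σ β * a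

theorem gen' (hq : 2 < q) : (up (n + 2)).range ⊔ (lo (n + 2)).range = (⊤ : Subgroup (SU (n + 3) F q)) := by
  have l0 : Fin.last (n + 2) ≠ 0 := Fin.last_pos.ne'
  set M := (up (n + 2)).range ⊔ (lo (F := F) (q := q) (n + 2)).range
  set v := pt (q := q) hF (Fin.last (n + 2))
  have c1 : ∀ w : Un (n + 3) F q, ⟪w.1, v.1⟫ * σ ⟪w.1, v.1⟫ ≠ 1 → ∃ g ∈ M, g • v = w := fun w hw => by
    obtain ⟨b, β, -, k1, k2, k3, -⟩ := gs hF v.2 w.2 hw
    obtain ⟨y, y1, y2, y3⟩ := ex2 hF (by omega) v.2 k1 k2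
    obtain ⟨h, hh⟩ := trans2 hF l0 (y := ⟨y, y1⟩) y2
    obtain ⟨k, hk⟩ := trans2 hF l0.symm (y := (up _ h)⁻¹ • w) (by
      rw [← h_smul (up _ h), smul_inv_smul, hh, hz hF]
      rw [k3, har hF, hmr hF, hmr hF, y2, y3]; simp)
    exact ⟨up _ h * lo _ k, M.mul_mem (Subgroup.mem_sup_left ⟨h, rfl⟩) (Subgroup.mem_sup_right ⟨k, rfl⟩),
      by rw [mul_smul, hk, smul_inv_smul]⟩
  refine eq_top_iff.2 fun g _ => ?_
  obtain ⟨p, p1, p2⟩ := ex1 hF (by omega) v.2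
  obtain ⟨r, r1, r2, r3⟩ := ex2 hF (by omega) v.2 p1 p2
  obtain ⟨y, y1, y2, y3⟩ := line2 hF hq p1 r1 r3 (g • v).1
  obtain ⟨a, ha, e⟩ := c1 ⟨y, y1⟩ (by rw [y2 _ p2 r2]; simp)
  obtain ⟨b, hb, e'⟩ := c1 (a⁻¹ • g • v) (by
    rw [← h_smul a, smul_inv_smul, e, hsy hF, conj_conj, mul_comm]; exact y3)
  have : (a * b)⁻¹ * g ∈ M := Subgroup.mem_sup_left (stab hF _ (by
    rw [mul_smul, inv_smul_eq_iff, mul_smul, e', smul_inv_smul]))
  have := M.mul_mem (M.mul_mem ha hb) this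
  rwa [mul_inv_cancel_left] at this

theorem gen3' (hq : 2 < q) : (up 2).range ⊔ (lo 2).range = (⊤ : Subgroup (SU 3 F q)) := gen' hF (n := 0) hq

end CA.Phan
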