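import Cfsg.Agent.Lib.Lin.Phan3
import Cfsg.Agent.Lib.Lin.Phan4

/-! The special unitary group as universal completion of its rank three Phan amalgam (all `q`). -/

set_option autoImplicit false

namespace CA.Phan

open Matrix Cfsg CA.CForm

variable {F : Type*} [Field F] [Fintype F] {q N n : ℕ} (hF : Fintype.card F = q ^ 2)

local notation "⟪" u ", " v "⟫" => hermForm _ F q u v
local notation "σ" => conj hF

theorem nm3 {a b c w : Fin N → F} {α β γ : F} (ha : ⟪a, a⟫ = 1) (hb : ⟪b, b⟫ = 1) (hc : ⟪c, c⟫ = 1)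
    (h1 : ⟪b, a⟫ = 0) (h2 : ⟪c, a⟫ = 0) (h3 : ⟪c, b⟫ = 0) (hw : ⟪w, w⟫ = 1) (e : w = α • a + β • b + γ • c) :
    α * σ α + β * σ β + γ * σ γ = 1 := by
  rw [e] at hw
  simp only [hal, har hF, hml, hmr hF, ha, hb, hc, h1, h2, h3, hz hF h1, hz hF h2, hz hF h3] at hw
  linear_combination hw

/-- The conclusion for a standard square. -/
def Sq (u' v' : Un (n + 5) F q) : Prop :=
  ∃ (t : SU (n + 5) F q) (x y : SU 3 F q), (x ∈ (up 2).range ∨ y ∈ (lo 2).range ∨ 1 ≤ n) ∧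
    t • pt hF (0 : Fin (n + 5)) = pt hF 0 ∧ t • pt hF (Fin.last (n + 4)) = pt hF (Fin.last (n + 4)) ∧
    t • blk3 (n + 2) 0 x • pt hF (0 : Fin (n + 5)) = u' ∧
    t • blk3 (n + 2) (n + 2) y • pt hF (Fin.last (n + 4)) = v'

theorem first3 {t : SU (n + 5) F q} {u' : Un (n + 5) F q} {a b : Fin (n + 5) → F} {α β γ c : F} (hc : c * σ c = 1)
    (t0 : t.1.1 *ᵥ Pi.single 0 1 = (pt hF 0).1) (t1 : t.1.1 *ᵥ Pi.single 1 1 = c • a)
    (t2 : t.1.1 *ᵥ Pi.single ⟨2, by omega⟩ 1 = b) (h : α * σ α + β * σ β + γ * σ γ = 1)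
    (e : u'.1 = α • (pt hF 0).1 + β • a + γ • b) : ∃ x : SU _ F q, t • blk3 (n + 2) 0 x • pt hF (0 : Fin (n + 5)) = u' := by
  obtain ⟨x, hx⟩ := blk3_first hF (α := α) (β := β * σ c) (γ := γ) (by
    rw [map_mul, conj_conj]; linear_combination h + β * σ β * hc) (n + 2)
  refine ⟨x, Subtype.ext ?_⟩
  change t.1.1 *ᵥ (blk3 (n + 2) 0 x).1.1 *ᵥ Pi.single 0 1 = _
  rw [hx, mulVec_add, mulVec_add, mulVec_smul, mulVec_smul, mulVec_smul, t0, t1, t2, smul_smul, mul_assoc,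
    mul_comm _ c, hc, mul_one, e]

theorem first2 {t : SU (n + 5) F q} {u' : Un (n + 5) F q} {a : Fin (n + 5) → F} {α β c : F} (hc : c * σ c = 1)
    (t0 : t.1.1 *ᵥ Pi.single 0 1 = (pt hF 0).1) (t1 : t.1.1 *ᵥ Pi.single 1 1 = c • a)
    (h : α * σ α + β * σ β = 1) (e : u'.1 = α • (pt hF 0).1 + β • a) :
    ∃ x : SU _ F q, t • blk3 (n + 2) 0 (up 2 x) • pt hF (0 : Fin (n + 5)) = u' := by
  obtain ⟨x, hx⟩ := blk_first hF (α := α) (β := β * σ c) (by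
    rw [map_mul, conj_conj]; linear_combination h + β * σ β * hc) (n + 3)
  refine ⟨x, Subtype.ext ?_⟩
  rw [blk3_comp_up _ _ _ (by omega)]
  change t.1.1 *ᵥ (blk (n + 3) 0 x).1.1 *ᵥ Pi.single 0 1 = _
  rw [hx, mulVec_add, mulVec_smul, mulVec_smul, t0, t1, smul_smul, mul_assoc, mul_comm _ c, hc, mul_one, e]

theorem last3 {t : SU (n + 5) F q} {v' : Un (n + 5) F q} {a b : Fin (n + 5) → F} {α β γ : F}
    (t0 : t.1.1 *ᵥ Pi.single (Fin.last _) 1 = (pt hF (Fin.last _)).1)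
    (t1 : t.1.1 *ᵥ Pi.single (Fin.last _).castSucc 1 = a)
    (t2 : t.1.1 *ᵥ Pi.single (Fin.last _).castSucc.castSucc 1 = b) (h : α * σ α + β * σ β + γ * σ γ = 1)
    (e : v'.1 = α • (pt hF (Fin.last _)).1 + β • a + γ • b) :
    ∃ x : SU _ F q, t • blk3 (n + 2) (n + 2) x • pt hF (Fin.last (n + 4)) = v' := by
  obtain ⟨x, hx⟩ := blk3_last hF h (n + 2)
  refine ⟨x, Subtype.ext ?_⟩
  change t.1.1 *ᵥ (blk3 (n + 2) (n + 2) x).1.1 *ᵥ Pi.single (Fin.last _) 1 = _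
  rw [hx, mulVec_add, mulVec_add, mulVec_smul, mulVec_smul, mulVec_smul, t0, t1, t2, e]

theorem last2 {t : SU (n + 5) F q} {v' : Un (n + 5) F q} {a : Fin (n + 5) → F} {α β : F}
    (t0 : t.1.1 *ᵥ Pi.single (Fin.last _) 1 = (pt hF (Fin.last _)).1)
    (t1 : t.1.1 *ᵥ Pi.single (Fin.last _).castSucc 1 = a) (h : α * σ α + β * σ β = 1)
    (e : v'.1 = α • (pt hF (Fin.last _)).1 + β • a) :
    ∃ x : SU _ F q, t • blk3 (n + 2) (n + 2) (lo 2 x) • pt hF (Fin.last (n + 4)) = v' := by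
  obtain ⟨x, hx⟩ := blk_last hF h (n + 3)
  refine ⟨x, Subtype.ext ?_⟩
  rw [blk3_comp_lo _ _ _ le_rfl]
  change t.1.1 *ᵥ (blk (n + 3) (n + 3) x).1.1 *ᵥ Pi.single (Fin.last _) 1 = _
  rw [hx, mulVec_add, mulVec_smul, mulVec_smul, t0, t1, e]

theorem sqA {u' v' : Un (n + 5) F q} {p a b : Fin (n + 5) → F} {α β γ δ ε : F}
    (h : ON q [p, b, a, (pt hF (Fin.last _)).1, (pt hF 0).1]) (e1 : u'.1 = α • (pt hF 0).1 + β • a + γ • b)
    (e2 : v'.1 = δ • (pt hF (Fin.last _)).1 + ε • p) : Sq hF u' v' := by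
  obtain ⟨t, c, hc, ht⟩ := witt hF (κ := Fin 5) ![(Fin.last _).castSucc, ⟨2, by omega⟩, 1, Fin.last _, 0] (by
    intro i j; fin_cases i <;> fin_cases j <;> simp [Fin.ext_iff]) _ (h.fam hF) 1
  simp only [ON, List.pairwise_cons, List.mem_cons, forall_eq_or_imp, List.not_mem_nil, false_imp_iff,
    implies_true, and_true] at h
  have t0 : t.1.1 *ᵥ Pi.single 0 1 = (pt hF 0).1 := by simpa using ht 4
  have t3 : t.1.1 *ᵥ Pi.single (Fin.last _) 1 = (pt hF (Fin.last _)).1 := by simpa [Fin.ext_iff] using ht 3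
  obtain ⟨x, hx⟩ := first3 hF hc t0 (by simpa using ht 2) (by simpa [Fin.ext_iff] using ht 1)
    (nm3 hF (by tauto) (by tauto) (by tauto) (by tauto) (by tauto) (by tauto) u'.2 e1) e1
  obtain ⟨y, hy⟩ := last2 hF t3 (by simpa [Fin.ext_iff] using ht 0) (by
    simpa using nm3 hF (a := (pt hF (Fin.last _)).1) (b := p) (c := (pt hF 0).1) (α := δ) (β := ε) (γ := 0)
      (by tauto) (by tauto) (by tauto) (by tauto) (hz hF (by tauto)) (hz hF (by tauto)) v'.2 (by simpa using e2)) e2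
  exact ⟨t, x, _, Or.inr (Or.inl ⟨y, rfl⟩), Subtype.ext t0, Subtype.ext t3, hx, hy⟩

theorem sqB {u' v' : Un (n + 5) F q} {p a b : Fin (n + 5) → F} {α β γ δ ε : F}
    (h : ON q [b, a, p, (pt hF (Fin.last _)).1, (pt hF 0).1]) (e1 : u'.1 = α • (pt hF 0).1 + β • p)
    (e2 : v'.1 = γ • (pt hF (Fin.last _)).1 + δ • a + ε • b) : Sq hF u' v' := by
  obtain ⟨t, c, hc, ht⟩ := witt hF (κ := Fin 5)
    ![(Fin.last _).castSucc.castSucc, (Fin.last _).castSucc, 1, Fin.last _, 0] (by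
    intro i j; fin_cases i <;> fin_cases j <;> simp [Fin.ext_iff]) _ (h.fam hF) 1
  simp only [ON, List.pairwise_cons, List.mem_cons, forall_eq_or_imp, List.not_mem_nil, false_imp_iff,
    implies_true, and_true] at h
  have t0 : t.1.1 *ᵥ Pi.single 0 1 = (pt hF 0).1 := by simpa using ht 4
  have t3 : t.1.1 *ᵥ Pi.single (Fin.last _) 1 = (pt hF (Fin.last _)).1 := by simpa [Fin.ext_iff] using ht 3
  obtain ⟨x, hx⟩ := first2 hF hc t0 (by simpa using ht 2) (by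
    simpa using nm3 hF (a := (pt hF 0).1) (b := p) (c := (pt hF (Fin.last _)).1) (α := α) (β := β) (γ := 0)
      (by tauto) (by tauto) (by tauto) (by tauto) (by tauto) (hz hF (by tauto)) u'.2 (by simpa using e1)) e1
  obtain ⟨y, hy⟩ := last3 hF t3 (by simpa [Fin.ext_iff] using ht 1) (by simpa [Fin.ext_iff] using ht 0)
    (nm3 hF (by tauto) (by tauto) (by tauto) (by tauto) (by tauto) (by tauto) v'.2 e2) e2
  exact ⟨t, _, y, Or.inl ⟨x, rfl⟩, Subtype.ext t0, Subtype.ext t3, hx, hy⟩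

theorem sqC {u' v' : Un (n + 5) F q} {a b a' b' : Fin (n + 5) → F} {α β γ δ ε η : F}
    (h : ON q [b', a', b, a, (pt hF (Fin.last _)).1, (pt hF 0).1]) (e1 : u'.1 = α • (pt hF 0).1 + β • a + γ • b)
    (e2 : v'.1 = δ • (pt hF (Fin.last _)).1 + ε • a' + η • b') : Sq hF u' v' := by
  have hn : 1 ≤ n := by have := h.len hF; simp at this; omega
  obtain ⟨t, c, hc, ht⟩ := witt hF (κ := Fin 6)
    ![(Fin.last _).castSucc.castSucc, (Fin.last _).castSucc, ⟨2, by omega⟩, 1, Fin.last _, 0] (by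
    intro i j; fin_cases i <;> fin_cases j <;> simp [Fin.ext_iff] <;> omega) _ (h.fam hF) 1
  simp only [ON, List.pairwise_cons, List.mem_cons, forall_eq_or_imp, List.not_mem_nil, false_imp_iff,
    implies_true, and_true] at h
  have t0 : t.1.1 *ᵥ Pi.single 0 1 = (pt hF 0).1 := by simpa using ht 5
  have t3 : t.1.1 *ᵥ Pi.single (Fin.last _) 1 = (pt hF (Fin.last _)).1 := by simpa [Fin.ext_iff] using ht 4
  obtain ⟨x, hx⟩ := first3 hF hc t0 (by simpa using ht 3) (by simpa [Fin.ext_iff] using ht 2)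
    (nm3 hF (by tauto) (by tauto) (by tauto) (by tauto) (by tauto) (by tauto) u'.2 e1) e1
  obtain ⟨y, hy⟩ := last3 hF t3 (by simpa [Fin.ext_iff] using ht 1) (by simpa [Fin.ext_iff] using ht 0)
    (nm3 hF (by tauto) (by tauto) (by tauto) (by tauto) (by tauto) (by tauto) v'.2 e2) e2
  exact ⟨t, x, y, Or.inr (Or.inr hn), Subtype.ext t0, Subtype.ext t3, hx, hy⟩

theorem square2 {u' v' : Un (n + 5) F q} (h1 : perp (pt hF 0) v') (h3 : perp u' (pt hF (Fin.last _)))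
    (h4 : perp u' v') : Sq hF u' v' ∨ (¬perp u' (pt hF 0) ∧
      ∃ y, perp y (pt hF (Fin.last _)) ∧ perp y v' ∧ perp y (pt hF 0) ∧ perp y u') := by
  have l0 : (0 : Fin (n + 5)) ≠ Fin.last _ := Fin.last_pos.ne
  set u := pt (q := q) hF (0 : Fin (n + 5))
  set v := pt (q := q) hF (Fin.last (n + 4))
  have vu : ⟪v.1, u.1⟫ = 0 := pt_perp hF l0.symm
  have O : ON q [v.1, u.1] := ⟨by simp [vu], by simp [u.2, v.2]⟩
  unfold perp at h1 h3 h4
  obtain ⟨r', e1⟩ : ∃ r', u'.1 = ⟪u'.1, u.1⟫ • u.1 + r' := ⟨_, (add_sub_cancel _ _).symm⟩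
  obtain ⟨r, e2⟩ : ∃ r, v'.1 = ⟪v'.1, v.1⟫ • v.1 + r := ⟨_, (add_sub_cancel _ _).symm⟩
  have k1 : ∀ y, ⟪u'.1, y⟫ = ⟪u'.1, u.1⟫ * ⟪u.1, y⟫ + ⟪r', y⟫ := fun y => by rw [← hml, ← hal, ← e1]
  have k2 : ∀ y, ⟪v'.1, y⟫ = ⟪v'.1, v.1⟫ * ⟪v.1, y⟫ + ⟪r, y⟫ := fun y => by rw [← hml, ← hal, ← e2]
  have a1 : ⟪r', u.1⟫ = 0 := by have := k1 u.1; rw [u.2] at this; linear_combination -this
  have a2 : ⟪r', v.1⟫ = 0 := by have := k1 v.1; rw [h3, hz hF vu] at this; linear_combination -this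
  have b1 : ⟪r, u.1⟫ = 0 := by have := k2 u.1; rw [hz hF h1, vu] at this; linear_combination -this
  have b2 : ⟪r, v.1⟫ = 0 := by have := k2 v.1; rw [v.2] at this; linear_combination -this
  have c1 : ⟪r, r'⟫ = 0 := by
    have m1 := k1 v'.1
    rw [h4, h1, mul_zero, zero_add] at m1
    have := k2 r'
    rwa [hz hF m1.symm, hz hF a2, mul_zero, zero_add, eq_comm] at this
  by_cases c : ⟪r', r'⟫ = 0
  swap
  · obtain ⟨p, β, O1, e3⟩ := O.one hF (by simp) (Or.inr c) (by simp [a1, a2])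
    have : ⟪r, p⟫ = 0 := by
      rw [e3, hmr hF] at c1
      exact (mul_eq_zero.1 c1).resolve_left fun e => c (by rw [e3, hmr hF, e, zero_mul])
    obtain ⟨a, b, δ, ε, O2, e4⟩ := O1.two hF (by simp) (r := r) (by simp [b1, b2, this])
    exact Or.inl (sqB hF O2 (e3 ▸ e1) (by rw [add_assoc, ← e4]; exact e2))
  by_cases d : ∃ s, ⟪r, s⟫ = 0 ∧ ⟪r', s⟫ ≠ 0
  swap
  · push Not at d
    obtain ⟨y, y1, y2, y3, y4⟩ := g5 hF (by omega) u.2 v.2 vu r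
    refine Or.inr ⟨fun e => ?_, ⟨y, y1⟩, y3, hz hF ?_, y2, hz hF ?_⟩
    · have : ⟪u'.1, u.1⟫ = 0 := e
      rw [this, zero_smul, zero_add] at e1
      rw [← e1, u'.2] at c; exact one_ne_zero c
    · rw [k2, hz hF y3, hz hF y4]; simp
    · rw [k1, hz hF y2, d y (hz hF y4)]; simp
  obtain ⟨s0, d1, d2⟩ := d
  obtain ⟨s, s1, s2, s3, -⟩ := proj hF u.2 v.2 vu s0
  rw [← s3 r b1 b2] at d1
  rw [← s3 r' a1 a2] at d2
  obtain ⟨t, ht⟩ := Kind.exists_trace_eq σ (conj_conj hF) (conj_ne_id hF) (1 - ⟪s, s⟫) (by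
    rw [map_sub, map_one, ← hsy hF])
  have d2' : σ ⟪r', s⟫ ≠ 0 := by simpa using d2
  have z1 : ⟪s + (t / ⟪r', s⟫) • r', s + (t / ⟪r', s⟫) • r'⟫ = 1 := by
    simp only [hal, har hF, hml, hmr hF, c, hsy hF r' s, map_div₀]
    rw [div_mul_cancel₀ _ d2, mul_zero, add_zero, div_mul_cancel₀ _ d2']
    linear_combination ht
  have z2 : ∀ y, ⟪s, y⟫ = 0 → ⟪r', y⟫ = 0 → ⟪s + (t / ⟪r', s⟫) • r', y⟫ = 0 := fun y y1 y2 => by
    rw [hal, hml, y1, y2]; simp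
  obtain ⟨p, β, p1, p2, p3, p4⟩ := ON.split hF c z1 (by rw [har hF, hmr hF, c]; simpa using d2)
  have O2 := (O.cons z1 (by simp [z2 _ s1 a1, z2 _ s2 a2])).cons p1 (by
    simp [p2, p4 _ a1 (z2 _ s1 a1), p4 _ a2 (z2 _ s2 a2)])
  have z3 := z2 r (hz hF d1) (hz hF c1)
  have hl : ∀ a ∈ [p, s + (t / ⟪r', s⟫) • r', v.1, u.1], ⟪r, a⟫ = 0 := by
    simp [b1, b2, hz hF z3, hz hF (p4 r (hz hF c1) z3)]
  rw [p3, ← add_assoc] at e1
  by_cases hr : r = 0 ∨ ⟪r, r⟫ ≠ 0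
  · obtain ⟨w, ε, O3, e3⟩ := O2.one hF (by simp) hr hl
    exact Or.inl (sqA hF O3 e1 (e3 ▸ e2))
  · push Not at hr
    obtain ⟨a, b, δ, ε, O3, e3⟩ := O2.iso hF hr.1 hr.2 hl
    exact Or.inl (sqC hF O3 e1 (by rw [add_assoc, ← e3]; exact e2))

include hF in
theorem step5 {J : Type*} [Group J] (φ ψ : SU (n + 4) F q →* J) (h1 : φ.comp (lo _) = ψ.comp (up _))
    (h2 : ∀ x y : SU 3 F q, x ∈ (up 2).range ∨ y ∈ (lo 2).range ∨ 1 ≤ n →
      Commute (φ (blk3 (n + 1) 0 x)) (ψ (blk3 (n + 1) (n + 1) y))) :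
    ∃ Φ : SU (n + 5) F q →* J, Φ.comp (up _) = φ ∧ Φ.comp (lo _) = ψ := by
  have l0 : (0 : Fin (n + 5)) ≠ Fin.last _ := Fin.last_pos.ne
  letI : MulAction (J × SU (n + 5) F q) (Un (n + 5) F q) := MulAction.compHom _ (MonoidHom.snd _ _)
  have sm : ∀ (x : J × SU (n + 5) F q) (a : Un (n + 5) F q), x • a = x.2 • a := fun _ _ => rfl
  let H := (φ.prod (up (n + 4))).range
  let K := (ψ.prod (lo (n + 4))).range
  have hH : ∀ h ∈ H, h • pt hF (Fin.last (n + 4)) = pt hF (Fin.last (n + 4)) := by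
    rintro _ ⟨g, rfl⟩; exact emb_fix hF _ g
  have hK : ∀ k ∈ K, k • pt hF (0 : Fin (n + 5)) = pt hF 0 := by
    rintro _ ⟨g, rfl⟩; exact emb_fix hF _ g
  have hK' : ∀ h ∈ H, h • pt hF (0 : Fin (n + 5)) = pt hF 0 → h ∈ K := by
    rintro _ ⟨g, rfl⟩ e
    obtain ⟨t, rfl⟩ := stab hF 0 (fix_of_emb hF (Fin.last _) 0 (g := g) (by
      rw [Fin.succAbove_last, Fin.castSucc_zero]; exact e))
    exact ⟨up _ t, Prod.ext (DFunLike.congr_fun h1 t).symm (up_lo t).symm⟩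
  have key := cover2 (Γ := J × SU (n + 5) F q) perp (fun x a b => by rw [sm, sm, perp, h_smul]; rfl)
    (fun a b => hz hF) (fun a b => let ⟨y, y1, y2⟩ := e4 hF (by omega) a.2 b.1; ⟨⟨y, y1⟩, y2⟩)
    (fun a b c h => let ⟨y, y1, y2⟩ := g5 hF (by omega) a.2 b.2 (hz hF h) c.1; ⟨⟨y, y1⟩, y2⟩) H K
    (pt hF (Fin.last _)) (pt hF 0) (pt_perp hF l0) hH hK
    (fun y hy => let ⟨g, hg⟩ := trans2 hF l0.symm hy; ⟨_, ⟨g, rfl⟩, hg⟩)
    (fun y hy => let ⟨g, hg⟩ := trans2 hF l0 (hz hF hy); ⟨_, ⟨g, rfl⟩, hg⟩)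
    (by
      rintro _ ⟨g, rfl⟩ e
      obtain ⟨t, rfl⟩ := stab hF (Fin.last _) (fix_of_emb hF 0 (Fin.last _) (g := g) e)
      exact ⟨lo _ t, Prod.ext (DFunLike.congr_fun h1 t) (up_lo t)⟩) hK'
    (fun u' v' a1 a3 a4 => (square2 hF a1 a3 a4).imp_left fun ⟨t, x, y, t0, t1, t2, t3, t4⟩ => by
      obtain ⟨g, rfl⟩ := stab hF _ t2
      have m1 : φ.prod (up _) g ∈ H := ⟨g, rfl⟩
      have m2 := hK' _ m1 t1
      refine ⟨_, H.mul_mem (H.mul_mem m1 ⟨blk3 (n + 1) 0 x, rfl⟩) (H.inv_mem m1), _,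
        K.mul_mem (K.mul_mem m2 ⟨blk3 (n + 1) (n + 1) y, rfl⟩) (K.inv_mem m2), ?_, ?_, ?_⟩
      · rw [mul_smul, hK _ (K.inv_mem m2), mul_smul]; exact t3
      · rw [mul_smul, hH _ (H.inv_mem m1), mul_smul]; exact t4
      · exact Commute.map (Prod.ext (h2 x y t0).eq (blk3_comm (m := n + 2) (i := 0) le_rfl (x := x) (y := y) (by
            rcases t0 with e | e | e
            exacts [Or.inl ⟨by omega, Or.inl e⟩, Or.inl ⟨by omega, Or.inr e⟩, Or.inr (by omega)])).eq :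
          Commute (φ.prod (up _) (blk3 (n + 1) 0 x)) (ψ.prod (lo _) (blk3 (n + 1) (n + 1) y)))
          (MulAut.conj (φ.prod (up _) g)))
  obtain ⟨Φ, hΦ⟩ := graph_hom (H ⊔ K) (fun x hx e => by
    obtain ⟨g, rfl⟩ := key x hx (by rw [sm, e, one_smul])
    obtain rfl : g = 1 := emb_inj _ (e.trans (map_one _).symm)
    exact map_one φ) (fun g => by
    have : (⊤ : Subgroup (SU (n + 5) F q)) ≤ (H ⊔ K).map (MonoidHom.snd _ _) := by
      rw [← gen4 hF]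
      refine sup_le ?_ ?_ <;> rintro _ ⟨x, rfl⟩
      exacts [⟨_, Subgroup.mem_sup_left ⟨x, rfl⟩, rfl⟩, ⟨_, Subgroup.mem_sup_right ⟨x, rfl⟩, rfl⟩]
    obtain ⟨x, hx, rfl⟩ := this (Subgroup.mem_top g)
    exact ⟨x.1, hx⟩)
  exact ⟨Φ, MonoidHom.ext fun g => hΦ _ (Subgroup.mem_sup_left ⟨g, rfl⟩),
    MonoidHom.ext fun g => hΦ _ (Subgroup.mem_sup_right ⟨g, rfl⟩)⟩

include hF in
theorem univ5 {J : Type*} [Group J] : ∀ (m : ℕ) (π : ℕ → (SU 3 F q →* J)),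
    (∀ i ≤ m, ∃ φ : SU 4 F q →* J, φ.comp (up 3) = π i ∧ φ.comp (lo 3) = π (i + 1)) →
    (∀ i j, i + 2 ≤ j → j ≤ m + 1 → ∀ x y, Commute (π i (up 2 x)) (π j y) ∧ Commute (π i y) (π j (lo 2 x))) →
    (∀ i j, i + 3 ≤ j → j ≤ m + 1 → ∀ x y, Commute (π i x) (π j y)) →
    ∃ Φ : SU (m + 4) F q →* J, ∀ i ≤ m + 1, Φ.comp (blk3 (m + 1) i) = π i
  | 0, f, h2, _, _ => (h2 0 le_rfl).imp fun π h i hi => by
    interval_cases i
    exacts [h.1, h.2]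
  | m + 1, f, h2, hc, hc3 => by
    obtain ⟨φ, hφ⟩ := univ5 m f (fun i h => h2 i (by omega)) (fun i j h h' => hc i j h (by omega))
      (fun i j h h' => hc3 i j h (by omega))
    obtain ⟨ψ, hψ⟩ := univ5 m (fun i => f (i + 1)) (fun i h => h2 (i + 1) (by omega))
      (fun i j h h' => hc (i + 1) (j + 1) (by omega) (by omega))
      (fun i j h h' => hc3 (i + 1) (j + 1) (by omega) (by omega))
    obtain ⟨Φ, e1, e2⟩ := step5 hF φ ψ (blk3_ext hF m _ _ fun i hi => by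
      rw [MonoidHom.comp_assoc, MonoidHom.comp_assoc, ← blk3_up m i hi, hψ i (by omega)]
      exact hφ (i + 1) (by omega)) (fun x y h => by
      have : Commute (f 0 x) (f (m + 2) y) := by
        rcases h with ⟨x, rfl⟩ | ⟨y, rfl⟩ | h
        exacts [(hc 0 (m + 2) (by omega) le_rfl x y).1, (hc 0 (m + 2) (by omega) le_rfl y x).2,
          hc3 0 (m + 2) (by omega) le_rfl x y]
      rwa [← hφ 0 (by omega), ← hψ (m + 1) le_rfl] at this)
    refine ⟨Φ, fun i hi => ?_⟩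
    rcases i with _ | i
    · rw [← hφ 0 (by omega), ← e1]; rfl
    · rw [← hψ i (by omega), ← e2]; rfl

end CA.Phan
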