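import Cfsg.Agent.Lib.Lin.H10Ph3
import Cfsg.Agent.Lib.Lin.Phan5
import Cfsg.Agent.S0283
import Cfsg.Agent.S0279

/-! Weak Phan systems over the field with four elements. -/

set_option autoImplicit false
set_option linter.unusedSectionVars false

namespace CA.H10Ph

open Matrix Cfsg CA.Phan CA.CForm CA.PhanA

variable {F : Type*} [Field F] [Fintype F] [CharP F 2] (hF : Fintype.card F = 2 ^ 2) {N : ℕ}

local notation "⟪" u ", " v "⟫" => hermForm _ F 2 u v
local notation:75 g:75 " ⊳ " v:74 => Matrix.mulVec (Subtype.val (Subtype.val (g : SU _ F 2))) v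

theorem range_eq {A B : Type*} [Group A] [Group B] [Finite A] [Finite B] {f g : A →* B} (hf : Function.Injective f)
    (hg : Function.Injective g) (h : f.range ≤ g.range) : g.range = f.range :=
  (Subgroup.eq_of_le_of_card_ge h (by
    rw [← Nat.card_congr (MonoidHom.ofInjective hf).toEquiv, ← Nat.card_congr (MonoidHom.ofInjective hg).toEquiv])).symm

theorem fa_inj (τ : F →+* F) : Function.Injective (fa hF (N := N) τ) :=
  Finite.injective_iff_surjective.2 (fa_surj hF τ)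

include hF in
theorem triple0 (σ : SU 3 F 2 →* SU 4 F 2) (hk : σ.ker ≤ Subgroup.center _)
    (h1 : ((up 3).comp (lo 2)).range = (σ.comp (up 2)).range) (hc : ∀ x y, Commute (up 3 (up 2 x)) (σ (lo 2 y)))
    (ht : (up 3).range ⊔ σ.range = ⊤) :
    (lo 3).range = σ.range ∧ ((lo 3).comp (lo 2)).range = (σ.comp (lo 2)).range := by
  obtain ⟨T, τ, hT⟩ := emb34 hF σ hk
  obtain ⟨w, hw⟩ := exw hF
  have inj : Function.Injective σ := fun x y e => by
    rw [hT, hT, mul_left_inj, mul_right_inj] at e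
    exact emb_inj _ (fa_inj hF τ e)
  obtain ⟨p, pu, hp⟩ : ∃ p : Fin 4 → F, ⟪p, p⟫ = 1 ∧ ∀ x, σ x ⊳ p = p := by
    refine ⟨T ⊳ Pi.single 3 1, by rw [h_act, hsingle hF]; simp, fun x => ?_⟩
    have : fa hF τ (up 3 x) ⊳ Pi.single 3 1 = Pi.single 3 1 := by
      ext k; fin_cases k <;> simp [fa_val, up_three]
    rw [hT, mul_act, mul_act, inv_act, this]
  have hw' : w * conj hF w = 1 := by rw [conj_apply]; grind
  obtain ⟨x, hx⟩ : up 3 (lo 2 (dg hF hw')) ∈ (σ.comp (up 2)).range := h1 ▸ ⟨_, rfl⟩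
  have e := hp (up 2 x)
  rw [show σ (up 2 x) = _ from hx] at e
  have e1 := congrFun e 1
  have e2 := congrFun e 2
  simp [up_three, lo_two, dg, mulVec, dotProduct, Fin.sum_univ_four, conj_apply] at e1 e2
  have p1 : p 1 = 0 := by grind
  have p2 : p 2 = 0 := by grind
  simp only [hermForm, Fin.sum_univ_four, p1, p2] at pu
  have fx : ∀ m : Fin 4, p m ≠ 0 → (∀ k, k ≠ m → p k = 0) → ∀ x, σ x • pt hF m = pt hF m := fun m h0 h x => by
    have : p = p m • Pi.single m 1 := by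
      ext k
      by_cases hk : k = m
      · simp [hk]
      · simp [hk, h k hk]
    have e := hp x
    rw [this, mulVec_smul] at e
    exact Subtype.ext (smul_right_injective _ h0 e)
  by_cases p0 : p 0 = 0
  · exfalso
    have h3 := fx 3 (by grind) (fun k hk => by fin_cases k <;> simp_all)
    have : (up 3).range = (⊤ : Subgroup (SU 4 F 2)) := by
      rw [← ht, eq_comm, sup_eq_left]
      rintro _ ⟨x, rfl⟩
      exact stab hF (Fin.last 3) (h3 x)
    obtain ⟨y, hy⟩ : lo 3 (cc hF) ∈ (up 3).range := this ▸ Subgroup.mem_top _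
    have := congrArg (fun g : SU 4 F 2 => g.1.1 3 3) hy
    simp only [up_three] at this
    change (1 : F) = 0 at this
    exact one_ne_zero this
  · have p3 : p 3 = 0 := by
      by_contra h
      have := cube hF p0
      have := cube hF h
      grind
    have h0 := fx 0 p0 (fun k hk => by fin_cases k <;> simp_all)
    refine ⟨range_eq inj (emb_inj _) ?_, range_eq (inj.comp (emb_inj _)) ((emb_inj _).comp (emb_inj _)) ?_⟩
    · rintro _ ⟨x, rfl⟩
      exact stab hF 0 (h0 x)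
    · rintro _ ⟨y, rfl⟩
      obtain ⟨v, hv⟩ := stab hF (0 : Fin 4) (h0 (lo 2 y))
      have s : up 3 (up 2 (wy hF)) • pt hF (0 : Fin 4) = pt hF 1 := Subtype.ext (by
        rw [smul_val]
        ext k
        fin_cases k <;> simp [pt, up_three, up_two, wy, CharTwo.neg_eq])
      have : σ (lo 2 y) • pt hF (1 : Fin 4) = pt hF 1 := by
        rw [← s, ← mul_smul, ← (hc _ y).eq, mul_smul, h0]
      rw [← hv] at this
      obtain ⟨v', hv'⟩ := stab hF (0 : Fin 3) (fix_of_emb hF (0 : Fin 4) 0 this)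
      exact ⟨v', by rw [MonoidHom.comp_apply, MonoidHom.comp_apply, ← hv, ← hv']⟩

include hF in
theorem d_nc {w : F} (hw : w ^ 2 + w + 1 = 0) : d1 hF hw ∉ Subgroup.center _ := fun h => by
  have := Subgroup.mem_center_iff.1 h (cc hF)
  rw [r_dc, right_eq_mul] at this
  have := congrArg (fun g : SU 3 F 2 => g.1.1 0 0) this
  simp [z1, dd, su_one] at this
  grind

include hF in
theorem coreG {G : Type*} [Group G] (π π' : SU 3 F 2 →* G) (hk : π.ker ≤ Subgroup.center _)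
    (hk' : π'.ker ≤ Subgroup.center _) (h1 : (π.comp (lo 2)).range = (π'.comp (up 2)).range)
    (hc : ∀ x y, Commute (π (up 2 x)) (π' (lo 2 y))) (W : Subgroup G) (hW : π.range ⊔ π'.range = W)
    (g : SU 4 F 2 →* W) (hg : Function.Surjective g) :
    ∃ φ : SU 4 F 2 →* G, Function.Injective φ ∧ φ.comp (up 3) = π ∧ (φ.comp (lo 3)).range = π'.range ∧
      ((φ.comp (lo 3)).comp (lo 2)).range = (π'.comp (lo 2)).range := by
  obtain ⟨w, hw⟩ := exw hF
  haveI := Cfsg.Agent.S0283.result (q := 2) hF 4 (by norm_num) (by decide)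
  haveI : IsSimpleGroup (SU 4 F 2) := ((QuotientGroup.quotientMulEquivOfEq (Subgroup.card_eq_one.1
    (Cfsg.Agent.S0279.result (q := 2) hF 4 (by norm_num)))).trans QuotientGroup.quotientBot).symm.isSimpleGroup
  have m1 : ∀ x, π x ∈ W := fun x => hW ▸ Subgroup.mem_sup_left ⟨x, rfl⟩
  have m2 : ∀ x, π' x ∈ W := fun x => hW ▸ Subgroup.mem_sup_right ⟨x, rfl⟩
  have gi : Function.Injective g := by
    rw [← MonoidHom.ker_eq_bot_iff]
    refine (IsSimpleGroup.eq_bot_or_eq_top_of_normal g.ker inferInstance).resolve_right fun h => ?_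
    obtain ⟨x, hx⟩ := hg ⟨_, m1 (d1 hF hw)⟩
    have : g x = 1 := (h ▸ Subgroup.mem_top x : x ∈ g.ker)
    exact d_nc hF hw (hk (congrArg Subtype.val (hx.symm.trans this)))
  let ε := MulEquiv.ofBijective g ⟨gi, hg⟩
  let ρ : SU 3 F 2 →* SU 4 F 2 := ε.symm.toMonoidHom.comp (π.codRestrict W m1)
  let γ : SU 4 F 2 →* G := W.subtype.comp g
  have r1 : ∀ x, γ (ρ x) = π x := fun x => congrArg Subtype.val (ε.apply_symm_apply ⟨π x, m1 x⟩)
  obtain ⟨T, τ, hT⟩ := emb34 hF ρ fun x hx => hk (by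
    rw [MonoidHom.mem_ker, ← r1, show ρ x = 1 from hx, map_one])
  let φ : SU 4 F 2 →* G := γ.comp ((MulAut.conj T).toMonoidHom.comp (fa hF τ))
  have φi : Function.Injective φ :=
    (W.subtype_injective.comp gi).comp ((MulAut.conj T).injective.comp (fa_inj hF τ))
  have φs : ∀ y ∈ W, ∃ x, φ x = y := fun y hy => by
    obtain ⟨x, hx⟩ := hg ⟨y, hy⟩
    obtain ⟨x', hx'⟩ := ((MulAut.conj T).surjective.comp (fa_surj hF τ)) x
    exact ⟨x', by
      change γ (MulAut.conj T (fa hF τ x')) = y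
      rw [show MulAut.conj T (fa hF τ x') = x from hx']
      exact congrArg Subtype.val hx⟩
  have φu : φ.comp (up 3) = π := MonoidHom.ext fun x => by rw [← r1, hT]; rfl
  let σ : SU 3 F 2 →* SU 4 F 2 := (MonoidHom.ofInjective φi).symm.toMonoidHom.comp
    (π'.codRestrict φ.range fun x => φs _ (m2 x))
  have r2 : φ.comp σ = π' := MonoidHom.ext fun x => MonoidHom.apply_ofInjective_symm φi _
  obtain ⟨a, b⟩ := triple0 hF σ (fun x hx => hk' (by
      rw [MonoidHom.mem_ker, ← r2, MonoidHom.comp_apply, show σ x = 1 from hx, map_one]))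
    (Subgroup.map_injective φi (by
      rw [← MonoidHom.range_comp, ← MonoidHom.range_comp, ← MonoidHom.comp_assoc, ← MonoidHom.comp_assoc, φu, r2, h1]))
    (fun x y => φi (by
      rw [map_mul, map_mul]
      have := (hc x y).eq
      rw [← φu, ← r2] at this
      exact this))
    (Subgroup.map_injective φi (by
      rw [Subgroup.map_sup, ← MonoidHom.range_comp, ← MonoidHom.range_comp, φu, r2, hW, ← MonoidHom.range_eq_map]
      refine le_antisymm φs ?_
      rintro _ ⟨x, rfl⟩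
      exact (g _).2))
  refine ⟨φ, φi, φu, ?_, ?_⟩
  · rw [MonoidHom.range_comp, a, ← MonoidHom.range_comp, r2]
  · rw [MonoidHom.comp_assoc, MonoidHom.range_comp, b, ← MonoidHom.range_comp, ← MonoidHom.comp_assoc, r2]

theorem seq {X : Type*} (Good : ℕ → X → Prop) (R : X → X → Prop) (m : ℕ) (h0 : ∃ x, Good 0 x)
    (hs : ∀ i ≤ m, ∀ x, Good i x → ∃ y, R x y ∧ Good (i + 1) y) :
    ∃ f : ℕ → X, (∀ i ≤ m + 1, Good i (f i)) ∧ ∀ i ≤ m, R (f i) (f (i + 1)) := by
  classical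
  obtain ⟨x0, h0⟩ := h0
  let s : ℕ → X → X := fun i x => if h : ∃ y, R x y ∧ Good (i + 1) y then h.choose else x
  have hs' : ∀ i ≤ m, ∀ x, Good i x → R x (s i x) ∧ Good (i + 1) (s i x) := fun i hi x hx => by
    have h := hs i hi x hx
    simp only [s, dif_pos h]
    exact h.choose_spec
  let f : ℕ → X := fun i => Nat.rec x0 s i
  have g : ∀ i ≤ m + 1, Good i (f i) := fun i => by
    induction i with
    | zero => exact fun _ => h0
    | succ i ih => exact fun h => (hs' i (by omega) _ (ih (by omega))).2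
  exact ⟨f, g, fun i hi => (hs' i hi _ (g i (by omega))).1⟩

include hF in
theorem main {G : Type*} [Group G] (m : ℕ) (U V : ℕ → Subgroup G)
    (h1 : ∀ i ≤ m, ∀ x ∈ U i, ∀ y ∈ U (i + 2), x * y = y * x)
    (h2 : ∀ i ≤ m + 1, IsStandardUnitaryPair (V i) (U i) (U (i + 1)) F 2)
    (h4 : ∀ i ≤ m, ∃ g : SU 4 F 2 →* ↥(V i ⊔ V (i + 1)), Function.Surjective g)
    (h5 : ∀ i j, i + 2 ≤ j → j ≤ m + 1 → ∀ x ∈ U i, ∀ y ∈ V j, x * y = y * x)
    (h5' : ∀ i j, i + 2 ≤ j → j ≤ m + 1 → ∀ x ∈ U (j + 1), ∀ y ∈ V i, x * y = y * x)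
    (h6 : ∀ i j, i + 3 ≤ j → j ≤ m + 1 → ∀ x ∈ V i, ∀ y ∈ V j, x * y = y * x) :
    ∃ Φ : SU (m + 4) F 2 →* G, ∀ i ≤ m + 1, V i ≤ Φ.range ∧ U i ≤ Φ.range ∧ U (i + 1) ≤ Φ.range := by
  obtain ⟨π, hg, hr⟩ := seq (fun i (π : SU 3 F 2 →* G) => π.ker ≤ Subgroup.center _ ∧ (π.comp (up 2)).range = U i ∧
      (π.comp (lo 2)).range = U (i + 1) ∧ π.range = V i)
    (fun π π' => ∃ φ : SU 4 F 2 →* G, φ.comp (up 3) = π ∧ φ.comp (lo 3) = π') m
    (cover two_ne_zero (h2 0 (by omega))) (fun i hi π ⟨a, b, c, d⟩ => by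
      obtain ⟨π', a', b', c', d'⟩ := cover two_ne_zero (h2 (i + 1) (by omega))
      obtain ⟨g, hg⟩ := h4 i hi
      obtain ⟨φ, φi, φu, e1, e2⟩ := coreG hF π π' a a' (c.trans b'.symm)
        (fun x y => h1 i hi _ (b.le ⟨x, rfl⟩) _ (c'.le ⟨y, rfl⟩)) _ (by rw [d, d']) g hg
      refine ⟨_, ⟨φ, φu, rfl⟩, ?_, ?_, e2.trans c', e1.trans d'⟩
      · rw [(MonoidHom.ker_eq_bot_iff (φ.comp (lo 3))).2 (φi.comp (emb_inj _))]
        exact bot_le
      · rw [← c, ← φu]
        congr 1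
        exact MonoidHom.ext fun x => congrArg φ (up_lo x).symm)
  obtain ⟨Φ, hΦ⟩ := univ5 hF m π hr
    (fun i j a b x y => ⟨h5 i j a b _ ((hg i (by omega)).2.1.le ⟨x, rfl⟩) _ ((hg j b).2.2.2.le ⟨y, rfl⟩),
      (h5' i j a b _ ((hg j b).2.2.1.le ⟨x, rfl⟩) _ ((hg i (by omega)).2.2.2.le ⟨y, rfl⟩)).symm⟩)
    fun i j a b x y => h6 i j a b _ ((hg i (by omega)).2.2.2.le ⟨x, rfl⟩) _ ((hg j b).2.2.2.le ⟨y, rfl⟩)
  refine ⟨Φ, fun i hi => ?_⟩
  obtain ⟨-, b, c, d⟩ := hg i hi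
  rw [← b, ← c, ← d, ← hΦ i hi]
  refine ⟨?_, ?_, ?_⟩ <;> rintro _ ⟨x, rfl⟩ <;> exact ⟨_, rfl⟩

end CA.H10Ph
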