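import Cfsg.Agent.Lib.Grp.H10Wr
import Cfsg.Agent.Lib.Lin.CFormOBr
import Cfsg.Agent.Lib.Lin.CFormOSub
import Cfsg.Agent.Lib.Lin.SL2Sylow2
import Cfsg.Agent.Lib.Lin.SLnCard

/-!
# Sylow 2-subgroups of linear, symplectic and orthogonal groups in odd characteristic
-/

set_option autoImplicit false
set_option linter.unusedSectionVars false

namespace CA.H10Syl
open Subgroup CA.SylIn CA.H10Wr CA.CForm CA.CForm.Form Equiv Module
open scoped commutatorElement MatrixGroups

/-! ### 2-adic valuations -/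
section val
variable {q : ℕ}

theorem sub_ne (h1 : 1 < q) {n : ℕ} (hn : n ≠ 0) : q ^ n - 1 ≠ 0 :=
  (Nat.sub_pos_of_lt (one_lt_pow₀ h1 hn)).ne'

theorem v_mul {a b : ℕ} (ha : a ≠ 0) (hb : b ≠ 0) :
    (a * b).factorization 2 = a.factorization 2 + b.factorization 2 := by
  rw [Nat.factorization_mul ha hb, Finsupp.add_apply]

theorem v_odd (h : Odd q) (n : ℕ) : (q ^ n).factorization 2 = 0 :=
  Nat.factorization_eq_zero_of_not_dvd h.pow.not_two_dvd_nat

theorem v_two : (2 : ℕ).factorization 2 = 1 := Nat.prime_two.factorization_self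

theorem v_pos {a : ℕ} (ha : a ≠ 0) (h : a % 2 = 0) : 1 ≤ a.factorization 2 :=
  Nat.prime_two.factorization_pos_of_dvd ha (Nat.dvd_of_mod_eq_zero h)

theorem v_eq_one {a : ℕ} (h : a % 4 = 2) : a.factorization 2 = 1 := by
  obtain ⟨b, rfl⟩ : ∃ b, a = 2 * (2 * b + 1) := ⟨a / 4, by omega⟩
  rw [v_mul two_ne_zero (by omega), v_two, Nat.factorization_eq_zero_of_not_dvd (by omega)]

theorem v_sq (h1 : 1 < q) (n : ℕ) (hn : n ≠ 0) : (q ^ (2 * n) - 1).factorization 2 =
    (q ^ n - 1).factorization 2 + (q ^ n + 1).factorization 2 := by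
  rw [← sq_sub_one_eq, v_mul (sub_ne h1 hn) (by positivity)]

theorem v_even (h : Odd q) (h1 : 1 < q) {n : ℕ} (hn : n ≠ 0) : (q ^ (2 * n) - 1).factorization 2 =
    (q ^ 2 - 1).factorization 2 + n.factorization 2 := by
  have h2 := padicValNat.pow_two_sub_one h1 h.not_two_dvd_nat (mul_ne_zero two_ne_zero hn)
    (even_two_mul n)
  have h3 := v_sq h1 1 one_ne_zero
  simp only [← Nat.factorization_def _ Nat.prime_two] at h2
  rw [v_mul two_ne_zero hn, v_two] at h2
  simp only [pow_one, mul_one] at h3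
  omega

theorem v_prod (h : Odd q) (h1 : 1 < q) (m : ℕ) :
    (∏ i ∈ Finset.range m, (q ^ (2 * (i + 1)) - 1)).factorization 2 =
      m * (q ^ 2 - 1).factorization 2 + m.factorial.factorization 2 := by
  induction m with
  | zero => simp
  | succ m ih =>
    rw [Finset.prod_range_succ, v_mul (Finset.prod_ne_zero_iff.2 fun i _ => sub_ne h1 (by omega))
      (sub_ne h1 (by omega)), ih, v_even h h1 m.succ_ne_zero, Nat.factorial_succ,
      v_mul m.succ_ne_zero m.factorial_ne_zero]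
    ring

theorem v_odd_exp (h : Odd q) (h1 : 1 < q) (m : ℕ) :
    (q ^ (2 * m + 1) - 1).factorization 2 ≤ (q - 1).factorization 2 := by
  have h2 := v_sq h1 (2 * m + 1) (by omega)
  have h3 := v_sq h1 1 one_ne_zero
  rw [v_even h h1 (by omega), Nat.factorization_eq_zero_of_not_dvd (n := 2 * m + 1) (by omega)] at h2
  have h4 := (Nat.factorization_le_iff_dvd (by positivity) (by positivity)).2
    (Odd.nat_add_dvd_pow_add_pow q 1 (odd_two_mul_add_one m)) 2
  simp only [pow_one, mul_one, one_pow] at h3 h4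
  omega

theorem v_gl (h : Odd q) (h1 : 1 < q) (n : ℕ) :
    (∏ i : Fin n, (q ^ n - q ^ (i : ℕ))).factorization 2 ≤
      n / 2 * ((q - 1).factorization 2 + (q ^ 2 - 1).factorization 2) +
        n % 2 * (q - 1).factorization 2 + (n / 2).factorial.factorization 2 := by
  have h2 : (∏ i : Fin n, (q ^ n - q ^ (i : ℕ))).factorization 2 =
      ∑ i ∈ Finset.range n, (q ^ (i + 1) - 1).factorization 2 := by
    rw [Fin.prod_univ_eq_prod_range (fun i => q ^ n - q ^ i), Nat.factorization_prod fun i hi =>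
      (Nat.sub_pos_of_lt (Nat.pow_lt_pow_right h1 (Finset.mem_range.1 hi))).ne',
      Finsupp.finset_sum_apply, ← Finset.sum_range_reflect]
    refine Finset.sum_congr rfl fun i hi => ?_
    have hi := Finset.mem_range.1 hi
    rw [show q ^ n - q ^ (n - 1 - i) = q ^ (n - 1 - i) * (q ^ (i + 1) - 1) by
      rw [Nat.mul_sub, ← pow_add, mul_one]; congr 2; omega,
      v_mul (by positivity) (sub_ne h1 (by omega)), v_odd h, zero_add]
  have h3 : ∀ m, ∑ i ∈ Finset.range (2 * m), (q ^ (i + 1) - 1).factorization 2 ≤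
      m * ((q - 1).factorization 2 + (q ^ 2 - 1).factorization 2) + m.factorial.factorization 2 := by
    intro m
    induction m with
    | zero => simp
    | succ m ih =>
      have h3 := v_odd_exp h h1 m
      rw [mul_add, mul_one, Finset.sum_range_succ, Finset.sum_range_succ,
        show 2 * m + 1 + 1 = 2 * (m + 1) by ring, v_even h h1 m.succ_ne_zero, Nat.factorial_succ,
        v_mul m.succ_ne_zero m.factorial_ne_zero, add_mul]
      omega
  rw [h2]
  obtain ⟨m, rfl | rfl⟩ := n.even_or_odd'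
  · simpa using h3 m
  · have h4 := v_odd_exp h h1 m
    have h5 := h3 m
    rw [Finset.sum_range_succ, show (2 * m + 1) / 2 = m by omega, show (2 * m + 1) % 2 = 1 by omega]
    omega

end val

/-! ### the linear wreath product -/
section lin
variable (F : Type*) [Field F] (ι ρ : Type*) [Fintype ι] [DecidableEq ι] [Fintype ρ]

/-- The underlying space. -/
abbrev V : Type _ := (ι → Fin 2 → F) × (ρ → F)

variable {F} in
/-- Homomorphisms to the endomorphism monoid as homomorphisms to the automorphism group. -/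
def ofEnd {M W : Type*} [Group M] [AddCommGroup W] [Module F W] (φ : M →* Module.End F W) :
    M →* (W ≃ₗ[F] W) :=
  (LinearMap.GeneralLinearGroup.generalLinearEquiv F W).toMonoidHom.comp φ.toHomUnits

/-- Sign changes. -/
def sg : (ρ → ℤˣ) →* ((ρ → F) ≃ₗ[F] (ρ → F)) :=
  MonoidHom.mk' (fun ε => LinearEquiv.piCongrRight fun j => DistribMulAction.toLinearEquiv F F (ε j))
    fun _ _ => by ext v j; simp [smul_smul, mul_comm]

/-- Permutations of the coordinates. -/
def pm : Perm (ι × Fin 2) →* (V F ι ρ ≃ₗ[F] V F ι ρ) := ofEnd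
  { toFun s :=
      { toFun v := (fun i a => v.1 (s⁻¹ (i, a)).1 (s⁻¹ (i, a)).2, v.2)
        map_add' _ _ := rfl
        map_smul' _ _ := rfl }
    map_one' := rfl
    map_mul' _ _ := rfl }

variable {F ι ρ}

theorem sg_apply (ε : ρ → ℤˣ) (v : ρ → F) (j : ρ) : sg F ρ ε v j = ε j • v j := rfl

theorem pm_apply (s : Perm (ι × Fin 2)) (v : V F ι ρ) :
    pm F ι ρ s v = (fun i a => v.1 (s⁻¹ (i, a)).1 (s⁻¹ (i, a)).2, v.2) := rfl

theorem sg_eq_one (h2 : (2 : F) ≠ 0) {ε : ρ → ℤˣ} (h : ∀ v, sg F ρ ε v = v) : ε = 1 := funext fun j => by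
  have h1 := congrFun (h fun _ => 1) j
  rcases Int.units_eq_one_or (ε j) with e | e
  · exact e
  · rw [sg_apply, e, Units.neg_smul, one_smul] at h1
    exact (h2 (by linear_combination -h1)).elim

variable {H : Type*} [Group H] (a : H →* ((Fin 2 → F) ≃ₗ[F] (Fin 2 → F)))

variable (ι ρ) in
/-- The base group. -/
def bse : (ι → H) × (ρ → ℤˣ) →* (V F ι ρ ≃ₗ[F] V F ι ρ) :=
  MonoidHom.mk' (fun b => (LinearEquiv.piCongrRight fun i => a (b.1 i)).prodCongr (sg F ρ b.2))
    fun _ _ => by ext v <;> simp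

theorem bse_apply (b : (ι → H) × (ρ → ℤˣ)) (v : V F ι ρ) :
    bse ι ρ a b v = (fun i => a (b.1 i) (v.1 i), sg F ρ b.2 v.2) := rfl

/-- Permutations of the blocks. -/
def blk : Perm ι →* Perm (ι × Fin 2) :=
  MonoidHom.mk' (fun π => prodCongrLeft fun _ => π) fun _ _ => rfl

theorem sign_blk (π : Perm ι) : Perm.sign (blk π) = 1 := by
  change Perm.sign (prodCongrLeft fun _ => π) = 1
  simp [Perm.sign_prodCongrLeft]

theorem pm_blk (π : Perm ι) (v : V F ι ρ) : pm F ι ρ (blk π) v = (fun i => v.1 (π⁻¹ i), v.2) := by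
  rw [pm_apply, ← map_inv]; rfl

/-- The wreath product inside a linear group. -/
def lw (h2 : (2 : F) ≠ 0) (ha : Function.Injective a) (Γ : Subgroup (V F ι ρ ≃ₗ[F] V F ι ρ))
    (h1 : ∀ b, bse ι ρ a b ∈ Γ) (h3 : ∀ π, pm F ι ρ (blk π) ∈ Γ) : Wr ι H (ρ → ℤˣ) Γ where
  β := (bse ι ρ a).codRestrict Γ h1
  σ := ((pm F ι ρ).comp blk).codRestrict Γ h3
  conj π f r := by
    rw [mul_inv_eq_iff_eq_mul]
    refine Subtype.ext (LinearEquiv.ext fun v => ?_)
    change pm F ι ρ (blk π) (bse ι ρ a _ v) = bse ι ρ a _ (pm F ι ρ (blk π) v)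
    rw [pm_blk, pm_blk]; rfl
  inj b π h := by
    have h4 : ∀ v, bse ι ρ a b v = pm F ι ρ (blk π) v := fun v =>
      congrArg (fun g : Γ => (g : V F ι ρ ≃ₗ[F] V F ι ρ) v) h
    simp only [bse_apply, pm_blk, Prod.mk.injEq] at h4
    obtain rfl : π = 1 := inv_eq_one.1 (Equiv.ext fun i => by_contra fun e => by
      have h5 := congrFun (h4 (Pi.single i 1, 0)).1 i
      dsimp only at h5
      rw [Pi.single_eq_same, Pi.single_eq_of_ne (show π⁻¹ i ≠ i from e), LinearEquiv.map_eq_zero_iff] at h5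
      exact one_ne_zero h5)
    exact ⟨Prod.ext (funext fun i => ha (LinearEquiv.ext fun u => by
      simpa using congrFun (h4 (fun _ => u, 0)).1 i)) (sg_eq_one h2 fun w => (h4 (0, w)).2), rfl⟩

theorem det_bse (b : (ι → H) × (ρ → ℤˣ)) : (LinearEquiv.det (bse ι ρ a b) : F) =
    (∏ i, (LinearEquiv.det (a (b.1 i)) : F)) * ∏ j, ((b.2 j : ℤ) : F) := by
  have h1 := LinearMap.det_pi (R := F) fun i => (a (b.1 i)).toLinearMap
  have h2 := LinearMap.det_pi (R := F) fun j => ((b.2 j : ℤ) : F) • (LinearMap.id : F →ₗ[F] F)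
  simp only [LinearMap.det_smul, finrank_self, pow_one, LinearMap.det_id, mul_one] at h2
  simp only [LinearEquiv.coe_det]
  rw [← h1, ← h2, ← LinearMap.det_prodMap]
  congr 1
  refine LinearMap.ext fun v => Prod.ext rfl (funext fun j => ?_)
  simp [bse_apply, sg_apply, Units.smul_def]

theorem finrank_V : finrank F (V F ι ρ) = 2 * Fintype.card ι + Fintype.card ρ := by
  simp [finrank_pi_fintype, mul_comm]

theorem card_R : (Nat.card (⊤ : Subgroup (ρ → ℤˣ))).factorization 2 = Fintype.card ρ := by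
  simp [Nat.card_fun, v_two]

theorem isP_R : IsPGroup 2 (⊤ : Subgroup (ρ → ℤˣ)) := fun g => ⟨1, Subtype.ext (funext fun j => by
  simp)⟩

theorem sq_R (r : ρ → ℤˣ) (_ : r ∈ (⊤ : Subgroup (ρ → ℤˣ))) : r ^ 2 = 1 := funext fun j => by simp

end lin

/-! ### `SL₂`, `Sp` and `SL` -/
section groups
variable {F : Type*} [Field F] [Fintype F]

theorem quat_sq (m : ℕ) (x : QuaternionGroup (2 * m)) :
    x ^ 2 ∈ _root_.commutator (QuaternionGroup (2 * m)) := by
  have h : ∀ i, (QuaternionGroup.a i : QuaternionGroup (2 * m)) ^ 2 ∈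
      _root_.commutator (QuaternionGroup (2 * m)) := fun i => by
    have : (QuaternionGroup.a i : QuaternionGroup (2 * m)) ^ 2 =
        ⁅QuaternionGroup.a i, QuaternionGroup.xa 0⁆ := by
      rw [commutatorElement_def, eq_mul_inv_iff_mul_eq, eq_mul_inv_iff_mul_eq]
      simp [sq]
    rw [this]
    exact commutator_mem_commutator (mem_top _) (mem_top _)
  rcases x with i | i
  · exact h i
  · have := h m
    rw [sq, QuaternionGroup.a_mul_a, ← two_mul] at this
    rw [QuaternionGroup.xa_sq]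
    exact_mod_cast this

theorem ea_of_equiv {G K : Type*} [Group G] [Group K] {P : Subgroup G} (e : P ≃* K) {p : ℕ}
    (h : ∀ x : K, x ^ p ∈ _root_.commutator K) : EA p P := ea_iff.2 fun x => by
  have := mem_map_of_mem e.symm.toMonoidHom (h (e x))
  rwa [map_commutator_eq, MonoidHom.range_eq_top.2 e.symm.surjective, map_pow,
    MulEquiv.coe_toMonoidHom, e.symm_apply_apply] at this

theorem sea_SL2 (h2 : (2 : F) ≠ 0) : SEA 2 SL(2, F) := fun S => by
  obtain ⟨p, hc⟩ := CharP.exists F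
  have := Fact.mk (CharP.char_is_prime F p)
  obtain ⟨φ, hφ⟩ := SL2Sylow2.exists_quaternionHom (F := F) p (by
    rintro rfl; exact h2 (CharP.cast_eq_zero F 2))
  obtain ⟨k, hk, ⟨e⟩⟩ := SL2Sylow2.sylow_quaternion h2 (MonoidHom.id _) Function.injective_id φ hφ S
  obtain ⟨k, rfl⟩ := Nat.exists_eq_add_of_le hk
  rw [pow_add, pow_one] at e
  exact ea_of_equiv e (quat_sq _)

theorem odd_card (h2 : (2 : F) ≠ 0) : Odd (Nat.card F) :=
  Nat.card_eq_fintype_card (α := F) ▸ two_ne_zero_iff_odd.1 h2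

theorem v_SL2 (h2 : (2 : F) ≠ 0) :
    (Nat.card SL(2, F)).factorization 2 = (Nat.card F ^ 2 - 1).factorization 2 := by
  have := v_odd (odd_card h2) 1
  rw [pow_one] at this
  rw [SLnCard.card_SL2, v_mul Nat.card_pos.ne' (sub_ne Finite.one_lt_card two_ne_zero), this, zero_add]

/-- An orthogonal sum of symplectic planes. -/
def spF (F : Type*) [Field F] (k : ℕ) : Form (Kind.symp F) (V F (Fin k) Empty) :=
  ofAlt (LinearMap.mk₂ F (fun u v => ∑ i, (u.1 i 0 * v.1 i 1 - u.1 i 1 * v.1 i 0))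
    (fun _ _ _ => by rw [← Finset.sum_add_distrib]; exact Finset.sum_congr rfl fun _ _ => by simp; ring)
    (fun _ _ _ => by rw [Finset.smul_sum]; exact Finset.sum_congr rfl fun _ _ => by simp; ring)
    (fun _ _ _ => by rw [← Finset.sum_add_distrib]; exact Finset.sum_congr rfl fun _ _ => by simp; ring)
    (fun _ _ _ => by rw [Finset.smul_sum]; exact Finset.sum_congr rfl fun _ _ => by simp; ring))
    fun _ => by rw [LinearMap.mk₂_apply]; exact Finset.sum_eq_zero fun _ _ => by ring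

theorem spF_B (k : ℕ) (u v : V F (Fin k) Empty) :
    (spF F k).B u v = ∑ i, (u.1 i 0 * v.1 i 1 - u.1 i 1 * v.1 i 0) := rfl

theorem spF_nondeg (k : ℕ) : (spF F k).Nondeg := fun u h => Prod.ext (funext fun i => by
  have h1 := h (Pi.single i ![0, 1], 0)
  have h2 := h (Pi.single i ![1, 0], 0)
  rw [spF_B, Finset.sum_eq_single i (fun j _ e => by simp [e]) (by simp)] at h1 h2
  funext a
  fin_cases a
  · simpa using h1
  · simpa using h2) (Subsingleton.elim _ _)

theorem sea_sp (h2 : (2 : F) ≠ 0) (k : ℕ) : SEA 2 (Matrix.symplecticGroup (Fin k) F) := by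
  have hd : finrank F (V F (Fin k) Empty) = 2 * k := by rw [finrank_V]; simp
  obtain ⟨e⟩ := ((spF_nondeg k).symp_equivalent (sympStd_nondeg F k)
    (by rw [hd, finrank_plus])).nonempty_mulEquiv
  have : Finite (spF F k).Isom := Finite.of_equiv _ ((spEquiv F k).trans e.symm).toEquiv
  let W := lw (ι := Fin k) (ρ := Empty) Matrix.SpecialLinearGroup.toLin' h2
    Matrix.SpecialLinearGroup.toLin'_injective (spF F k).Isom (fun b => ⟨fun u v => by
      rw [spF_B, spF_B]
      refine Finset.sum_congr rfl fun i _ => ?_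
      have := (b.1 i).det_coe
      rw [Matrix.det_fin_two] at this
      simp [bse_apply, Matrix.SpecialLinearGroup.toLin'_apply, Matrix.mulVec, dotProduct]
      linear_combination (u.1 i 0 * v.1 i 1 - u.1 i 1 * v.1 i 0) * this, fun _ => rfl⟩)
    fun π => ⟨fun u v => by
      rw [spF_B, spF_B, pm_blk, pm_blk]
      exact Equiv.sum_comp π⁻¹ fun i => u.1 i 0 * v.1 i 1 - u.1 i 1 * v.1 i 0, fun _ => rfl⟩
  obtain ⟨D⟩ : Nonempty (Sylow 2 SL(2, F)) := inferInstance
  obtain ⟨T⟩ : Nonempty (Sylow 2 (Perm (Fin k))) := inferInstance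
  refine ((sea_of (W.syl (G := ⊤) D T isP_R ?_) (W.ea_A (sea_perm 2 _ T) (fun _ _ => mem_top _)
    (sea_SL2 h2 D) sq_R fun i d hd d' hd' => W.comm_mem hd hd' (one_mem _) (one_mem _) rfl rfl
      (Commute.refl _) (mem_top _) (mem_top _))).of_equiv topEquiv).of_equiv
        (e.trans (spEquiv F k).symm)
  rw [(spF_nondeg k).card_isom_symp k hd, v_mul (pow_ne_zero _ Nat.card_pos.ne')
    (Finset.prod_ne_zero_iff.2 fun i _ => sub_ne Finite.one_lt_card (by omega)), v_odd (odd_card h2),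
    v_prod (odd_card h2) Finite.one_lt_card, v_SL2 h2, Fintype.card_fin]
  omega

variable (h2 : (2 : F) ≠ 0) (ι ρ : Type*) [Fintype ι] [DecidableEq ι] [Fintype ρ] [DecidableEq ρ]

/-- The wreath product in the general linear group. -/
noncomputable def glW : Wr ι (GL (Fin 2) F) (ρ → ℤˣ) (⊤ : Subgroup (V F ι ρ ≃ₗ[F] V F ι ρ)) :=
  lw glEquiv.toMonoidHom h2 glEquiv.injective ⊤ (fun _ => mem_top _) fun _ => mem_top _

variable (F) in
/-- The special linear group. -/
noncomputable abbrev SG : Subgroup (⊤ : Subgroup (V F ι ρ ≃ₗ[F] V F ι ρ)) :=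
  (LinearEquiv.det.comp (Subgroup.subtype _)).ker

/-- The kernel of the determinant. -/
abbrev S2 (F : Type*) [Field F] : Subgroup (GL (Fin 2) F) := Matrix.GeneralLinearGroup.det.ker

instance : Finite (V F ι ρ ≃ₗ[F] V F ι ρ) := Finite.of_injective _ LinearEquiv.coe_injective

variable {ι ρ}

theorem β_mem_SG (b : (ι → GL (Fin 2) F) × (ρ → ℤˣ)) : (glW h2 ι ρ).β b ∈ SG F ι ρ ↔
    (∏ i, (Matrix.GeneralLinearGroup.det (b.1 i) : F)) * ∏ j, ((b.2 j : ℤ) : F) = 1 := by
  have := det_bse glEquiv.toMonoidHom b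
  simp only [MulEquiv.coe_toMonoidHom, det_glEquiv] at this
  rw [← this, Units.val_eq_one]
  rfl

theorem prod_single {M H : Type*} [CommMonoid M] [Monoid H] (f : H →* M) (i : ι) (d : H) :
    ∏ j, f (Pi.mulSingle (M := fun _ => H) i d j) = f d := by
  rw [Finset.prod_eq_single i (fun j _ e => by simp [e]) (by simp), Pi.mulSingle_eq_same]

theorem comap_SG (i : ι) : (SG F ι ρ).comap ((glW h2 ι ρ).e i) = S2 F := by
  ext d
  rw [mem_comap, Wr.e_apply, β_mem_SG, ← Units.coe_prod, prod_single]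
  simp [Units.ext_iff]

theorem σ_mem_SG (π : Perm ι) : (glW h2 ι ρ).σ π ∈ SG F ι ρ :=
  Abelianization.commutator_subset_ker _
    (map_mem_commutator ((pm F ι ρ).codRestrict ⊤ fun _ => mem_top _) (sign_blk π))

include h2 in
theorem ea_S2 (D : Sylow 2 (GL (Fin 2) F)) : EA 2 ((D : Subgroup (GL (Fin 2) F)) ⊓ S2 F) :=
  ((sea_SL2 h2).of_equiv SLnCard.slEquivKer).ea (isSylowIn_inf_normal D _)

theorem sea_sl_of {n : ℕ} (hn : n = 2 * Fintype.card ι + Fintype.card ρ) (hρ : Fintype.card ρ ≤ 1)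
    (hq : Fintype.card ρ = 1 → Nat.card F % 4 = 3) (D : Sylow 2 (GL (Fin 2) F)) (T : Sylow 2 (Perm ι))
    (h : EA 2 ((glW h2 ι ρ).P D ⊤ T (SG F ι ρ))) : SEA 2 SL(n, F) := by
  let b := finBasisOfFinrankEq F (V F ι ρ) (finrank_V.trans hn.symm)
  let e : SG F ι ρ ≃* SpecialLinearGroup F (V F ι ρ) :=
    ⟨⟨fun g => ⟨g.1.1, g.2⟩, fun u => ⟨⟨u.1, mem_top _⟩, u.2⟩, fun _ => rfl, fun _ => rfl⟩,
      fun _ _ => rfl⟩
  refine (sea_of (Wr.syl _ D T isP_R ?_) h).of_equiv
    (e.trans (Matrix.SpecialLinearGroup.toLin_equiv b).symm)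
  have h3 := v_odd (odd_card h2) 1
  rw [pow_one] at h3
  have h1 : 1 < Nat.card F := Finite.one_lt_card
  rw [card_top, ← Nat.card_congr ((Matrix.GeneralLinearGroup.toLin' b).trans
    (LinearMap.GeneralLinearGroup.generalLinearEquiv F _)).toEquiv, SLnCard.card_GL, SLnCard.card_GL2,
    v_mul (by omega) (mul_ne_zero (by omega) (sub_ne h1 two_ne_zero)),
    v_mul (by omega) (sub_ne h1 two_ne_zero), h3, zero_add, card_R]
  refine (v_gl (odd_card h2) h1 n).trans ?_
  rw [show n / 2 = Fintype.card ι by omega, show n % 2 = Fintype.card ρ by omega]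
  rcases Nat.le_one_iff_eq_zero_or_eq_one.1 hρ with e | e
  · simp [e]
  · rw [v_eq_one (a := Nat.card F - 1) (by have := hq e; omega), mul_one]

include h2 in
theorem sea_sl_pow (j : ℕ) : SEA 2 SL(2 * 2 ^ j, F) := by
  obtain ⟨D⟩ : Nonempty (Sylow 2 (GL (Fin 2) F)) := inferInstance
  obtain ⟨T, hT⟩ := exists_trans 2 (Multiplicative (ZMod (2 ^ j))) (IsPGroup.of_card (n := j) (by simp))
  refine sea_sl_of h2 (ρ := Empty) (by simp) (by simp) (by simp) D T
    (Wr.ea_B _ (sea_perm 2 _ T) (fun π _ => σ_mem_SG h2 π) 1 hT (fun _ _ => Subsingleton.elim _ _)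
      fun d hd h => Wr.Om_of_ea _ (by rw [comap_SG]; exact ea_S2 h2 D) hd h)

theorem det_eq_or (hq : Nat.card F % 4 = 3) {D : Subgroup (GL (Fin 2) F)} (hD : IsPGroup 2 D)
    {d : GL (Fin 2) F} (hd : d ∈ D) : Matrix.GeneralLinearGroup.det d = 1 ∨
      Matrix.GeneralLinearGroup.det d = -1 := by
  obtain ⟨k, hk⟩ := hD ⟨d, hd⟩
  have h1 : orderOf (Matrix.GeneralLinearGroup.det d) ∣ 2 ^ k := orderOf_dvd_of_pow_eq_one (by
    rw [← map_pow, show d ^ 2 ^ k = 1 from congrArg Subtype.val hk, map_one])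
  have h3 := orderOf_dvd_natCard (Matrix.GeneralLinearGroup.det d)
  rw [Nat.card_units] at h3
  obtain ⟨l, -, hl⟩ := (Nat.dvd_prime_pow Nat.prime_two).1 h1
  have h4 : l ≤ 1 := by
    by_contra! h4
    have : 2 ^ 2 ∣ Nat.card F - 1 := (pow_dvd_pow 2 h4).trans (hl ▸ h3)
    omega
  have h5 := orderOf_dvd_iff_pow_eq_one.1 (hl ▸ pow_dvd_pow 2 h4)
  rw [pow_one, Units.ext_iff, Units.val_pow_eq_pow_val, Units.val_one, sq_eq_one_iff] at h5
  exact h5.imp Units.ext Units.ext

/-- A reflection. -/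
def sD (F : Type*) [Field F] : GL (Fin 2) F := ⟨!![1, 0; 0, -1], !![1, 0; 0, -1],
  by simp [Matrix.one_fin_two], by simp [Matrix.one_fin_two]⟩

theorem sD_sq : sD F ^ 2 = 1 := Units.ext (by simp [sD, sq, Matrix.one_fin_two])

theorem det_sD : Matrix.GeneralLinearGroup.det (sD F) = -1 := Units.ext (by simp [sD])

theorem exists_syl {G : Type*} [Group G] {s : G} (h : s ^ 2 = 1) :
    ∃ D : Sylow 2 G, s ∈ (D : Subgroup G) := by
  have : IsPGroup 2 (zpowers s) := by
    rintro ⟨_, k, rfl⟩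
    exact ⟨1, Subtype.ext (by
      change (s ^ k) ^ 2 ^ 1 = 1
      rw [pow_one, ← zpow_natCast, zpow_comm, zpow_natCast, h, one_zpow])⟩
  obtain ⟨D, hD⟩ := this.exists_le_sylow
  exact ⟨D, hD (mem_zpowers s)⟩

theorem sea_sl_three {n : ℕ} (hn : n = 2 * Fintype.card ι + Fintype.card ρ) (hρ : Fintype.card ρ ≤ 1)
    (hq : Nat.card F % 4 = 3) (h : 2 ≤ Fintype.card ι ∨ Nonempty ρ) : SEA 2 SL(n, F) := by
  have h2 : (2 : F) ≠ 0 := two_ne_zero_iff_odd.2 (by
    rw [← Nat.card_eq_fintype_card, Nat.odd_iff]; omega)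
  obtain ⟨D, hD⟩ := exists_syl (sD_sq (F := F))
  obtain ⟨T⟩ : Nonempty (Sylow 2 (Perm ι)) := inferInstance
  have h3 := (ea_S2 h2 D).le_Om inf_le_left
  refine sea_sl_of h2 hn hρ (fun _ => hq) D T (Wr.ea_A _ (sea_perm 2 _ T) (fun π _ => σ_mem_SG h2 π)
    (ea_of_le_Om fun d hd => ?_) sq_R fun i => ?_)
  · rcases det_eq_or hq D.isPGroup' hd with e | e
    · exact h3 ⟨hd, e⟩
    · rw [← mul_inv_cancel_right d (sD F)]
      exact mul_mem (h3 ⟨mul_mem hd hD, by simp [MonoidHom.mem_ker, e, det_sD]⟩)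
        (inv_mem (mem_Om.2 ⟨hD, sD_sq (F := F) ▸ one_mem _⟩))
  obtain ⟨w, h4, h5, h6⟩ : ∃ w ∈ (Wr.bs D ⊤ : Subgroup ((ι → GL (Fin 2) F) × (ρ → ℤˣ))), w.1 i = 1 ∧
      (∏ i, (Matrix.GeneralLinearGroup.det (w.1 i) : F)) * ∏ j, ((w.2 j : ℤ) : F) = -1 := by
    rcases h with h | ⟨⟨j⟩⟩
    · obtain ⟨l, hl⟩ := Fintype.exists_ne_of_one_lt_card h i
      exact ⟨_, Wr.single_mem_bs l hD, Pi.mulSingle_eq_of_ne hl.symm _, by
        rw [← Units.coe_prod, prod_single, det_sD]; simp⟩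
    · exact ⟨(1, Pi.mulSingle j (-1)), Wr.mem_bs.2 ⟨fun _ => one_mem _, mem_top _⟩, rfl, by
        rw [Finset.prod_eq_single j (fun l _ e => by simp [e]) (by simp)]; simp⟩
  have h7 : ∀ d ∈ (D : Subgroup (GL (Fin 2) F)), ∃ u ∈ zpowers w,
      (glW h2 ι ρ).e i d * (glW h2 ι ρ).β u ∈ SG F ι ρ := fun d hd => by
    rcases det_eq_or hq D.isPGroup' hd with e | e
    · exact ⟨1, one_mem _, by rw [map_one, mul_one, ← mem_comap, comap_SG]; exact e⟩
    · refine ⟨w, mem_zpowers w, ?_⟩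
      rw [Wr.e_apply, ← map_mul, β_mem_SG]
      simp only [Prod.fst_mul, Prod.snd_mul, Pi.mul_apply, map_mul, Units.val_mul,
        Finset.prod_mul_distrib, one_mul, Pi.one_apply, Units.val_one]
      rw [mul_assoc, h6, ← Units.coe_prod, prod_single, e]
      simp
  intro d hd d' hd'
  obtain ⟨_, ⟨k, rfl⟩, h8⟩ := h7 d hd
  obtain ⟨_, ⟨l, rfl⟩, h9⟩ := h7 d' hd'
  exact Wr.comm_mem _ hd hd' (zpow_mem h4 k) (zpow_mem h4 l) (by simp [h5]) (by simp [h5])
    (Commute.zpow_zpow_self w k l) h8 h9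

end groups

/-! ### orthogonal groups -/
section orth
variable {F : Type*} [Field F] [Fintype F] (ι : Type*) {ρ : Type*} [Fintype ι] [DecidableEq ι]
  [Fintype ρ] [DecidableEq ρ] (c : ρ → F)

/-- The plane `x² + y²`. -/
abbrev pl (F : Type*) [Field F] : Form (Kind.orth F) (Fin 2 → F) := binForm 0 1

theorem pl_nondeg (h2 : (2 : F) ≠ 0) : (pl F).Nondeg := binForm_nondeg (by
  rw [show (0 : F) ^ 2 - 4 * 1 = -(2 * 2) by ring]; exact neg_ne_zero.2 (mul_ne_zero h2 h2))

/-- A diagonal form. -/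
def oF : Form (Kind.orth F) (V F ι ρ) :=
  ofFun (fun v => ∑ i, (pl F).Q (v.1 i) + ∑ j, c j * v.2 j ^ 2)
    (fun u => ∑ i, ((pl F).B (u.1 i)).comp ((LinearMap.proj i).comp (LinearMap.fst _ _ _)) +
      ∑ j, (2 * c j * u.2 j) • (LinearMap.proj j).comp (LinearMap.snd _ _ _))
    (fun x y => by
      simp only [Prod.fst_add, Prod.snd_add, Pi.add_apply, Q_add, Kind.orth_π, add_sq, mul_add,
        Finset.sum_add_distrib, LinearMap.add_apply, LinearMap.sum_apply, LinearMap.comp_apply,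
        LinearMap.smul_apply, LinearMap.proj_apply, LinearMap.fst_apply, LinearMap.snd_apply,
        smul_eq_mul, mul_left_comm (c _) 2, mul_assoc]
      ring)
    fun a x => by
      simp only [Prod.smul_fst, Prod.smul_snd, Pi.smul_apply, Q_smul, Kind.orth_σ, smul_eq_mul,
        mul_add, Finset.mul_sum]
      exact congrArg₂ _ (Finset.sum_congr rfl fun _ _ => by ring)
        (Finset.sum_congr rfl fun _ _ => by ring)

theorem oF_Q (v : V F ι ρ) : (oF ι c).Q v = ∑ i, (pl F).Q (v.1 i) + ∑ j, c j * v.2 j ^ 2 := rfl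

theorem oF_B (u v : V F ι ρ) : (oF ι c).B u v =
    ∑ i, (pl F).B (u.1 i) (v.1 i) + ∑ j, 2 * c j * u.2 j * v.2 j := by
  simp [oF, ofFun]

theorem mem_oF {g : V F ι ρ ≃ₗ[F] V F ι ρ} (h : ∀ v, (oF ι c).Q (g v) = (oF ι c).Q v) :
    g ∈ (oF ι c).Isom := mem_Isom_iff_pres.2 ((orth_pres_iff (φ := g.toLinearMap)).2 h)

variable (F ρ) in
/-- The standard basis. -/
noncomputable def sb : Basis ((Σ _ : ι, Fin 2) ⊕ ρ) F (V F ι ρ) :=
  (Pi.basis fun _ => Pi.basisFun F (Fin 2)).prod (Pi.basisFun F ρ)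

theorem det_gram : ((oF ι c).gram (sb F ι ρ)).det =
    2 ^ (2 * Fintype.card ι + Fintype.card ρ) * ∏ j, c j := by
  have h1 : ∀ i a, sb F ι ρ (.inl ⟨i, a⟩) = (Pi.single i (Pi.single a 1), 0) := fun i a => by
    simp [sb, Prod.ext_iff]
  have h2 : ∀ j, sb F ι ρ (.inr j) = (0, Pi.single j 1) := fun j => by simp [sb, Prod.ext_iff]
  have h3 : ∀ (i i' : ι) (u v : Fin 2 → F), ∑ l, (pl F).B ((Pi.single i u : ι → Fin 2 → F) l)
      ((Pi.single i' v : ι → Fin 2 → F) l) = if i = i' then (pl F).B u v else 0 := fun i i' u v => by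
    rw [Finset.sum_eq_single i (fun l _ e => by simp [e]) (by simp)]
    split_ifs with e <;> simp [e]
  rw [det_gram_of_orth, Fintype.prod_sum_type, Finset.prod_congr rfl (g := fun _ => 2),
    Finset.prod_congr rfl (g := fun j => 2 * c j), Finset.prod_mul_distrib]
  · simp [pow_add, mul_comm, mul_assoc]
  · intro j _
    simp [h2, oF_B, Pi.single_apply]
  · rintro ⟨i, a⟩ _
    rw [h1, oF_B, h3]
    fin_cases a <;> simp [binForm_B]
  · rintro (⟨i, a⟩ | j) (⟨i', a'⟩ | j') h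
    · rw [h1, h1, oF_B, h3]
      split_ifs with e
      · subst e
        fin_cases a <;> fin_cases a' <;> simp_all [binForm_B]
      · simp
    · simp [h1, h2, oF_B]
    · simp [h1, h2, oF_B]
    · have : j ≠ j' := fun e => h (by rw [e])
      simp [h2, oF_B, Pi.single_apply, this, this.symm]

variable {c}

theorem oF_nondeg (h2 : (2 : F) ≠ 0) (hc : ∀ j, c j ≠ 0) : (oF ι c).Nondeg :=
  nondeg_of_det_gram_ne_zero (sb F ι ρ) (by
    rw [det_gram]; exact mul_ne_zero (pow_ne_zero _ h2) (Finset.prod_ne_zero_iff.2 fun j _ => hc j))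

theorem oF_equiv (h2 : (2 : F) ≠ 0) (hc : ∀ j, c j ≠ 0) {W : Type*} [AddCommGroup W] [Module F W]
    [FiniteDimensional F W] {f : Form (Kind.orth F) W} (hf : f.Nondeg)
    (hd : finrank F W = 2 * Fintype.card ι + Fintype.card ρ)
    (h : IsSquare (f.disc * (2 ^ finrank F W * ∏ j, c j))) : f.Equivalent (oF ι c) := by
  rw [hf.equivalent_iff_isSquare h2 (oF_nondeg ι h2 hc) (hd.trans finrank_V.symm),
    ← isSquare_mul_det_gram_iff (sb F ι ρ), det_gram, ← hd]
  exact h

variable (c) in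
theorem pm_mem (s : Perm (ι × Fin 2)) : pm F ι ρ s ∈ (oF ι c).Isom := mem_oF ι c fun v => by
  have h : ∀ u : ι → Fin 2 → F, ∑ i, (pl F).Q (u i) = ∑ x : ι × Fin 2, u x.1 x.2 ^ 2 := fun u => by
    simp [Fintype.sum_prod_type, binForm_Q]
  rw [oF_Q, oF_Q, h, h, pm_apply]
  exact congrArg₂ _ (Equiv.sum_comp s⁻¹ fun x : ι × Fin 2 => v.1 x.1 x.2 ^ 2) rfl

variable (c) in
/-- The wreath product in the orthogonal group. -/
def oW (h2 : (2 : F) ≠ 0) : Wr ι (pl F).Isom (ρ → ℤˣ) (oF ι c).Isom :=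
  lw (pl F).Isom.subtype h2 (subtype_injective _) _ (fun b => mem_oF ι c fun v => by
    rw [oF_Q, oF_Q, bse_apply]
    refine congrArg₂ _ (Finset.sum_congr rfl fun i _ => Q_coe_map _ _ _)
      (Finset.sum_congr rfl fun j _ => ?_)
    rcases Int.units_eq_one_or (b.2 j) with e | e <;> simp [sg_apply, e]) fun _ => pm_mem ι c _

theorem e_refl (h2 : (2 : F) ≠ 0) (i : ι) (u : Fin 2 → F) :
    (oW ι c h2).e i ((pl F).refl u) = (oF ι c).refl (Pi.single i u, 0) ∧
      (oF ι c).Q (Pi.single i u, 0) = (pl F).Q u := by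
  have h1 : (oF ι c).Q (Pi.single i u, 0) = (pl F).Q u := by
    rw [oF_Q, Finset.sum_eq_single i (fun l _ e => by simp [e]) (by simp)]
    simp
  refine ⟨Subtype.ext (LinearEquiv.ext fun v => ?_), h1⟩
  rw [Form.refl_apply, h1, oF_B, Finset.sum_eq_single i (fun l _ e => by simp [e]) (by simp)]
  refine Prod.ext (funext fun l => ?_) (funext fun j => by
    change (1 : ℤˣ) • v.2 j = _; simp)
  change ((Pi.mulSingle (M := fun _ => (pl F).Isom) i ((pl F).refl u) l : (pl F).Isom) :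
    (Fin 2 → F) ≃ₗ[F] (Fin 2 → F)) (v.1 l) = _
  by_cases e : l = i
  · simp [e, Form.refl_apply]
  · simp [e]

theorem v_pl (h2 : (2 : F) ≠ 0) :
    (Nat.card F ^ 2 - 1).factorization 2 ≤ (Nat.card (pl F).Isom).factorization 2 := by
  have hf := pl_nondeg h2
  have h1 : 1 < Nat.card F := Finite.one_lt_card
  have h3 := v_sq h1 1 one_ne_zero
  have h4 : (pl F).IsIndex 1 ↔ Nat.card F % 4 = 1 := by
    rw [hf.isIndex_iff_isSquare h2 (by simp), ← isSquare_mul_det_gram_iff (Pi.basisFun F (Fin 2)),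
      Nat.card_eq_fintype_card, ← isSquare_neg_one_iff_mod h2, mul_comm,
      isSquare_mul_left_iff ⟨2, _⟩, pow_one] <;>
    simp [Matrix.det_fin_two, gram_apply, binForm_B, h2]
  have h5 := Nat.odd_iff.1 (odd_card h2)
  simp only [pow_one, mul_one] at h3
  rcases hf.isIndex_even (m := 0) (by simp) with h | h
  · rw [h.card_isom_plus hf (by simp), h3, v_eq_one (a := Nat.card F + 1) (by have := h4.1 h; omega)]
    simp only [zero_add, mul_zero, pow_zero, mul_one, pow_one, Finset.range_zero, Finset.prod_empty]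
    rw [v_mul two_ne_zero (by omega), v_two, add_comm]
  · have : Nat.card F % 4 ≠ 1 := fun e => by simpa using (h4.2 e).unique h
    rw [h.card_isom_minus hf (by simp), h3, v_eq_one (a := Nat.card F - 1) (by omega)]
    simp only [zero_add, mul_zero, pow_zero, mul_one, pow_one, Finset.range_zero, Finset.prod_empty]
    rw [v_mul two_ne_zero (by omega), v_two]

section plane
variable {W : Type*} [AddCommGroup W] [Module F W] [FiniteDimensional F W]
  {f : Form (Kind.orth F) W} (hf : f.Nondeg) (h : finrank F W = 2) {u : W} (hu : f.Q u ≠ 0)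
include hf h hu

theorem sq_eq_comm {g : f.Isom} (hg : hf.dick (good_of_two h) g = 1) : g ^ 2 = ⁅g, f.refl u⁆ := by
  have := hf.refl_conj_of_two _ h (by rw [map_inv, hg, inv_one] :
    hf.dick (good_of_two h) g⁻¹ = 1) hu
  rw [commutatorElement_def, mul_assoc, mul_assoc, ← mul_assoc (f.refl u), this, inv_inv, sq]

theorem ea_plane {D : Subgroup f.Isom} (hD : f.refl u ∈ D) : EA 2 D := fun g hg => by
  rcases Int.units_eq_one_or (hf.dick (good_of_two h) g) with e | e
  · rw [sq_eq_comm hf h hu e]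
    exact commutator_mem_commutator hg hD
  · obtain ⟨v, -, rfl⟩ := hf.exists_refl_of_two _ h e
    rw [sq, refl_mul_self]
    exact one_mem _

theorem mem_comm_plane [Finite f.Isom] (D : Sylow 2 f.Isom) (hD : f.refl u ∈ (D : Subgroup f.Isom))
    {d : f.Isom} (hd : d ∈ (D : Subgroup f.Isom)) (h1 : d ∈ _root_.commutator f.Isom) :
    d ∈ ⁅(D : Subgroup f.Isom), (D : Subgroup f.Isom)⁆ := by
  have h2 : ∀ x y : (hf.dick (good_of_two h)).ker, x * y = y * x := fun x y => Subtype.ext (by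
    have h2 := hf.refl_conj_of_two _ h (x * y).2 hu
    rw [coe_mul, ← conj_mul, hf.refl_conj_of_two _ h x.2 hu, hf.refl_conj_of_two _ h y.2 hu,
      ← mul_inv_rev, inv_inj] at h2
    exact h2.symm)
  letI : CommGroup (hf.dick (good_of_two h)).ker := { mul_comm := h2 }
  obtain ⟨_, ⟨y, rfl⟩, rfl⟩ := hf.commutator_le_of_sq (good_of_two h)
    (K := (powMonoidHom (α := (hf.dick (good_of_two h)).ker) 2).range.map (Subgroup.subtype _))
    (fun u v h2 h3 => ⟨_, ⟨⟨f.refl u * f.refl v, by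
      rw [MonoidHom.mem_ker, map_mul, hf.dick_refl _ h2, hf.dick_refl _ h3]; rfl⟩, rfl⟩, sq _⟩) h1
  obtain ⟨k, hk⟩ := D.isPGroup' ⟨_, hd⟩
  have h3 : (zpowers (y : f.Isom)).Normal := ⟨by
    rintro _ ⟨n, rfl⟩ g
    rw [← conj_zpow]
    refine zpow_mem ?_ n
    rcases Int.units_eq_one_or (hf.dick (good_of_two h) g) with e | e
    · rw [show g * y = y * g from congrArg Subtype.val (h2 ⟨g, e⟩ y), mul_inv_cancel_right]
      exact mem_zpowers _
    · obtain ⟨v, h3, rfl⟩ := hf.exists_refl_of_two _ h e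
      rw [hf.refl_conj_of_two _ h y.2 h3]
      exact inv_mem (mem_zpowers _)⟩
  have h4 : IsPGroup 2 (zpowers (y : f.Isom)) := by
    rintro ⟨_, n, rfl⟩
    refine ⟨k + 1, Subtype.ext ?_⟩
    change ((y : f.Isom) ^ n) ^ 2 ^ (k + 1) = 1
    rw [← zpow_natCast, zpow_comm, zpow_natCast, pow_succ', pow_mul,
      show ((y : f.Isom) ^ 2) ^ 2 ^ k = 1 from congrArg Subtype.val hk, one_zpow]
  change (y : f.Isom) ^ 2 ∈ _
  rw [sq_eq_comm hf h hu y.2]
  exact commutator_mem_commutator (h4.le_sylow_of_normal D (mem_zpowers _)) hD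

end plane

instance {W : Type*} [AddCommGroup W] [Finite W] [Module F W] : Finite (W ≃ₗ[F] W) :=
  Finite.of_injective _ LinearEquiv.coe_injective

theorem mem_comm_of_e (h2 : (2 : F) ≠ 0) (hc : ∀ j, c j ≠ 0) (i : ι) {d : (pl F).Isom}
    (h : (oW ι c h2).e i d ∈ _root_.commutator (oF ι c).Isom) : d ∈ _root_.commutator (pl F).Isom := by
  have hf := pl_nondeg h2
  have hg := oF_nondeg ι h2 hc
  have h1 : (hg.dick (good_of_two_ne_zero _ h2)).comp ((oW ι c h2).e i) =
      hf.dick (good_of_two_ne_zero _ h2) := hf.hom_ext_refl (good_of_two_ne_zero _ h2) fun v hv => by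
    rw [MonoidHom.comp_apply, (e_refl ι h2 i v).1, hf.dick_refl _ hv,
      hg.dick_refl _ ((e_refl ι (c := c) h2 i v).2 ▸ hv)]
  have h3 : (hg.spin (good_of_two_ne_zero _ h2)).comp ((oW ι c h2).e i) =
      hf.spin (good_of_two_ne_zero _ h2) := hf.hom_ext_refl (good_of_two_ne_zero _ h2) fun v hv => by
    rw [MonoidHom.comp_apply, (e_refl ι h2 i v).1, hf.spin_refl _ hv,
      hg.spin_refl _ ((e_refl ι (c := c) h2 i v).2 ▸ hv), (e_refl ι h2 i v).2]
  rw [hf.mem_commutator_iff (good_of_two_ne_zero _ h2), ← h1, ← h3]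
  exact (hg.mem_commutator_iff (good_of_two_ne_zero _ h2) _).1 h

theorem sea_oF (h2 : (2 : F) ≠ 0) (hc : ∀ j, c j ≠ 0)
    (hv : (Nat.card (oF ι c).Isom).factorization 2 ≤ Fintype.card ι *
      (Nat.card F ^ 2 - 1).factorization 2 + Fintype.card ρ +
        (Fintype.card ι).factorial.factorization 2)
    (h : 3 ≤ Fintype.card ι ∨ Fintype.card ι = 2 ∧ IsEmpty ρ) :
    SEA 2 (_root_.commutator (oF ι c).Isom) := by
  have hu : (pl F).Q ![1, 0] ≠ 0 := by simp [binForm_Q]
  have hf := pl_nondeg h2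
  obtain ⟨D, hD⟩ := exists_syl ((sq _).trans ((pl F).refl_mul_self ![1, 0]))
  obtain ⟨T⟩ : Nonempty (Sylow 2 (Perm ι)) := inferInstance
  have hσ : ∀ π ∈ (T : Subgroup (Perm ι)), (oW ι c h2).σ π ∈ _root_.commutator (oF ι c).Isom :=
    fun π _ => map_mem_commutator ((pm F ι ρ).codRestrict _ (pm_mem ι c)) (sign_blk π)
  refine sea_of ((oW ι c h2).syl D T isP_R (hv.trans ?_)) ?_
  · rw [card_R]
    have := Nat.mul_le_mul_left (Fintype.card ι) (v_pl h2)
    omega
  rcases h with h | ⟨h, h3⟩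
  · exact Wr.ea_A _ (sea_perm 2 _ T) hσ (ea_plane hf (by simp) hu hD) sq_R fun i d hd d' hd' =>
      Wr.comm_mem_three _ le_rfl h i hd hd'
  · obtain ⟨i, j, hij⟩ := Fintype.exists_pair_of_one_lt_card (h ▸ one_lt_two)
    have h4 : ∀ π, π ∈ (T : Subgroup (Perm ι)) := fun π => by
      rw [← T.is_maximal' (Q := ⊤) (IsPGroup.of_card (n := 1) (by
        rw [card_top, Nat.card_perm, Nat.card_eq_fintype_card, h]; rfl)) le_top]
      trivial
    refine Wr.ea_B _ (sea_perm 2 _ T) hσ i (fun l => ⟨swap i l, h4 _, swap_apply_left i l⟩)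
      (fun _ _ => Subsingleton.elim _ _) fun d hd h5 => ?_
    exact (commutator_le (H₃ := Subgroup.comap ((oW ι c h2).e i) (Om 2 _))).2
      (fun d hd d' hd' => Wr.comm_Om _ (sea_perm 2 _ T) hσ (h4 (swap i j))
        (by rw [swap_apply_left]; exact hij.symm) hd' hd)
      (mem_comm_plane hf (by simp) hu D hD hd (mem_comm_of_e ι h2 hc i h5))

variable {W : Type*} [AddCommGroup W] [Module F W] [FiniteDimensional F W]
  {f : Form (Kind.orth F) W}

theorem sea_of_oF (h2 : (2 : F) ≠ 0) (hc : ∀ j, c j ≠ 0) (hf : f.Nondeg) {k : ℕ}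
    (hd : finrank F W = 2 * k + Fintype.card ρ) (h : IsSquare (f.disc * (2 ^ finrank F W * ∏ j, c j)))
    (hv : (Nat.card f.Isom).factorization 2 ≤ k * (Nat.card F ^ 2 - 1).factorization 2 +
      Fintype.card ρ + k.factorial.factorization 2) (hk : 3 ≤ k ∨ k = 2 ∧ IsEmpty ρ) :
    SEA 2 (_root_.commutator f.Isom) := by
  have h1 := (oF_equiv (Fin k) h2 hc hf (by rwa [Fintype.card_fin]) h).symm
  obtain ⟨e⟩ := h1.nonempty_mulEquiv
  exact (sea_oF (Fin k) h2 hc (by rwa [Fintype.card_fin, h1.card_isom])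
    (by rwa [Fintype.card_fin])).of_equiv ((e.subgroupMap _).trans (MulEquiv.subgroupCongr (by
      rw [map_commutator_eq, MonoidHom.range_eq_top.2 e.surjective]; rfl)))

theorem sea_odd (h2 : (2 : F) ≠ 0) (hf : f.Nondeg) {m : ℕ} (hd : finrank F W = 2 * m + 1)
    (hm : 3 ≤ m) : SEA 2 (_root_.commutator f.Isom) := by
  refine sea_of_oF (c := fun _ : Unit => 2 ^ finrank F W * f.disc) h2
    (fun _ => mul_ne_zero (pow_ne_zero _ h2) hf.disc_ne_zero) hf hd
    ⟨2 ^ finrank F W * f.disc, by simp; ring⟩ ?_ (.inl hm)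
  rw [hf.card_isom_odd hd, v_mul (mul_ne_zero two_ne_zero (pow_ne_zero _ Nat.card_pos.ne'))
    (Finset.prod_ne_zero_iff.2 fun i _ => sub_ne Finite.one_lt_card (by omega)),
    v_mul two_ne_zero (pow_ne_zero _ Nat.card_pos.ne'), v_odd (odd_card h2),
    v_prod (odd_card h2) Finite.one_lt_card, v_two, Fintype.card_unit]
  omega

theorem sea_even (h2 : (2 : F) ≠ 0) (hf : f.Nondeg) {m : ℕ} (hd : finrank F W = 2 * m + 2)
    (hm : 3 ≤ m ∨ m = 1 ∧ IsSquare f.disc) : SEA 2 (_root_.commutator f.Isom) := by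
  have h1 : 1 < Nat.card F := Finite.one_lt_card
  have h0 := odd_card h2
  have h3 := v_sq h1 (m + 1) m.succ_ne_zero
  have h4 := Nat.odd_iff.1 (h0.pow (n := m + 1))
  have h5 : 1 < Nat.card F ^ (m + 1) := one_lt_pow₀ h1 m.succ_ne_zero
  have h6 := v_pos (a := Nat.card F ^ (m + 1) - 1) (by omega) (by omega)
  have h7 := v_pos (a := Nat.card F ^ (m + 1) + 1) (by omega) (by omega)
  rw [v_even h0 h1 m.succ_ne_zero] at h3
  have h8 : ∀ a, a ≠ 0 → (2 * Nat.card F ^ ((m + 1) * m) * a *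
      ∏ i ∈ Finset.range m, (Nat.card F ^ (2 * (i + 1)) - 1)).factorization 2 = 1 + a.factorization 2 +
        (m * (Nat.card F ^ 2 - 1).factorization 2 + m.factorial.factorization 2) := fun a ha => by
    rw [v_mul (by positivity) (Finset.prod_ne_zero_iff.2 fun i _ => sub_ne h1 (by omega)),
      v_mul (by positivity) ha, v_mul two_ne_zero (by positivity), v_odd h0, v_prod h0 h1, v_two]
  have h9 : IsSquare ((2 : F) ^ finrank F W) := ⟨2 ^ (m + 1), by rw [hd]; ring⟩
  by_cases h : IsSquare f.disc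
  · refine sea_of_oF (c := fun _ : Empty => 1) (k := m + 1) h2 (fun _ => one_ne_zero) hf
      (by rw [hd]; rfl) (by simpa using h.mul h9) ?_ (by
        rcases hm with hm | hm
        exacts [.inl (by omega), .inr ⟨by omega, inferInstance⟩])
    rw [Nat.factorial_succ, v_mul m.succ_ne_zero m.factorial_ne_zero, add_mul]
    rcases hf.isIndex_even hd with hi | hi
    · rw [hi.card_isom_plus hf hd, h8 _ (by omega)]; omega
    · rw [hi.card_isom_minus hf hd, h8 _ (by omega)]; omega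
  · refine sea_of_oF (c := ![1, f.disc]) (k := m) h2 (fun j => by
      fin_cases j <;> simp [hf.disc_ne_zero]) hf hd (by
        rw [Fin.prod_univ_two, mul_left_comm]
        exact h9.mul ⟨f.disc, by simp⟩) ?_ (.inl (hm.resolve_right fun e => h e.2))
    have h10 : f.IsIndex (m + 1) ↔ Nat.card F ^ (m + 1) % 4 ≠ 1 := by
      rw [hf.isIndex_iff_isSquare h2 hd, Nat.card_eq_fintype_card, Ne, ← isSquare_neg_one_pow_iff h2]
      exact ⟨fun h3 h4 => h ((isSquare_mul_left_iff h4 (by simp)).1 h3),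
        fun h3 => isSquare_mul_of_not h3 h⟩
    rw [Fintype.card_fin]
    rcases hf.isIndex_even hd with hi | hi
    · rw [hi.card_isom_plus hf hd, h8 _ (by omega), v_eq_one (by have := h10.1 hi; omega)]; omega
    · have : Nat.card F ^ (m + 1) % 4 = 1 := by_contra fun e => by simpa using (h10.2 e).unique hi
      rw [hi.card_isom_minus hf hd, h8 _ (by omega), v_eq_one (by omega)]; omega

end orth

end CA.H10Syl
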