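import Cfsg.Agent.Lib.Lin.MaxBase
import Cfsg.Agent.Lib.Lin.CFormSpU

/-! Regular unipotent isometries with a cyclic vector: basic facts and existence. -/

set_option autoImplicit false
set_option linter.unusedSectionVars false

namespace CA.H12Ru

open Module CA.CForm CA.CForm.Form Polynomial

universe uu

variable {F : Type*} [Field F] {k : Kind F} {V : Type*} [AddCommGroup V] [Module F V]
  {f : Form k V}

local notation:75 g:76 " ⊳ " v:75 => (g : V ≃ₗ[F] V) v

/-- `u - 1`. -/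
def NN (u : f.Isom) : End F V := ((u : V ≃ₗ[F] V) : V →ₗ[F] V) - 1

theorem NN_apply (u : f.Isom) (v : V) : NN u v = u ⊳ v - v := rfl

theorem apply_eq (u : f.Isom) (v : V) : u ⊳ v = v + NN u v := by rw [NN_apply]; abel

theorem NN_pow_succ (u : f.Isom) (j : ℕ) (v : V) :
    (NN u ^ (j + 1)) v = NN u ((NN u ^ j) v) := by rw [pow_succ']; rfl

theorem NN_pow_succ' (u : f.Isom) (j : ℕ) (v : V) :
    (NN u ^ (j + 1)) v = (NN u ^ j) (NN u v) := by rw [pow_succ]; rfl

theorem NN_pow_comm (u : f.Isom) (j : ℕ) (v : V) :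
    u ⊳ ((NN u ^ j) v) = (NN u ^ j) (u ⊳ v) := by
  rw [apply_eq, apply_eq u v, map_add, ← NN_pow_succ, ← NN_pow_succ']

theorem B_NN (u : f.Isom) (a b : V) : f.B (NN u a) b = -f.B (u ⊳ a) (NN u b) := by
  rw [NN_apply, NN_apply, map_sub, f.B_coe_map, B_sub_left]; ring

/-- `u` is unipotent with cyclic vector `y`. -/
structure RU (u : f.Isom) (y : V) : Prop where
  nil : IsNilpotent (NN u)
  cyc : ∀ S : Submodule F V, y ∈ S → (∀ v ∈ S, u ⊳ v ∈ S) → S = ⊤

variable [FiniteDimensional F V] {u : f.Isom} {y : V}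

theorem pow_eq_zero (h : IsNilpotent (NN u)) : NN u ^ finrank F V = 0 := by
  have := LinearMap.aeval_self_charpoly (NN u)
  rwa [h.charpoly_eq_X_pow_finrank, map_pow, aeval_X] at this

theorem det_eq_one (h : IsNilpotent (NN u)) : u ∈ f.SIsom := by
  rw [mem_SIsom, ← Units.val_eq_one, coe_detHom]
  have := LinearMap.eval_charpoly (-NN u) 1
  rw [h.neg.charpoly_eq_X_pow_finrank, eval_pow, eval_X, one_pow] at this
  rw [this]; congr 1; simp [NN]

theorem pow_of_le (h : IsNilpotent (NN u)) {j : ℕ} (hj : finrank F V ≤ j) (v : V) :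
    (NN u ^ j) v = 0 := by
  obtain ⟨i, rfl⟩ := Nat.exists_eq_add_of_le' hj
  rw [pow_add, pow_eq_zero h, mul_zero]; rfl

theorem B_pow (h : IsNilpotent (NN u)) : ∀ (i j : ℕ) (a b : V), finrank F V ≤ i + j →
    f.B ((NN u ^ i) a) ((NN u ^ j) b) = 0
  | 0, j, a, b, e => by rw [pow_of_le h (j := j) (by omega), map_zero]
  | i + 1, j, a, b, e => by
    rw [NN_pow_succ, B_NN, NN_pow_comm, ← NN_pow_succ, B_pow h i (j + 1) _ _ (by omega), neg_zero]

namespace RU
variable (h : RU u y)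
include h

theorem pow_ne {j : ℕ} (hj : j < finrank F V) : (NN u ^ j) y ≠ 0 := by
  intro e
  let S := Submodule.span F (Set.range fun i : Fin j => (NN u ^ (i : ℕ)) y)
  have hm : ∀ i ≤ j, (NN u ^ i) y ∈ S := fun i hi => by
    rcases hi.eq_or_lt with rfl | hi
    · rw [e]; exact S.zero_mem
    · exact Submodule.subset_span ⟨⟨i, hi⟩, rfl⟩
  have ht := h.cyc S (by simpa using hm 0 (Nat.zero_le _)) fun v hv => by
    induction hv using Submodule.span_induction with
    | mem v hv =>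
      obtain ⟨i, rfl⟩ := hv
      rw [apply_eq, ← NN_pow_succ]
      exact S.add_mem (hm _ i.2.le) (hm _ i.2)
    | zero => simp
    | add a b _ _ ha hb => rw [map_add]; exact S.add_mem ha hb
    | smul a b _ hb => rw [map_smul]; exact S.smul_mem _ hb
  have := finrank_range_le_card (R := F) fun i : Fin j => (NN u ^ (i : ℕ)) y
  change finrank F S ≤ _ at this
  rw [ht, finrank_top, Fintype.card_fin] at this
  omega

theorem pow_ne' {j : ℕ} (hj : j < finrank F V) : NN u ^ j ≠ 0 := fun e =>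
  h.pow_ne hj (by rw [e]; rfl)

theorem B_ne (hf : f.Nondeg) {z : V} (hz : u ⊳ z = z) (h0 : z ≠ 0) : f.B z y ≠ 0 := fun e => by
  have := h.cyc (f.perp (F ∙ z)) (f.mem_perp_span_singleton.2 e) fun v hv => by
    rw [mem_perp_span_singleton] at hv ⊢
    rw [← hz, B_coe_map, hv]
  exact h0 (hf z fun v => f.mem_perp_span_singleton.1 (this ▸ Submodule.mem_top))

theorem perp_le (hf : f.Nondeg) {z : V} (hz : u ⊳ z = z) (h0 : z ≠ 0) {S : Submodule F V}
    (hd : NN u y ∈ S) (hS : ∀ v ∈ S, u ⊳ v ∈ S) {v : V} (hv : f.B z v = 0) : v ∈ S := by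
  have hp : ∀ v, f.B z (u ⊳ v) = f.B z v := fun v => by
    conv_lhs => rw [← hz]
    rw [B_coe_map]
  have ht := h.cyc ((S ⊓ f.perp (F ∙ z)) ⊔ F ∙ y)
    (Submodule.mem_sup_right (Submodule.mem_span_singleton_self y)) fun v hv => by
      obtain ⟨s, hs, t, ht, rfl⟩ := Submodule.mem_sup.1 hv
      obtain ⟨a, rfl⟩ := Submodule.mem_span_singleton.1 ht
      rw [map_add, map_smul, apply_eq u y, smul_add]
      refine Submodule.add_mem _ (Submodule.mem_sup_left ⟨hS _ hs.1, ?_⟩) (Submodule.add_mem _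
        (Submodule.mem_sup_right ht) (Submodule.mem_sup_left (Submodule.smul_mem _ _ ⟨hd, ?_⟩)))
      · exact f.mem_perp_span_singleton.2 (by rw [hp]; exact f.mem_perp_span_singleton.1 hs.2)
      · exact f.mem_perp_span_singleton.2 (by rw [NN_apply, map_sub, hp, sub_self])
  obtain ⟨s, hs, t, ht', rfl⟩ := Submodule.mem_sup.1 (ht ▸ Submodule.mem_top (x := v))
  obtain ⟨a, rfl⟩ := Submodule.mem_span_singleton.1 ht'
  rw [map_add, f.mem_perp_span_singleton.1 hs.2, map_smul, zero_add, smul_eq_mul,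
    mul_eq_zero] at hv
  rw [hv.resolve_right (h.B_ne hf hz h0), zero_smul, add_zero]; exact hs.1

theorem fix_eq (hf : f.Nondeg) {z z' : V} (hz : u ⊳ z = z) (hz' : u ⊳ z' = z')
    (e : f.B z y = f.B z' y) : z = z' := by
  by_contra hn
  exact h.B_ne hf (z := z - z') (by rw [map_sub, hz, hz']) (sub_ne_zero.2 hn)
    (by rw [B_sub_left, e, sub_self])

theorem top_fix {m : ℕ} (hm : finrank F V = m + 1) : u ⊳ ((NN u ^ m) y) = (NN u ^ m) y := by
  rw [apply_eq, ← NN_pow_succ, pow_of_le h.nil hm.le, add_zero]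

theorem add_fix (hf : f.Nondeg) {z : V} (hz : u ⊳ z = z) (hQ : f.Q z = 0) : RU u (y + z) := by
  refine ⟨h.nil, fun S hS hu => h.cyc S ?_ hu⟩
  by_cases h0 : z = 0
  · rwa [h0, add_zero] at hS
  have h1 : NN u y ∈ S := by
    have := S.sub_mem (hu _ hS) hS
    rwa [map_add, hz, add_sub_add_right_eq_sub] at this
  simpa using S.sub_mem hS (h.perp_le hf hz h0 h1 hu (f.B_self_of_Q hQ))

theorem smul {a : F} (ha : a ≠ 0) : RU u (a • y) :=
  ⟨h.nil, fun S hS hu => h.cyc S ((S.smul_mem_iff ha).1 hS) hu⟩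

end RU

theorem step (hf : f.Nondeg) {z y : V} (h : f.IsHyp z y)
    {ub : (f.restrict (f.perp (Submodule.span F {z, y}))).Isom}
    {d : f.perp (Submodule.span F {z, y})} (hr : RU ub d) {c : F} (hc : k.π c = f.Q d)
    (h0 : d ≠ 0 ∨ c ≠ 0) :
    ∃ u : f.Isom, RU u y ∧ u ⊳ z = z ∧ u ⊳ y = y + d - (k.ε * c) • z ∧
      ∀ w : f.perp (Submodule.span F {z, y}), ∃ κ : F, u ⊳ w = (ub.1 w).1 + κ • z := by
  let W := f.perp (Submodule.span F {z, y})
  have hz : ∀ w : W, f.B z w = 0 := fun w => (f.mem_perp_span_pair.1 w.2).1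
  have hy : ∀ w : W, f.B y w = 0 := fun w => (f.mem_perp_span_pair.1 w.2).2
  have hE : f.EichlerCond z d c := ⟨h.Q_x, hz d, hc⟩
  set u := f.eichler z d c hE * f.extRight h.isCompl ub
  have e1 : u ⊳ z = z := by
    rw [isom_mul_apply, extRight_apply_left _ _ _ (Submodule.subset_span (by simp)),
      eichler_apply_self]
  have e2 : u ⊳ y = y + d - (k.ε * c) • z := by
    rw [isom_mul_apply, extRight_apply_left _ _ _ (Submodule.subset_span (by simp)),
      eichler_apply, h.B_xy, f.eq_zero_symm (hy d)]; simp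
  have e3 : ∀ w : W, u ⊳ w = (ub.1 w).1 - (k.ε * f.B d (ub.1 w).1) • z :=
    fun w => by rw [isom_mul_apply, extRight_apply_right, eichler_apply_of_B _ _ _ _ _ (hz _)]
  have n1 : NN u z = 0 := by rw [NN_apply, e1, sub_self]
  have n3 : ∀ (j : ℕ) (w : W), ∃ κ : F, (NN u ^ j) w = ((NN ub ^ j) w : W) + κ • z := by
    intro j w
    induction j with
    | zero => exact ⟨0, by simp⟩
    | succ j ih =>
      obtain ⟨κ, e⟩ := ih
      refine ⟨-(k.ε * f.B d (ub.1 ((NN ub ^ j) w)).1), ?_⟩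
      rw [NN_pow_succ, NN_pow_succ, e, map_add, map_smul, n1, smul_zero, add_zero, NN_apply, e3,
        NN_apply, Submodule.coe_sub]
      module
  refine ⟨u, ⟨?_, fun S hS hu => ?_⟩, e1, e2, fun w => ⟨_, by rw [e3, sub_eq_add_neg, ← neg_smul]⟩⟩
  · obtain ⟨n, hn⟩ := hr.nil
    have a1 : ∀ j, (NN u ^ (j + 1)) z = 0 := fun j => by rw [NN_pow_succ', n1, map_zero]
    have a2 : ∀ w : W, (NN u ^ (n + 1)) w = 0 := fun w => by
      obtain ⟨κ, e⟩ := n3 n w
      rw [NN_pow_succ, e, hn]; simp [n1]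
    refine ⟨n + 2, LinearMap.ext fun v => ?_⟩
    obtain ⟨w, hw, e⟩ := h.exists_decomp v
    rw [e, map_add, map_add, map_smul, map_smul, a1, NN_pow_succ _ _ w, a2 ⟨w, hw⟩, NN_pow_succ',
      NN_apply, e2, show y + (d : V) - (k.ε * c) • z - y = d - (k.ε * c) • z by abel, map_sub,
      map_smul, a1, a2]
    simp
  · have hd : (d : V) - (k.ε * c) • z ∈ S := by
      have := S.sub_mem (hu y hS) hS
      rwa [e2, show y + (d : V) - (k.ε * c) • z - y = d - (k.ε * c) • z by abel] at this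
    have ht := hr.cyc ((S ⊔ F ∙ z).comap W.subtype) (by
      rw [Submodule.mem_comap, Submodule.subtype_apply,
        show (d : V) = (d - (k.ε * c) • z) + (k.ε * c) • z by abel]
      exact Submodule.add_mem_sup hd (Submodule.smul_mem _ _ (Submodule.mem_span_singleton_self z)))
      fun w hw => by
        rw [Submodule.mem_comap, Submodule.subtype_apply] at hw ⊢
        obtain ⟨s, hs, t, ht, e⟩ := Submodule.mem_sup.1 hw
        obtain ⟨a, rfl⟩ := Submodule.mem_span_singleton.1 ht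
        have := e3 w
        rw [← e, map_add, map_smul, e1, eq_sub_iff_add_eq] at this
        rw [← this, add_assoc, ← add_smul]
        exact Submodule.add_mem_sup (hu _ hs)
          (Submodule.smul_mem _ _ (Submodule.mem_span_singleton_self z))
    have hw : ∀ w : W, ∃ a : F, (w : V) - a • z ∈ S := fun w => by
      have : w ∈ (S ⊔ F ∙ z).comap W.subtype := ht ▸ Submodule.mem_top
      obtain ⟨s, hs, t, ht, e⟩ := Submodule.mem_sup.1 this
      obtain ⟨a, rfl⟩ := Submodule.mem_span_singleton.1 ht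
      exact ⟨a, by rw [Submodule.subtype_apply] at e; rw [← e]; simpa using hs⟩
    have hzS : z ∈ S := by
      by_cases d0 : d = 0
      · rw [d0, Submodule.coe_zero, zero_sub, neg_mem_iff] at hd
        exact (S.smul_mem_iff (mul_ne_zero k.ε_ne_zero (h0.resolve_left fun e => e d0))).1 hd
      · have : Nontrivial W := ⟨d, 0, d0⟩
        obtain ⟨m, hm⟩ : ∃ m, finrank F W = m + 1 := ⟨_, (Nat.succ_pred_eq_of_pos finrank_pos).symm⟩
        have t1 := hr.top_fix hm
        have t2 := hr.B_ne (h.nondeg_perp hf) t1 (hr.pow_ne (hm ▸ Nat.lt_succ_self m))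
        obtain ⟨a, ha⟩ := hw ((NN ub ^ m) d)
        have := S.sub_mem ha (hu _ ha)
        rw [map_sub, map_smul, e1, e3, t1, sub_sub_sub_cancel_right, sub_sub_cancel] at this
        refine (S.smul_mem_iff (mul_ne_zero k.ε_ne_zero fun e => t2 ?_)).1 this
        exact f.eq_zero_symm e
    refine eq_top_iff.2 fun v _ => ?_
    obtain ⟨w, hw', e⟩ := h.exists_decomp v
    obtain ⟨a, ha⟩ := hw ⟨w, hw'⟩
    rw [e, show w = (w - a • z) + a • z by abel]
    exact S.add_mem (S.add_mem (S.smul_mem _ hzS) (S.smul_mem _ hS)) (S.add_mem ha (S.smul_mem _ hzS))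

theorem step' (hf : f.Nondeg) {z y : V} (h : f.IsHyp z y)
    {ub : (f.restrict (f.perp (Submodule.span F {z, y}))).Isom}
    {d : f.perp (Submodule.span F {z, y})} (hr : RU ub d) {c : F} (hc : k.π c = f.Q d)
    (h0 : d ≠ 0 ∨ c ≠ 0) :
    ∃ u : f.Isom, RU u y ∧ u ⊳ z = z ∧ f.B y (u ⊳ y) = -c ∧
      (c = 0 → f.B (NN u y) (u ⊳ (NN u y)) = f.B d (ub.1 d).1) := by
  obtain ⟨u, h1, h2, h3, h4⟩ := step hf h hr hc h0
  refine ⟨u, h1, h2, ?_, fun c0 => ?_⟩
  · rw [h3, map_sub, map_add, map_smul, h.B_yy, (f.mem_perp_span_pair.1 d.2).2, h.B_yx]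
    simp only [smul_eq_mul]; linear_combination (-c) * k.εε
  · obtain ⟨κ, e⟩ := h4 d
    rw [NN_apply, h3, c0, show y + (d : V) - (k.ε * 0) • z - y = d by module, e, map_add, map_smul,
      f.eq_zero_symm (f.mem_perp_span_pair.1 d.2).1, smul_zero, add_zero]

theorem exists_hyp (hf : f.Nondeg) {z : V} (hz : f.Q z = 0) (h0 : z ≠ 0) {n : ℕ}
    (hn : finrank F V = n + 2) : ∃ y, f.IsHyp z y ∧ finrank F (f.perp (Submodule.span F {z, y})) = n := by
  obtain ⟨y, h⟩ := hf.exists_isHyp hz h0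
  exact ⟨y, h, by have := h.finrank_perp; omega⟩

theorem symp_ex : ∀ (m : ℕ) {V : Type uu} [AddCommGroup V] [Module F V] [FiniteDimensional F V]
    (f : Form (Kind.symp F) V), f.Nondeg → finrank F V = 2 * m → ∀ γ : F, (m = 1 → γ ≠ 0) →
    ∃ (u : f.Isom) (y : V), RU u y ∧ (m ≠ 0 → f.B y (u.1 y) = γ)
  | 0, V, _, _, _, f, _, hn, _, _ => by
    have : Subsingleton V := finrank_zero_iff.1 hn
    exact ⟨1, 0, ⟨⟨0, Subsingleton.elim _ _⟩, fun S _ _ => Subsingleton.elim _ _⟩, fun e => absurd rfl e⟩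
  | m + 1, V, _, _, _, f, hf, hn, γ, hγ => by
    have : Nontrivial V := Module.nontrivial_of_finrank_pos (R := F) (by omega)
    obtain ⟨z, z0⟩ := exists_ne (0 : V)
    obtain ⟨y, h, hW⟩ := exists_hyp hf (f.symp_Q z) z0 (n := 2 * m) (by omega)
    obtain ⟨ub, d, hr, -⟩ := symp_ex m _ (h.nondeg_perp hf) hW 1 fun _ => one_ne_zero
    obtain ⟨u, h1, -, h3, -⟩ := step' hf h hr (c := -γ) (by rw [symp_Q]; rfl) (by
      rcases Nat.eq_zero_or_pos m with rfl | hm
      · exact Or.inr (neg_ne_zero.2 (hγ rfl))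
      · exact Or.inl (by simpa using hr.pow_ne (j := 0) (by omega)))
    exact ⟨u, y, h1, fun _ => by rw [h3, neg_neg]⟩

theorem symp_ex2 {V : Type uu} [AddCommGroup V] [Module F V] [FiniteDimensional F V]
    {f : Form (Kind.symp F) V} (hf : f.Nondeg) {m : ℕ} (hn : finrank F V = 2 * m) (hm : 2 ≤ m)
    {γ : F} (hγ : γ ≠ 0) : ∃ (u : f.Isom) (y : V), RU u y ∧ f.B y (u.1 y) = 0 ∧
      f.B (NN u y) (u.1 (NN u y)) = γ := by
  have : Nontrivial V := Module.nontrivial_of_finrank_pos (R := F) (by omega)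
  obtain ⟨z, z0⟩ := exists_ne (0 : V)
  obtain ⟨y, h, hW⟩ := exists_hyp hf (f.symp_Q z) z0 (n := 2 * (m - 1)) (by omega)
  obtain ⟨ub, d, hr, e⟩ := symp_ex (m - 1) _ (h.nondeg_perp hf) hW γ fun _ => hγ
  obtain ⟨u, h1, -, h3, h4⟩ := step' hf h hr (c := 0) (by rw [symp_Q]; rfl)
    (Or.inl (by simpa using hr.pow_ne (j := 0) (by omega)))
  exact ⟨u, y, h1, by rw [h3, neg_zero], by rw [h4 rfl]; exact e (by omega)⟩

section Herm
variable [Finite F] {s : F →+* F} {hs : ∀ a, s (s a) = a} (hne : s ≠ RingHom.id F)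
include hne

theorem herm_hyp {V : Type*} [AddCommGroup V] [Module F V] [FiniteDimensional F V]
    {f : Form (Kind.herm s hs) V} (hf : f.Nondeg) {n : ℕ} (hn : finrank F V = n + 2) :
    ∃ z y, f.IsHyp z y ∧ finrank F (f.perp (Submodule.span F {z, y})) = n := by
  obtain ⟨z, -, z0, hz⟩ := f.herm_exists_singular hne (W := ⊤) (by rw [finrank_top]; omega)
  exact ⟨z, exists_hyp hf hz z0 hn⟩

theorem herm_ex : ∀ (m : ℕ) {V : Type uu} [AddCommGroup V] [Module F V] [FiniteDimensional F V]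
    (f : Form (Kind.herm s hs) V), f.Nondeg → finrank F V = 2 * m + 1 → ∀ θ : F, θ ≠ 0 → s θ = θ →
    ∃ (u : f.Isom) (y : V), RU u y ∧ f.Q y = θ
  | 0, V, _, _, _, f, hf, hn, θ, h0, hθ => by
    have : Nontrivial V := Module.nontrivial_of_finrank_pos (R := F) (by omega)
    obtain ⟨y, -, hy⟩ := f.herm_exists_Q_eq hne (W := ⊤) (by rw [hf.perp_top]; exact disjoint_bot_right)
      top_ne_bot hθ
    have y0 : y ≠ 0 := fun e => h0 (by rw [← hy, e, Q_zero])
    refine ⟨1, y, ⟨⟨1, by ext; simp [NN_apply]⟩, fun S hS _ => ?_⟩, hy⟩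
    exact top_unique ((finrank_eq_one_iff_of_nonzero y y0).1 hn ▸
      (Submodule.span_singleton_le_iff_mem y S).2 hS)
  | m + 1, V, _, _, _, f, hf, hn, θ, _, hθ => by
    obtain ⟨z, y, h, hW⟩ := herm_hyp hne hf (n := 2 * m + 1) (by omega)
    obtain ⟨ub, d, hr, -⟩ := herm_ex m _ (h.nondeg_perp hf) hW 1 one_ne_zero (map_one s)
    obtain ⟨c, hc⟩ := f.Q_mem d
    obtain ⟨u, h1, h2, -⟩ := step' hf h hr hc
      (Or.inl (by simpa using hr.pow_ne (j := 0) (by omega)))
    obtain ⟨κ, hκ⟩ := Kind.exists_trace_eq s hs hne θ hθ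
    refine ⟨u, y + κ • z, h1.add_fix hf (by rw [map_smul, h2]) (f.Q_smul_of_Q h.Q_x _), ?_⟩
    rw [f.Q_add_smul_of_Q h.Q_x, h.Q_y, h.B_yx]; simpa using hκ

theorem herm_ex3 {V : Type uu} [AddCommGroup V] [Module F V] [FiniteDimensional F V]
    {f : Form (Kind.herm s hs) V} (hf : f.Nondeg) {m : ℕ} (hn : finrank F V = 2 * m + 3) {γ : F}
    (hγ : γ + s γ ≠ 0) : ∃ (u : f.Isom) (y : V), RU u y ∧ f.Q y = 0 ∧ f.B y (u.1 y) = γ := by
  obtain ⟨z, y, h, hW⟩ := herm_hyp hne hf (n := 2 * m + 1) (by omega)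
  obtain ⟨ub, d, hr, e⟩ := herm_ex hne m _ (h.nondeg_perp hf) hW (-(γ + s γ)) (neg_ne_zero.2 hγ)
    (by simp [hs, add_comm])
  obtain ⟨u, h1, -, h3, -⟩ := step' hf h hr (c := -γ) (by rw [← restrict_Q, e]; simp [add_comm])
    (Or.inl (by simpa using hr.pow_ne (j := 0) (by omega)))
  exact ⟨u, y, h1, h.Q_y, by rw [h3, neg_neg]⟩

theorem herm_ex5 {V : Type uu} [AddCommGroup V] [Module F V] [FiniteDimensional F V]
    {f : Form (Kind.herm s hs) V} (hf : f.Nondeg) {m : ℕ} (hn : finrank F V = 2 * m + 5) {γ : F}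
    (hγ : γ + s γ ≠ 0) : ∃ (u : f.Isom) (y : V), RU u y ∧ f.Q y = 0 ∧ f.B y (u.1 y) = 0 ∧
      f.B (NN u y) (u.1 (NN u y)) = γ := by
  obtain ⟨z, y, h, hW⟩ := herm_hyp hne hf (n := 2 * m + 3) (by omega)
  obtain ⟨ub, d, hr, e, e'⟩ := herm_ex3 hne (h.nondeg_perp hf) hW hγ
  obtain ⟨u, h1, -, h3, h4⟩ := step' hf h hr (c := 0) (by rw [← restrict_Q, e]; simp)
    (Or.inl (by simpa using hr.pow_ne (j := 0) (by omega)))
  exact ⟨u, y, h1, h.Q_y, by rw [h3, neg_zero], by rw [h4 rfl]; exact e'⟩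

end Herm

end CA.H12Ru
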