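import Cfsg.Agent.Lib.Lin.H12Ru1

/-! Subgroups containing a regular unipotent isometry and transvections. -/

set_option autoImplicit false
set_option linter.unusedSectionVars false

namespace CA.H12Ru

open Module CA.CForm CA.CForm.Form

variable {F : Type*} [Field F] {k : Kind F} {V : Type*} [AddCommGroup V] [Module F V]
  {f : Form k V} {X : Subgroup f.Isom}

local notation:75 g:76 " ⊳ " v:75 => (g : V ≃ₗ[F] V) v

theorem σ_of_π {c : F} (h : k.π c = 0) : k.σ c = -(k.ε * c) := by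
  have := k.δπ c
  rw [h, mul_zero] at this
  linear_combination (-k.ε) * this - k.σ c * k.εε

/-- The transvection with centre `v` and parameter `c` lies in `X`. -/
def Tr (X : Subgroup f.Isom) (c : F) (v : V) : Prop := ∃ h, f.eichler v 0 c h ∈ X

theorem mem_congr {p w w' : V} {c c' : F} {h : f.EichlerCond p w c} (hh : f.eichler p w c h ∈ X)
    (hw : w = w') (hc : c = c') : ∃ h', f.eichler p w' c' h' ∈ X := by
  subst hw hc; exact ⟨h, hh⟩

namespace Tr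
variable {c c' : F} {v : V}

theorem Q (h : Tr X c v) : f.Q v = 0 := h.1.Q_p
theorem π (h : Tr X c v) : k.π c = 0 := h.1.π_eq_zero

theorem map (h : Tr X c v) {g : f.Isom} (hg : g ∈ X) : Tr X c (g ⊳ v) := by
  obtain ⟨h, hh⟩ := h
  have := X.mul_mem (X.mul_mem hg hh) (X.inv_mem hg)
  rw [conj_eichler] at this
  exact mem_congr this (map_zero _) rfl

theorem of_smul {a : F} (h : Tr X c (a • v)) (hv : f.Q v = 0) : Tr X (a * k.σ a * c) v := by
  have hc : k.π (a * k.σ a * c) = 0 := by rw [k.π_norm, h.π, mul_zero]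
  obtain ⟨h, hh⟩ := h
  rw [f.eichler_smul v 0 a c h ⟨hv, by simp, by simp [hc]⟩] at hh
  exact mem_congr hh (smul_zero _) rfl

theorem smul {a : F} (h : Tr X (a * k.σ a * c) v) (hc : k.π c = 0) : Tr X c (a • v) := by
  obtain ⟨h, hh⟩ := h
  refine ⟨f.eichlerCond_zero (f.Q_smul_of_Q h.Q_p a) hc, ?_⟩
  rw [f.eichler_smul v 0 a c _ ⟨h.Q_p, by simp, by simp [h.π_eq_zero]⟩]
  exact (mem_congr hh (smul_zero _).symm rfl).2

theorem add (h : Tr X c v) (h' : Tr X c' v) : Tr X (c + c') v := by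
  obtain ⟨h, hh⟩ := h
  obtain ⟨h', hh'⟩ := h'
  have := X.mul_mem hh hh'
  rw [eichler_mul] at this
  exact mem_congr this (add_zero _) (by simp)

theorem neg (h : Tr X c v) : Tr X (-c) v := by
  have e := σ_of_π h.π
  obtain ⟨h, hh⟩ := h
  have := X.inv_mem hh
  rw [eichler_inv] at this
  exact mem_congr this neg_zero (by rw [e]; linear_combination (-c) * k.εε)

theorem act (h : Tr X c v) : ∃ g ∈ X, ∀ x, g ⊳ x = x - (k.ε * c * f.B v x) • v :=
  ⟨_, h.2, f.eichler_zero_apply _ _ _⟩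

theorem mono (h : Tr X c v) {Y : Subgroup f.Isom} (e : X ≤ Y) : Tr Y c v := ⟨h.1, e h.2⟩

end Tr

theorem tr_zero {v : V} (hv : f.Q v = 0) : Tr X 0 v :=
  ⟨f.eichlerCond_zero hv (map_zero _), by rw [eichler_zero]; exact X.one_mem⟩

theorem Tgrp_le_iff {v : V} (hv : f.Q v = 0) : f.Tgrp v ≤ X ↔ ∀ c, k.π c = 0 → Tr X c v :=
  ⟨fun h _ hc => ⟨f.eichlerCond_zero hv hc, h (f.eichler_mem_Tgrp _ _ _)⟩,
    fun h => f.Tgrp_le fun c hc => (h c hc.π_eq_zero).2⟩

theorem weyl {c : F} {z y : V} (hz : Tr X c z) (hy : Tr X c y)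
    (hc : k.ε * c ^ 2 * (f.B z y * k.σ (f.B z y)) = -1) :
    ∃ n ∈ X, n ⊳ z = -(c * k.σ (f.B z y)) • y ∧ n ⊳ y = -(k.ε * c * f.B z y) • z ∧
      ∀ w, f.B z w = 0 → f.B y w = 0 → n ⊳ w = w := by
  obtain ⟨a, ha, ea⟩ := hz.act
  obtain ⟨b, hb, eb⟩ := hy.act
  have zz := f.B_self_of_Q hz.Q
  have yy := f.B_self_of_Q hy.Q
  have e2 := k.εε
  refine ⟨a * b * a, X.mul_mem (X.mul_mem ha hb) ha, ?_, ?_, fun w h1 h2 => ?_⟩
  · simp only [isom_mul_apply, ea, eb, map_sub, map_smul, zz, f.symm z y, smul_eq_mul]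
    match_scalars
    · linear_combination hc + k.ε * c ^ 2 * f.B z y * k.σ (f.B z y) * e2
    · linear_combination (-c * k.σ (f.B z y)) * e2
  · simp only [isom_mul_apply, ea, eb, map_sub, map_smul, zz, yy, f.symm z y, smul_eq_mul]
    match_scalars
    · linear_combination hc + k.ε * c ^ 2 * f.B z y * k.σ (f.B z y) * e2
    · linear_combination (-k.ε * c * f.B z y) * hc - c ^ 3 * f.B z y ^ 2 * k.σ (f.B z y) * k.ε ^ 2 * e2
  · simp only [isom_mul_apply, ea, eb, h1, h2, mul_zero, zero_smul, sub_zero]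

theorem lev_two {c l l' : F} {z d : V} (hz : f.Q z = 0) (hd : f.Q d = 0) (hB : f.B z d = 0)
    (h : Tr X c (d + l • z)) (h' : Tr X c (d + l' • z)) :
    ∃ hh, f.eichler z (-(k.ε * c * k.σ (l - l')) • d) (c * (l * k.σ l - l' * k.σ l')) hh ∈ X := by
  obtain ⟨a, ha, ea⟩ := h.act
  obtain ⟨b, hb, eb⟩ := h'.neg.act
  have e1 := σ_of_π h.π
  have hh : f.EichlerCond z (-(k.ε * c * k.σ (l - l')) • d) (c * (l * k.σ l - l' * k.σ l')) :=
    ⟨hz, by rw [map_smul, hB, smul_zero], by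
      rw [f.Q_smul_of_Q hd, mul_sub, map_sub, mul_comm c, mul_comm c, k.π_norm, k.π_norm, h.π]; simp⟩
  refine ⟨hh, ?_⟩
  convert X.mul_mem ha hb using 1
  refine f.isom_ext fun x => ?_
  have e2 := k.εε
  simp only [isom_mul_apply, ea, eb, eichler_apply, map_sub, map_add, map_smul, B_add_left,
    B_smul_left, f.B_self_of_Q hz, f.B_self_of_Q hd, hB, f.eq_zero_symm hB, smul_eq_mul, map_neg,
    map_mul, k.σσ, k.σε, e1]
  match_scalars
  · rfl
  · ring
  · linear_combination (-c * k.ε * (l - l') * f.B d x) * e2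

theorem lev_mul {c : F} {z v w : V} (h : f.Lev X z w) (hv : Tr X c v) (hB : f.B v z = 0) :
    f.Lev X z ((k.ε * c * f.B v w) • v) := by
  obtain ⟨a, ha, ea⟩ := hv.act
  have := h.sub (h.fix ha (by rw [ea, hB]; simp))
  rwa [ea, sub_sub_cancel] at this

/-- The multiples of `d` in the level of `X` at `z`. -/
def levA (X : Subgroup f.Isom) {z : V} (hz : f.Q z = 0) (d : V) : AddSubgroup F where
  carrier := {a | f.Lev X z (a • d)}
  zero_mem' := by change f.Lev X z _; rw [zero_smul]; exact lev_zero hz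
  add_mem' {a b} ha hb := by change f.Lev X z _; rw [add_smul]; exact Lev.add ha hb
  neg_mem' {a} ha := by change f.Lev X z _; rw [neg_smul]; exact Lev.neg ha

theorem mem_levA {z d : V} {hz : f.Q z = 0} {a : F} : a ∈ levA X hz d ↔ f.Lev X z (a • d) := Iff.rfl

/-- The multipliers of an additive subgroup. -/
def mulSt (A : AddSubgroup F) : Subring F where
  carrier := {r | ∀ a ∈ A, r * a ∈ A}
  mul_mem' {r s} hr hs a ha := by rw [mul_assoc]; exact hr _ (hs a ha)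
  one_mem' a ha := by rwa [one_mul]
  add_mem' {r s} hr hs a ha := by rw [add_mul]; exact A.add_mem (hr a ha) (hs a ha)
  zero_mem' a _ := by rw [zero_mul]; exact A.zero_mem
  neg_mem' {r} hr a ha := by rw [neg_mul]; exact A.neg_mem (hr a ha)

theorem mem_mulSt {A : AddSubgroup F} {r : F} : r ∈ mulSt A ↔ ∀ a ∈ A, r * a ∈ A := Iff.rfl

theorem mem_of_mulSt {A : AddSubgroup F} (h : mulSt A = ⊤) {a : F} (ha : a ∈ A) (h0 : a ≠ 0)
    (b : F) : b ∈ A := by
  have := mem_mulSt.1 (h ▸ Subring.mem_top (b / a)) a ha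
  rwa [div_mul_cancel₀ _ h0] at this

theorem lev_drop {z d : V} (hz : f.Q z = 0) {a l : F} (h : f.Lev X z (a • (d + l • z))) :
    f.Lev X z (a • d) := by
  have := h.sub (lev_smul_self hz (a * l))
  rwa [show a • (d + l • z) - (a * l) • z = a • d by module] at this

theorem B_fix {u : f.Isom} {z : V} (hz : u ⊳ z = z) (v : V) : f.B z (u ⊳ v) = f.B z v := by
  conv_lhs => rw [← hz]
  rw [B_coe_map]

theorem B_NN_fix {u : f.Isom} {z : V} (hz : u ⊳ z = z) (v : V) : f.B z (NN u v) = 0 := by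
  rw [NN_apply, map_sub, B_fix hz, sub_self]

theorem inv_fix {u : f.Isom} {z : V} (hz : u ⊳ z = z) : (u⁻¹ : f.Isom) ⊳ z = z := by
  conv_lhs => rw [← hz]
  exact f.isom_inv_apply_apply _ _

/-- `u T(z,c)` is conjugate to `u`. -/
theorem conj_tv {u : f.Isom} {z w : V} (hw : NN u w = z) (hz : u ⊳ z = z) (hQ : f.Q z = 0)
    (hB : f.B z w = 0) (b : F) :
    ∃ g ∈ f.Eich, ∃ h, g * u * g⁻¹ = f.eichler z 0 (k.ε * b - k.σ b) h * u := by
  obtain ⟨c, hc⟩ := f.exists_eichlerCond (w := b • w) hQ (by rw [map_smul, hB, smul_zero])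
  have h0 : k.π (k.ε * b - k.σ b) = 0 := by
    rw [map_sub, ← k.π_conj (k.σ b), k.σσ, sub_self]
  refine ⟨_, f.eichler_mem_Eich _ _ _ hc, f.eichlerCond_zero hQ h0, ?_⟩
  rw [mul_inv_eq_iff_eq_mul]
  refine f.isom_ext fun x => ?_
  have e1 : u ⊳ w = w + z := by rw [apply_eq, hw]
  have e3 : f.B w (u ⊳ x) = f.B w x - f.B z x := by
    rw [← f.B_coe_map u w x, e1, B_add_left, B_fix hz]; ring
  have e2 := k.εε
  simp only [isom_mul_apply, eichler_apply, map_sub, map_add, map_smul, B_smul_left, B_fix hz, e1, e3,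
    hz, hB, f.B_self_of_Q hQ, B_zero_left]
  match_scalars
  · rfl
  · ring
  · linear_combination (b * f.B z x) * e2

theorem conj_tv2 {f : Form (Kind.symp F) V} (h2 : (2 : F) = 0) {u : f.Isom} {z w w' : V}
    (hw' : NN u w' = w) (hw : NN u w = z) (hz : u ⊳ z = z) (hB : f.B z w = 0) (hB' : f.B z w' = 0)
    (t : F) : ∃ g : f.Isom, ∃ h, g * u * g⁻¹ = f.eichler z 0 (t + f.B w' w * t ^ 2) h * u := by
  refine ⟨f.eichler w 0 t (f.eichlerCond_zero (f.symp_Q _) rfl) * f.eichler z (t • w') 0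
    ⟨f.symp_Q _, by rw [map_smul, hB', smul_zero], (f.symp_Q _).symm⟩,
    f.eichlerCond_zero (f.symp_Q _) rfl, ?_⟩
  rw [mul_inv_eq_iff_eq_mul]
  refine f.isom_ext fun x => ?_
  have e1 : u ⊳ w = w + z := by rw [apply_eq, hw]
  have e1' : u ⊳ w' = w' + w := by rw [apply_eq, hw']
  have e3 : f.B w (u ⊳ x) = f.B w x - f.B z x := by
    rw [← f.B_coe_map u w x, e1, B_add_left, B_fix hz]; ring
  have e3' : f.B w' (u ⊳ x) = f.B w' x - f.B w x + f.B z x := by
    rw [← f.B_coe_map u w' x, e1', B_add_left, e3]; ring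
  simp only [isom_mul_apply, eichler_apply, map_sub, map_add, map_smul, B_smul_left, B_fix hz, e1, e3,
    e1', e3', hz, hB, hB', f.symp_B_self, f.eq_zero_symm hB, B_zero_left, smul_zero, map_zero, Kind.symp_ε,
    Kind.symp_σ, f.symp_symm w' w]
  match_scalars <;> grind

variable [FiniteDimensional F V] {u : f.Isom} {y z : V}

theorem RU.exists_top (h : RU u y) (hf : f.Nondeg) (hz : u ⊳ z = z) {m : ℕ}
    (hm : finrank F V = m + 1) : ∃ a : F, z = a • (NN u ^ m) y := by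
  have h0 := h.B_ne hf (h.top_fix hm) (h.pow_ne (by omega))
  refine ⟨k.σ (f.B z y / f.B ((NN u ^ m) y) y), h.fix_eq hf hz (by rw [map_smul, h.top_fix hm]) ?_⟩
  rw [B_smul_left, k.σσ, div_mul_cancel₀ _ h0]

theorem RU.exists_fix (h : RU u y) (hf : f.Nondeg) (hq : ∀ v, f.B v v = 0 → f.Q v = 0)
    (h2 : 2 ≤ finrank F V) (β : F) : ∃ z, u ⊳ z = z ∧ f.Q z = 0 ∧ f.B z y = β := by
  obtain ⟨m, hm⟩ : ∃ m, finrank F V = m + 1 := ⟨finrank F V - 1, by omega⟩
  have h0 := h.B_ne hf (h.top_fix hm) (h.pow_ne (by omega))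
  refine ⟨k.σ (β / f.B ((NN u ^ m) y) y) • (NN u ^ m) y, by rw [map_smul, h.top_fix hm],
    f.Q_smul_of_Q (hq _ (B_pow h.nil _ _ _ _ (by omega))) _, ?_⟩
  rw [B_smul_left, k.σσ, div_mul_cancel₀ _ h0]

theorem RU.conj_tv (h : RU u y) (hf : f.Nondeg) (hz : u ⊳ z = z) (hQ : f.Q z = 0)
    (h3 : 3 ≤ finrank F V) (b : F) :
    ∃ g ∈ f.Eich, ∃ h, g * u * g⁻¹ = f.eichler z 0 (k.ε * b - k.σ b) h * u := by
  obtain ⟨m, hm⟩ : ∃ m, finrank F V = m + 2 + 1 := ⟨finrank F V - 3, by omega⟩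
  obtain ⟨a, ha⟩ := h.exists_top hf hz hm
  have : NN u (a • (NN u ^ (m + 1)) y) = z := by rw [map_smul, ← NN_pow_succ, ha]
  refine CA.H12Ru.conj_tv this hz hQ ?_ b
  rw [map_smul, NN_pow_succ, B_NN_fix hz, smul_zero]

theorem RU.lev_all (h : RU u y) (hf : f.Nondeg) (hu : u ∈ X) (hz : u ⊳ z = z) (h0 : z ≠ 0)
    (hQ : f.Q z = 0) (hA : ∀ a, a ∈ levA X hQ (NN u y)) (w : V) (hw : f.B z w = 0) :
    f.Lev X z w :=
  lev_of_mem_levS (hx := hQ) (h.perp_le hf hz h0 (mem_levS.2 hA) (fun _ hv => map_mem_levS hv hu hz) hw)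

theorem RU.notMem (h : RU u y) (hz : u ⊳ z = z) (h3 : 3 ≤ finrank F V) : NN u y ∉ F ∙ z := by
  intro e
  obtain ⟨a, e⟩ := Submodule.mem_span_singleton.1 e
  refine h.pow_ne (j := 2) (by omega) ?_
  rw [NN_pow_succ, pow_one, ← e, map_smul, NN_apply, hz, sub_self, smul_zero]

/-- The standing configuration. -/
structure Cf (X : Subgroup f.Isom) (u : f.Isom) (y z : V) (c : F) : Prop where
  ru : RU u y
  mem : u ∈ X
  fix : u ⊳ z = z
  tz : Tr X c z
  ty : Tr X c y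
  b1 : f.B y (u ⊳ y) = 0
  wy : k.ε * c ^ 2 * (f.B z y * k.σ (f.B z y)) = -1

namespace Cf
variable {c : F} (h : Cf X u y z c)
include h

theorem β_ne : f.B z y ≠ 0 := fun e => by simpa [e] using h.wy
theorem c_ne : c ≠ 0 := fun e => by simpa [e] using h.wy
theorem z_ne : z ≠ 0 := fun e => h.β_ne (by rw [e, B_zero_left])
theorem zd : f.B z (NN u y) = 0 := B_NN_fix h.fix y
theorem yd : f.B y (NN u y) = 0 := by
  rw [NN_apply, map_sub, h.b1, f.B_self_of_Q h.ty.Q, sub_self]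
theorem Qd : f.Q (NN u y) = 0 := by
  have := f.Q_coe_map u y
  rwa [apply_eq, f.Q_add_of_B h.yd, add_eq_left] at this

theorem tr_d : Tr X c (NN u y + -(k.ε * c * f.B z y) • z) := by
  obtain ⟨n, hn, -, e2, e3⟩ := weyl h.tz h.ty h.wy
  have := (h.ty.map h.mem).map hn
  rwa [apply_eq u y, map_add, e2, e3 _ h.zd h.yd, add_comm] at this

theorem tr_d' : Tr X c (NN u y + (k.ε * c * f.B z y) • z) := by
  obtain ⟨n, hn, e1, -, e3⟩ := weyl h.tz h.ty h.wy
  have := (h.ty.map h.mem).map (X.inv_mem hn)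
  have e : n ⊳ (NN u y + (k.ε * c * f.B z y) • z) = u ⊳ y := by
    rw [map_add, map_smul, e1, e3 _ h.zd h.yd, apply_eq u y]
    match_scalars
    · rfl
    · linear_combination (-1 : F) * h.wy
  rwa [← e, isom_inv_apply_apply] at this

theorem tr_of {a ν : F} (ht : Tr X c (a • y + ν • NN u y)) (hν : ν * k.σ ν = 1) :
    Tr X c (NN u y + -(k.σ ν * a * (k.ε * c * f.B z y)) • z) := by
  obtain ⟨n, hn, -, e2, e3⟩ := weyl h.tz h.ty h.wy
  have := ht.map hn
  rw [map_add, map_smul, map_smul, e2, e3 _ h.zd h.yd, show a • -(k.ε * c * f.B z y) • z + ν • NN u y =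
    ν • (NN u y + -(k.σ ν * a * (k.ε * c * f.B z y)) • z) by
      match_scalars
      · linear_combination (a * k.ε * c * f.B z y) * hν
      · ring] at this
  have := this.of_smul (by
    rw [f.Q_add_smul_of_Q h.tz.Q, h.Qd, f.eq_zero_symm h.zd]; simp)
  rwa [hν, one_mul] at this

theorem mul_mem : c * f.B (NN u y) (u ⊳ (NN u y)) ∈ mulSt (levA X h.tz.Q (NN u y)) := by
  intro a ha
  have h1 := lev_mul (Lev.fix ha h.mem h.fix) h.tr_d (by
    rw [B_add_left, B_smul_left, f.eq_zero_symm h.zd, f.B_self_of_Q h.tz.Q]; simp)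
  have h2 := lev_drop h.tz.Q h1
  rw [map_smul, map_smul, B_add_left, B_smul_left, B_fix h.fix, h.zd, mul_zero, add_zero] at h2
  rcases k.ε_eq with e | e
  · rw [mem_levA]; convert h2 using 2; rw [e, smul_eq_mul]; ring
  · rw [← neg_mem_iff, mem_levA]; convert h2 using 2; rw [e, smul_eq_mul]; ring

theorem mul_mem' {ν μ : F} (ht : Tr X c (u ⊳ (ν • NN u y + μ • z))) :
    c * (ν * k.σ ν) * k.σ (f.B (NN u y) (u ⊳ (NN u y))) ∈ mulSt (levA X h.tz.Q (NN u y)) := by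
  intro a ha
  have h1 := lev_mul ha ht (by
    refine f.eq_zero_symm ?_
    rw [B_fix h.fix, map_add, map_smul, map_smul, h.zd, f.B_self_of_Q h.tz.Q]; simp)
  have h2 := h1.fix (X.inv_mem h.mem) (inv_fix h.fix)
  have e : f.B (u ⊳ (ν • NN u y + μ • z)) (a • NN u y) =
      a * k.σ ν * (k.ε * k.σ (f.B (NN u y) (u ⊳ (NN u y)))) := by
    simp only [map_add, map_smul, h.fix, B_add_left, B_smul_left, h.zd, ← f.symm, smul_eq_mul]; ring
  rw [map_smul, isom_inv_apply_apply, e] at h2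
  have h3 := h2.sub (lev_smul_self h.tz.Q (k.ε * c * (a * k.σ ν * (k.ε * k.σ
    (f.B (NN u y) (u ⊳ (NN u y))))) * μ))
  rw [mem_levA]; convert h3 using 1
  match_scalars
  · linear_combination (-c * ν * k.σ ν * k.σ (f.B (NN u y) (u ⊳ (NN u y))) * a) * k.εε
  · ring

theorem lev_of_two {l l' : F} (h1 : Tr X c (NN u y + l • z)) (h2 : Tr X c (NN u y + l' • z))
    (hl : l ≠ l') : ∃ a, a ≠ 0 ∧ a ∈ levA X h.tz.Q (NN u y) :=
  ⟨_, neg_ne_zero.2 (mul_ne_zero (mul_ne_zero k.ε_ne_zero h.c_ne)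
    (fun e => hl (sub_eq_zero.1 (k.σ_eq_zero.1 e)))), _, lev_two h.tz.Q h.Qd h.zd h1 h2⟩

theorem Eich_le (hf : f.Nondeg) (h3 : 3 ≤ finrank F V) (hA : ∀ a, a ∈ levA X h.tz.Q (NN u y))
    (hT : (∀ w, f.B z w = 0 → f.Lev X z w) → f.Tgrp z ≤ X) : f.Eich ≤ X := by
  have hL := h.ru.lev_all hf h.mem h.fix h.z_ne h.tz.Q hA
  obtain ⟨n, hn, e1, -⟩ := weyl h.tz h.ty h.wy
  refine hf.Eich_le_of_Qgrp' (Or.inl h3) h.tz.Q (Qgrp_le_of_lev (hT hL) hL) hn ?_
  rw [e1, map_smul, smul_eq_mul]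
  exact mul_ne_zero (neg_ne_zero.2 (mul_ne_zero h.c_ne (fun e => h.β_ne (k.σ_eq_zero.1 e)))) h.β_ne

end Cf

theorem Cf.Tgrp_le [Finite F] {f : Form (Kind.symp F) V} {X : Subgroup f.Isom} {u : f.Isom}
    (h : Cf X u y z 1) (hf : f.Nondeg) (h2 : (2 : F) = 0) (h3 : 3 ≤ finrank F V) (hβ : f.B z y = 1)
    (hL : ∀ w, f.B z w = 0 → f.Lev X z w) : f.Tgrp z ≤ X := by
  have t1 : ∀ μ : F, Tr X 1 (NN u y + μ • z) := fun μ => by
    obtain ⟨w, hw, e⟩ := hf.exists_perp_B_eq (h.ru.notMem h.fix h3) (μ - 1)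
    rw [mem_perp_span_singleton] at hw
    obtain ⟨c, hc, hX⟩ := hL w hw
    have := h.tr_d.map hX
    rw [eichler_apply_of_B _ _ _ _ _ (by rw [map_add, map_smul, h.zd, symp_B_self]; simp),
      map_add, map_smul, e, f.eq_zero_symm hw, hβ] at this
    convert this using 1
    simp only [Kind.symp_ε]; module
  have t2 : ∀ μ : F, ∃ g ∈ X, ∀ x, g ⊳ x = x + (μ * f.B z x) • NN u y +
      (μ * f.B (NN u y) x + μ ^ 2 * f.B z x) • z := fun μ => by
    obtain ⟨hh, hX⟩ := lev_two h.tz.Q h.Qd h.zd (t1 μ) (t1 0)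
    refine ⟨_, hX, fun x => ?_⟩
    simp only [eichler_apply, B_smul_left, Kind.symp_ε, Kind.symp_σ]
    module
  obtain ⟨n, hn, e1, e2, e3⟩ := weyl h.tz h.ty h.wy
  simp only [hβ, Kind.symp_ε, Kind.symp_σ] at e1 e2
  rw [Tgrp_le_iff h.tz.Q]
  intro c _
  obtain ⟨r, rfl⟩ := isSquare_of_two_eq_zero h2 c
  obtain ⟨μ, rfl⟩ := isSquare_of_two_eq_zero h2 r
  by_cases h0 : μ = 0
  · rw [h0]; simpa using tr_zero h.tz.Q
  obtain ⟨a, ha, ea⟩ := t2 μ
  obtain ⟨b, hb, eb⟩ := t2 μ⁻¹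
  have := (((h.ty.map ha).map hn).map hb).map hn
  have e : n ⊳ (b ⊳ (n ⊳ (a ⊳ y))) = (μ * μ) • z := by
    have e4 : b ⊳ (n ⊳ (a ⊳ y)) = (μ * μ) • y := by
      simp only [ea, eb, map_add, map_smul, map_neg, e1, e2, e3 _ h.zd h.yd, hβ, h.zd, symp_B_self,
        f.eq_zero_symm h.zd, f.eq_zero_symm h.yd, smul_eq_mul, neg_smul]
      match_scalars <;> field_simp <;> grind
    rw [e4, map_smul, e2]; module
  rw [e] at this
  simpa using this.of_smul h.tz.Q

end CA.H12Ru
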