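import Cfsg.Agent.Lib.Lin.SLnGen

/-! Transvection calculus in subgroups of `SL_n`, companion matrix of `(X - 1) ^ n`. -/

set_option autoImplicit false

namespace CA.SLTv

open Matrix

variable {F : Type*} [Field F]

section Tv
variable {ι : Type*} [Fintype ι] [DecidableEq ι] {H : Subgroup (SpecialLinearGroup ι F)}

/-- the map `T` is induced by an element of `H` -/
def Act (H : Subgroup (SpecialLinearGroup ι F)) (T : (ι → F) → ι → F) : Prop :=
  ∃ g ∈ H, ∀ x, g.1 *ᵥ x = T x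

theorem mul_mulVec (g h : SpecialLinearGroup ι F) (x : ι → F) : (g * h).1 *ᵥ x = g.1 *ᵥ h.1 *ᵥ x := by
  rw [mulVec_mulVec]; rfl

theorem inv_mulVec (g : SpecialLinearGroup ι F) (x : ι → F) : (g⁻¹).1 *ᵥ g.1 *ᵥ x = x := by
  rw [← mul_mulVec, inv_mul_cancel]; exact one_mulVec x

theorem mulVec_inv (g : SpecialLinearGroup ι F) (x : ι → F) : g.1 *ᵥ (g⁻¹).1 *ᵥ x = x := by
  rw [← mul_mulVec, mul_inv_cancel]; exact one_mulVec x

theorem ext_mulVec {g h : SpecialLinearGroup ι F} (e : ∀ x, g.1 *ᵥ x = h.1 *ᵥ x) : g = h :=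
  Subtype.ext (toLin'.injective (LinearMap.ext e))

theorem act_self {g : SpecialLinearGroup ι F} (hg : g ∈ H) : Act H fun x => g.1 *ᵥ x :=
  ⟨g, hg, fun _ => rfl⟩

namespace Act
variable {S T : (ι → F) → ι → F}

theorem congr (h : Act H S) (e : ∀ x, S x = T x) : Act H T := funext e ▸ h

theorem mul (h : Act H S) (h' : Act H T) : Act H fun x => S (T x) := by
  obtain ⟨g, hg, e⟩ := h
  obtain ⟨g', hg', e'⟩ := h'
  exact ⟨g * g', H.mul_mem hg hg', fun x => by rw [mul_mulVec, e', e]⟩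

theorem inv (h : Act H T) (e : ∀ x, S (T x) = x) : Act H S := by
  obtain ⟨g, hg, e'⟩ := h
  exact ⟨g⁻¹, H.inv_mem hg, fun x => by rw [← e (g⁻¹.1 *ᵥ x), ← e', mulVec_inv]⟩

theorem mem (h : Act H T) {g : SpecialLinearGroup ι F} (e : ∀ x, g.1 *ᵥ x = T x) : g ∈ H := by
  obtain ⟨g', hg, e'⟩ := h
  rwa [ext_mulVec fun x => (e x).trans (e' x).symm]

end Act

/-- the transvection `x ↦ x + φ(x) v` lies in `H` -/
def Tv (H : Subgroup (SpecialLinearGroup ι F)) (v φ : ι → F) : Prop :=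
  Act H fun x => x + (φ ⬝ᵥ x) • v

theorem tv_zero (φ : ι → F) : Tv H 0 φ := ⟨1, H.one_mem, fun x => by simp⟩

theorem tv_smul {v φ : ι → F} {c : F} : Tv H (c • v) φ ↔ Tv H v (c • φ) := by
  simp only [Tv, smul_dotProduct, smul_smul, smul_eq_mul, mul_comm]

namespace Tv
variable {u v w φ ψ : ι → F}

theorem congr (h : Tv H v φ) (e : ∀ x, (φ ⬝ᵥ x) • v = (ψ ⬝ᵥ x) • w) : Tv H w ψ :=
  Act.congr h fun x => by rw [e]

theorem add_left (h : Tv H v φ) (h' : Tv H w φ) (h0 : φ ⬝ᵥ w = 0) : Tv H (v + w) φ :=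
  (Act.mul h h').congr fun x => by simp [h0, add_comm, add_left_comm]

theorem add_right (h : Tv H v φ) (h' : Tv H v ψ) (h0 : φ ⬝ᵥ v = 0) : Tv H v (φ + ψ) :=
  (Act.mul h h').congr fun x => by simp [h0, add_comm, add_left_comm, add_smul]

theorem neg_left (h : Tv H v φ) (h0 : φ ⬝ᵥ v = 0) : Tv H (-v) φ :=
  Act.inv h fun x => by simp [h0]

theorem neg_right (h : Tv H v φ) (h0 : φ ⬝ᵥ v = 0) : Tv H v (-φ) :=
  Act.inv h fun x => by simp [h0]

theorem zsmul (h : Tv H v φ) (h0 : φ ⬝ᵥ v = 0) (k : ℤ) : Tv H ((k : F) • v) φ := by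
  induction k using Int.induction_on with
  | zero => simpa using tv_zero φ
  | succ k ih => simpa [add_smul] using ih.add_left h h0
  | pred k ih => simpa [add_smul, sub_eq_add_neg] using ih.add_left (h.neg_left h0) (by simp [h0])

theorem sum {κ : Type*} (s : Finset κ) (f : κ → ι → F) (h : ∀ k ∈ s, Tv H (f k) φ)
    (h0 : ∀ k ∈ s, φ ⬝ᵥ f k = 0) : Tv H (∑ k ∈ s, f k) φ := by
  classical
  induction s using Finset.induction_on with
  | empty => simpa using tv_zero φ
  | insert a s ha ih =>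
    rw [Finset.sum_insert ha, add_comm]
    exact (ih (fun k hk => h k (by simp [hk])) fun k hk => h0 k (by simp [hk])).add_left
      (h a (by simp)) (h0 a (by simp))

theorem conj (h : Tv H v φ) {g : SpecialLinearGroup ι F} (hg : g ∈ H)
    (e : ∀ x, ψ ⬝ᵥ (g.1 *ᵥ x) = φ ⬝ᵥ x) : Tv H (g.1 *ᵥ v) ψ :=
  (((act_self hg).mul h).mul (act_self (H.inv_mem hg))).congr fun x => by
    simp only [mulVec_add, mulVec_smul, mulVec_inv, ← e]

theorem conj' (h : Tv H v φ) {g : SpecialLinearGroup ι F} (hg : g ∈ H) :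
    Tv H (g.1 *ᵥ v) (φ ᵥ* (g⁻¹).1) :=
  h.conj hg fun x => by rw [← dotProduct_mulVec, inv_mulVec]

theorem conj_inv (h : Tv H (u) ψ) {g : SpecialLinearGroup ι F} (hg : g ∈ H) (e1 : g.1 *ᵥ v = u)
    (e : ∀ x, ψ ⬝ᵥ (g.1 *ᵥ x) = φ ⬝ᵥ x) : Tv H v φ := by
  have := h.conj (ψ := φ) (H.inv_mem hg) fun x => by rw [← e, mulVec_inv]
  rwa [← e1, inv_mulVec] at this

theorem comm (h : Tv H v φ) (h' : Tv H u ψ) (h0 : φ ⬝ᵥ v = 0) (h1 : ψ ⬝ᵥ u = 0) (h2 : ψ ⬝ᵥ v = 0) :
    Tv H ((φ ⬝ᵥ u) • v) ψ := by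
  have := (Act.mul (Act.mul h h') (h.neg_left h0)).mul (h'.neg_left h1)
  exact this.congr fun x => by
    simp only [dotProduct_add, dotProduct_smul, dotProduct_neg, h0, h1, h2, smul_eq_mul]
    module

end Tv

theorem tv_single {i j : ι} (h : i ≠ j) {c : F} :
    Tv H (c • Pi.single i 1) (Pi.single j 1) ↔ SpecialLinearGroup.transvection h c ∈ H := by
  have e : ∀ x : ι → F, (SpecialLinearGroup.transvection h c).1 *ᵥ x =
      x + (Pi.single j (1 : F) ⬝ᵥ x) • c • Pi.single i (1 : F) := fun x => by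
    rw [SpecialLinearGroup.transvection_coe, add_mulVec, one_mulVec, single_mulVec]
    ext k; by_cases hk : k = i <;> simp [hk, mul_comm]
  exact ⟨fun t => t.mem e, fun t => ⟨_, t, e⟩⟩

end Tv

section Fin
variable {n : ℕ} {H : Subgroup (SpecialLinearGroup (Fin n) F)}

/-- standard basis vectors with natural index -/
def e (n : ℕ) (F : Type*) [Field F] (k : ℕ) : Fin n → F := fun i => if (i : ℕ) = k then 1 else 0

theorem e_eq (k : Fin n) : e n F k = Pi.single k 1 := by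
  ext i; simp [e, Pi.single_apply, Fin.ext_iff]

theorem e_dot {k : ℕ} (hk : k < n) (x : Fin n → F) : e n F k ⬝ᵥ x = x ⟨k, hk⟩ := by
  rw [e_eq ⟨k, hk⟩, single_dotProduct, one_mul]

theorem e_dot_e {k : ℕ} (hk : k < n) (l : ℕ) : e n F k ⬝ᵥ e n F l = if k = l then 1 else 0 :=
  e_dot hk _

theorem e_dot_e_ne {k l : ℕ} (h : k ≠ l) : e n F k ⬝ᵥ e n F l = 0 :=
  Finset.sum_eq_zero fun i _ => by simp only [e]; split_ifs <;> first | omega | simp

theorem e_dot_e_self {k : ℕ} (hk : k < n) : e n F k ⬝ᵥ e n F k = 1 := by simp [e_dot_e hk]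

theorem mulVec_e (A : Matrix (Fin n) (Fin n) F) {k : ℕ} (hk : k < n) :
    A *ᵥ e n F k = fun i => A i ⟨k, hk⟩ := by
  rw [e_eq ⟨k, hk⟩, mulVec_single_one]; rfl

theorem eq_sum_e (x : Fin n → F) : x = ∑ i : Fin n, x i • e n F i := by
  ext j; simp [e, Finset.sum_apply, Fin.val_inj]

theorem mulVec_ext {A : Matrix (Fin n) (Fin n) F} {T : (Fin n → F) →ₗ[F] Fin n → F}
    (h : ∀ k < n, A *ᵥ e n F k = T (e n F k)) (x : Fin n → F) : A *ᵥ x = T x := by
  rw [eq_sum_e x, mulVec_sum, map_sum]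
  exact Finset.sum_congr rfl fun i _ => by rw [mulVec_smul, map_smul, h i i.2]

theorem dot_ext {A : Matrix (Fin n) (Fin n) F} {φ ψ : Fin n → F}
    (h : ∀ k < n, ψ ⬝ᵥ (A *ᵥ e n F k) = φ ⬝ᵥ e n F k) (x : Fin n → F) : ψ ⬝ᵥ (A *ᵥ x) = φ ⬝ᵥ x := by
  rw [eq_sum_e x, mulVec_sum, dotProduct_sum, dotProduct_sum]
  exact Finset.sum_congr rfl fun i _ => by
    rw [mulVec_smul, dotProduct_smul, dotProduct_smul, h i i.2]

theorem matrix_ext {A B : Matrix (Fin n) (Fin n) F} (h : ∀ k < n, A *ᵥ e n F k = B *ᵥ e n F k) :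
    A = B := toLin'.injective (LinearMap.ext (mulVec_ext (T := toLin' B) h))

/-- matrix with given columns -/
def ofCols (f : ℕ → Fin n → F) : Matrix (Fin n) (Fin n) F := of fun i j => f j i

theorem ofCols_e (f : ℕ → Fin n → F) {k : ℕ} (hk : k < n) : ofCols f *ᵥ e n F k = f k :=
  mulVec_e _ hk

/-- the elementary transvection `x_{ij}(c)` lies in `H` -/
def El (H : Subgroup (SpecialLinearGroup (Fin n) F)) (i j : ℕ) (c : F) : Prop :=
  Tv H (c • e n F i) (e n F j)

namespace El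
variable {i j k : ℕ} {a b : F}

theorem add (h : El H i j a) (h' : El H i j b) (hij : i ≠ j) : El H i j (a + b) := by
  rw [El, add_smul]; exact Tv.add_left h h' (by simp [e_dot_e_ne hij.symm])

theorem neg (h : El H i j a) (hij : i ≠ j) : El H i j (-a) := by
  rw [El, neg_smul]; exact Tv.neg_left h (by simp [e_dot_e_ne hij.symm])

theorem zmul (h : El H i j a) (hij : i ≠ j) (m : ℤ) : El H i j (m * a) := by
  rw [El, mul_smul]; exact Tv.zsmul h (by simp [e_dot_e_ne hij.symm]) m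

theorem mul (h : El H i k a) (h' : El H k j b) (hk : k < n) (hij : i ≠ j) (hik : i ≠ k) (hkj : k ≠ j) :
    El H i j (a * b) := by
  have := Tv.comm h h' (by simp [e_dot_e_ne hik.symm]) (by simp [e_dot_e_ne hkj.symm])
    (by simp [e_dot_e_ne hij.symm])
  rwa [dotProduct_smul, e_dot_e_self hk, smul_smul, smul_eq_mul, mul_one, mul_comm] at this

theorem one [Finite F] (h : El H i j a) (hij : i ≠ j) {m : ℤ} (ha : a = m) (h0 : a ≠ 0) : El H i j 1 := by
  obtain ⟨p, hp⟩ := CharP.exists F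
  have hp' := CharP.char_is_prime F p
  have : IsCoprime m p := by
    refine ((Nat.prime_iff_prime_int.1 hp').irreducible.coprime_iff_not_dvd.2 fun hd => h0 ?_).symm
    rw [ha]; exact (CharP.intCast_eq_zero_iff F p m).2 hd
  obtain ⟨u, v, huv⟩ := this
  have h1 := congrArg (Int.cast : ℤ → F) huv
  have := h.zmul hij u
  simp only [Int.cast_add, Int.cast_mul, Int.cast_natCast, CharP.cast_eq_zero, mul_zero, add_zero,
    Int.cast_one] at h1
  rwa [ha, h1] at this

end El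

/-- all elementary transvections with coefficient `c` -/
def All (H : Subgroup (SpecialLinearGroup (Fin n) F)) (c : F) : Prop :=
  ∀ i < n, ∀ j < n, i ≠ j → El H i j c

theorem exists_third (hn : 3 ≤ n) (i j : ℕ) : ∃ k < n, k ≠ i ∧ k ≠ j := by
  by_cases h0 : 0 ≠ i ∧ 0 ≠ j
  · exact ⟨0, by omega, h0⟩
  by_cases h1 : 1 ≠ i ∧ 1 ≠ j
  · exact ⟨1, by omega, h1⟩
  exact ⟨2, by omega, by omega⟩

theorem All.of_el (h1 : All H 1) (hn : 3 ≤ n) {i j : ℕ} (hi : i < n) (hj : j < n) (hij : i ≠ j) {c : F}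
    (h : El H i j c) : All H c := by
  have r : ∀ {i j k}, i < n → j < n → k < n → i ≠ j → k ≠ i → El H i j c → El H i k c := by
    intro i j k _ hj hk hij hki h
    by_cases e : k = j
    · rwa [e]
    · simpa using h.mul (h1 j hj k hk (Ne.symm e)) hj hki.symm hij (Ne.symm e)
  have l : ∀ {i j k}, i < n → j < n → k < n → i ≠ j → k ≠ j → El H i j c → El H k j c := by
    intro i j k hi _ hk hij hkj h
    by_cases e : k = i
    · rwa [e]
    · simpa using (h1 k hk i hi e).mul h hi hkj e hij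
  intro i' hi' j' hj' hij'
  by_cases e : j' = i
  · by_cases e' : i' = j
    · obtain ⟨k, hk, h2, h3⟩ := exists_third hn i j
      exact r hi' hk hj' (by omega) (by omega) (l hi hk hi' h2.symm (by omega) (r hi hj hk hij h2 h))
    · exact r hi' hj hj' e' hij'.symm (l hi hj hi' hij e' h)
  · exact l hi hj' hi' (Ne.symm e) hij' (r hi hj hj' hij e h)

theorem All.eq_top (h1 : All H 1) (hn : 3 ≤ n) {x : F} (hx : All H x)
    (hg : ∀ S : Subring F, x ∈ S → S = ⊤) : H = ⊤ := by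
  let S : Subring F :=
    { carrier := {c | All H c}
      one_mem' := h1
      zero_mem' := fun i _ j _ _ => by simpa [El] using tv_zero _
      add_mem' := fun ha hb i hi j hj hij => (ha i hi j hj hij).add (hb i hi j hj hij) hij
      neg_mem' := fun ha i hi j hj hij => (ha i hi j hj hij).neg hij
      mul_mem' := fun ha hb i hi j hj hij => by
        obtain ⟨k, hk, h2, h3⟩ := exists_third hn i j
        exact (ha i hi k hk h2.symm).mul (hb k hk j hj h3) hk hij h2.symm h3 }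
  refine CA.SLnGen.eq_top_of_transvection fun i j hij c => ?_
  have : All H c := show c ∈ S from hg S hx ▸ Subring.mem_top c
  rw [← tv_single, ← e_eq, ← e_eq]
  exact this i i.2 j j.2 (Fin.val_ne_of_ne hij)

theorem exists_gen (F : Type*) [Field F] [Finite F] :
    ∃ x : Fˣ, (∀ y, y ∈ Subgroup.zpowers x) ∧ ∀ S : Subring F, (x : F) ∈ S → S = ⊤ := by
  obtain ⟨x, hx⟩ := IsCyclic.exists_generator (α := Fˣ)
  refine ⟨x, hx, fun S hS => eq_top_iff.2 fun y _ => ?_⟩
  by_cases h0 : y = 0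
  · rw [h0]; exact S.zero_mem
  obtain ⟨m, hm⟩ := (Submonoid.mem_powers_iff _ _).1 (mem_powers_iff_mem_zpowers.2 (hx (Units.mk0 y h0)))
  have : y = (x : F) ^ m := by simpa using congrArg Units.val hm.symm
  rw [this]; exact S.pow_mem hS m

end Fin

end CA.SLTv
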