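import Cfsg.Agent.Lib.Lin.H12Ru2
import Cfsg.Agent.Lib.Lin.SLTv

/-! Symplectic groups are generated by three conjugate regular unipotent elements. -/

set_option autoImplicit false
set_option linter.unusedSectionVars false

namespace CA.H12Ru

open Module CA.CForm CA.CForm.Form

universe uu

section Gen
variable {F : Type*} [Field F] {k : Kind F} {V : Type*} [AddCommGroup V] [Module F V]
  {f : Form k V} {X : Subgroup f.Isom} [FiniteDimensional F V] {u : f.Isom} {y z : V}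

local notation:75 g:76 " ⊳ " v:75 => (g : V ≃ₗ[F] V) v

theorem witt2 (hf : f.Nondeg) {a b a' b' : V} (ha : f.Q a = 0) (hb : f.Q b = 0) (ha' : f.Q a' = 0)
    (hb' : f.Q b' = 0) (h0 : f.B a b ≠ 0) (e : f.B a' b' = f.B a b) :
    ∃ g : f.Isom, g ⊳ a = a' ∧ g ⊳ b = b' := by
  have h1 : f.IsHyp a ((f.B a b)⁻¹ • b) :=
    ⟨ha, f.Q_smul_of_Q hb _, by rw [map_smul, smul_eq_mul, inv_mul_cancel₀ h0]⟩
  have h2 : f.IsHyp a' ((f.B a b)⁻¹ • b') :=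
    ⟨ha', f.Q_smul_of_Q hb' _, by rw [map_smul, smul_eq_mul, e, inv_mul_cancel₀ h0]⟩
  obtain ⟨g, e1, e2⟩ := h1.exists_isom hf h2
  rw [map_smul] at e2
  exact ⟨g, e1, smul_right_injective V (inv_ne_zero h0) e2⟩

theorem witt3 (hf : f.Nondeg) {a b c a' b' c' : V} (ha : f.Q a = 0) (hb : f.Q b = 0)
    (ha' : f.Q a' = 0) (hb' : f.Q b' = 0) (h0 : f.B a b ≠ 0) (e : f.B a' b' = f.B a b)
    (hc : c ∉ Submodule.span F {a, b}) (hc' : c' ∉ Submodule.span F {a', b'})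
    (e1 : f.B a' c' = f.B a c) (e2 : f.B b' c' = f.B b c) (e3 : f.Q c' = f.Q c) :
    ∃ g : f.Isom, g ⊳ a = a' ∧ g ⊳ b = b' ∧ g ⊳ c = c' := by
  obtain ⟨g, g1, g2⟩ := witt2 hf ha hb ha' hb' h0 e
  obtain ⟨t, -, t1, t2⟩ := hf.witt_step f.isFull_top (Submodule.span F {a', b'}) (u := g ⊳ c)
    (u' := c') (fun hm => hc (by
      obtain ⟨r, s, hm⟩ := Submodule.mem_span_pair.1 hm
      rw [← g1, ← g2, ← map_smul, ← map_smul, ← map_add] at hm
      exact Submodule.mem_span_pair.2 ⟨r, s, (g : V ≃ₗ[F] V).injective hm⟩)) hc'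
    (fun h hm => by
      obtain ⟨r, s, rfl⟩ := Submodule.mem_span_pair.1 hm
      rw [B_add_left, B_add_left, B_smul_left, B_smul_left, B_smul_left, B_smul_left, e1, e2, ← g1,
        ← g2, B_coe_map, B_coe_map]) (by rw [Q_coe_map, e3])
  refine ⟨t * g, ?_, ?_, ?_⟩ <;> rw [isom_mul_apply]
  · rw [g1, t1 _ (Submodule.subset_span (by simp))]
  · rw [g2, t1 _ (Submodule.subset_span (by simp))]
  · exact t2

theorem notMem_pair {e : V} {r : ℕ} (h1 : (NN u ^ (r + 2)) e ≠ 0) (h2 : (NN u ^ (r + 3)) e = 0) :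
    u ⊳ (u ⊳ e) ∉ Submodule.span F {e, u ⊳ e} := by
  intro hm
  obtain ⟨a, b, hm⟩ := Submodule.mem_span_pair.1 hm
  have e1 : NN u (NN u e) = (a + b - 1) • e + (b - 2) • NN u e := by
    rw [apply_eq u (u ⊳ e), apply_eq u e, map_add] at hm
    linear_combination (norm := module) -hm
  have p : ∀ j, (NN u ^ (j + 2)) e = (a + b - 1) • (NN u ^ j) e + (b - 2) • (NN u ^ (j + 1)) e :=
    fun j => by rw [NN_pow_succ', NN_pow_succ', e1, map_add, map_smul, map_smul, ← NN_pow_succ']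
  have p1 := p (r + 2)
  rw [NN_pow_succ _ (r + 3), h2, map_zero, smul_zero, add_zero, eq_comm, smul_eq_zero] at p1
  have p2 := p (r + 1)
  rw [h2, p1.resolve_right h1, zero_smul, zero_add, eq_comm, smul_eq_zero] at p2
  exact h1 (by rw [p r, p1.resolve_right h1, p2.resolve_right h1]; simp)

theorem uu_eq (u : f.Isom) (e : V) :
    u ⊳ (u ⊳ e) = e + (2 : F) • NN u e + NN u (NN u e) := by
  rw [apply_eq u (u ⊳ e), apply_eq u e, map_add]; module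

theorem RU.B_top (h : RU u y) (hf : f.Nondeg) {m : ℕ} (hm : finrank F V = m + 1) :
    ∀ (i j : ℕ) (a : V), i + j = m → f.B a ((NN u ^ m) y) ≠ 0 →
      f.B ((NN u ^ i) a) ((NN u ^ j) y) ≠ 0
  | 0, j, a, e, h0 => by rw [zero_add] at e; rw [e]; exact h0
  | i + 1, j, a, e, h0 => by
    rw [NN_pow_succ, B_NN, NN_pow_comm, ← NN_pow_succ, neg_ne_zero]
    refine h.B_top hf hm i (j + 1) _ (by omega) ?_
    rwa [← h.top_fix hm, B_coe_map]

theorem RU.B_top' (h : RU u y) (hf : f.Nondeg) {i j : ℕ} (hm : finrank F V = i + j + 1) :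
    f.B ((NN u ^ i) y) ((NN u ^ j) y) ≠ 0 :=
  h.B_top hf hm i j y rfl fun e =>
    h.B_ne hf (h.top_fix hm) (h.pow_ne (by omega)) (f.eq_zero_symm e)

theorem tr_of_conj {g : f.Isom} {c : F} {hc : f.EichlerCond z 0 c}
    (e : g * u * g⁻¹ = f.eichler z 0 c hc * u) (hu : u ∈ X) (hg : g * u * g⁻¹ ∈ X) : Tr X c z :=
  ⟨hc, by simpa [e] using X.mul_mem hg (X.inv_mem hu)⟩

theorem conj_apply {g : f.Isom} {e a b : V} (h1 : g ⊳ e = a) (h2 : g ⊳ (u ⊳ e) = b) :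
    (g * u * g⁻¹ : f.Isom) ⊳ a = b := by
  rw [isom_mul_apply, isom_mul_apply, ← h1, isom_inv_apply_apply, h2]

theorem B_y_ud (hy : f.Q y = 0) (b1 : f.B y (u ⊳ y) = 0) :
    f.B y (u ⊳ (NN u y)) = -f.B (NN u y) (u ⊳ (NN u y)) := by
  have : f.B y (NN u y) = 0 := by rw [NN_apply, map_sub, b1, f.B_self_of_Q hy, sub_self]
  conv_rhs => rw [NN_apply, B_sub_left, ← NN_apply, B_coe_map, this]
  ring

theorem mat_reg {ι : Type} [Fintype ι] [DecidableEq ι] {f : Form k (ι → F)} {u : f.Isom} {y : ι → F}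
    (h : RU u y) {A : Matrix ι ι F} (hA : ∀ v, A.mulVec v = u.1 v) (h0 : 0 < Fintype.card ι) :
    IsNilpotent (A - 1) ∧ (A - 1) ^ (Fintype.card ι - 1) ≠ 0 := by
  have e : ∀ j v, ((A - 1) ^ j).mulVec v = (NN u ^ j) v := fun j v => by
    induction j with
    | zero => simp
    | succ j ih =>
      rw [pow_succ', ← Matrix.mulVec_mulVec, ih, Matrix.sub_mulVec, hA, Matrix.one_mulVec,
        NN_pow_succ, NN_apply]
  obtain ⟨n, hn⟩ := h.nil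
  refine ⟨⟨n, matrix_eq_iff_mulVec.2 fun v => by rw [e, hn]; simp⟩, fun e' => ?_⟩
  refine h.pow_ne (j := Fintype.card ι - 1) (by rw [finrank_fintype_fun_eq_card]; omega) ?_
  rw [← e, e', Matrix.zero_mulVec]

end Gen

variable {F : Type*} [Field F] [Finite F] {V : Type uu} [AddCommGroup V] [Module F V]
  [FiniteDimensional F V] {f : Form (Kind.symp F) V}

local notation:75 g:76 " ⊳ " v:75 => (g : V ≃ₗ[F] V) v

theorem symp_odd (hf : f.Nondeg) {m : ℕ} (hn : finrank F V = 2 * m) (hm : 2 ≤ m) (h2 : (2 : F) ≠ 0) :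
    ∃ (u : f.Isom) (y : V) (g h : f.Isom), RU u y ∧
      ∀ X : Subgroup f.Isom, u ∈ X → g * u * g⁻¹ ∈ X → h * u * h⁻¹ ∈ X → f.Eich ≤ X := by
  obtain ⟨γ, -, hγ⟩ := CA.SLTv.exists_gen F
  obtain ⟨u, y, hr, b1, b2⟩ := symp_ex2 hf hn hm γ.ne_zero
  obtain ⟨z, z1, z2, z3⟩ := hr.exists_fix hf (fun v _ => f.symp_Q v) (by omega) 1
  obtain ⟨g, -, hc, eg⟩ := hr.conj_tv hf z1 z2 (by omega) (-(2 : F)⁻¹)
  have e1 : (Kind.symp F).ε * -(2 : F)⁻¹ - (Kind.symp F).σ (-(2 : F)⁻¹) = 1 := by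
    simp only [Kind.symp_ε, Kind.symp_σ]; field_simp; ring
  have b3 := B_y_ud (f.symp_Q y) b1
  have b4 : f.B (NN u y) (u ⊳ y) = 0 := by rw [NN_apply, B_sub_left, b1, symp_B_self, sub_self]
  have b5 : f.B ((1 - (γ : F)⁻¹) • y + NN u y) (u ⊳ ((1 - (γ : F)⁻¹) • y + NN u y)) = 1 := by
    simp only [map_add, map_smul, B_add_left, B_smul_left, b1, b2, b3, b4, Kind.symp_σ, smul_eq_mul]
    field_simp; ring
  obtain ⟨h, h1, h3⟩ := witt2 hf (a' := z) (b' := y) (f.symp_Q _) (f.symp_Q _) z2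
    (f.symp_Q _) (b5.trans_ne one_ne_zero) (z3.trans b5.symm)
  refine ⟨u, y, g, h, hr, fun X hu hg hh => ?_⟩
  have t1 : Tr X 1 z := e1 ▸ tr_of_conj eg hu hg
  have cf : Cf X u y z 1 := ⟨hr, hu, z1, t1, conj_apply h1 h3 ▸ t1.map hh, b1, by simp [z3]⟩
  obtain ⟨a, a0, ha⟩ := cf.lev_of_two cf.tr_d cf.tr_d' (by
    simp only [z3, Kind.symp_ε]; intro e; exact h2 (by linear_combination e))
  refine cf.Eich_le hf (by omega) (mem_of_mulSt (hγ _ ?_) ha a0)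
    (hf.Tgrp_le_of_lev (by omega) fun c _ => ⟨c / 2, by simp; field_simp; ring⟩)
  simpa [b2] using cf.mul_mem

theorem symp_even_aux (hf : f.Nondeg) {m : ℕ} (hn : finrank F V = 2 * m) (hm : 2 ≤ m)
    (h2 : (2 : F) = 0) {u : f.Isom} {y z : V} (hr : RU u y) (b1 : f.B y (u ⊳ y) = 0)
    (z1 : u ⊳ z = z) (z3 : f.B z y = 1) {ν : F} (hν : ν ≠ 0) :
    ∃ h : f.Isom, ∀ X : Subgroup f.Isom, u ∈ X → Tr X 1 z → h * u * h⁻¹ ∈ X → Cf X u y z 1 ∧
      Tr X 1 (u ⊳ (ν • NN u y + (1 + ν * f.B (NN u y) (u ⊳ (NN u y))) • z)) := by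
  obtain ⟨m, rfl⟩ : ∃ m', m = m' + 2 := ⟨m - 2, by omega⟩
  set e := (NN u ^ (m + 1)) y with he
  have p0 : f.B e (u ⊳ e) ≠ 0 := by
    rw [apply_eq, map_add, symp_B_self, zero_add, ← NN_pow_succ]
    exact hr.B_top' hf (by omega)
  obtain ⟨s, hs⟩ := isSquare_of_two_eq_zero h2 (f.B e (u ⊳ e))⁻¹
  have p1 : f.B (s • e) (u ⊳ (s • e)) = 1 := by
    rw [map_smul, map_smul, B_smul_left, Kind.symp_σ, smul_eq_mul, ← mul_assoc, ← hs,
      inv_mul_cancel₀ p0]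
  have s0 : s ≠ 0 := fun e => by simp [e] at p1
  have p2 : f.B (s • e) (u ⊳ (u ⊳ (s • e))) = 0 := by
    have : f.B e (NN u (NN u e)) = 0 := by
      rw [← NN_pow_succ, ← NN_pow_succ]; exact B_pow hr.nil _ _ _ _ (by omega)
    simp only [uu_eq, h2, zero_smul, add_zero, map_smul, B_smul_left, map_add, this, symp_B_self]
    simp
  have b3 := B_y_ud (f.symp_Q y) b1
  have zd := B_NN_fix z1 y
  obtain ⟨h, h1, h3, h4⟩ := witt3 hf (a := s • e) (b := u ⊳ (s • e)) (c := u ⊳ (u ⊳ (s • e)))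
    (a' := z) (b' := y) (c' := u ⊳ (ν • NN u y + (1 + ν * f.B (NN u y) (u ⊳ (NN u y))) • z))
    (f.symp_Q _) (f.symp_Q _) (f.symp_Q _) (f.symp_Q _) (by rw [p1]; exact one_ne_zero)
    (by rw [p1, z3])
    (notMem_pair (r := m) (by
      rw [map_smul, he, ← End.mul_apply, ← pow_add]
      exact smul_ne_zero s0 (hr.pow_ne (by omega))) (by
      rw [map_smul, he, ← End.mul_apply, ← pow_add, pow_of_le hr.nil (by omega), smul_zero]))
    (fun hm => by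
      obtain ⟨a, b, hm⟩ := Submodule.mem_span_pair.1 hm
      have := congrArg (f.B z) hm
      simp only [map_add, map_smul, B_fix z1, zd, z3, symp_B_self, smul_eq_mul, mul_zero, zero_add,
        mul_one] at this
      rw [this, zero_smul, add_zero, ← z1, ← map_smul, z1] at hm
      refine hr.notMem z1 (by omega) (Submodule.mem_span_singleton.2
        ⟨ν⁻¹ * (a - (1 + ν * f.B (NN u y) (u ⊳ (NN u y)))), ?_⟩)
      rw [mul_smul, sub_smul, (u : V ≃ₗ[F] V).injective hm, add_sub_cancel_right, smul_smul,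
        inv_mul_cancel₀ hν, one_smul])
    (by rw [p2]; simp only [map_add, map_smul, B_fix z1, zd, symp_B_self]; simp)
    (by
      rw [B_coe_map, p1]; simp only [map_add, map_smul, z1, b3, f.symp_symm z y, z3, smul_eq_mul]
      linear_combination (-1 - ν * f.B (NN u y) (u ⊳ (NN u y))) * h2)
    (by rw [symp_Q, symp_Q])
  refine ⟨h, fun X hu t1 hh => ?_⟩
  have t2 : Tr X 1 y := conj_apply h1 h3 ▸ t1.map hh
  exact ⟨⟨hr, hu, z1, t1, t2, b1, by simp [z3]⟩, conj_apply h3 h4 ▸ t2.map hh⟩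

theorem symp_tv2 (hf : f.Nondeg) {m : ℕ} (hn : finrank F V = m + 4) (h2 : (2 : F) = 0) {u : f.Isom}
    {y z : V} (hr : RU u y) (z1 : u ⊳ z = z) : ∃ ρ : F, (1 ≤ m → ρ = 0) ∧
      ∀ t : F, ∃ g : f.Isom, ∃ h, g * u * g⁻¹ = f.eichler z 0 (t + ρ * t ^ 2) h * u := by
  obtain ⟨a, ha⟩ := hr.exists_top hf z1 (m := m + 3) hn
  refine ⟨f.B (a • (NN u ^ (m + 1)) y) (a • (NN u ^ (m + 2)) y), fun h1 => ?_, fun t =>
    conj_tv2 h2 (by rw [map_smul, ← NN_pow_succ]) (by rw [map_smul, ← NN_pow_succ, ha]) z1 ?_ ?_ t⟩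
  · rw [map_smul, B_smul_left, B_pow hr.nil _ _ _ _ (by omega)]; simp
  · rw [map_smul, NN_pow_succ, B_NN_fix z1, smul_zero]
  · rw [map_smul, NN_pow_succ, B_NN_fix z1, smul_zero]

theorem symp_even3 (hf : f.Nondeg) {m : ℕ} (hn : finrank F V = 2 * m) (hm : 3 ≤ m)
    (h2 : (2 : F) = 0) : ∃ (u : f.Isom) (y : V) (g h : f.Isom), RU u y ∧
      ∀ X : Subgroup f.Isom, u ∈ X → g * u * g⁻¹ ∈ X → h * u * h⁻¹ ∈ X → f.Eich ≤ X := by
  obtain ⟨γ, -, hγ⟩ := CA.SLTv.exists_gen F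
  obtain ⟨u, y, hr, b1, b2⟩ := symp_ex2 hf hn (by omega) γ.ne_zero
  obtain ⟨z, z1, z2, z3⟩ := hr.exists_fix hf (fun v _ => f.symp_Q v) (by omega) 1
  obtain ⟨ρ, hρ, hg⟩ := symp_tv2 hf (m := 2 * m - 4) (by omega) h2 hr z1
  obtain ⟨g, hc, eg⟩ := hg 1
  obtain ⟨h, hh⟩ := symp_even_aux hf hn (by omega) h2 hr b1 z1 z3 one_ne_zero
  refine ⟨u, y, g, h, hr, fun X hu hg hh' => ?_⟩
  obtain ⟨cf, t⟩ := hh X hu (by simpa [hρ (by omega)] using tr_of_conj eg hu hg) hh'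
  have t' := t.map (X.inv_mem hu)
  rw [isom_inv_apply_apply, one_smul, b2] at t'
  obtain ⟨a, a0, ha⟩ := cf.lev_of_two cf.tr_d t' (by simp [z3])
  refine cf.Eich_le hf (by omega) (mem_of_mulSt (hγ _ ?_) ha a0) (cf.Tgrp_le hf h2 (by omega) z3)
  simpa [b2] using cf.mul_mem

theorem symp_even2 (hf : f.Nondeg) (hn : finrank F V = 4) (h2 : (2 : F) = 0) {κ : F} (κ0 : κ ≠ 0)
    (κ1 : κ ≠ 1) : ∃ (u : f.Isom) (y : V) (g h : f.Isom), RU u y ∧
      ∀ X : Subgroup f.Isom, u ∈ X → g * u * g⁻¹ ∈ X → h * u * h⁻¹ ∈ X → f.Eich ≤ X := by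
  obtain ⟨γ, -, hγ⟩ := CA.SLTv.exists_gen F
  obtain ⟨u, y, hr, b1, b2⟩ := symp_ex2 hf (m := 2) hn le_rfl one_ne_zero
  obtain ⟨z, z1, z2, z3⟩ := hr.exists_fix hf (fun v _ => f.symp_Q v) (by omega) 1
  obtain ⟨ρ, -, hg⟩ := symp_tv2 hf (m := 0) hn h2 hr z1
  obtain ⟨t, ht⟩ : ∃ t : F, t + ρ * t ^ 2 ≠ 0 := by
    by_cases h0 : ρ = 0
    · exact ⟨1, by simp [h0]⟩
    · refine ⟨κ / ρ, fun e => κ1 ?_⟩
      field_simp at e
      grind
  obtain ⟨g, hc, eg⟩ := hg t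
  obtain ⟨l, hl⟩ := isSquare_of_two_eq_zero h2 (t + ρ * t ^ 2)
  have l0 : l ≠ 0 := fun e => ht (by rw [hl, e, mul_zero])
  have hr' := hr.smul (inv_ne_zero l0)
  have z1' : u ⊳ (l • z) = l • z := by rw [map_smul, z1]
  have z3' : f.B (l • z) (l⁻¹ • y) = 1 := by simp [z3, l0]
  have b2' : f.B (NN u (l⁻¹ • y)) (u ⊳ (NN u (l⁻¹ • y))) = l⁻¹ * l⁻¹ := by simp [b2]
  obtain ⟨ν, hν⟩ := isSquare_of_two_eq_zero h2 (γ * (l * l) : F)
  have ν0 : ν ≠ 0 := fun e => by simp [e, l0] at hν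
  obtain ⟨h, hh⟩ := symp_even_aux hf (m := 2) hn le_rfl h2 hr' (by simp [b1]) z1' z3' ν0
  refine ⟨u, _, g, h, hr', fun X hu hg hh' => ?_⟩
  obtain ⟨cf, t⟩ := hh X hu (Tr.smul (by simpa [hl] using tr_of_conj eg hu hg) rfl) hh'
  obtain ⟨a, ha⟩ := hr'.exists_top hf z1' (m := 3) hn
  have a0 : a ≠ 0 := fun e => cf.z_ne (by rw [ha, e, zero_smul])
  have t' := (cf.tr_d.map hu).map hu
  have e : u ⊳ (u ⊳ (NN u (l⁻¹ • y))) = NN u (l⁻¹ • y) + a⁻¹ • l • z := by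
    rw [ha, smul_smul, inv_mul_cancel₀ a0, one_smul, uu_eq, h2, zero_smul, add_zero,
      NN_pow_succ, NN_pow_succ, pow_one]
  rw [map_add, map_add, e, map_smul (u : V ≃ₗ[F] V), z1', map_smul (u : V ≃ₗ[F] V), z1', add_assoc,
    ← add_smul] at t'
  obtain ⟨a, a0, ha⟩ := cf.lev_of_two cf.tr_d t' (by simpa using a0)
  refine cf.Eich_le hf (by omega) (mem_of_mulSt (hγ _ ?_) ha a0) (cf.Tgrp_le hf h2 (by omega) z3')
  convert cf.mul_mem' t using 1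
  rw [b2']; simp only [Kind.symp_σ, ← hν]; field_simp

theorem symp_three (hf : f.Nondeg) {m : ℕ} (hn : finrank F V = 2 * m) (hm : 2 ≤ m)
    (h22 : m = 2 → ∃ κ : F, κ ≠ 0 ∧ κ ≠ 1) : ∃ (u : f.Isom) (y : V) (g h : f.Isom), RU u y ∧
      ∀ X : Subgroup f.Isom, u ∈ X → g * u * g⁻¹ ∈ X → h * u * h⁻¹ ∈ X → f.Eich ≤ X := by
  by_cases h2 : (2 : F) = 0
  · rcases hm.eq_or_lt with rfl | hm
    · obtain ⟨κ, κ0, κ1⟩ := h22 rfl
      exact symp_even2 hf hn h2 κ0 κ1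
    · exact symp_even3 hf hn hm h2
  · exact symp_odd hf hn hm h2

end CA.H12Ru
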