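import Cfsg.Agent.Lib.Lin.H12Ru3
import Cfsg.Agent.Lib.Lin.CFormClass

/-! Unitary groups of odd dimension at least five are generated by three conjugate regular
unipotent elements; generation criteria for unitary groups of dimension three. -/

set_option autoImplicit false
set_option linter.unusedSectionVars false

namespace CA.H12Ru

open Module CA.CForm CA.CForm.Form

universe uu

theorem gen_of_order {F : Type*} [Field F] [Fintype F] {ω : F} (h0 : ω ≠ 0)
    (h : ∀ s j : ℕ, 2 ≤ s → 2 ≤ j → s ^ j = Fintype.card F → ¬orderOf ω ∣ s - 1)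
    (S : Subring F) (hS : ω ∈ S) : S = ⊤ := by
  classical
  let K : Subfield F := { S with
    inv_mem' := fun x hx => by
      by_cases x0 : x = 0
      · rw [x0, inv_zero]; exact S.zero_mem
      have h1 := FiniteField.pow_card_sub_one_eq_one x x0
      have h2 : 1 < Fintype.card F := Fintype.one_lt_card
      rw [show Fintype.card F - 1 = Fintype.card F - 2 + 1 by omega, pow_succ] at h1
      rw [← eq_inv_of_mul_eq_one_left h1]
      exact S.pow_mem hx _ }
  have hc := Module.card_eq_pow_finrank (K := K) (V := F)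
  have h2 : 1 < Fintype.card K := Fintype.one_lt_card
  have h3 : 0 < finrank K F := finrank_pos
  by_cases h4 : finrank K F = 1
  · rw [h4, pow_one] at hc
    have := (Fintype.bijective_iff_injective_and_card (Subtype.val : K → F)).2
      ⟨Subtype.val_injective, hc.symm⟩
    refine eq_top_iff.2 fun x _ => ?_
    obtain ⟨a, rfl⟩ := this.2 x
    exact a.2
  · refine absurd (orderOf_dvd_of_pow_eq_one ?_) (h _ _ h2 (by omega) hc.symm)
    have := FiniteField.pow_card_sub_one_eq_one (⟨ω, hS⟩ : K) fun e => h0 (congrArg Subtype.val e)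
    simpa using congrArg Subtype.val this

theorem exists_norm_gen {F : Type*} [Field F] [Fintype F] {q : ℕ} (hF : Fintype.card F = q ^ 2) :
    ∃ ω : F, ω * conj hF ω = 1 ∧ orderOf ω = q + 1 := by
  obtain ⟨x, hx⟩ := IsCyclic.exists_generator (α := Fˣ)
  have h2 := two_le_of_card_sq hF
  have ho := orderOf_eq_card_of_forall_mem_zpowers hx
  rw [Nat.card_units, Nat.card_eq_fintype_card, hF] at ho
  obtain ⟨r, rfl⟩ : ∃ r, q = r + 1 := ⟨q - 1, by omega⟩
  have e : (r + 1) ^ 2 - 1 = r * (r + 1 + 1) := by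
    rw [Nat.sub_eq_iff_eq_add (Nat.one_le_pow _ _ (by omega))]; ring
  have h3 : orderOf (x ^ r) = r + 1 + 1 := by
    rw [orderOf_pow_of_dvd (by omega) (by rw [ho, e]; exact dvd_mul_right _ _), ho, e,
      Nat.mul_div_cancel_left _ (by omega)]
  refine ⟨((x ^ r : Fˣ) : F), ?_, by rw [orderOf_units, h3]⟩
  rw [CA.CForm.conj_apply, ← pow_succ', ← Units.val_pow_eq_pow_val, ← h3, pow_orderOf_eq_one, Units.val_one]

section Gen
variable {F : Type*} [Field F] {k : Kind F} {V : Type*} [AddCommGroup V] [Module F V]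
  {f : Form k V} {X : Subgroup f.Isom} [FiniteDimensional F V] {u : f.Isom} {y z : V}

local notation:75 g:76 " ⊳ " v:75 => (g : V ≃ₗ[F] V) v

variable (F) in
theorem finrank_three (a b c : V) : finrank F (Submodule.span F {a, b, c}) ≤ 3 := by
  have := finrank_range_le_card (R := F) ![a, b, c]
  rwa [Set.finrank, show Set.range ![a, b, c] = {a, b, c} by ext; simp [or_comm, or_left_comm],
    Fintype.card_fin] at this

theorem nn_ne {e : V} {r : ℕ} (h1 : (NN u ^ (r + 2)) e ≠ 0) (h2 : (NN u ^ (r + 3)) e = 0) (a b : F) :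
    NN u (NN u e) ≠ a • e + b • NN u e := fun h => by
  refine notMem_pair h1 h2 (Submodule.mem_span_pair.2 ⟨a - 1 - b, 2 + b, ?_⟩)
  rw [uu_eq, h, apply_eq u e]; module

theorem tv_eq {v v' x : V} {a b : F} {ha : f.EichlerCond v 0 a} {hb : f.EichlerCond v' 0 b}
    (e : f.eichler v 0 a ha = f.eichler v' 0 b hb) (hx : f.B v' x ≠ 0) (b0 : b ≠ 0) :
    ∃ μ : F, v = μ • v' ∧ μ * k.σ μ * a = b := by
  have e1 := congrArg (fun g : f.Isom => g ⊳ x) e
  simp only [eichler_zero_apply, sub_right_inj] at e1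
  have v0 : v' ≠ 0 := fun e => hx (by rw [e, B_zero_left])
  have n0 : k.ε * b * f.B v' x ≠ 0 := mul_ne_zero (mul_ne_zero k.ε_ne_zero b0) hx
  have n1 : k.ε * a * f.B v x ≠ 0 := fun e => smul_ne_zero n0 v0 (by rw [← e1, e, zero_smul])
  obtain ⟨μ, hμ⟩ : ∃ μ : F, v = μ • v' :=
    ⟨(k.ε * a * f.B v x)⁻¹ * (k.ε * b * f.B v' x), by
      rw [mul_smul, ← e1, smul_smul, inv_mul_cancel₀ n1, one_smul]⟩
  refine ⟨μ, hμ, ?_⟩
  rw [hμ, B_smul_left, smul_smul] at e1
  have := smul_left_injective F v0 e1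
  exact mul_left_cancel₀ (mul_ne_zero k.ε_ne_zero hx) (by linear_combination this)

theorem dihedral [Finite F] (h2 : (2 : F) = 0) {a b : F} (ha : Tr X a z) (hb : Tr X b y) (a0 : a ≠ 0)
    (b0 : b ≠ 0) (hB : f.B z y ≠ 0) : ∃ g ∈ X, ∃ μ : F, g ⊳ z = μ • y ∧ μ * k.σ μ * a = b := by
  have hB' : f.B y z ≠ 0 := fun e => hB (f.eq_zero_symm e)
  have sq : ∀ {v : V} {c : F} (h : f.EichlerCond v 0 c), f.eichler v 0 c h * f.eichler v 0 c h = 1 :=
    fun {v c} h => by
      rw [eichler_mul, ← f.eichler_zero (f.eichlerCond_zero h.Q_p (map_zero _))]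
      exact f.eichler_congr _ _ rfl (add_zero _) (by simp; linear_combination c * h2)
  obtain ⟨ha, hs⟩ := ha
  obtain ⟨hb, ht⟩ := hb
  set s := f.eichler z 0 a ha
  set t := f.eichler y 0 b hb
  have ss : s * s = 1 := sq ha
  have tt : t * t = 1 := sq hb
  have si : s⁻¹ = s := inv_eq_of_mul_eq_one_right ss
  have ti : t⁻¹ = t := inv_eq_of_mul_eq_one_right tt
  have c1 : ∀ j : ℕ, s * ((s * t) ^ j)⁻¹ = (s * t) ^ j * s := fun j => by
    have : s * (s * t)⁻¹ * s⁻¹ = s * t := by rw [mul_inv_rev, si, ti, mul_assoc, mul_assoc, ss, mul_one]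
    rw [← inv_pow, ← this, conj_pow, this, inv_mul_cancel_right]
  rcases Nat.even_or_odd' (orderOf (s * t)) with ⟨j, hj | hj⟩
  · exfalso
    have p0 := orderOf_pos (s * t)
    have w2 : (s * t) ^ j * (s * t) ^ j = 1 := by rw [← pow_add, ← two_mul, ← hj, pow_orderOf_eq_one]
    have wi := inv_eq_of_mul_eq_one_right w2
    have w1 := c1 j
    rw [wi] at w1
    have w3 : (s * t) ^ j * t = t * (s * t) ^ j := by
      have := (Commute.self_pow (s * t) j).eq
      rw [mul_assoc, ← mul_assoc ((s * t) ^ j), ← w1, mul_assoc] at this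
      exact (mul_left_cancel this).symm
    set w := (s * t) ^ j with hw
    have fx : ∀ {v v' : V} {c : F} (h : f.EichlerCond v 0 c), c ≠ 0 → f.B v v' ≠ 0 →
        w * f.eichler v 0 c h = f.eichler v 0 c h * w → w ⊳ v = v := fun {v v' c} h c0 hv e => by
      rw [← mul_inv_eq_iff_eq_mul, conj_eichler, f.eichler_congr _ (f.eichlerCond_zero
        (by rw [Q_coe_map, h.Q_p]) h.π_eq_zero) rfl (map_zero _) rfl] at e
      obtain ⟨μ, e1, -⟩ := tv_eq e hv c0
      have e2 : w ⊳ (w ⊳ v) = v := by rw [← isom_mul_apply, w2, isom_one_apply]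
      have v0 : v ≠ 0 := fun e => hv (by rw [e, B_zero_left])
      rw [e1, map_smul, e1, smul_smul] at e2
      have e3 := smul_left_injective F v0 (e2.trans (one_smul F v).symm)
      have e4 : (μ - 1) ^ 2 = 0 := by linear_combination e3 + (1 - μ) * h2
      rw [e1, sub_eq_zero.1 (pow_eq_zero_iff two_ne_zero |>.1 e4), one_smul]
    have hy : f.IsHyp z ((f.B z y)⁻¹ • y) :=
      ⟨ha.Q_p, f.Q_smul_of_Q hb.Q_p _, by rw [map_smul, smul_eq_mul, inv_mul_cancel₀ hB]⟩
    refine pow_ne_one_of_lt_orderOf (x := s * t) (n := j) (by omega) (by omega) ?_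
    refine hy.isom_ext (fx ha a0 hB w1.symm) (by
      rw [map_smul, fx hb b0 hB' w3]; rfl) fun v h1 h3 => ?_
    rw [B_smul_left, mul_eq_zero, k.σ_eq_zero, inv_eq_zero] at h3
    have : s * t ∈ f.fix (F ∙ v) := f.mem_fix_span_singleton.2 (by
      rw [isom_mul_apply, eichler_zero_apply, eichler_zero_apply, h3.resolve_left hB]; simp [h1])
    exact f.mem_fix_span_singleton.1 (Subgroup.pow_mem _ this j)
  · have e : (s * t) ^ j * s * ((s * t) ^ j)⁻¹ = t := by
      have : (s * t) ^ j * (s * t) ^ j * (s * t) = 1 := by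
        rw [← pow_add, ← pow_succ, ← two_mul, ← hj, pow_orderOf_eq_one]
      rw [mul_assoc, c1, ← mul_assoc, eq_inv_of_mul_eq_one_left this, mul_inv_rev, si, ti, mul_assoc,
        ss, mul_one]
    rw [conj_eichler, f.eichler_congr _ (f.eichlerCond_zero
      (by rw [Q_coe_map, ha.Q_p]) ha.π_eq_zero) rfl (map_zero _) rfl] at e
    exact ⟨_, X.pow_mem (X.mul_mem hs ht) j, tv_eq e hB' b0⟩

theorem ru3 {d : V} (h : f.IsHyp z y) {c : F} (hc : f.EichlerCond z d c) (hy : f.B y d = 0)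
    (hd : f.B d d ≠ 0) (hW : ∀ w, f.B z w = 0 → f.B y w = 0 → ∃ a : F, w = a • d) :
    RU (f.eichler z d c hc) y := by
  have e1 : NN (f.eichler z d c hc) z = 0 := by rw [NN_apply, eichler_apply_self, sub_self]
  have e2 : NN (f.eichler z d c hc) d = -(k.ε * f.B d d) • z := by
    rw [NN_apply, eichler_apply_of_B _ _ _ _ _ hc.B_pw]; module
  have e3 : NN (f.eichler z d c hc) y = d - (k.ε * c) • z := by
    rw [NN_apply, eichler_apply, h.B_xy, f.eq_zero_symm hy]; module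
  have dec : ∀ v, ∃ a b c : F, v = a • z + b • y + c • d := fun v => by
    obtain ⟨w, hw, e⟩ := h.exists_decomp v
    obtain ⟨a, rfl⟩ := hW w (f.mem_perp_span_pair.1 hw).1 (f.mem_perp_span_pair.1 hw).2
    exact ⟨_, _, _, e⟩
  refine ⟨⟨3, LinearMap.ext fun v => ?_⟩, fun S hS hu => ?_⟩
  · obtain ⟨a, b, c, rfl⟩ := dec v
    simp [pow_succ, e1, e2, e3]
  · have hN : ∀ v ∈ S, NN (f.eichler z d c hc) v ∈ S := fun v hv => S.sub_mem (hu v hv) hv
    have h1 := hN y hS
    have h3 := hN _ h1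
    rw [e3, map_sub, map_smul, e1, e2, smul_zero, sub_zero,
      S.smul_mem_iff (neg_ne_zero.2 (mul_ne_zero k.ε_ne_zero hd))] at h3
    rw [e3] at h1
    have h4 : d ∈ S := by simpa using S.add_mem h1 (S.smul_mem (k.ε * c) h3)
    refine eq_top_iff.2 fun v _ => ?_
    obtain ⟨a, b, c, rfl⟩ := dec v
    exact S.add_mem (S.add_mem (S.smul_mem _ h3) (S.smul_mem _ hS)) (S.smul_mem _ h4)

theorem line_of_three (h : f.IsHyp z y) (h3 : finrank F V = 3) {d : V} (h1 : f.B z d = 0)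
    (h2 : f.B y d = 0) (d0 : d ≠ 0) (w : V) (h4 : f.B z w = 0) (h5 : f.B y w = 0) :
    ∃ a : F, w = a • d := by
  have h6 : finrank F (f.perp (Submodule.span F {z, y})) = 1 := by have := h.finrank_perp; omega
  obtain ⟨a, ha⟩ := (finrank_eq_one_iff_of_nonzero'
    (⟨d, f.mem_perp_span_pair.2 ⟨h1, h2⟩⟩ : f.perp (Submodule.span F {z, y}))
    (fun e => d0 (congrArg Subtype.val e))).1 h6 ⟨w, f.mem_perp_span_pair.2 ⟨h4, h5⟩⟩
  exact ⟨a, (congrArg Subtype.val ha).symm⟩

end Gen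

section Herm
variable {F : Type*} [Field F] [Finite F] {s : F →+* F} {hs : ∀ a, s (s a) = a}
  {V : Type uu} [AddCommGroup V] [Module F V] [FiniteDimensional F V]
  {f : Form (Kind.herm s hs) V} {X : Subgroup f.Isom}

local notation:75 g:76 " ⊳ " v:75 => (g : V ≃ₗ[F] V) v

theorem herm_hπ (hne : s ≠ RingHom.id F) (c : F) (hc : (Kind.herm s hs).π c = 0) :
    ∃ b, b - (Kind.herm s hs).ε * (Kind.herm s hs).σ b = c := by
  obtain ⟨t, ht⟩ := Kind.exists_trace_eq s hs hne 1 (map_one s)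
  have := σ_of_π hc
  simp only [Kind.herm_σ, Kind.herm_ε, one_mul] at this ⊢
  exact ⟨c * t, by rw [map_mul, this]; linear_combination c * ht⟩

theorem exists_nonsing (hne : s ≠ RingHom.id F) (hf : f.Nondeg) {S : Submodule F V} {a b : V}
    (ha : a ∈ S) (hb : b ∈ S) (hQ : f.Q a = 0) (hB : f.B b a ≠ 0)
    (h : 2 * finrank F S ≤ finrank F V + 1) : ∃ p ∈ f.perp S, f.Q p ≠ 0 := by
  by_contra hn
  push Not at hn
  have h1 := ((f.herm_ts_iff_Q hne).2 hn).sup_singleton hQ (f.le_perp_perp S ha)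
  have h2 := hf.two_mul_finrank_le h1
  have h3 := hf.finrank_perp S
  have h4 : f.perp S < f.perp S ⊔ F ∙ a := lt_of_le_of_ne le_sup_left fun e =>
    hB (f.mem_perp.1 (e ▸ Submodule.mem_sup_right (Submodule.mem_span_singleton_self a)) b hb)
  have := Submodule.finrank_lt_finrank_of_lt h4
  omega

theorem adjust (hf : f.Nondeg) (g : f.Isom) {p : V} (hp : f.Q p ≠ 0) :
    ∃ h ∈ f.SIsom, ∀ v, f.B p v = 0 → h ⊳ v = g ⊳ v := by
  have h1 := hf.det_mul_σ_det g⁻¹
  set t : F := (f.detHom g⁻¹ : F) with ht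
  rw [Kind.herm_σ] at h1
  have hc : f.QreflCond p ((t - 1) / f.Q p) := by
    simp only [QreflCond, Kind.herm_σ, Kind.herm_π, Kind.herm_ε, one_mul, map_div₀, map_sub, map_one,
      herm_Q_fixed]
    field_simp; linear_combination h1
  refine ⟨g * f.qrefl p _ hc, ?_, fun v hv => by rw [isom_mul_apply, qrefl_apply_of_B _ _ _ _ hv]⟩
  rw [mem_SIsom, map_mul, ← Units.val_eq_one, Units.val_mul, detHom_qrefl, herm_B_self,
    div_mul_cancel₀ _ hp, add_sub_cancel, ht, ← Units.val_mul, ← map_mul, mul_inv_cancel, map_one,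
    Units.val_one]

theorem herm_five (hne : s ≠ RingHom.id F) (hf : f.Nondeg) {m : ℕ} (hn : finrank F V = 2 * m + 5)
    {ω : F} (h1 : ω * s ω = 1) (h2 : ω * ω ≠ 1) (hω : ∀ S : Subring F, ω ∈ S → S = ⊤) :
    ∃ (u : f.Isom) (y : V), ∃ g ∈ f.SIsom, ∃ h ∈ f.SIsom, RU u y ∧
      ∀ X : Subgroup f.Isom, u ∈ X → g * u * g⁻¹ ∈ X → h * u * h⁻¹ ∈ X → f.Eich ≤ X := by
  obtain ⟨c, c0, hc⟩ := herm_exists_π_eq_zero hs hne
  have sc := σ_of_π hc
  simp only [Kind.herm_σ, Kind.herm_ε, one_mul] at sc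
  have ω0 : ω ≠ 0 := fun e => by simp [e] at h1
  have γ0 : ω / c ≠ 0 := div_ne_zero ω0 c0
  obtain ⟨u, y, hr, Qy, b1, b2⟩ := herm_ex5 hne hf hn (γ := ω / c) (fun e => h2 (by
    rw [map_div₀, sc] at e; field_simp at e; linear_combination ω * e + h1))
  obtain ⟨z, z1, z2, z3⟩ := hr.exists_fix hf (fun v hv => by rwa [herm_B_self] at hv) (by omega) (ω / c)
  obtain ⟨b, hb⟩ := herm_hπ hne c hc
  obtain ⟨g, hg, hc', eg⟩ := hr.conj_tv hf z1 z2 (by omega) b
  have b3 := B_y_ud Qy b1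
  have zd := B_NN_fix z1 y
  have yd : f.B y (NN u y) = 0 := by rw [NN_apply, map_sub, b1, f.B_self_of_Q Qy, sub_self]
  have Qd : f.Q (NN u y) = 0 := by
    have := f.Q_coe_map u y
    rwa [apply_eq, f.Q_add_of_B yd, add_eq_left] at this
  set d := NN u y with hd
  set δ := f.B d (u ⊳ (u ⊳ d)) with hδ
  obtain ⟨ν, n1, n2, n3⟩ : ∃ ν : F, ν * s ν = 1 ∧ (ν + 1) * (ω / c + δ) = 0 ∧
      s ν * (δ / (ω / c)) ≠ 1 := by
    by_cases e : ω / c + δ = 0
    · refine ⟨ω, h1, by rw [e, mul_zero], fun e' => h2 ?_⟩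
      rw [eq_neg_of_add_eq_zero_right e, neg_div, div_self γ0] at e'
      linear_combination (ω - 1) * (-h1 - ω * e')
    · refine ⟨-1, by simp, by simp, fun e' => e ?_⟩
      rw [map_neg, map_one, neg_mul, one_mul, neg_eq_iff_eq_neg, div_eq_iff γ0] at e'
      rw [e']; ring
  have ν0 : ν ≠ 0 := fun e => by simp [e] at n1
  have b4 : f.B y (u ⊳ (u ⊳ d)) = -(ω / c) - δ := by
    rw [hδ]; conv_rhs => rw [hd, NN_apply, B_sub_left, ← NN_apply, ← hd, B_coe_map, b3, b2]
    ring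
  obtain ⟨h0, e1, e2, e3⟩ := witt3 hf (a := d) (b := u ⊳ d) (c := u ⊳ (u ⊳ d)) (a' := z) (b' := y)
    (c' := u ⊳ (u ⊳ ((δ / (ω / c)) • y + ν • d))) Qd (by rw [Q_coe_map, Qd]) z2 Qy (b2 ▸ γ0)
    (z3.trans b2.symm)
    (notMem_pair (r := 2 * m + 1) (by rw [hd, ← NN_pow_succ']; exact hr.pow_ne (by omega))
      (by rw [hd, ← NN_pow_succ']; exact pow_of_le hr.nil (by omega) _))
    (fun hm => by
      obtain ⟨a, b, hm⟩ := Submodule.mem_span_pair.1 hm
      have := congrArg (f.B z) hm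
      simp only [map_add, map_smul, B_fix z1, zd, z3, f.B_self_of_Q z2, smul_eq_mul, mul_zero,
        zero_add, add_zero] at this
      rw [← mul_right_cancel₀ γ0 this, map_add, map_add, map_smul, map_smul, map_smul, map_smul, uu_eq,
        uu_eq] at hm
      have h5 := congrArg (NN u) hm
      simp only [map_add, map_smul, NN_apply u z, z1, sub_self, smul_zero, zero_add, ← hd] at h5
      refine nn_ne (u := u) (e := NN u d) (r := 2 * m) (by
        rw [hd, ← NN_pow_succ', ← NN_pow_succ']; exact hr.pow_ne (by omega))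
        (by rw [hd, ← NN_pow_succ', ← NN_pow_succ']; exact pow_of_le hr.nil (by omega) _)
        (-(2 * b + ν) / ν) (-(b + 2 * ν) / ν) (smul_right_injective V ν0 ?_)
      simp only [smul_add, smul_smul, mul_div_cancel₀ _ ν0]
      linear_combination (norm := module) -h5)
    (by
      simp only [map_add, map_smul, B_fix z1, zd, z3, smul_eq_mul, mul_zero, add_zero]
      rw [div_mul_cancel₀ _ γ0])
    (by
      rw [B_coe_map, b2, map_add, map_add, map_smul, map_smul, map_smul, map_smul, map_add, map_smul,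
        map_smul, b4, apply_eq u y, map_add, map_add, b1, ← hd, b3, b2]
      simp only [smul_eq_mul]
      linear_combination -n2 - div_mul_cancel₀ δ γ0)
    (by
      simp only [Q_coe_map]
      rw [f.Q_add_of_B (by simp [yd]), f.Q_smul_of_Q Qy, f.Q_smul_of_Q Qd, Qd, add_zero])
  obtain ⟨p, hp, Qp⟩ := exists_nonsing hne hf (S := Submodule.span F {d, u ⊳ d, u ⊳ (u ⊳ d)})
    (a := u ⊳ d) (b := d) (Submodule.subset_span (by simp)) (Submodule.subset_span (by simp))
    (by rw [Q_coe_map, Qd]) (b2 ▸ γ0) (by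
      have := finrank_three F d (u ⊳ d) (u ⊳ (u ⊳ d))
      omega)
  obtain ⟨h, hh, eh⟩ := adjust hf h0 Qp
  rw [mem_perp_span] at hp
  rw [← eh _ (f.eq_zero_symm (hp _ (by simp)))] at e1 e2 e3
  refine ⟨u, y, g, f.Eich_le_SIsom hg, h, hh, hr, fun X hu hg hh => ?_⟩
  have t1 : Tr X c z := by
    have := tr_of_conj eg hu hg
    simp only [Kind.herm_σ, Kind.herm_ε, one_mul] at hb this
    rwa [hb] at this
  have t2 : Tr X c y := conj_apply e1 e2 ▸ t1.map hh
  have t3 := ((conj_apply e2 e3 ▸ t2.map hh).map (X.inv_mem hu)).map (X.inv_mem hu)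
  rw [isom_inv_apply_apply, isom_inv_apply_apply] at t3
  have cf : Cf X u y z c := ⟨hr, hu, z1, t1, t2, b1, by
    simp only [z3, Kind.herm_σ, Kind.herm_ε, map_div₀, sc]; field_simp; linear_combination -h1⟩
  obtain ⟨a, a0, ha⟩ := cf.lev_of_two cf.tr_d (cf.tr_of t3 n1) (fun e => n3 (by
    simp only [z3, Kind.herm_σ, Kind.herm_ε, one_mul, mul_div_cancel₀ _ c0, neg_inj] at e
    exact mul_right_cancel₀ ω0 (by rw [← e, one_mul])))
  refine cf.Eich_le hf (by omega) (mem_of_mulSt (hω _ ?_) ha a0)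
    (hf.Tgrp_le_of_lev (by omega) (herm_hπ hne))
  have := cf.mul_mem
  rwa [← hd, b2, mul_div_cancel₀ _ c0] at this

theorem lev_pt {p v w : V} (h : f.IsHyp p v) (hp : f.Tgrp p ≤ X) (hv : f.Tgrp v ≤ X) {μ c : F}
    (μ0 : μ ≠ 0) (μ1 : μ ≠ 1) (hμ : s μ = μ) (c0 : c ≠ 0) (hc : (Kind.herm s hs).π c = 0)
    (h1 : f.B p w = 0) (h2 : f.B v w = 0) {b : F} (hQ : f.Q (v + w + b • p) = 0)
    (hT : f.Tgrp (v + w + b • p) ≤ X) (κ : F) (hκ : s κ = κ) : f.Lev X p (κ • w) := by
  have sc := σ_of_π hc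
  simp only [Kind.herm_σ, Kind.herm_ε, one_mul] at sc
  have tor : ∀ a : Fˣ, s a = a → h.torus a ∈ f.Tgrp p ⊔ f.Tgrp v := fun a ha =>
    h.torus_mem_of_π c0 hc (by simp [ha, sc])
  have hE : f.EichlerCond p w (-b) := ⟨h.Q_x, h1, by
    rw [f.Q_add_smul_of_Q h.Q_x, f.Q_add_of_B h2, h.Q_y, B_add_left, h.B_yx, f.eq_zero_symm h1] at hQ
    simp only [Kind.herm_ε, add_zero, mul_one, zero_add] at hQ
    rw [map_neg]; linear_combination -hQ⟩
  have e1 : f.eichler p w (-b) hE ⊳ v = v + w + b • p := by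
    rw [eichler_apply, h.B_xy, f.eq_zero_symm h2]; simp
  have t1 := tor (Units.mk0 μ μ0) hμ
  have t2 : f.Tgrp p ⊔ f.Tgrp v ≤ X.comap (MulAut.conj (f.eichler p w (-b) hE)).toMonoidHom :=
    sup_le (fun e he => by
      have := f.conj_mem_Tgrp (f.eichler p w (-b) hE) he
      rw [eichler_apply_self] at this
      exact hp this) (fun e he => by
      have := f.conj_mem_Tgrp (f.eichler p w (-b) hE) he
      rw [e1] at this
      exact hT this)
  have t3 := X.mul_mem (t2 t1) (X.inv_mem (sup_le hp hv t1))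
  have hE' : f.EichlerCond p (μ • w) (μ * μ * -b) := ⟨h.Q_x, by simp [h1], by
    rw [herm_Q_smul, ← hE.π_c]; simp [hμ]; ring⟩
  have e2 := h.torus_conj_eichler (Units.mk0 μ μ0) hE h2 (by simpa [hμ] using hE')
  have t4 : f.Lev X p (w - μ • w) := by
    have : (MulAut.conj (f.eichler p w (-b) hE)).toMonoidHom (h.torus (Units.mk0 μ μ0)) *
        (h.torus (Units.mk0 μ μ0))⁻¹ = f.eichler p w (-b) hE * (h.torus (Units.mk0 μ μ0) *
          f.eichler p w (-b) hE * (h.torus (Units.mk0 μ μ0))⁻¹)⁻¹ := by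
      simp only [MulEquiv.coe_toMonoidHom, MulAut.conj_apply]; group
    rw [this, e2, eichler_inv, eichler_mul] at t3
    exact ⟨_, mem_congr t3 (by simp [hμ, sub_eq_add_neg]) rfl⟩
  by_cases κ0 : κ = 0
  · rw [κ0, zero_smul]; exact lev_zero h.Q_x
  have m1 : 1 - μ ≠ 0 := sub_ne_zero.2 μ1.symm
  have k0 : κ / (1 - μ) ≠ 0 := div_ne_zero κ0 m1
  have k1 : s (κ / (1 - μ)) = κ / (1 - μ) := by simp [hκ, hμ]
  have t5 := t4.map (sup_le hp hv (tor (Units.mk0 _ k0) k1))
  rw [h.torus_apply_x, h.torus_apply_of_B _ (by simp [h1]) (by simp [h2])] at t5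
  convert t5.smul_left h.Q_x k0 using 1
  rw [Kind.herm_σ, Units.val_mk0, k1]
  match_scalars; field_simp

theorem herm_U3 (hne : s ≠ RingHom.id F) (hf : f.Nondeg) (h3 : finrank F V = 3) {μ : F} (μ0 : μ ≠ 0)
    (μ1 : μ ≠ 1) (hμ : s μ = μ) {p v v' : V} (Qp : f.Q p = 0) (Qv : f.Q v = 0) (Qv' : f.Q v' = 0)
    (hp : f.Tgrp p ≤ X) (hv : f.Tgrp v ≤ X) (hv' : f.Tgrp v' ≤ X) (b1 : f.B p v ≠ 0)
    (b2 : f.B p v' ≠ 0) (hn : v' ∉ Submodule.span F {p, v}) : f.Eich ≤ X := by
  wlog e1 : f.B p v = 1 generalizing v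
  · refine this (v := (f.B p v)⁻¹ • v) (f.Q_smul_of_Q Qv _) ((f.Tgrp_smul_le _ _).trans hv)
      (by simp [b1]) (fun hm => hn ?_) (by simp [b1])
    obtain ⟨a, b, rfl⟩ := Submodule.mem_span_pair.1 hm
    exact Submodule.mem_span_pair.2 ⟨a, b * (f.B p v)⁻¹, by rw [smul_smul]⟩
  wlog e2 : f.B p v' = 1 generalizing v'
  · exact this (v' := (f.B p v')⁻¹ • v') (f.Q_smul_of_Q Qv' _) ((f.Tgrp_smul_le _ _).trans hv')
      (by simp [b2]) (fun hm => hn ((Submodule.smul_mem_iff _ (inv_ne_zero b2)).1 hm)) (by simp [b2])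
  have h : f.IsHyp p v := ⟨Qp, Qv, e1⟩
  obtain ⟨c, c0, hc⟩ := herm_exists_π_eq_zero hs hne
  have sc := σ_of_π hc
  simp only [Kind.herm_σ, Kind.herm_ε, one_mul] at sc
  obtain ⟨w, hw, e⟩ := h.exists_decomp v'
  rw [mem_perp_span_pair] at hw
  generalize (Kind.herm s hs).ε * f.B v v' = b at e
  rw [e2, one_smul] at e
  obtain rfl : v' = v + w + b • p := by rw [e]; abel
  have w0 : w ≠ 0 := fun e => hn (Submodule.mem_span_pair.2 ⟨b, 1, by rw [e]; module⟩)
  have hl := line_of_three h h3 hw.1 hw.2 w0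
  have Qw : f.Q w ≠ 0 := fun e => w0 (hf w fun x => by
    obtain ⟨x', hx, e'⟩ := h.exists_decomp x
    rw [mem_perp_span_pair] at hx
    obtain ⟨a, rfl⟩ := hl x' hx.1 hx.2
    rw [e']; simp [f.eq_zero_symm hw.1, f.eq_zero_symm hw.2, herm_B_self, e])
  have hb : b + s b ≠ 0 := fun e => Qw (by
    rw [f.Q_add_smul_of_Q Qp, f.Q_add_of_B hw.2, Qv, B_add_left, h.B_yx, f.eq_zero_symm hw.1] at Qv'
    simpa [e] using Qv')
  have b0 : b ≠ 0 := fun e => hb (by simp [e])
  obtain ⟨n, hn', n1, n2, n3⟩ := h.exists_weyl c0 hc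
  have hnX := sup_le hp hv hn'
  have l1 := lev_pt h hp hv μ0 μ1 hμ c0 hc hw.1 hw.2 Qv' hv'
  have en : (c / b) • n ⊳ (v + w + b • p) = v + (c / b) • w + (-(c * c / b)) • p := by
    rw [map_add, map_add, map_smul, n1, n2, n3 _ hw.1 hw.2]
    simp only [Kind.herm_ε]; match_scalars <;> field_simp
  have l2 := lev_pt h hp hv μ0 μ1 hμ c0 hc (w := (c / b) • w) (by simp [hw.1]) (by simp [hw.2])
    (en ▸ f.Q_smul_of_Q (by rw [Q_coe_map, Qv']) _)
    (en ▸ (f.Tgrp_smul_le _ _).trans (Tgrp_map hv' hnX))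
  have sb0 : s b ≠ 0 := by simpa using b0
  have t0 : c / b - s (c / b) ≠ 0 := fun e => hb (by
    rw [map_div₀, sc] at e; field_simp at e
    exact mul_left_cancel₀ c0 (by linear_combination e))
  have hL : ∀ x, f.B p x = 0 → f.Lev X p x := fun x hx => by
    obtain ⟨x', hx', e'⟩ := h.exists_decomp x
    rw [mem_perp_span_pair] at hx'
    obtain ⟨a, rfl⟩ := hl x' hx'.1 hx'.2
    have k2 : s ((a - s a) / (c / b - s (c / b))) = (a - s a) / (c / b - s (c / b)) := by
      rw [map_div₀, map_sub, map_sub, hs, hs, ← neg_sub a, ← neg_sub (c / b), neg_div_neg_eq]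
    have := ((l1 (a - (a - s a) / (c / b - s (c / b)) * (c / b)) (by
      rw [map_sub, map_mul, k2]; linear_combination div_mul_cancel₀ (a - s a) t0)).add
      (l2 _ k2)).add (lev_smul_self Qp ((Kind.herm s hs).ε * f.B v x))
    convert this using 1
    conv_lhs => rw [e', hx]
    module
  refine hf.Eich_le_of_Qgrp' (Or.inl h3.ge) Qp (Qgrp_le_of_lev hp hL) hnX ?_
  rw [n1, map_smul, e1]; simp [c0]

end Herm

end CA.H12Ru
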