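import Cfsg.Agent.Lib.Lin.H12Ru4
import Cfsg.Agent.Lib.Lin.SL2Dickson
import Cfsg.Agent.Lib.Lin.SL2Basic

/-! Three-dimensional unitary groups are generated by two conjugate regular unipotent elements. -/

set_option autoImplicit false
set_option linter.unusedSectionVars false

namespace CA.H12Ru

open Module CA.CForm CA.CForm.Form
open scoped MatrixGroups

universe uu

section Gen
variable {F : Type*} [Field F] {k : Kind F} {V : Type*} [AddCommGroup V] [Module F V]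
  {f : Form k V} {X : Subgroup f.Isom} [FiniteDimensional F V] {u : f.Isom} {y z : V}

local notation:75 g:76 " ⊳ " v:75 => (g : V ≃ₗ[F] V) v

/-- The matrices induced on the plane spanned by `z, y` by elements of `X` fixing its perp. -/
def plane (X : Subgroup f.Isom) (z y : V) : Subgroup SL(2, F) where
  carrier := {M | ∃ g ∈ X, g ⊳ z = M.1 0 0 • z + M.1 1 0 • y ∧ g ⊳ y = M.1 0 1 • z + M.1 1 1 • y ∧
    ∀ w, f.B z w = 0 → f.B y w = 0 → g ⊳ w = w}
  one_mem' := ⟨1, X.one_mem, by simp, by simp, fun _ _ _ => rfl⟩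
  mul_mem' := by
    rintro M N ⟨g, hg, g1, g2, g3⟩ ⟨h, hh, h1, h2, h3⟩
    refine ⟨g * h, X.mul_mem hg hh, ?_, ?_, fun w a b => by rw [isom_mul_apply, h3 w a b, g3 w a b]⟩
    · simp only [isom_mul_apply, h1, map_add, map_smul, g1, g2, Matrix.SpecialLinearGroup.coe_mul,
        Matrix.mul_apply, Fin.sum_univ_two]; module
    · simp only [isom_mul_apply, h2, map_add, map_smul, g1, g2, Matrix.SpecialLinearGroup.coe_mul,
        Matrix.mul_apply, Fin.sum_univ_two]; module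
  inv_mem' := by
    rintro M ⟨g, hg, g1, g2, g3⟩
    have hd := CA.SL2Basic.det_eq M
    have key : ∀ {a b : V}, g ⊳ a = b → (g⁻¹ : f.Isom) ⊳ b = a := fun e => by
      rw [← e, isom_inv_apply_apply]
    refine ⟨g⁻¹, X.inv_mem hg, key ?_, key ?_, fun w a b => key (g3 w a b)⟩
    · simp only [Matrix.SpecialLinearGroup.SL2_inv_expl, map_add, map_smul, g1, g2]
      simp only [Matrix.cons_val', Matrix.cons_val_zero, Matrix.cons_val_one,
        Matrix.cons_val_fin_one]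
      match_scalars
      · linear_combination hd
      · ring
    · simp only [Matrix.SpecialLinearGroup.SL2_inv_expl, map_add, map_smul, g1, g2]
      simp only [Matrix.cons_val', Matrix.cons_val_zero, Matrix.cons_val_one,
        Matrix.cons_val_fin_one]
      match_scalars
      · ring
      · linear_combination hd

theorem neg_plane [Finite F] (h2 : (2 : F) ≠ 0) {a b : F} (ha : Tr X a z) (hb : Tr X b y)
    (a0 : a ≠ 0) (b0 : b ≠ 0) (hB : f.B z y ≠ 0) :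
    ∃ g ∈ X, g ⊳ z = -z ∧ g ⊳ y = -y ∧ ∀ w, f.B z w = 0 → f.B y w = 0 → g ⊳ w = w := by
  obtain ⟨p, hp⟩ := CharP.exists F
  have := Fact.mk (CharP.char_is_prime F p)
  have p2 : p ≠ 2 := by rintro rfl; exact h2 (CharP.cast_eq_zero F 2)
  obtain ⟨A, eA⟩ : ∃ A : F → SL(2, F), ∀ t, (A t).1 = !![1, t; 0, 1] :=
    ⟨fun t => ⟨!![1, t; 0, 1], by simp⟩, fun _ => rfl⟩
  obtain ⟨B, eB⟩ : ∃ B : F → SL(2, F), ∀ t, (B t).1 = !![1, 0; t, 1] :=
    ⟨fun t => ⟨!![1, 0; t, 1], by simp⟩, fun _ => rfl⟩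
  have hA : ∀ t (n : ℕ), (A t ^ n).1 = !![1, n * t; 0, 1] := fun t n => by
    induction n with
    | zero => simp [Matrix.one_fin_two]
    | succ n ih => rw [pow_succ, Matrix.SpecialLinearGroup.coe_mul, ih, eA]; simp; ring_nf
  have hB' : ∀ t (n : ℕ), (B t ^ n).1 = !![1, 0; n * t, 1] := fun t n => by
    induction n with
    | zero => simp [Matrix.one_fin_two]
    | succ n ih => rw [pow_succ, Matrix.SpecialLinearGroup.coe_mul, ih, eB]; simp; ring_nf
  obtain ⟨s, hs, es⟩ := ha.act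
  obtain ⟨t, ht, et⟩ := hb.act
  have m1 : A (-(k.ε * a * f.B z y)) ∈ plane X z y := ⟨s, hs, by
    simp [eA, es, f.B_self_of_Q ha.Q], by simp [eA, es]; abel, fun w h1 _ => by simp [es, h1]⟩
  have m2 : B (-(k.ε * b * f.B y z)) ∈ plane X z y := ⟨t, ht, by
    simp [eB, et]; abel, by simp [eB, et, f.B_self_of_Q hb.Q], fun w _ h1 => by simp [et, h1]⟩
  obtain ⟨L, hL, ⟨e⟩⟩ := CA.SL2Dickson.exists_sl2p p p2 (plane X z y) m1 m2 (m := 1) (n := 1)
    (Subtype.ext (by rw [pow_one, hA]; simp [Matrix.one_fin_two]))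
    (Subtype.ext (by rw [pow_one, hB']; simp [Matrix.one_fin_two]))
    (fun e => by
      have := congrArg (fun M : SL(2, F) => M.1 0 0) e
      simp [eA, eB, k.ε_ne_zero, a0, b0, hB] at this
      exact hB (f.eq_zero_symm this))
  have z2 : (2 : ZMod p) ≠ 0 := fun e => p2 ((Nat.prime_dvd_prime_iff_eq this.out Nat.prime_two).1
    ((ZMod.natCast_eq_zero_iff 2 p).1 (by simpa using e)))
  have o2 : orderOf ((e.symm (-1) : L) : SL(2, F)) = 2 := by
    rw [Subgroup.orderOf_coe, MulEquiv.orderOf_eq, CA.SL2Basic.orderOf_neg_one z2]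
  obtain ⟨g, hg, g1, g2, g3⟩ := hL (e.symm (-1)).2
  rw [CA.SL2Basic.eq_neg_one_of_orderOf h2 _ o2] at g1 g2
  exact ⟨g, hg, by simpa using g1, by simpa using g2, g3⟩

theorem Tr.zsmul {c : F} (h : Tr X c z) (n : ℤ) : Tr X (n * c) z := by
  induction n using Int.induction_on with
  | zero => simpa using tr_zero h.Q
  | succ n ih => simpa [add_mul] using ih.add h
  | pred n ih => simpa [sub_mul, sub_eq_add_neg, add_mul] using ih.add h.neg

theorem dec3 {d : V} (h : f.IsHyp z y) (hW : ∀ w, f.B z w = 0 → f.B y w = 0 → ∃ a : F, w = a • d)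
    (v : V) : ∃ a b c : F, v = a • z + b • y + c • d := by
  obtain ⟨w, hw, e⟩ := h.exists_decomp v
  obtain ⟨a, rfl⟩ := hW w (f.mem_perp_span_pair.1 hw).1 (f.mem_perp_span_pair.1 hw).2
  exact ⟨_, _, _, e⟩

theorem ext3 {d : V} (h : f.IsHyp z y) (hW : ∀ w, f.B z w = 0 → f.B y w = 0 → ∃ a : F, w = a • d)
    {g g' : f.Isom} (e1 : g ⊳ z = g' ⊳ z) (e2 : g ⊳ y = g' ⊳ y) (e3 : g ⊳ d = g' ⊳ d) : g = g' :=
  f.isom_ext fun v => by
    obtain ⟨a, b, c, rfl⟩ := dec3 h hW v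
    simp only [map_add, map_smul, e1, e2, e3]

theorem cube_zero {a b c : V} (hv : ∀ v, ∃ r s t : F, v = r • a + s • b + t • c)
    {m₁ m₂ m₃ m₄ m₅ m₆ m₇ m₈ m₉ : F} (ha : u ⊳ a = m₁ • a + m₄ • b + m₇ • c)
    (hb : u ⊳ b = m₂ • a + m₅ • b + m₈ • c) (hc : u ⊳ c = m₃ • a + m₆ • b + m₉ • c)
    (t1 : m₁ + m₅ + m₉ = 3)
    (t2 : m₁ * m₅ - m₂ * m₄ + (m₁ * m₉ - m₃ * m₇) + (m₅ * m₉ - m₆ * m₈) = 3)
    (t3 : m₁ * (m₅ * m₉ - m₆ * m₈) - m₂ * (m₄ * m₉ - m₆ * m₇) + m₃ * (m₄ * m₈ - m₅ * m₇) = 1) :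
    NN u ^ 3 = 0 := by
  refine LinearMap.ext fun v => ?_
  obtain ⟨r, s, t, rfl⟩ := hv v
  have e : ∀ v, (NN u ^ 3) v = NN u (NN u (NN u v)) := fun v => by simp [pow_succ]
  have e1 : (NN u ^ 3) a = 0 := by
    simp only [e, NN_apply, map_sub, map_add, map_smul, ha, hb, hc]
    match_scalars
    · linear_combination (m₁ * m₁ + m₂ * m₄ + m₃ * m₇) * t1 - m₁ * t2 + t3
    · linear_combination (m₄ * m₁ + m₅ * m₄ + m₆ * m₇) * t1 - m₄ * t2
    · linear_combination (m₇ * m₁ + m₈ * m₄ + m₉ * m₇) * t1 - m₇ * t2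
  have e2 : (NN u ^ 3) b = 0 := by
    simp only [e, NN_apply, map_sub, map_add, map_smul, ha, hb, hc]
    match_scalars
    · linear_combination (m₁ * m₂ + m₂ * m₅ + m₃ * m₈) * t1 - m₂ * t2
    · linear_combination (m₄ * m₂ + m₅ * m₅ + m₆ * m₈) * t1 - m₅ * t2 + t3
    · linear_combination (m₇ * m₂ + m₈ * m₅ + m₉ * m₈) * t1 - m₈ * t2
  have e3 : (NN u ^ 3) c = 0 := by
    simp only [e, NN_apply, map_sub, map_add, map_smul, ha, hb, hc]
    match_scalars
    · linear_combination (m₁ * m₃ + m₂ * m₆ + m₃ * m₉) * t1 - m₃ * t2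
    · linear_combination (m₄ * m₃ + m₅ * m₆ + m₆ * m₉) * t1 - m₆ * t2
    · linear_combination (m₇ * m₃ + m₈ * m₆ + m₉ * m₉) * t1 - m₉ * t2 + t3
  simp [e1, e2, e3]

end Gen

section Herm
variable {F : Type*} [Field F] [Finite F] {s : F →+* F} {hs : ∀ a, s (s a) = a}
  {V : Type uu} [AddCommGroup V] [Module F V] [FiniteDimensional F V]
  {f : Form (Kind.herm s hs) V} {X : Subgroup f.Isom}

local notation:75 g:76 " ⊳ " v:75 => (g : V ≃ₗ[F] V) v

theorem frame3 (hne : s ≠ RingHom.id F) (hf : f.Nondeg) (h3 : finrank F V = 3) {θ : F} (h0 : θ ≠ 0)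
    (hθ : s θ = θ) : ∃ z y d : V, f.IsHyp z y ∧ f.B z d = 0 ∧ f.B y d = 0 ∧ f.Q d = θ ∧
      ∀ w, f.B z w = 0 → f.B y w = 0 → ∃ a : F, w = a • d := by
  obtain ⟨z, y, h, hW⟩ := herm_hyp hne hf (n := 1) h3
  obtain ⟨d, hd, e⟩ := f.herm_exists_Q_eq hne (hf.disjoint_perp_perp h.isCompl.disjoint)
    (fun e => by rw [e] at hW; simp at hW) hθ
  rw [mem_perp_span_pair] at hd
  exact ⟨z, y, d, h, hd.1, hd.2, e, line_of_three h h3 hd.1 hd.2 fun e' => h0 (by rw [← e, e', Q_zero])⟩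

theorem Tgrp_of_prime (hP : ∀ a, s a = a → ∃ n : ℤ, a = n) {c : F} {p : V} (h : Tr X c p)
    (c0 : c ≠ 0) : f.Tgrp p ≤ X := by
  rw [Tgrp_le_iff h.Q]
  intro c' hc'
  have e1 := σ_of_π hc'
  have e2 := σ_of_π h.π
  simp only [Kind.herm_σ, Kind.herm_ε, one_mul] at e1 e2
  obtain ⟨n, hn⟩ := hP (c' / c) (by rw [map_div₀, e1, e2, neg_div_neg_eq])
  have := h.zsmul n
  rwa [← hn, div_mul_cancel₀ _ c0] at this

theorem u3_even (hne : s ≠ RingHom.id F) (hf : f.Nondeg) (h3 : finrank F V = 3) (h2 : (2 : F) = 0)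
    {μ : F} (μ0 : μ ≠ 0) (μ1 : μ ≠ 1) (hμ : s μ = μ) :
    ∃ u : f.Isom, IsNilpotent (NN u) ∧ NN u ^ 2 ≠ 0 ∧ ∃ g ∈ f.SIsom,
      ∀ X : Subgroup f.Isom, u ∈ X → g * u * g⁻¹ ∈ X → f.Eich ≤ X := by
  obtain ⟨z, y, d, h, d1, d2, d3, hW⟩ := frame3 hne hf h3 one_ne_zero (map_one s)
  obtain ⟨c, hc⟩ := f.Q_mem d
  have hE : f.EichlerCond z d c := ⟨h.Q_x, d1, hc⟩
  have hr := ru3 h hE d2 (by rw [herm_B_self, d3]; exact one_ne_zero) hW
  obtain ⟨x, hx, -⟩ := CA.SLTv.exists_gen F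
  have πf : ∀ a, s a = a → (Kind.herm s hs).π a = 0 := fun a ha => by
    simp only [Kind.herm_π, ha]; linear_combination a * h2
  have sκ : s (x * s x) = x * s x := by rw [map_mul, hs, mul_comm]
  obtain ⟨b, hb⟩ := herm_hπ hne _ (πf _ sκ)
  obtain ⟨g, hg, hc', eg⟩ := hr.conj_tv hf (f.eichler_apply_self _ _ _ _) h.Q_x h3.ge b
  have wy : (Kind.herm s hs).ε * 1 ^ 2 * (f.B z y * (Kind.herm s hs).σ (f.B z y)) = -1 := by
    simp only [h.B_xy, Kind.herm_ε, map_one]; linear_combination h2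
  obtain ⟨n, hn, n1, n2, n3⟩ := weyl (X := f.Eich) (c := 1)
    ⟨f.eichlerCond_zero h.Q_x (πf 1 (map_one s)), f.eichler_mem_Eich _ _ _ _⟩
    ⟨f.eichlerCond_zero h.Q_y (πf 1 (map_one s)), f.eichler_mem_Eich _ _ _ _⟩ wy
  refine ⟨_, hr.nil, hr.pow_ne' (by omega), n * g, f.Eich_le_SIsom (mul_mem hn hg), fun X hu hg' => ?_⟩
  have sq : ∀ {c' : F} (h' : f.EichlerCond z d c'), f.eichler z d c' h' * f.eichler z d c' h' =
      f.eichler z 0 1 (f.eichlerCond_zero h.Q_x (πf 1 (map_one s))) := fun {c'} h' => by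
    rw [eichler_mul]
    exact f.eichler_congr _ _ rfl (by rw [← two_smul F, h2, zero_smul])
      (by rw [herm_B_self, d3]; linear_combination c' * h2)
  have t1 : Tr X 1 z := ⟨_, sq hE ▸ X.mul_mem hu hu⟩
  rw [show n * g * f.eichler z d c hE * (n * g)⁻¹ = n * (g * f.eichler z d c hE * g⁻¹) * n⁻¹ by group,
    eg] at hg'
  have t2 : Tr X 1 y := by
    have := X.mul_mem hg' hg'
    rw [show ∀ a : f.Isom, n * a * n⁻¹ * (n * a * n⁻¹) = n * (a * a) * n⁻¹ from fun a => by group,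
      eichler_mul, f.eichler_congr _ (hc'.add hE |> fun h => ⟨h.1, d1, by simpa using h.3⟩) rfl
        (zero_add d) rfl, sq, conj_eichler] at this
    have := Tr.of_smul (X := X) (n1 ▸ mem_congr this (map_zero _) rfl) h.Q_y
    simpa [h.B_xy] using this
  obtain ⟨n', hn', m1, m2, m3⟩ := weyl t1 t2 wy
  obtain rfl : n' = n := ext3 h hW (m1.trans n1.symm) (m2.trans n2.symm)
    ((m3 d d1 d2).trans (n3 d d1 d2).symm)
  have t3 : Tr X (x * s x) z := by
    have := X.mul_mem (X.mul_mem (X.mul_mem (X.inv_mem hn') hg') hn') (X.inv_mem hu)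
    simp only [Kind.herm_σ, Kind.herm_ε, one_mul] at hb
    exact ⟨_, (mem_congr (by simpa [mul_assoc] using this) rfl (by simpa using hb)).2⟩
  simp only [h.B_xy, map_one, Kind.herm_ε, mul_one] at n1 n2
  have t4 : Tr X (x * s x) y := by
    have := t3.map hn'
    rw [n1] at this
    convert this.of_smul h.Q_y using 1
    simp
  obtain ⟨a, ha, l, e1, e2⟩ := dihedral h2 t1 t4 one_ne_zero (by simp) (by simp [h.B_xy])
  have t5 : ∀ c, Tr X c z → Tr X (x * s x * c) z := fun c hc => by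
    have := (hc.map ha).map hn'
    rw [e1, map_smul, n2, smul_smul] at this
    convert this.of_smul h.Q_x using 2
    rw [← e2]; simp
  have hT : f.Tgrp z ≤ X := by
    rw [Tgrp_le_iff h.Q_x]
    intro c hc
    have e1 := σ_of_π hc
    obtain ⟨a, rfl⟩ := exists_norm_eq s hs hne c (by
      simp only [Kind.herm_σ, Kind.herm_ε, one_mul] at e1; rw [e1]; linear_combination (-c) * h2)
    by_cases a0 : a = 0
    · simpa [a0] using tr_zero h.Q_x
    obtain ⟨m, hm⟩ := (Submonoid.mem_powers_iff _ _).1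
      (mem_powers_iff_mem_zpowers.2 (hx (Units.mk0 a a0)))
    obtain rfl : a = (x : F) ^ m := by simpa using congrArg Units.val hm.symm
    rw [map_pow, ← mul_pow]
    clear hm a0 e1 hc
    induction m with
    | zero => simpa using t1
    | succ m ih => rw [pow_succ']; exact t5 _ ih
  have hT' : f.Tgrp y ≤ X := by
    have := Tgrp_map hT hn'
    rwa [n1, f.Tgrp_smul (by simp)] at this
  refine herm_U3 hne hf h3 μ0 μ1 hμ h.Q_x h.Q_y (by rw [Q_coe_map, h.Q_y]) hT hT' (Tgrp_map hT' hu)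
    (by simp [h.B_xy]) (by rw [B_fix (f.eichler_apply_self _ _ _ _)]; simp [h.B_xy]) fun hm => ?_
  obtain ⟨a, b, hm⟩ := Submodule.mem_span_pair.1 hm
  have := congrArg (f.B d) hm
  simp [eichler_apply, f.eq_zero_symm d1, f.eq_zero_symm d2, h.B_xy, herm_B_self, d3] at this

theorem u3_three (hne : s ≠ RingHom.id F) (hf : f.Nondeg) (h3 : finrank F V = 3) (c3 : (3 : F) = 0)
    {i : F} (hi : i * i = -1) (si : s i = -i) (hP : ∀ a, s a = a → ∃ n : ℤ, a = n) :
    ∃ u : f.Isom, IsNilpotent (NN u) ∧ NN u ^ 2 ≠ 0 ∧ ∃ g ∈ f.SIsom,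
      ∀ X : Subgroup f.Isom, u ∈ X → g * u * g⁻¹ ∈ X → f.Eich ≤ X := by
  obtain ⟨z, y, d, h, d1, d2, d3, hW⟩ := frame3 hne hf h3 one_ne_zero (map_one s)
  have i0 : i ≠ 0 := fun e => by simp [e] at hi
  have hE : f.EichlerCond z d (-1 - i) := ⟨h.Q_x, d1, by simp [d3, si]; grind⟩
  have hE' : f.EichlerCond y (-i • d) (-1 + i) := ⟨h.Q_y, by simp [d2], by
    simp [herm_Q_smul, d3, si]; grind⟩
  have dd : f.B d d = 1 := by rw [herm_B_self, d3]
  have hr := ru3 h hE d2 (by rw [dd]; exact one_ne_zero) hW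
  obtain ⟨g, hg, hc', eg⟩ := hr.conj_tv hf (f.eichler_apply_self _ _ _ _) h.Q_x h3.ge i
  obtain ⟨n, hn, n1, n2, n3⟩ := h.exists_weyl (c := -i) (neg_ne_zero.2 i0) (by simp [si])
  have hn' : n ∈ f.Eich := sup_le ((f.Tgrp_le_Qgrp _).trans (f.Qgrp_le_Eich _))
    ((f.Tgrp_le_Qgrp _).trans (f.Qgrp_le_Eich _)) hn
  have n1' : n ⊳ z = i • y := by rw [n1]; congr 1; simp only [Kind.herm_ε]; field_simp; grind
  refine ⟨_, hr.nil, hr.pow_ne' (by omega), n * g, f.Eich_le_SIsom (mul_mem hn' hg), fun X hu hg' => ?_⟩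
  rw [show n * g * f.eichler z d _ hE * (n * g)⁻¹ = n * (g * f.eichler z d _ hE * g⁻¹) * n⁻¹ by group,
    eg, eichler_mul, conj_eichler] at hg'
  have hu' : f.eichler y (-i • d) (-1 + i) hE' ∈ X := by
    convert hg' using 1
    refine f.isom_ext fun v => ?_
    simp only [eichler_apply, n1', zero_add, n3 d d1 d2, B_smul_left, Kind.herm_σ, Kind.herm_ε, si,
      map_neg, B_zero_left]
    match_scalars <;> grind
  set u := f.eichler z d _ hE with hu0
  set u' := f.eichler y (-i • d) (-1 + i) hE' with hu0'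
  have zz := h.B_xx
  have yy := h.B_yy
  have zy := h.B_xy
  have yz : f.B y z = 1 := h.B_yx
  have dz := f.eq_zero_symm d1
  have dy := f.eq_zero_symm d2
  obtain ⟨p, hp⟩ : ∃ p, p = (1 - i) • z - d - i • y := ⟨_, rfl⟩
  have Qp : f.Q p = 0 := by
    rw [← herm_B_self, hp]; simp [zz, yy, zy, yz, dz, dy, d1, d2, dd, si]; grind
  have t1 : Tr X i p := ⟨f.eichlerCond_zero Qp (by simp [si]), by
    convert X.mul_mem (X.mul_mem hu hu') (X.mul_mem hu hu') using 1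
    refine ext3 h hW ?_ ?_ ?_ <;>
    · simp only [hp, hu0, hu0', isom_mul_apply, eichler_apply, map_add, map_sub, map_smul, B_smul_left,
        B_sub_left, B_zero_left, zz, yy, zy, yz, dz, dy, d1, d2, dd, Kind.herm_σ, Kind.herm_ε, si,
        map_neg, map_one, smul_eq_mul, smul_zero]
      match_scalars <;> grind⟩
  have hT := Tgrp_of_prime hP t1 i0
  refine herm_U3 hne hf h3 (μ := -1) (by simp) (by grind) (by simp) Qp (by rw [Q_coe_map, Qp])
    (by rw [Q_coe_map, Q_coe_map, Qp]) hT (Tgrp_map hT hu) (Tgrp_map (Tgrp_map hT hu) hu) ?_ ?_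
    (notMem_pair (r := 0) ?_ (pow_of_le hr.nil h3.le _))
  · simp [hp, hu0, eichler_apply, zz, yy, zy, yz, dz, dy, d1, d2, dd, si]; grind
  · simp [hp, hu0, eichler_apply, zz, yy, zy, yz, dz, dy, d1, d2, dd, si]; grind
  · intro e
    have := congrArg (f.B y) e
    simp [pow_succ, NN_apply, hp, hu0, eichler_apply, zz, yy, zy, yz, dz, dy, d1, d2, dd, si] at this
    grind

end Herm

end CA.H12Ru
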