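import Cfsg.Agent.Lib.Lin.H12Ru5

/-! Three-dimensional unitary groups in odd characteristic: two regular unipotent generators. -/

set_option autoImplicit false
set_option linter.unusedSectionVars false

namespace CA.H12Ru

open Module CA.CForm CA.CForm.Form

universe uu

section Gen
variable {F : Type*} [Field F] {k : Kind F} {V : Type*} [AddCommGroup V] [Module F V]
  {f : Form k V} [FiniteDimensional F V]

theorem inv_trick (hf : f.Nondeg) (hp : f.Prim) (hperf : f.Eich ≤ ⁅f.Eich, f.Eich⁆) {u r : f.Isom}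
    (hr : r * r = 1) (hu : u ∉ f.scalars) (H : ∀ X : Subgroup f.Isom, u ∈ X → r ∈ X → f.Eich ≤ X)
    (X : Subgroup f.Isom) (h1 : u ∈ X) (h2 : r * u * r⁻¹ ∈ X) : f.Eich ≤ X := by
  have hY : u ∈ X ⊓ X.comap (MulAut.conj r).toMonoidHom := ⟨h1, h2⟩
  refine (hf.Eich_le_of_normalizes hp hperf (N := X ⊓ X.comap (MulAut.conj r).toMonoidHom)
    (H _ (Subgroup.le_normalizer hY) ?_) fun h => hu (h hY)).trans inf_le_left
  rw [Subgroup.mem_normalizer_iff]
  intro g
  have : r * (r * g * r⁻¹) * r⁻¹ = g := by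
    rw [show r * (r * g * r⁻¹) * r⁻¹ = r * r * g * (r * r)⁻¹ by group, hr]; simp
  change (g ∈ X ∧ r * g * r⁻¹ ∈ X) ↔ (r * g * r⁻¹ ∈ X ∧ r * (r * g * r⁻¹) * r⁻¹ ∈ X)
  rw [this, and_comm]

theorem odd_params {F : Type*} [Field F] (s : F →+* F) (h2 : (2 : F) ≠ 0) {e : F} (he : e * s e = 1)
    (hs : s (s e) = e) (e1 : e ≠ -1) (e2 : e * e ≠ -1) (e3 : e ^ 3 ≠ 1) :
    ∃ c α G κ : F, s c = -c ∧ c ≠ 0 ∧ s α = α ∧ s G = G ∧ G ≠ 0 ∧ s κ = κ ∧ κ * (2 * α + G) = 2 ∧
      -e + κ * α * e - κ * c * e + (-e + κ * α * e) + (-s e ^ 2 + κ * G * s e ^ 2) = 3 := by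
  have e0 : e ≠ 0 := left_ne_zero_of_mul_eq_one he
  have se : s e = e⁻¹ := eq_inv_of_mul_eq_one_right he
  have a1 : e - 1 ≠ 0 := fun h => e3 (by rw [sub_eq_zero.1 h, one_pow])
  have a2 : e + 1 ≠ 0 := fun h => e1 (eq_neg_of_add_eq_zero_left h)
  have a3 : e ^ 2 + e + 1 ≠ 0 := fun h => e3 (by linear_combination (e - 1) * h)
  have a4 : e + s e ≠ 0 := fun h => e2 (by linear_combination e * h - he)
  have sx : s (e + s e) = e + s e := by rw [map_add, hs, add_comm]
  have hD : 2 * (((e + s e) ^ 3 - 6 * (e + s e) - 4) / 2) + (e + s e) ^ 3 =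
      2 * s e ^ 3 * (e - 1) ^ 2 * (e ^ 2 + e + 1) ^ 2 := by rw [se]; field_simp; ring
  have D0 : 2 * (((e + s e) ^ 3 - 6 * (e + s e) - 4) / 2) + (e + s e) ^ 3 ≠ 0 := by
    rw [hD, se]; simp [h2, e0, a1, a3]
  have sα : s (((e + s e) ^ 3 - 6 * (e + s e) - 4) / 2) = ((e + s e) ^ 3 - 6 * (e + s e) - 4) / 2 := by
    simp only [map_div₀, map_sub, map_pow, map_mul, sx, map_ofNat]
  refine ⟨s e ^ 3 + 3 * s e ^ 2 + 3 * s e - 3 * e - 3 * e ^ 2 - e ^ 3,
    ((e + s e) ^ 3 - 6 * (e + s e) - 4) / 2, (e + s e) ^ 3, 2 / _, ?_, ?_, sα, by rw [map_pow, sx],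
    pow_ne_zero _ a4, ?_, div_mul_cancel₀ _ D0, ?_⟩
  · simp only [map_sub, map_add, map_pow, map_mul, hs, map_ofNat]; ring
  · rw [show s e ^ 3 + 3 * s e ^ 2 + 3 * s e - 3 * e - 3 * e ^ 2 - e ^ 3 =
      -(s e ^ 3 * (e - 1) * (e + 1) ^ 3 * (e ^ 2 + e + 1)) by rw [se]; field_simp; ring, se]
    simp [e0, a1, a2, a3]
  · rw [map_div₀, map_add, map_mul, sα, map_pow, sx, map_ofNat]
  · have := div_mul_cancel₀ (2 : F) D0
    generalize 2 / (2 * (((e + s e) ^ 3 - 6 * (e + s e) - 4) / 2) + (e + s e) ^ 3) = κ at this ⊢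
    have key : 2 * (2 * (((e + s e) ^ 3 - 6 * (e + s e) - 4) / 2) * e - (s e ^ 3 + 3 * s e ^ 2 +
        3 * s e - 3 * e - 3 * e ^ 2 - e ^ 3) * e + (e + s e) ^ 3 * s e ^ 2) =
        (2 * (((e + s e) ^ 3 - 6 * (e + s e) - 4) / 2) + (e + s e) ^ 3) * (2 * e + s e ^ 2 + 3) := by
      rw [se]; field_simp; ring
    exact mul_left_cancel₀ h2 (by linear_combination κ * key + (2 * e + s e ^ 2 + 3) * this)

end Gen

section Herm
variable {F : Type*} [Field F] [Finite F] {s : F →+* F} {hs : ∀ a, s (s a) = a}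
  {V : Type uu} [AddCommGroup V] [Module F V] [FiniteDimensional F V]
  {f : Form (Kind.herm s hs) V}

local notation:75 g:76 " ⊳ " v:75 => (g : V ≃ₗ[F] V) v

theorem u3_odd (hne : s ≠ RingHom.id F) (hf : f.Nondeg) (h3 : finrank F V = 3) (h2 : (2 : F) ≠ 0)
    {e : F} (he : e * s e = 1) (e1 : e ≠ -1) (e2 : e * e ≠ -1) (e3 : e ^ 3 ≠ 1) {n : ℕ}
    (en : e ^ n = 1) (n1 : (n : F) = 1)
    (H : (∀ S : Subring F, s e ^ 3 ∈ S → S = ⊤) ∨ ∀ a, s a = a → ∃ n : ℤ, a = n) :
    ∃ u : f.Isom, IsNilpotent (NN u) ∧ NN u ^ 2 ≠ 0 ∧ ∃ g ∈ f.SIsom,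
      ∀ X : Subgroup f.Isom, u ∈ X → g * u * g⁻¹ ∈ X → f.Eich ≤ X := by
  obtain ⟨c, α, G, κ, sc, c0, sα, sG, G0, sκ, hκ, t1⟩ := odd_params s h2 he (hs e) e1 e2 e3
  obtain ⟨p, p', w, h, d1, d2, d3, hW⟩ := frame3 hne hf h3 G0 sG
  have e0 : e ≠ 0 := left_ne_zero_of_mul_eq_one he
  have κ0 : κ ≠ 0 := fun h => h2 (by rw [← hκ, h, zero_mul])
  have e3' : s e ^ 3 ≠ 1 := fun h => e3 (by rw [← hs e, ← map_pow, h, map_one])
  have pp := h.B_xx
  have qq := h.B_yy
  have pq := h.B_xy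
  have qp : f.B p' p = 1 := h.B_yx
  have wp := f.eq_zero_symm d1
  have wq := f.eq_zero_symm d2
  have ww : f.B w w = G := by rw [herm_B_self, d3]
  have πc : (Kind.herm s hs).π c = 0 := by simp [sc]
  obtain ⟨r, r1, r2, r3⟩ : ∃ r : f.Isom, r ⊳ p = e • p ∧ r ⊳ p' = e • p' ∧ r ⊳ w = s e ^ 2 • w := by
    have hq : f.QreflCond w ((s e ^ 2 - 1) / G) := by
      simp only [QreflCond, d3, Kind.herm_σ, Kind.herm_ε, Kind.herm_π, one_mul, map_div₀, map_sub,
        map_pow, hs, sG, map_one]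
      field_simp
      linear_combination (e * s e + 1) * he
    refine ⟨h.torus (Units.mk0 e e0) * f.qrefl w _ hq, ?_, ?_, ?_⟩
    · rw [isom_mul_apply, qrefl_apply_of_B _ _ _ _ wp, h.torus_apply_x]; rfl
    · rw [isom_mul_apply, qrefl_apply_of_B _ _ _ _ wq, h.torus_apply_y]
      simp [(eq_inv_of_mul_eq_one_left he).symm]
    · rw [isom_mul_apply, qrefl_apply, map_add, map_smul, h.torus_apply_of_B _ d1 d2, ww]
      match_scalars; field_simp; ring
  obtain ⟨ρ, ρS, ρ2, ρ1⟩ : ∃ ρ ∈ f.SIsom, ρ * ρ = 1 ∧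
      ∀ v, ρ ⊳ v = -v + (κ * f.B (α • p + p' + w) v) • (α • p + p' + w) := by
    have ee : f.B (α • p + p' + w) (α • p + p' + w) = 2 * α + G := by
      simp [pp, qq, pq, qp, wp, wq, ww, d1, d2, sα]; ring
    have hq : f.QreflCond (α • p + p' + w) (-κ) := by
      simp only [QreflCond, ← herm_B_self, ee, Kind.herm_σ, Kind.herm_ε, Kind.herm_π, one_mul,
        map_neg, sκ]
      linear_combination κ * hκ
    have ha : ∀ v, (f.scalarIsom (-1) (by simp) * f.qrefl _ _ hq : f.Isom) ⊳ v =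
        -v + (κ * f.B (α • p + p' + w) v) • (α • p + p' + w) := fun v => by
      rw [isom_mul_apply, qrefl_apply, scalarIsom_apply]; module
    refine ⟨_, ?_, f.isom_ext fun v => ?_, ha⟩
    · rw [mem_SIsom, map_mul, ← Units.val_eq_one, Units.val_mul, detHom_qrefl,
        f.detHom_of_smul (f.scalarIsom_apply _ _), h3, ee]
      linear_combination hκ
    · rw [isom_mul_apply, ha, ha, map_add, map_neg, map_smul, ee]
      change _ = v
      generalize α • p + p' + w = x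
      match_scalars
      · ring
      · linear_combination κ * f.B x v * hκ
  have hE : f.EichlerCond p 0 c := f.eichlerCond_zero h.Q_x πc
  obtain ⟨σ, hσ⟩ : ∃ σ, σ = r * f.eichler p 0 c hE := ⟨_, rfl⟩
  have s1 : σ ⊳ p = e • p := by rw [hσ, isom_mul_apply, eichler_apply_self, r1]
  have s2 : σ ⊳ p' = e • (p' - c • p) := by
    simp only [hσ, isom_mul_apply, eichler_apply, pq, map_sub, map_add, map_smul, r1, r2]
    simp; module
  have s3 : σ ⊳ w = s e ^ 2 • w := by simp [hσ, eichler_apply, d1, r3]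
  have v1 : ρ ⊳ p = (κ * α - 1) • p + κ • p' + κ • w := by simp [ρ1, pp, qp, wp]; module
  have v2 : ρ ⊳ p' = (κ * α * α) • p + (κ * α - 1) • p' + (κ * α) • w := by
    simp [ρ1, pq, qq, wq, sα]; module
  have v3 : ρ ⊳ w = (κ * G * α) • p + (κ * G) • p' + (κ * G - 1) • w := by
    simp [ρ1, d1, d2, ww]; module
  have u1 : (σ * ρ : f.Isom) ⊳ p =
      (-e + κ * α * e - κ * c * e) • p + (κ * e) • p' + (κ * s e ^ 2) • w := by
    simp only [isom_mul_apply, v1, map_add, map_smul, s1, s2, s3]; module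
  have u2 : (σ * ρ : f.Isom) ⊳ p' = (e * c + κ * α * (α * e - c * e)) • p + (-e + κ * α * e) • p' +
      (κ * α * s e ^ 2) • w := by
    simp only [isom_mul_apply, v2, map_add, map_smul, s1, s2, s3]; module
  have u3 : (σ * ρ : f.Isom) ⊳ w = (κ * G * (α * e - c * e)) • p + (κ * G * e) • p' +
      (-s e ^ 2 + κ * G * s e ^ 2) • w := by
    simp only [isom_mul_apply, v3, map_add, map_smul, s1, s2, s3]; module
  have t2 := congrArg s t1
  simp only [map_add, map_sub, map_mul, map_neg, map_pow, hs, sc, sα, sG, sκ, map_ofNat] at t2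
  have N3 := cube_zero (dec3 h hW) u1 u2 u3 t1 (by
    linear_combination t2 + (2 * s e - 2 * κ * G * s e - 2 * κ * α * s e + κ * c * s e) * he -
      (e ^ 2 + 2 * s e) * hκ) (by linear_combination (e * s e + 1) * he + (e * s e) ^ 2 * hκ)
  have N2 : NN (σ * ρ) ^ 2 ≠ 0 := fun hN => by
    have := congrArg (fun A : End F V => f.B w (A p)) hN
    simp only [pow_two, End.mul_apply, NN_apply, map_sub, map_add, map_smul, u1, u2, u3, wp, wq, ww,
      smul_eq_mul, LinearMap.zero_apply, map_zero] at this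
    have : G * κ * s e ^ 2 * (e + 1) = 0 := by linear_combination this - G * κ * s e ^ 2 * t1
    simp [G0, κ0, e0] at this
    exact e1 (eq_neg_of_add_eq_zero_left this)
  refine ⟨σ * ρ, ⟨3, N3⟩, N2, ρ, ρS, inv_trick hf (herm_prim hne f) (hf.herm_Eich_perfect hne
    (.inr ⟨h3, e, e0, fun h => e3 (by linear_combination (-e ^ 2) * h + (e * s e + 1) * he)⟩)) ρ2 ?_ fun X hu hρ => ?_⟩
  · rintro ⟨a, ha⟩
    have := congrArg (f.B p) (u1.symm.trans (ha p))
    simp [pp, pq, d1, κ0, e0] at this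
  have hσX : σ ∈ X := by simpa using X.mul_mem hu (X.inv_mem hρ)
  have sj : ∀ j : ℕ, (σ ^ j : f.Isom) ⊳ p = e ^ j • p ∧
      (σ ^ j : f.Isom) ⊳ p' = e ^ j • (p' - (j * c) • p) ∧
      (σ ^ j : f.Isom) ⊳ w = (s e ^ j) ^ 2 • w := fun j => by
    induction j with
    | zero => simp
    | succ j ih =>
      simp only [pow_succ' σ, isom_mul_apply, ih, map_smul, map_sub, s1, s2, s3]
      refine ⟨?_, ?_, ?_⟩ <;> match_scalars <;> ring
  have ht : f.eichler p 0 c hE ∈ X := by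
    convert X.pow_mem hσX n using 1
    have := sj n
    rw [← map_pow, en, n1, map_one] at this
    generalize σ ^ n = τ at this
    refine ext3 h hW ?_ ?_ ?_ <;> simp [this, eichler_apply, pp, pq, d1]
  have hr : r ∈ X := by simpa [hσ] using X.mul_mem hσX (X.inv_mem ht)
  have T1 : Tr X c p := ⟨_, ht⟩
  have T2 := T1.map hρ
  have pv : f.B p (ρ ⊳ p) ≠ 0 := by simp [v1, pp, pq, d1, κ0]
  rcases H with H | H
  swap
  · refine herm_U3 hne hf h3 (μ := -1) (by simp) (fun h => h2 (by linear_combination -h)) (by simp)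
      T1.Q T2.Q (T2.map hr).Q (Tgrp_of_prime H T1 c0) (Tgrp_of_prime H T2 c0)
      (Tgrp_of_prime H (T2.map hr) c0) pv (by simp [v1, r1, r2, r3, pp, pq, d1, κ0, e0]) fun hm => ?_
    obtain ⟨a, b, hm⟩ := Submodule.mem_span_pair.1 hm
    have m1 := congrArg (f.B p) hm
    have m2 := congrArg (f.B w) hm
    simp [v1, r1, r2, r3, pp, pq, d1, wp, wq, ww, κ0, G0] at m1 m2
    exact e3 (by grind)
  obtain ⟨ι, hι, i1, i2, i3⟩ := neg_plane h2 T1 T2 c0 c0 pv
  have i4 : ι ⊳ w = w - (2 * G) • p := by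
    have := i3 (w - G • p) (by simp [d1, pp]) (by simp [v1, pp, d1, d2, qp, wp, ww, sκ])
    rw [map_sub, map_smul, i1, sub_eq_iff_eq_add] at this
    rw [this]; module
  have i5 : ι ⊳ p' = -p' - (2 : F) • w + (2 * G) • p := by
    rw [v1, map_add, map_add, map_smul, map_smul, map_smul, i1, i4] at i2
    refine smul_right_injective V κ0 ?_
    simp only
    rw [← sub_eq_zero] at i2 ⊢
    rw [← i2]; module
  have hE' : f.EichlerCond p ((2 : F) • w) (2 * G) := ⟨h.Q_x, by simp [d1], by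
    simp [herm_Q_smul, d3, sG, map_ofNat]; ring⟩
  have l1 : f.Lev X p ((2 : F) • w - (s e ^ 3 * 2) • w) := by
    have m : ι * r * ι⁻¹ * r⁻¹ =
        f.eichler p _ _ hE' * (r * f.eichler p _ _ hE' * r⁻¹)⁻¹ := by
      have m1 : ι = f.eichler p _ _ hE' * h.torus (-1) := by
        refine ext3 h hW ?_ ?_ ?_ <;>
          simp [i1, i4, i5, h.torus_apply_x, h.torus_apply_y, h.torus_apply_of_B _ d1 d2,
            eichler_apply, pp, pq, d1, wp, wq, ww, map_ofNat]
        module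
      have m2 : h.torus (-1) * r = r * h.torus (-1) := by
        refine ext3 h hW ?_ ?_ ?_ <;>
          simp [r1, r2, r3, h.torus_apply_x, h.torus_apply_y, h.torus_apply_of_B _ d1 d2]
      rw [m1, mul_assoc _ _ r, m2]; group
    have hm := X.mul_mem (X.mul_mem (X.mul_mem hι hr) (X.inv_mem hι)) (X.inv_mem hr)
    have hE'' : f.EichlerCond p ((s e ^ 3 * 2) • w) (2 * G) := ⟨h.Q_x, by simp [d1], by
      simp [herm_Q_smul, d3, sG, map_ofNat, hs]
      linear_combination (-4 * G * ((e * s e) ^ 2 + e * s e + 1)) * he⟩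
    have m3 : r * f.eichler p _ _ hE' * r⁻¹ = f.eichler p _ _ hE'' := by
      rw [conj_eichler]
      refine f.isom_ext fun v => ?_
      simp only [eichler_apply, r1, r3, map_smul, B_smul_left, Kind.herm_σ, Kind.herm_ε, map_mul,
        map_pow, hs, map_ofNat]
      match_scalars
      · ring
      · ring
      · linear_combination (-2 * G * f.B p v) * he
    rw [m, m3, eichler_inv, eichler_mul] at hm
    exact ⟨_, mem_congr hm (sub_eq_add_neg _ _).symm rfl⟩
  have hA := mem_of_mulSt (A := levA X h.Q_x w) (a := 2 - s e ^ 3 * 2) (H _ fun a ha => by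
    have := (mem_levA.1 ha).map hr
    rw [r1, map_smul, r3] at this
    convert this.smul_left h.Q_x e0 using 1
    simp only [mem_levA, Kind.herm_σ, smul_smul]
    congr! 2; ring) (by rwa [mem_levA, sub_smul]) fun e => e3' (mul_left_cancel₀ h2 (by linear_combination -e))
  have hL : ∀ x, f.B p x = 0 → f.Lev X p x := fun x hx => by
    obtain ⟨a, b, d, rfl⟩ := dec3 h hW x
    obtain rfl : b = 0 := by simpa [pp, pq, d1] using hx
    simpa using (lev_smul_self h.Q_x a).add (hA d)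
  exact hf.Eich_le_of_Qgrp' (.inl h3.ge) h.Q_x
    (Qgrp_le_of_lev (hf.Tgrp_le_of_lev h3.ge (herm_hπ hne) hL) hL) hρ pv

end Herm

theorem mat_nil {F : Type*} [Field F] {k : Kind F} {ι : Type} [Fintype ι] [DecidableEq ι]
    {f : Form k (ι → F)} {u : f.Isom} {A : Matrix ι ι F} (hA : ∀ v, A.mulVec v = u.1 v)
    (h : IsNilpotent (NN u)) {j : ℕ} (hj : NN u ^ j ≠ 0) :
    IsNilpotent (A - 1) ∧ (A - 1) ^ j ≠ 0 := by
  have e : ∀ j v, ((A - 1) ^ j).mulVec v = (NN u ^ j) v := fun j v => by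
    induction j with
    | zero => simp
    | succ j ih =>
      rw [pow_succ', ← Matrix.mulVec_mulVec, ih, Matrix.sub_mulVec, hA, Matrix.one_mulVec,
        NN_pow_succ, NN_apply]
  obtain ⟨n, hn⟩ := h
  refine ⟨⟨n, matrix_eq_iff_mulVec.2 fun v => by rw [e, hn]; simp⟩, fun e' => hj ?_⟩
  exact LinearMap.ext fun v => by rw [← e, e', Matrix.zero_mulVec]; rfl

theorem closure_top {A G : Type*} [Group A] [Group G] {S : Subgroup G} (e : A ≃* S) {T : Set A}
    (h : ∀ X : Subgroup G, (∀ t ∈ T, (e t).1 ∈ X) → S ≤ X) : Subgroup.closure T = ⊤ := by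
  refine eq_top_iff.2 fun a _ => ?_
  obtain ⟨b, ⟨c, hc, rfl⟩, e'⟩ := h (((Subgroup.closure T).map e.toMonoidHom).map S.subtype)
    (fun t ht => ⟨_, ⟨t, Subgroup.subset_closure ht, rfl⟩, rfl⟩) (e a).2
  rwa [← e.injective (Subtype.ext e')]

section Fin
variable {F : Type*} [Field F] [Fintype F] {q : ℕ} (hF : Fintype.card F = q ^ 2)
  {V : Type uu} [AddCommGroup V] [Module F V] [FiniteDimensional F V] {f : Form (hermKind hF) V}

theorem u3_all (hq : 3 ≤ q) (hf : f.Nondeg) (h3 : finrank F V = 3) :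
    ∃ u : f.Isom, IsNilpotent (NN u) ∧ NN u ^ 2 ≠ 0 ∧ ∃ g ∈ f.SIsom,
      ∀ X : Subgroup f.Isom, u ∈ X → g * u * g⁻¹ ∈ X → f.Eich ≤ X := by
  have hne := conj_ne_id hF
  have q0 : (q : F) = 0 := by
    have := FiniteField.cast_card_eq_zero F
    rw [hF] at this
    exact pow_eq_zero_iff two_ne_zero |>.1 (by exact_mod_cast this)
  by_cases h2 : (2 : F) = 0
  · obtain ⟨μ, h1, μ0, μ1⟩ : ∃ μ : F, μ ^ q = μ ∧ μ ≠ 0 ∧ μ ≠ 1 := by
      by_contra! hc
      have := Set.ncard_le_ncard (s := {x : F | x ^ q = x}) (t := {0, 1})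
        (fun x hx => by by_cases x0 : x = 0 <;> simp [x0, hc x hx]) (Set.toFinite _)
      rw [Set.ncard_pair zero_ne_one] at this
      have h := card_conj_fixed hF
      change Set.ncard {x : F | x ^ q = x} = q at h
      omega
    exact u3_even hne hf h3 h2 μ0 μ1 h1
  obtain ⟨e, he, ho⟩ := exists_norm_gen hF
  have od : ∀ {n}, e ^ n = 1 → q + 1 ∣ n := fun h => ho ▸ orderOf_dvd_of_pow_eq_one h
  have en : e ^ (q + 1) = 1 := ho ▸ pow_orderOf_eq_one e
  obtain rfl | hq := hq.eq_or_lt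
  · have h4 : e * e = -1 := by
      have : (e ^ 2 - 1) * (e * e + 1) = 0 := by linear_combination en
      rcases mul_eq_zero.1 this with h | h
      · exact absurd (od (sub_eq_zero.1 h)) (by norm_num)
      · exact eq_neg_of_add_eq_zero_left h
    refine u3_three hne hf h3 (by exact_mod_cast q0) h4 (by
      rw [CA.CForm.conj_apply]; linear_combination e * h4) fun a ha => ?_
    have : a * (a - 1) * (a + 1) = 0 := by rw [CA.CForm.conj_apply] at ha; linear_combination ha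
    simp only [mul_eq_zero, sub_eq_zero, add_eq_zero_iff_eq_neg] at this
    rcases this with (h | h) | h
    exacts [⟨0, by simp [h]⟩, ⟨1, by simp [h]⟩, ⟨-1, by simp [h]⟩]
  refine u3_odd hne hf h3 h2 he (fun h => ?_) (fun h => ?_) (fun h => ?_) en (by simp [q0]) ?_
  · have := Nat.le_of_dvd two_pos (od (n := 2) (by simp [h])); omega
  · have := Nat.le_of_dvd four_pos (od (n := 4) (by linear_combination (e * e - 1) * h)); omega
  · have := Nat.le_of_dvd three_pos (od h); omega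
  by_cases h5 : q = 5
  · subst h5
    refine .inr fun a ha => ?_
    have : a * (a - 1) * (a + 1) * (a - 2) * (a + 2) = 0 := by
      rw [CA.CForm.conj_apply] at ha; push_cast at q0; linear_combination ha + (a - a ^ 3) * q0
    simp only [mul_eq_zero, sub_eq_zero, add_eq_zero_iff_eq_neg] at this
    rcases this with (((h | h) | h) | h) | h
    exacts [⟨0, by simp [h]⟩, ⟨1, by simp [h]⟩, ⟨-1, by simp [h]⟩, ⟨2, by simp [h]⟩, ⟨-2, by simp [h]⟩]
  refine .inl (gen_of_order (pow_ne_zero _ (right_ne_zero_of_mul_eq_one he)) fun t j ht hj e1 e2 => ?_)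
  have e3 := congrArg (conj hF) (orderOf_dvd_iff_pow_eq_one.1 e2)
  rw [map_pow, map_pow, conj_conj, map_one, ← pow_mul] at e3
  have e4 := od e3
  rw [hF] at e1
  obtain rfl | hj := hj.eq_or_lt
  · obtain rfl : t = q := (Nat.pow_left_injective two_ne_zero) e1
    have : t + 1 ∣ 6 := (Nat.dvd_add_right e4).1 ⟨3, by omega⟩
    have := Nat.le_of_dvd (by norm_num) this
    obtain rfl : t = 4 := by omega
    omega
  have e5 := Nat.le_of_dvd (by omega) e4
  have e6 : t ^ 3 ≤ q ^ 2 := e1 ▸ Nat.pow_le_pow_right (by omega) hj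
  have e7 : (q + 4) ^ 3 ≤ (3 * t) ^ 3 := Nat.pow_le_pow_left (by omega) 3
  have e8 : ((q : ℤ) - 8) ^ 2 * (q + 1) ≤ 0 := by zify at e6 e7; nlinarith
  have : (q : ℤ) - 8 = 0 := by
    by_contra h; exact absurd e8 (not_le.2 (by positivity))
  obtain rfl : q = 8 := by omega
  exact h2 (pow_eq_zero_iff three_ne_zero |>.1 (by push_cast at q0; linear_combination q0))

theorem herm_odd (hf : f.Nondeg) {m : ℕ} (hn : finrank F V = 2 * m + 3) (h32 : ¬(m = 0 ∧ q = 2)) :
    ∃ u : f.Isom, IsNilpotent (NN u) ∧ NN u ^ (2 * m + 2) ≠ 0 ∧ ∃ g ∈ f.SIsom, ∃ h ∈ f.SIsom,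
      ∀ X : Subgroup f.Isom, u ∈ X → g * u * g⁻¹ ∈ X → h * u * h⁻¹ ∈ X → f.Eich ≤ X := by
  have h2 := two_le_of_card_sq hF
  obtain _ | m := m
  · obtain ⟨u, h1, h2, g, hg, H⟩ := u3_all hF (by omega) hf hn
    exact ⟨u, h1, h2, g, hg, g, hg, fun X a b _ => H X a b⟩
  obtain ⟨e, he, ho⟩ := exists_norm_gen hF
  obtain ⟨u, y, g, hg, h, hh, hr, H⟩ := herm_five (conj_ne_id hF) hf (m := m) (by omega) he
    (fun h => by
      have := Nat.le_of_dvd two_pos (ho ▸ orderOf_dvd_of_pow_eq_one (by rwa [pow_two])); omega)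
    (gen_of_order (left_ne_zero_of_mul_eq_one he) fun t j ht hj e1 e2 => by
      have e3 := Nat.le_of_dvd (by omega) (ho ▸ e2)
      have e4 : t ^ 2 ≤ q ^ 2 := hF ▸ e1 ▸ Nat.pow_le_pow_right (by omega) hj
      have := (Nat.pow_le_pow_iff_left two_ne_zero).1 e4
      omega)
  exact ⟨u, hr.nil, hr.pow_ne' (by omega), g, hg, h, hh, H⟩

end Fin

end CA.H12Ru
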