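import Cfsg.Agent.Lib.Lin.H12Ue3
import Cfsg.Agent.Lib.Lin.H12Uu6

/-! Unitary orthogonal decompositions with blocks of dimension at least two. -/

set_option autoImplicit false

namespace CA.MaxGL

open CA.CForm CA.CForm.Form CA.AschFG CA.AschO1 CA.AschProp Cfsg Cfsg.Geo Module

theorem herm_max_decomp2 {ι : Type} [Fintype ι] [DecidableEq ι] {F : Type*} [Field F] [Fintype F]
    {q : ℕ} (hF : Fintype.card F = q ^ 2) {φ : Form (hermKind hF) (ι → F)} (hφ : φ.Nondeg)
    (hG : QS (EG φ)) (hn : 7 ≤ Fintype.card ι) {t k : ℕ} {D : Fin t → Submodule F (ι → F)}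
    (hD : IsNondegenerateMDecomposition (fn φ) k D) (hex : ¬(k = 2 ∧ q = 2))
    (k1 : k ≠ 1) :
    IsMaximalIn (EG φ) (decompositionStabilizer D ⊓ EG φ) := by
  have hne := conj_ne_id hF
  have h1 := hD.decomp.finrank_eq
  have h2 := hD.decomp.pos
  have h4 := decomp_card hD.decomp
  have h := odec hφ hD fun i j => Nondeg.herm_equivalent
    ((φ.nondeg_restrict_iff _).2 (nondegOn_iff.1 (hD.nondegenerate i))) hne
    ((φ.nondeg_restrict_iff _).2 (nondegOn_iff.1 (hD.nondegenerate j))) (by rw [h1, h1])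
  obtain ⟨x, hx0, hx⟩ := herm_exists_singular' hF (f := φ) (by simp; omega)
  refine max_of (not_le_of_tv hφ hG hx hx0 (exists_π_herm hF) hD.decomp) fun X a b =>
    Or.imp_left (fun (h : ∀ g ∈ X, φ.PermD D g) g hg =>
      (mem_comap_decomp hD.decomp).2 (h g hg)) ?_
  have hX : ∀ g ∈ φ.Eich, φ.PermD D g → g ∈ X := fun g hg e =>
    a ⟨(mem_comap_decomp hD.decomp).2 e, hg⟩
  by_cases k4 : 4 ≤ k
  · exact h.max_large hX (iso_herm hne φ) two_pos (fun i => (h1 i).symm ▸ k4)
      fun i => (h.nondeg_restrict i).herm_irrI hne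
  refine h.herm_max_small hX hne (fun i => by rw [h1]; omega) (fun i j => ?_)
    (or_iff_not_imp_right.2 fun k3 => ?_)
  · simpa using exists_notMem_of_lt (s := {i, j}) (Finset.card_le_two.trans_lt (by
      simp only [Fintype.card_fin]; nlinarith))
  · have q2 := two_le_of_card_sq hF
    have : q ≠ 2 := fun e => hex ⟨by_contra fun c => k3 fun i => by rw [h1]; omega, e⟩
    by_contra! H
    classical
    have k := card_conj_fixed hF
    have := Nat.card_le_card_of_injective (fun x : {x : F // x ^ q = x} => decide (x.1 = 0))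
      fun x y e => Subtype.ext (by
        by_cases c : x.1 = 0
        · simp_all
        · have c' : y.1 ≠ 0 := by simpa [c] using e
          rw [by_contra fun k => H _ c k x.2, by_contra fun k => H _ c' k y.2])
    rw [k, Nat.card_eq_fintype_card, Fintype.card_bool] at this
    omega

end CA.MaxGL
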