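import Cfsg.Agent.Lib.Lin.H12Ue7
import Cfsg.Agent.Lib.Lin.H12Ue5

/-! Maximality of `GU₂(q^r).r` in `SU_{2r}(q)`, `r ≥ 5` prime. -/

set_option autoImplicit false
set_option linter.unusedSectionVars false

namespace CA.H12Ue

open Module CA.CForm CA.CForm.Form

variable {F : Type*} [Field F] [Finite F] {σ : F →+* F} {hσ : ∀ a, σ (σ a) = a}
  {V : Type*} [AddCommGroup V] [Module F V] [FiniteDimensional F V]
  {L : Type*} [Field L] [Finite L] [Algebra F L] [Module L V] [IsScalarTower F L V]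
  [FiniteDimensional L V] {s : L →+* L} {hs : ∀ a, s (s a) = a} {θ : L →ₗ[F] F}
  {f : Form (Kind.herm σ hσ) V} {ψ : Form (Kind.herm s hs) V} {X : Subgroup f.Isom} {d : ℕ}
  {x : V}

local notation:75 g:76 " ⊳ " v:75 => (g : V ≃ₗ[F] V) v

namespace UG
variable (h : UG θ f ψ X)
include h

theorem B_left (b : L) (x v : V) : f.B (b • x) v = θ (s b * ψ.B x v) := by
  rw [h.ext.B_eq, B_smul_left]; rfl

theorem qp_conj {g : f.Isom} (hg : g ∈ X) {T T' n : L → L} (hT : ∀ a, g ⊳ (a • x) = T a • x)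
    (hT' : ∀ a β, θ (a * T' β) = θ (s (T (s a)) * β)) (hn : QP ψ X x n) :
    QP ψ X x fun β => T (n (T' β)) := by
  obtain ⟨e, e1, e2⟩ := hn
  refine ⟨_, X.mul_mem (X.mul_mem hg e1) (X.inv_mem hg), fun v => ?_⟩
  have : ψ.B x ((g⁻¹ : f.Isom) ⊳ v) = T' (ψ.B x v) := θ_ext h.cmp.θ0 fun a => by
    rw [hT', ← h.B_left, ← hT, ← hs a, ← h.B_left, ← f.B_coe_map g, isom_apply_inv_apply, hs]
  rw [isom_mul_apply, isom_mul_apply, e2, map_add, isom_apply_inv_apply, hT, this]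

variable (x0 : x ≠ 0) (hx : ψ.Q x = 0)
include x0 hx

theorem tvp_tor {α y w : L} (α0 : α ≠ 0) (hα : Algebra.norm F (α * (s α)⁻¹) = 1)
    (H : TvP θ X x y w) : TvP θ X x (y / α) (α * w) := by
  obtain ⟨t, t1, t2⟩ := h.tor x0 hx α0 hα
  obtain ⟨g, g1, g2⟩ := H
  refine ⟨_, X.mul_mem (X.mul_mem t1 g1) (X.inv_mem t1), fun a => ?_⟩
  have : (t⁻¹ : f.Isom) ⊳ (a • x) = (a / α) • x := (t : V ≃ₗ[F] V).injective (by
    rw [isom_apply_inv_apply, t2, mul_div_cancel₀ _ α0])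
  rw [isom_mul_apply, isom_mul_apply, this, g2, t2, mul_add, mul_div_cancel₀ _ α0, mul_smul_comm,
    div_mul_eq_mul_div, mul_div_assoc]

theorem full {y w : L} (y0 : y ≠ 0) (w0 : w ≠ 0) (H : ∀ c : F, TvP θ X x y (c • w)) (ω p : L) :
    QP ψ X x (EE s θ ω p) := by
  have G : ∀ c, s c = -c → ∀ l : F, QP ψ X x fun β => EE s θ (l • w) (c * s y) β +
      (σ l * l * θ (c * s y * y) * θ (s w * β)) • w := fun c hc l => by
    obtain ⟨g, g1, g2⟩ := H l
    have q : QP ψ X x fun β => c * β := h.tv hx hc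
    refine ((h.qp_conj g1 g2 (T' := fun β => β + θ (s (l • w) * β) • s y) (fun a β => ?_) q).sub
      hx q).congr fun β => ?_
    · simp only [mul_add, add_mul, mul_smul_comm, smul_mul_assoc, map_add, map_smul, h.cmp.sF, hs,
        ← h.cmp.θs, map_mul s, smul_eq_mul]
      ring
    · simp only [EE, mul_add, add_mul, mul_smul_comm, smul_mul_assoc, map_add, map_smul, h.cmp.sF,
        hs, map_mul s, smul_eq_mul, hc, neg_mul, map_neg, mul_right_comm c β y]
      module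
  have G1 : ∀ c, s c = -c → ∀ l : F, QP ψ X x (EE s θ w (l • (c * s y))) := fun c hc l => by
    obtain ⟨η, hη⟩ := Kind.exists_trace_eq σ hσ h.cmp.ne 1 (map_one σ)
    refine ((G c hc (σ l)).sub hx (((G c hc (σ l + σ l * η)).sub hx (G c hc (σ l))).sub hx
      (G c hc (σ l * η)))).congr fun β => ?_
    simp only [EE, add_mul, smul_mul_assoc, map_add, map_smul, h.cmp.sF, hσ, map_mul σ, smul_eq_mul,
      eq_sub_of_add_eq' hη]
    module
  have G2 : ∀ p, QP ψ X x (EE s θ w p) := fun p => by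
    obtain ⟨t, t', η, h1, h2, e⟩ := h.cmp.skew (p / s y)
    rw [div_eq_iff (by simpa using y0)] at e
    refine ((G1 t h1 1).add hx (G1 t' h2 η)).congr fun β => ?_
    simp only [EE, e, add_mul, smul_mul_assoc, map_add, one_smul, smul_add]
    module
  have G3 : ∀ t, s t = t → ∀ p, QP ψ X x (EE s θ (t * w) p) := fun t ht p => by
    by_cases t0 : t = 0
    · exact QP.zero.congr fun β => by simp [EE, t0]
    obtain ⟨g, g1, g2⟩ := h.tor x0 hx t0 (by rw [ht, mul_inv_cancel₀ t0, map_one])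
    refine (h.qp_conj g1 g2 (T' := fun β => t * β) (fun a β => by
      rw [map_mul s, ht, hs]; congr 1; ring) (G2 (p / t))).congr fun β => ?_
    simp only [EE, mul_sub, mul_smul_comm, mul_div_cancel₀ _ t0, map_div₀, map_mul s, ht]
    congr 3
    · ring
    · field_simp
  obtain ⟨t, t', η, h1, h2, e⟩ := h.cmp.real (ω / w)
  rw [div_eq_iff w0] at e
  refine ((G3 t h1 p).add hx (G3 t' h2 (σ η • p))).congr fun β => ?_
  simp only [EE, e, add_mul, smul_mul_assoc, map_add, map_smul, h.cmp.sF, hσ, smul_add, smul_eq_mul]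
  module

theorem hu (H : ∀ ω p, QP ψ X x (EE s θ ω p)) : f.HU ψ X := fun z z0 hz a => by
  have k : ∀ ω p : L, f.Lev X (ω • x) (p • x) := fun ω p => by
    obtain ⟨g, g1, g2⟩ := H ω p
    refine ⟨0, ⟨h.ext.Q_zero _ (ψ.Q_smul_of_Q hx ω), h.ext.B_zero (by simp [ψ.B_self_of_Q hx]),
      by rw [map_zero, h.ext.Q_zero _ (ψ.Q_smul_of_Q hx p)]⟩, ?_⟩
    convert g1 using 1
    refine f.isom_ext fun v => ?_
    rw [g2, eichler_apply, h.B_left, h.B_left, EE, sub_smul, smul_assoc, smul_assoc]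
    simp [add_sub_assoc]
  obtain ⟨e, he, b, b0, e1⟩ := h.ext.nondeg.exists_Eich_smul h.rich hx x0 hz z0
  obtain ⟨g, g1, g2⟩ := h.eb e he
  have := (k b⁻¹ (a * b⁻¹)).map g1
  rwa [g2, g2, map_smul, map_smul, e1, inv_smul_smul₀ b0, mul_smul, inv_smul_smul₀ b0] at this

theorem lev (hU : f.HU ψ X) (v : V) (hv : f.B x v = 0) : f.Lev X x v := by
  have : FiniteDimensional F L := inferInstance
  have key : ∀ z, ψ.Q z = 0 → f.B x z = 0 → ψ.B x z ≠ 0 → f.Lev X x z := fun z hz h1 h2 => by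
    have z0 : z ≠ 0 := by rintro rfl; simp at h2
    have h3 : ψ.B z x ≠ 0 := fun e => h2 (ψ.eq_zero_symm e)
    have d1 := (θ ∘ₗ LinearMap.mulRight F (ψ.B x z)).finrank_range_add_finrank_ker
    have d2 := (LinearMap.range (θ ∘ₗ LinearMap.mulRight F (ψ.B x z))).finrank_le
    obtain ⟨k, k1, k2⟩ := exists_not_mem_of_lt (S := F ∙ (1 : L))
      (T := LinearMap.ker (θ ∘ₗ LinearMap.mulRight F (ψ.B x z)))
      (by rw [finrank_span_singleton one_ne_zero]; rw [finrank_self] at d2; have := h.three; omega)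
    obtain ⟨v, v1, v2⟩ := h.ext.nondeg'.exists_perp_B_eq' (W := F ∙ z) (u := k • z) (fun e => by
      obtain ⟨t, ht⟩ := Submodule.mem_span_singleton.1 e
      exact k2 (Submodule.mem_span_singleton.2 ⟨t, smul_left_injective L z0 (by simpa using ht)⟩))
      (-1)
    obtain ⟨c, hc, m⟩ := hU z z0 hz k
    have l := hU x x0 hx (ψ.B z v / ψ.B z x)
    have := (l.fix m (by
      rw [eichler_apply_of_B _ _ _ _ _ (f.eq_zero_symm h1), f.eq_zero_symm (show f.B x (k • z) = 0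
        from (h.ext.B_smul _ _ _).trans k1)]
      simp)).sub l
    rw [h.B_left] at v2
    rw [eichler_apply_of_B _ _ _ _ _ (by
      rw [h.ext.B_smul, div_mul_cancel₀ _ h3, ← h.ext.B_eq, f.mem_perp_span_singleton.1 v1]),
      h.B_left, map_smul, smul_eq_mul, div_mul_cancel₀ _ h3, v2] at this
    simpa using this
  obtain ⟨y, hy⟩ := h.ext.nondeg.exists_isHyp hx x0
  obtain ⟨a, ha⟩ := mem_lpt.1 (h.mem_of_B x0 x0 (ψ.B_self_of_Q hx) (p := v - ψ.B x v • y)
    (by simp [hy.B_xy]))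
  rw [← sub_add_cancel v (ψ.B x v • y), ← ha]
  refine (hU x x0 hx a).add ?_
  by_cases e : ψ.B x v = 0
  · simpa [e] using lev_zero (h.ext.Q_zero x hx)
  exact key _ (ψ.Q_smul_of_Q hy.Q_y _) (by rwa [h.ext.B_smul, hy.B_xy, mul_one, ← h.ext.B_eq])
    (by simpa [hy.B_xy] using e)

omit x0 hx in
theorem max : (∀ g ∈ X, f.Semi L g) ∨ f.Eich ≤ X := by
  rcases exists_maxI (ψ := ψ) X with hM | ⟨d, x, U, hd, hM, hP⟩
  · exact .inl fun g hg => h.semi hM hg
  have x0 := hP.x0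
  have hx := hP.Qx
  have t := h.tu hM hd hP.orb (orb_lpt x0 hx) hP.ne.symm (inf_comm U _ ▸ hP.dim)
  obtain ⟨u, hu, hn⟩ := hP.exists_right
  obtain ⟨a₀, ha₀⟩ := hP.exists_left
  have y0 : ψ.B u x ≠ 0 := fun e => hn (h.mem_of_B x0 x0 (ψ.B_self_of_Q hx) (ψ.eq_zero_symm e))
  have k0 : ∀ a : L, a • x ∈ U → θ (a * ψ.B u x) = 0 := fun a ha => by
    rw [← h.ext.B_smul, (h.ext.ts hP.orb).B_eq u hu _ ha]
  have k1 : ∀ a : L, ∃ c : F, a • x - c • a₀ • x ∈ U ∧
      θ (a * ψ.B u x) = c * θ (a₀ * ψ.B u x) := fun a => by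
    obtain ⟨c, hc⟩ := t.span _ (smul_mem_lpt a₀ x) ha₀ _ (smul_mem_lpt a x)
    have := k0 (a - c • a₀) (by rwa [sub_smul, smul_assoc])
    rw [sub_mul, smul_mul_assoc, map_sub, map_smul, sub_eq_zero] at this
    exact ⟨c, hc, this⟩
  have k2 : θ (a₀ * ψ.B u x) ≠ 0 := fun e => y0 (h.cmp.eq_zero fun a => by
    obtain ⟨c, -, hc⟩ := k1 a
    rw [hc, e, mul_zero])
  have sp : ∀ a, θ (a * ψ.B u x) = 0 → a ∈ Submodule.span F {w | θ (w * ψ.B u x) = 0 ∧
      ∀ c : F, σ c = c → TvP θ X x (ψ.B u x) (c • w)} := fun a ha => by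
    obtain ⟨c, hc, e⟩ := k1 a
    rw [ha, eq_comm, mul_eq_zero, or_iff_left k2] at e
    rw [e, zero_smul, sub_zero] at hc
    obtain ⟨b, hb, e⟩ := (Submodule.span_le (p := (Submodule.span F {w | θ (w * ψ.B u x) = 0 ∧
        ∀ c : F, σ c = c → TvP θ X x (ψ.B u x) (c • w)}).map
          ((LinearMap.toSpanSingleton L V x).restrictScalars F))).2 (fun v hv => by
      obtain ⟨b, rfl⟩ := mem_lpt.1 hv.1.2
      refine ⟨b, ?_, rfl⟩
      rw [← smul_inv_smul₀ k2 b]
      refine Submodule.smul_mem _ _ (Submodule.subset_span ⟨by simp [k0 b hv.1.1], fun c hc => ?_⟩)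
      obtain ⟨g, g1, g2, g3⟩ := hv.2 c hc
      refine ⟨g, g1, fun a => ?_⟩
      obtain ⟨c', hc', e⟩ := k1 a
      have := g2 _ hc'
      rw [map_sub, map_smul _ c', g3, sub_eq_iff_eq_add] at this
      rw [this, e, add_smul, smul_assoc, smul_assoc, smul_assoc]
      generalize a • x = A
      generalize b • x = B
      generalize a₀ • x = C
      match_scalars <;> field_simp <;> ring) (t.tv _ (smul_mem_lpt a₀ x) ha₀ ⟨hc, smul_mem_lpt a x⟩)
    rwa [← smul_left_injective L x0 e]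
  obtain ⟨w, w0, hw⟩ := h.ln y0 (R := {w | θ (w * ψ.B u x) = 0 ∧
      ∀ c : F, σ c = c → TvP θ X x (ψ.B u x) (c • w)})
    (fun a ha b hb => ⟨by rw [add_mul, map_add, ha.1, hb.1, add_zero], fun c hc => by
      rw [smul_add]; exact (ha.2 c hc).add (hb.2 c hc) (by simp [hb.1])⟩)
    (fun c hc a ha => ⟨by simp [ha.1], fun c' hc' => by
      rw [smul_smul]; exact ha.2 _ (by rw [map_mul, hc, hc'])⟩) sp (fun a ha => ha.1)
    (fun α α0 hα w hw w' hw' e => ⟨by simp [e], fun c hc => by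
      have := (hw.2 c hc).comm (h.tvp_tor x0 hx α0 hα (hw'.2 1 (map_one σ))) (by simp [hw.1])
        (by simpa using e) (by rw [← hw'.1, one_smul]; congr 1; field_simp)
      rwa [one_smul, smul_mul_assoc, map_smul, smul_assoc] at this⟩)
  have h3 : 3 ≤ finrank F V := by
    rw [← Module.finrank_mul_finrank F L V, h.two]; have := h.three; omega
  have hU := h.hu x0 hx (h.full x0 hx y0 w0 fun c => by simpa using (hw c).2 1 (map_one σ))
  exact .inr (h.ext.Eich_le (.inl h3) (fun w => h.ext.nondeg'.Tgrp_le_of_lev h3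
    (MaxGL.herm_hπ h.cmp.ne)) x0 hx fun w w0 hw => h.lev w0 hw hU)

end UG

end CA.H12Ue

namespace CA.MaxGL

open Cfsg Cfsg.Geo Matrix CA.AschBase CA.AschTForm CA.AschProp CA.AschFG CA.AschFG7 CA.AschO1
  CA.CForm CA.CForm.Form Module

theorem herm_max_ext_six {ι : Type} [Fintype ι] [DecidableEq ι] {F : Type*} [Field F] [Fintype F]
    {q : ℕ} (hF : Fintype.card F = q ^ 2) {φ : Form (hermKind hF) (ι → F)} (hφ : φ.Nondeg)
    (hG : QS (EG φ)) (hq : 3 ≤ q) (hn : Fintype.card ι = 6)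
    {K : Subalgebra F (Matrix ι ι F)} (hK : IsFieldSubalgebra 3 K)
    (hac : IsAdjointClosedFor (fn φ) K) :
    IsMaximalIn (EG φ) (subalgebraNormalizer K ⊓ EG φ) := by
  have : Nonempty ι := Fintype.card_pos_iff.1 (by omega)
  obtain ⟨L, _, _, _, _, _, h3, h1, h2', -⟩ := AschO2.exists_ext hK
  have := Module.Finite.right F L (ι → F)
  refine max_ext hK hG (by omega) h1 h2' fun X hX => ?_
  obtain ⟨s, hs, θ, ψ, a, b, c⟩ := H12Ue.exists_data hφ (conj_ne_id hF) (ac_of h1 h2' hac)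
    (by rw [finrank_fun]; omega) hX
  refine H12Ue.UG.max ⟨a, b, c, ?_, h3 ▸ Nat.prime_three, h3.ge, a.exists_z3 h3 hq,
    fun y0 => a.line3 h3 hq y0⟩
  rw [← finrank_fun (F := F), ← Module.finrank_mul_finrank F L (ι → F), h3] at hn
  omega

end CA.MaxGL
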