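import Cfsg.Agent.Lib.Comp.CLink3
import Cfsg.Agent.Lib.Comp.H27Pres
import Cfsg.Agent.Lib.Comp.CTrans
import Cfsg.Agent.Lib.Comp.CBlk
import Cfsg.Agent.S0280

/-! A permutation model of `U₄(2)` (the part of `Lib/Fi/We6` that has light imports). -/

set_option autoImplicit false
set_option maxRecDepth 100000
set_option linter.all false
set_option Elab.async false

namespace CA.H13We
open Cfsg Matrix CA.CNet CA.CWord CA.CLevel CA.CSimple CA.CPoint CA.CLow CA.CMat CA.CLink CA.CLink2 CA.CLink3 CA.CBlk CA.H27Pres CA.CTrans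

def t0 : Net := [(nat_lit 0x50505004400444441444440, nat_lit 1),
  (nat_lit 0x303030002000000000220220, nat_lit 2),
  (nat_lit 0xf000f000000000000, nat_lit 4),
  (nat_lit 0xff000000000000000000000000, nat_lit 8),
  (nat_lit 0x4000000000440440, nat_lit 1)]
def t1 : Net := [(nat_lit 0x505055511444044400000000000, nat_lit 1),
  (nat_lit 0x3030300000222200022222112110, nat_lit 2),
  (nat_lit 0xc0c000000000008000000, nat_lit 4),
  (nat_lit 0xf0000000800000, nat_lit 8),
  (nat_lit 0xfff00000f00000000000, nat_lit 16),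
  (nat_lit 0xff000000000000f00000, nat_lit 32),
  (nat_lit 0xf00000, nat_lit 64),
  (nat_lit 0xf00000, nat_lit 32),
  (nat_lit 0xfff00000000000000000, nat_lit 16),
  (nat_lit 0xf0000000000000, nat_lit 8),
  (nat_lit 0x8000000, nat_lit 4),
  (nat_lit 0x2000000, nat_lit 2),
  (nat_lit 0x444000000000000000, nat_lit 1)]
def t2 : Net := [(nat_lit 0x505044440000441144100110, nat_lit 1),
  (nat_lit 0x30322002222000000020020, nat_lit 2),
  (nat_lit 0xf0f00000f000f000f00000e0208, nat_lit 4),
  (nat_lit 0xff000000000000000000c80020, nat_lit 8),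
  (nat_lit 0xc000, nat_lit 16),
  (nat_lit 0xc00000, nat_lit 8),
  (nat_lit 0xc0200, nat_lit 4),
  (nat_lit 0x20020, nat_lit 2),
  (nat_lit 0x44000000000004100110, nat_lit 1)]
def t3 : Net := [(nat_lit 0x5444050105444044400100050004, nat_lit 1),
  (nat_lit 0x2310230000111000000003210001, nat_lit 2),
  (nat_lit 0xf07030c0f000f000f0000030008, nat_lit 4),
  (nat_lit 0x3e00e3000000e00012001c0000, nat_lit 8),
  (nat_lit 0xf0aa0000f2f000001000, nat_lit 16),
  (nat_lit 0xffaa00000000e2100000, nat_lit 32),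
  (nat_lit 0xfaa0000e21000000000, nat_lit 16),
  (nat_lit 0x430034000000e0001200100000, nat_lit 8),
  (nat_lit 0x80c0300000f000f0000010000, nat_lit 4),
  (nat_lit 0x2310230000000000000003210000, nat_lit 2),
  (nat_lit 0x5444040000444000000100050004, nat_lit 1)]
def t4 : Net := [(nat_lit 0x4444444515101050541005401400, nat_lit 1),
  (nat_lit 0x1111112020210031003001100000, nat_lit 2),
  (nat_lit 0xf0f0f0c0c080206050007000200, nat_lit 4),
  (nat_lit 0xff0000003f00f000680006, nat_lit 8),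
  (nat_lit 0xff0000003cc300000078, nat_lit 16),
  (nat_lit 0xc0000000000000000, nat_lit 32),
  (nat_lit 0xc00000000, nat_lit 64),
  (nat_lit 0xc0000000000000000, nat_lit 32),
  (nat_lit 0xff0000003f000000680000, nat_lit 8),
  (nat_lit 0x802010a0006000200, nat_lit 4),
  (nat_lit 0x1010210012120001100000, nat_lit 2),
  (nat_lit 0x4444441040101014050005401400, nat_lit 1)]
def t5 : Net := [(nat_lit 0x5545040050444011100004500044, nat_lit 1),
  (nat_lit 0x1320130000222000000100100010, nat_lit 2),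
  (nat_lit 0xf0b030c0f000f000f0000000001, nat_lit 4),
  (nat_lit 0x3d00d3000000e000f400e00000, nat_lit 8),
  (nat_lit 0xf055000004000000e800, nat_lit 16),
  (nat_lit 0xff550000000014e00000, nat_lit 32),
  (nat_lit 0xf550000040000000000, nat_lit 16),
  (nat_lit 0x830038000000e0000400e00000, nat_lit 8),
  (nat_lit 0x40c0300000f000f0000000000, nat_lit 4),
  (nat_lit 0x1320130000000000000100100010, nat_lit 2),
  (nat_lit 0x5444040000444000000004500040, nat_lit 1)]
def t6 : Net := [(nat_lit 0x5555555555555055500005555000, nat_lit 1),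
  (nat_lit 0x3003300000333000000001132001, nat_lit 2),
  (nat_lit 0xf0f030c00000000000000010008, nat_lit 4),
  (nat_lit 0xcc00cc00000000000000f60000, nat_lit 8),
  (nat_lit 0xff000000ff00000f800, nat_lit 16),
  (nat_lit 0xff00000000000f00000, nat_lit 32),
  (nat_lit 0xff0000000f000000000, nat_lit 16),
  (nat_lit 0xc3000000000000000000f00000, nat_lit 8),
  (nat_lit 0x30f0f0000000000000000080000, nat_lit 4),
  (nat_lit 0x33000000000000000001000000, nat_lit 2),
  (nat_lit 0x4000000, nat_lit 1)]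
def t7 : Net := [(nat_lit 0x404145540505010400000050, nat_lit 1),
  (nat_lit 0x1111102123122020103002131300, nat_lit 2),
  (nat_lit 0x6060c0f0c07050902000708030a, nat_lit 4),
  (nat_lit 0x3c00c300c10026, nat_lit 8),
  (nat_lit 0xff0000003ff00000817c, nat_lit 16),
  (nat_lit 0xc0000000000000000, nat_lit 32),
  (nat_lit 0xc00000000, nat_lit 64),
  (nat_lit 0xc0000000000000000, nat_lit 32),
  (nat_lit 0xff000000c0000000d90000, nat_lit 8),
  (nat_lit 0x802010a00050e0100, nat_lit 4),
  (nat_lit 0x1010210012120002001010, nat_lit 2),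
  (nat_lit 0x4444441040105014050011555500, nat_lit 1)]
def t8 : Net := [(nat_lit 0x505055511444044400000000000, nat_lit 1),
  (nat_lit 0x3030300000222200022222112110, nat_lit 2),
  (nat_lit 0xc0c000000000008000000, nat_lit 4),
  (nat_lit 0xf0000000800000, nat_lit 8),
  (nat_lit 0xfff00000f00000000000, nat_lit 16),
  (nat_lit 0xff000000000000f00000, nat_lit 32),
  (nat_lit 0xf00000, nat_lit 64),
  (nat_lit 0xf00000, nat_lit 32),
  (nat_lit 0xfff00000000000000000, nat_lit 16),
  (nat_lit 0xf0000000000000, nat_lit 8),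
  (nat_lit 0x8000000, nat_lit 4),
  (nat_lit 0x2000000, nat_lit 2),
  (nat_lit 0x444000000000000000, nat_lit 1)]
def t9 : Net := [(nat_lit 0x4444411015545441450045501410, nat_lit 1),
  (nat_lit 0x1111122320211032013001131010, nat_lit 2),
  (nat_lit 0x3030f030c08020a02000f030b08, nat_lit 4),
  (nat_lit 0xff00ff0000000300f300fd0016, nat_lit 8),
  (nat_lit 0xff000000fcc300001de0, nat_lit 16),
  (nat_lit 0xc0000000000000000, nat_lit 32),
  (nat_lit 0xc00000000, nat_lit 64),
  (nat_lit 0xc0000000000000000, nat_lit 32),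
  (nat_lit 0x3a0000003d0000, nat_lit 8),
  (nat_lit 0x8040502000e000a00, nat_lit 4),
  (nat_lit 0x100020211131000003031000, nat_lit 2),
  (nat_lit 0x404410010541410015100400, nat_lit 1)]
def t10 : Net := [(nat_lit 0x4444144015100114141105001550, nat_lit 1),
  (nat_lit 0x1111112013212023121001010230, nat_lit 2),
  (nat_lit 0xc0c0f0303080d060d0007000200, nat_lit 4),
  (nat_lit 0xff0000000300730064000e, nat_lit 8),
  (nat_lit 0xff000000fcc300000ce0, nat_lit 16),
  (nat_lit 0xc0000000000000000, nat_lit 32),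
  (nat_lit 0xc00000000, nat_lit 64),
  (nat_lit 0xc0000000000000000, nat_lit 32),
  (nat_lit 0x18000000040000, nat_lit 8),
  (nat_lit 0x80c01020006000200, nat_lit 4),
  (nat_lit 0x200020213311000001010200, nat_lit 2),
  (nat_lit 0x104410010550054014000500, nat_lit 1)]
def t11 : Net := [(nat_lit 0x4405115000155110111410455110, nat_lit 1),
  (nat_lit 0x300003201233222221032000, nat_lit 2),
  (nat_lit 0xc0c0c000c0f000f000002050208, nat_lit 4),
  (nat_lit 0xff00f000f00000006e0020, nat_lit 8),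
  (nat_lit 0xff000000ff0000004a00, nat_lit 16),
  (nat_lit 0xff0000000000f0000000, nat_lit 32),
  (nat_lit 0xf0000000, nat_lit 64),
  (nat_lit 0xf0000000, nat_lit 32),
  (nat_lit 0xff000000000000000000, nat_lit 16),
  (nat_lit 0xff000000f000000000004a0000, nat_lit 8),
  (nat_lit 0xf000f000002040200, nat_lit 4),
  (nat_lit 0x3000003030000000000000030000, nat_lit 2),
  (nat_lit 0x400404044440144000, nat_lit 1)]
def t12 : Net := [(nat_lit 0x5511114111511555540555011140, nat_lit 1),
  (nat_lit 0x303033321111123131211212230, nat_lit 2),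
  (nat_lit 0xf030c0c0c0f0f0f0f000c0a0308, nat_lit 4),
  (nat_lit 0xff00ff00f00000000000e10018, nat_lit 8),
  (nat_lit 0xff0000ff0000002100, nat_lit 16),
  (nat_lit 0xf0ff0000000000000000, nat_lit 32),
  (nat_lit 0xf00000000000, nat_lit 64),
  (nat_lit 0xf0000000000000000000, nat_lit 32),
  (nat_lit 0xff0000000000000000, nat_lit 16),
  (nat_lit 0xf000f0000000210000, nat_lit 8),
  (nat_lit 0xc020100, nat_lit 4),
  (nat_lit 0x3202300, nat_lit 2),
  (nat_lit 0x40004040005014140, nat_lit 1)]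
def t13 : Net := [(nat_lit 0x5050550544555100511415555500, nat_lit 1),
  (nat_lit 0x300003223211022221201210, nat_lit 2),
  (nat_lit 0xc0c0c000c0f000f00000c040700, nat_lit 4),
  (nat_lit 0xff00f00000000000c20030, nat_lit 8),
  (nat_lit 0xff0f0000000000000200, nat_lit 16),
  (nat_lit 0xff0000000000f00f0000, nat_lit 32),
  (nat_lit 0xf00f0000, nat_lit 64),
  (nat_lit 0xf00f0000, nat_lit 32),
  (nat_lit 0xff0f0000f00000000000, nat_lit 16),
  (nat_lit 0xf000f0000000020000, nat_lit 8),
  (nat_lit 0xc000300, nat_lit 4),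
  (nat_lit 0x30300000000000000001020000, nat_lit 2),
  (nat_lit 0x5555500, nat_lit 1)]
def t14 : Net := [(nat_lit 0x5555505005055145011415410410, nat_lit 1),
  (nat_lit 0x3030003003132310133033002210, nat_lit 2),
  (nat_lit 0xc0c0c0c0f0f000f000006000700, nat_lit 4),
  (nat_lit 0xff00000000000000690030, nat_lit 8),
  (nat_lit 0xffff0000f00000000100, nat_lit 16),
  (nat_lit 0xffff00000000000f0000, nat_lit 32),
  (nat_lit 0xf0000, nat_lit 64),
  (nat_lit 0xf0000, nat_lit 32),
  (nat_lit 0xffff0000000000000000, nat_lit 16),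
  (nat_lit 0x10000, nat_lit 8),
  (nat_lit 0x6000300, nat_lit 4),
  (nat_lit 0x3030300000000000000003210000, nat_lit 2),
  (nat_lit 0x4000004504500, nat_lit 1)]
def t15 : Net := [(nat_lit 0x5055551455400414444440000110, nat_lit 1),
  (nat_lit 0x30300030111101111212010000, nat_lit 2),
  (nat_lit 0xc0c0c0c030f0f00000004000b00, nat_lit 4),
  (nat_lit 0xff000000f0000f000000490030, nat_lit 8),
  (nat_lit 0xff0000000000000100, nat_lit 16),
  (nat_lit 0xf0ff0000000000000000, nat_lit 32),
  (nat_lit 0xf00000000000, nat_lit 64),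
  (nat_lit 0xf0000000000000000000, nat_lit 32),
  (nat_lit 0xff0000000000000000, nat_lit 16),
  (nat_lit 0xff000000f00000000000010000, nat_lit 8),
  (nat_lit 0xf0f00000004000300, nat_lit 4),
  (nat_lit 0x30300030000000000002010000, nat_lit 2),
  (nat_lit 0x400404444440000000, nat_lit 1)]
def t16 : Net := [(nat_lit 0x1155441411400415444444414550, nat_lit 1),
  (nat_lit 0x30300030111101111212210220, nat_lit 2),
  (nat_lit 0xc0c0c0c030f000f000002000d00, nat_lit 4),
  (nat_lit 0xff000000f000f0000000290090, nat_lit 8),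
  (nat_lit 0xff0000000000000100, nat_lit 16),
  (nat_lit 0xf0ff0000000000000000, nat_lit 32),
  (nat_lit 0xf00000000000, nat_lit 64),
  (nat_lit 0xf0000000000000000000, nat_lit 32),
  (nat_lit 0xff0000000000000000, nat_lit 16),
  (nat_lit 0xf00000000000010000, nat_lit 8),
  (nat_lit 0x2000900, nat_lit 4),
  (nat_lit 0x3000003000000000000002000000, nat_lit 2),
  (nat_lit 0x40040000005410440, nat_lit 1)]
def t17 : Net := [(nat_lit 0x50505004400444441444440, nat_lit 1),
  (nat_lit 0x303030002000000000220220, nat_lit 2),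
  (nat_lit 0xf000f000000000000, nat_lit 4),
  (nat_lit 0xff000000000000000000000000, nat_lit 8),
  (nat_lit 0x4000000000440440, nat_lit 1)]
def t18 : Net := [(nat_lit 0x4145405500500504114401101040, nat_lit 1),
  (nat_lit 0x210323100000310310202103011, nat_lit 2),
  (nat_lit 0xb0302010a090c00080409000107, nat_lit 4),
  (nat_lit 0x6800fc000800f300650035005d, nat_lit 8),
  (nat_lit 0xbe60000061ad0000b5f4, nat_lit 16),
  (nat_lit 0x85690000000002210020, nat_lit 32),
  (nat_lit 0x108200000, nat_lit 64),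
  (nat_lit 0x10000000000200000, nat_lit 32),
  (nat_lit 0xc680000002100000020, nat_lit 16),
  (nat_lit 0x68001a000800e3002100210000, nat_lit 8),
  (nat_lit 0x300080300090804040009010000, nat_lit 4),
  (nat_lit 0x220323100000310310203002000, nat_lit 2),
  (nat_lit 0x510544400500504114401101040, nat_lit 1)]
def t19 : Net := [(nat_lit 0x4041144500005545050505454541, nat_lit 1),
  (nat_lit 0x1313222110002231130303223032, nat_lit 2),
  (nat_lit 0x5060a08020a040f0c08020e0d0b, nat_lit 4),
  (nat_lit 0x300cb008100a30042002a0048, nat_lit 8),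
  (nat_lit 0xea230000329c00000ead, nat_lit 16),
  (nat_lit 0xd5030000000011220000, nat_lit 32),
  (nat_lit 0x10080200000, nat_lit 64),
  (nat_lit 0x1000000000000200000, nat_lit 32),
  (nat_lit 0x90230000100000000000, nat_lit 16),
  (nat_lit 0x300280081002b000200220000, nat_lit 8),
  (nat_lit 0x500080a000a08070400020e0c00, nat_lit 4),
  (nat_lit 0x1210322100002211130101223010, nat_lit 2),
  (nat_lit 0x414550100005545050505404500, nat_lit 1)]
def t20 : Net := [(nat_lit 0x55055501155055450000, nat_lit 1),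
  (nat_lit 0x3030030033022301133030100001, nat_lit 2),
  (nat_lit 0xf0c030f000000000a0a0b0308, nat_lit 4),
  (nat_lit 0x330033000000100010006a0030, nat_lit 8),
  (nat_lit 0xf00f0000ff500000cb0a, nat_lit 16),
  (nat_lit 0xf00f00000000104f000a, nat_lit 32),
  (nat_lit 0xf0000, nat_lit 64),
  (nat_lit 0xf0000, nat_lit 32),
  (nat_lit 0xf00f000010400000000a, nat_lit 16),
  (nat_lit 0xc30000000000100010004a0000, nat_lit 8),
  (nat_lit 0x30f0f0000000000000a0a0a0300, nat_lit 4),
  (nat_lit 0x33000000000000000000100000, nat_lit 2),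
  (nat_lit 0x4400005410000, nat_lit 1)]
def t21 : Net := [(nat_lit 0x1111050500500010400004445000, nat_lit 1),
  (nat_lit 0x3030030000201310133030321001, nat_lit 2),
  (nat_lit 0xf00030c0f000000000a0a0c0508, nat_lit 4),
  (nat_lit 0xcc00cc005000520052002c0050, nat_lit 8),
  (nat_lit 0xf0af0000af5a0000fd00, nat_lit 16),
  (nat_lit 0xf00f0000000052a85000, nat_lit 32),
  (nat_lit 0x50a00000, nat_lit 64),
  (nat_lit 0x50a00000, nat_lit 32),
  (nat_lit 0xf0af0000020800005000, nat_lit 16),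
  (nat_lit 0x3c0000005000520052000d0000, nat_lit 8),
  (nat_lit 0x3000f0000000000000a0a0f0500, nat_lit 4),
  (nat_lit 0x3300000000000000000000210000, nat_lit 2),
  (nat_lit 0x40400005014000, nat_lit 1)]
def t22 : Net := [(nat_lit 0x545541100400514101104504404, nat_lit 1),
  (nat_lit 0x2111331310001111212000331311, nat_lit 2),
  (nat_lit 0x50b020907040e000d08080d0803, nat_lit 4),
  (nat_lit 0x30014008400dc000800a9001d, nat_lit 8),
  (nat_lit 0xc2100000cb9b00002bd4, nat_lit 16),
  (nat_lit 0xf73400000000c4280000, nat_lit 32),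
  (nat_lit 0x42080000000, nat_lit 64),
  (nat_lit 0x4200000000080000000, nat_lit 32),
  (nat_lit 0xa0140000c00800000000, nat_lit 16),
  (nat_lit 0xb6001400840014000800a90000, nat_lit 8),
  (nat_lit 0x80400000406080d00080c0800, nat_lit 4),
  (nat_lit 0x10031000001111212000201200, nat_lit 2),
  (nat_lit 0x5540044400400514101104400400, nat_lit 1)]
def t23 : Net := [(nat_lit 0x110505550005015400004054004, nat_lit 1),
  (nat_lit 0x120333210102110111312230111, nat_lit 2),
  (nat_lit 0x60801090c0d0f0f0d00020a0d08, nat_lit 4),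
  (nat_lit 0xba00fa002900ff000400280050, nat_lit 8),
  (nat_lit 0xc5a60000d7f400000100, nat_lit 16),
  (nat_lit 0x7baf00000000d7040000, nat_lit 32),
  (nat_lit 0x280001040000, nat_lit 64),
  (nat_lit 0x28000000000001040000, nat_lit 32),
  (nat_lit 0x118e0000d70400000000, nat_lit 16),
  (nat_lit 0xe0006002900f0000400000000, nat_lit 8),
  (nat_lit 0x1080e02000d0f0f0d0002000500, nat_lit 4),
  (nat_lit 0x210333120000000000100000000, nat_lit 2),
  (nat_lit 0x5444040000000040400004054004, nat_lit 1)]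
def t24 : Net := [(nat_lit 0x50501440410141415504100111, nat_lit 1),
  (nat_lit 0x3300003320110230222222131000, nat_lit 2),
  (nat_lit 0xc000f0007020e0d010d020b0100, nat_lit 4),
  (nat_lit 0xcc00f00047004c00d2002d0078, nat_lit 8),
  (nat_lit 0x3d3c0000f68200000490, nat_lit 16),
  (nat_lit 0x7e3c00000000d7380000, nat_lit 32),
  (nat_lit 0x420005380000, nat_lit 64),
  (nat_lit 0x42000000000005380000, nat_lit 32),
  (nat_lit 0x3d3c0000d21000000000, nat_lit 16),
  (nat_lit 0x47002600d200040000, nat_lit 8),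
  (nat_lit 0xf030f0000060f09000d02090a00, nat_lit 4),
  (nat_lit 0x33033000031002300000020300, nat_lit 2),
  (nat_lit 0x4154451444445405140, nat_lit 1)]
def t25 : Net := [(nat_lit 0x41401045005501545114, nat_lit 1),
  (nat_lit 0x3313002132003301002012, nat_lit 2),
  (nat_lit 0xf0f0f06090d01050f03030b00, nat_lit 4),
  (nat_lit 0x11006a000000370034, nat_lit 8),
  (nat_lit 0x2200002200000037f4, nat_lit 16),
  (nat_lit 0x11000000000000220000, nat_lit 32),
  (nat_lit 0x110000220000, nat_lit 64),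
  (nat_lit 0x11000000000000220000, nat_lit 32),
  (nat_lit 0x220000000000000000, nat_lit 16),
  (nat_lit 0x110022000000030000, nat_lit 8),
  (nat_lit 0xc00000003000000, nat_lit 4),
  (nat_lit 0x10002132000001002010, nat_lit 2),
  (nat_lit 0x14401045000001445014, nat_lit 1)]
def t26 : Net := [(nat_lit 0x550000551104404141141151114, nat_lit 1),
  (nat_lit 0x330330333120220121123121312, nat_lit 2),
  (nat_lit 0xf000f030d0708040b0f09040904, nat_lit 4),
  (nat_lit 0xff000000b500a5000000810000, nat_lit 8),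
  (nat_lit 0xff480000cf00000095f4, nat_lit 16),
  (nat_lit 0xff0000000000b5480000, nat_lit 32),
  (nat_lit 0xb5480000, nat_lit 64),
  (nat_lit 0xb5480000, nat_lit 32),
  (nat_lit 0xff480000a40000000000, nat_lit 16),
  (nat_lit 0xb50003000000010000, nat_lit 8),
  (nat_lit 0xf030c000009000900, nat_lit 4),
  (nat_lit 0x20002021000002100210, nat_lit 2),
  (nat_lit 0x10140441440001045004, nat_lit 1)]
def t27 : Net := [(nat_lit 0x50501401041045005501441514, nat_lit 1),
  (nat_lit 0x3033301221201221121022002, nat_lit 2),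
  (nat_lit 0xf0f030e070704040f03030504, nat_lit 4),
  (nat_lit 0x13006a0000003f0014, nat_lit 8),
  (nat_lit 0xff480000780000001ff4, nat_lit 16),
  (nat_lit 0xff000000000013480000, nat_lit 32),
  (nat_lit 0x13480000, nat_lit 64),
  (nat_lit 0x13480000, nat_lit 32),
  (nat_lit 0xff480000010000000000, nat_lit 16),
  (nat_lit 0xff0000001300780000002b0000, nat_lit 8),
  (nat_lit 0xc030f000003020800, nat_lit 4),
  (nat_lit 0x3000002012000000201100, nat_lit 2),
  (nat_lit 0x10410414444440510004, nat_lit 1)]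
def t28 : Net := [(nat_lit 0x5555000045500441005500551004, nat_lit 1),
  (nat_lit 0x3333003320020021000001223112, nat_lit 2),
  (nat_lit 0xf0f0000030b0104050f07070f00, nat_lit 4),
  (nat_lit 0x2000cc000000730070, nat_lit 8),
  (nat_lit 0x205e0000dd00000073f4, nat_lit 16),
  (nat_lit 0x205e0000, nat_lit 32),
  (nat_lit 0x205e0000, nat_lit 64),
  (nat_lit 0x205e0000, nat_lit 32),
  (nat_lit 0x205e0000000000000000, nat_lit 16),
  (nat_lit 0x2000cc000000030000, nat_lit 8),
  (nat_lit 0xb0000000007040400, nat_lit 4),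
  (nat_lit 0x10020021000000223100, nat_lit 2),
  (nat_lit 0x10500441000000551004, nat_lit 1)]
def t29 : Net := [(nat_lit 0x555505044404040005411000, nat_lit 1),
  (nat_lit 0x3333000033002222003302010330, nat_lit 2),
  (nat_lit 0xf000f0f06000000000003000700, nat_lit 4),
  (nat_lit 0xff00ff0000003c0058, nat_lit 8),
  (nat_lit 0x400, nat_lit 16),
  (nat_lit 0xff000000000000000000, nat_lit 32),
  (nat_lit 0xff0000000000, nat_lit 64),
  (nat_lit 0xff000000000000000000, nat_lit 32),
  (nat_lit 0xff0000000000040000, nat_lit 8),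
  (nat_lit 0x3000500, nat_lit 4),
  (nat_lit 0x2010200, nat_lit 2),
  (nat_lit 0x50004404000005011000, nat_lit 1)]
def t30 : Net := [(nat_lit 0x555545055014455500450044, nat_lit 1),
  (nat_lit 0x3333003320001010200001300132, nat_lit 2),
  (nat_lit 0xf0f000003060409030f02040204, nat_lit 4),
  (nat_lit 0xce00cc000000020000, nat_lit 8),
  (nat_lit 0x20100009200000027f4, nat_lit 16),
  (nat_lit 0xcc000000000002010000, nat_lit 32),
  (nat_lit 0xcc0002010000, nat_lit 64),
  (nat_lit 0xcc000000000002010000, nat_lit 32),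
  (nat_lit 0x2010000000000000000, nat_lit 16),
  (nat_lit 0xce0002000000020000, nat_lit 8),
  (nat_lit 0x90302000002000200, nat_lit 4),
  (nat_lit 0x10020021000000100010, nat_lit 2),
  (nat_lit 0x10500541100000450044, nat_lit 1)]
def t31 : Net := [(nat_lit 0x5555000011440044045500001110, nat_lit 1),
  (nat_lit 0x333312222022020001100330, nat_lit 2),
  (nat_lit 0xf0f00000f0f0f0f0f0007080700, nat_lit 4),
  (nat_lit 0x710058, nat_lit 8),
  (nat_lit 0xff0000ff0000000100, nat_lit 16),
  (nat_lit 0xff0000, nat_lit 32),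
  (nat_lit 0xff0000, nat_lit 64),
  (nat_lit 0xff0000, nat_lit 32),
  (nat_lit 0xff0000000000000000, nat_lit 16),
  (nat_lit 0x10000, nat_lit 8),
  (nat_lit 0x7000500, nat_lit 4),
  (nat_lit 512, nat_lit 2),
  (nat_lit 0x44440044040000001110, nat_lit 1)]
def t32 : Net := [(nat_lit 0x555551401454000000441114, nat_lit 1),
  (nat_lit 0x330013002032003301222102, nat_lit 2),
  (nat_lit 0xf000f0f090606060a0f03030b00, nat_lit 4),
  (nat_lit 0x1100a3000000370034, nat_lit 8),
  (nat_lit 0x2200002200000037f4, nat_lit 16),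
  (nat_lit 0x11000000000000220000, nat_lit 32),
  (nat_lit 0x110000220000, nat_lit 64),
  (nat_lit 0x11000000000000220000, nat_lit 32),
  (nat_lit 0x220000000000000000, nat_lit 16),
  (nat_lit 0x110022000000030000, nat_lit 8),
  (nat_lit 0x3000000, nat_lit 4),
  (nat_lit 0x10002032000001222100, nat_lit 2),
  (nat_lit 0x4401454000000441114, nat_lit 1)]
def C : Ctx := ⟨112, 7, [t0, t1, t2, t3, t4, t5, t6, t7, t8, t9, t10, t11, t12, t13, t14, t15, t16, t17, t18, t19, t20, t21, t22, t23, t24, t25, t26, t27, t28, t29, t30, t31, t32]⟩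
theorem hC : C.ok = true := by decide +kernel
noncomputable def lk : ℕ → ℕ → ℕ := look C 64
theorem hlk : Good C lk := good_look hC (by decide +kernel)
noncomputable def PL4 : Level where
  ω := 48
  hs := []
  cardH := 1
  reps := [⟨[0], 56, [], [], []⟩]
  covs := [⟨[65], [], [⟨0, [], [], 1, []⟩,
      ⟨1, [], [], 0, []⟩], []⟩]
theorem PL4_light : PL4.lightOK C = true := by decide +kernel
theorem PL4_eqns_0 : lall (PL4.eqns) (eqP C) = true := by decide +kernel
theorem PL4_eqns : lall (PL4.eqns) (eqP C) = true := PL4_eqns_0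
theorem PL4_H : Nat.card (C.grp PL4.hs) = PL4.cardH := card_grp_nil C
theorem PL4_card : Nat.card (C.grp PL4.gs) = 2 :=
  PL4.card hC PL4_light PL4_eqns PL4_H (by decide +kernel)
def PH4 : List Word := [[65], [64]]
theorem PH4_eq : C.grp PH4 = C.grp PL4.gs :=
  grp_lapp_eq hC PL4.gs [([64], [0])] (by decide +kernel)
theorem PH4_card : Nat.card (C.grp PH4) = 2 := PH4_eq ▸ PL4_card
theorem PL4_base : IsBase (C.grp PL4.gs) [48] :=
  isBase_level PL4 hC PL4_light PL4_eqns PL4_H (isBase_nil C)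
theorem PH4_base : IsBase (C.grp PH4) [48] := PH4_eq ▸ PL4_base
noncomputable def PL3 : Level where
  ω := 42
  hs := PH4
  cardH := 2
  reps := [⟨[4], 55, [], [([0], [0])], [(1, [0], [])]⟩,
    ⟨[6], 67, [], [([0], [0])], [(1, [0], [])]⟩,
    ⟨[8], 70, [], [([0], [0])], [(1, [0], [])]⟩,
    ⟨[4,6], 61, [], [([0], [0])], [(1, [0], [])]⟩,
    ⟨[4,8], 58, [], [([0], [0])], [(1, [0], [])]⟩,
    ⟨[6,8], 46, [], [([0], [0])], [(1, [0], [])]⟩,
    ⟨[4,6,8], 49, [], [([0], [0])], [(1, [0], [])]⟩]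
  covs := [⟨[57], [([0], [0])], [⟨0, [], [], 1, []⟩,
      ⟨1, [], [], 0, []⟩,
      ⟨2, [], [], 4, []⟩,
      ⟨3, [], [], 5, []⟩,
      ⟨4, [], [], 2, []⟩,
      ⟨5, [], [], 3, []⟩,
      ⟨6, [], [], 7, []⟩,
      ⟨7, [], [], 6, []⟩], []⟩,
    ⟨[59], [([0], [0])], [⟨0, [], [], 2, []⟩,
      ⟨1, [], [], 4, []⟩,
      ⟨2, [], [], 0, []⟩,
      ⟨3, [], [], 6, []⟩,
      ⟨4, [], [], 1, []⟩,
      ⟨5, [], [], 7, []⟩,
      ⟨6, [], [], 3, []⟩,
      ⟨7, [], [], 5, []⟩], []⟩,
    ⟨[61], [([0], [0])], [⟨0, [], [], 3, []⟩,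
      ⟨1, [], [], 5, []⟩,
      ⟨2, [], [], 6, []⟩,
      ⟨3, [], [], 0, []⟩,
      ⟨4, [], [], 7, []⟩,
      ⟨5, [], [], 1, []⟩,
      ⟨6, [], [], 2, []⟩,
      ⟨7, [], [], 4, []⟩], []⟩]
theorem PL3_light : PL3.lightOK C = true := by decide +kernel
theorem PL3_eqns_0 : lall (PL3.eqns) (eqP C) = true := by decide +kernel
theorem PL3_eqns : lall (PL3.eqns) (eqP C) = true := PL3_eqns_0
theorem PL3_H : Nat.card (C.grp PL3.hs) = PL3.cardH := PH4_card
theorem PL3_card : Nat.card (C.grp PL3.gs) = 16 :=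
  PL3.card hC PL3_light PL3_eqns PL3_H (by decide +kernel)
def PH3 : List Word := [[65], [64], [57], [59], [61], [56], [58], [60], [62]]
theorem PH3_eq : C.grp PH3 = C.grp PL3.gs :=
  grp_lapp_eq hC PL3.gs [([56], [4]), ([58], [6]), ([60], [8]), ([62], [4,6,0])] (by decide +kernel)
theorem PH3_card : Nat.card (C.grp PH3) = 16 := PH3_eq ▸ PL3_card
theorem PL3_base : IsBase (C.grp PL3.gs) [42,48] :=
  isBase_level PL3 hC PL3_light PL3_eqns PL3_H PH4_base
theorem PH3_base : IsBase (C.grp PH3) [42,48] := PH3_eq ▸ PL3_base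
noncomputable def PL2 : Level where
  ω := 29
  hs := PH3
  cardH := 16
  reps := [⟨[18], 31, [], [([8], [4,8,0]), ([16], [6]), ([4], [0]), ([0], [6,8])], [(3, [0,2,4,6], [])]⟩,
    ⟨[19], 30, [], [([16], [8,0]), ([4], [6,8]), ([0], [4]), ([8], [16,0])], [(3, [0,2,4,6], [])]⟩]
  covs := [⟨[53], [([16], [8,0])], [⟨0, [], [], 1, []⟩,
      ⟨1, [], [], 2, [6,0]⟩,
      ⟨2, [], [], 0, []⟩], []⟩]
theorem PL2_light : PL2.lightOK C = true := by decide +kernel
theorem PL2_eqns_0 : lall (PL2.eqns) (eqP C) = true := by decide +kernel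
theorem PL2_eqns : lall (PL2.eqns) (eqP C) = true := PL2_eqns_0
theorem PL2_H : Nat.card (C.grp PL2.hs) = PL2.cardH := PH3_card
theorem PL2_card : Nat.card (C.grp PL2.gs) = 48 :=
  PL2.card hC PL2_light PL2_eqns PL2_H (by decide +kernel)
def PH2 : List Word := [[65], [64], [57], [59], [61], [56], [58], [60], [62], [53], [52], [54]]
theorem PH2_eq : C.grp PH2 = C.grp PL2.gs :=
  grp_lapp_eq hC PL2.gs [([52], [19]), ([54], [18,8,0])] (by decide +kernel)
theorem PH2_card : Nat.card (C.grp PH2) = 48 := PH2_eq ▸ PL2_card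
theorem PL2_base : IsBase (C.grp PL2.gs) [29,42,48] :=
  isBase_level PL2 hC PL2_light PL2_eqns PL2_H PH3_base
theorem PH2_base : IsBase (C.grp PH2) [29,42,48] := PH2_eq ▸ PL2_base
noncomputable def PL1 : Level where
  ω := 28
  hs := PH2
  cardH := 48
  reps := [⟨[24], 32, [0,4,6], [([18,0], [18,4])], [(4, [0,0,0,0,0], [])]⟩,
    ⟨[24,24], 30, [18,18], [([6], [8,0]), ([8], [8]), ([4], [4]), ([0], [6,0])], [(3, [0,2,4,6], [])]⟩]
  covs := [⟨[49], [([18,4], [18,0])], [⟨0, [], [], 1, []⟩,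
      ⟨1, [], [], 2, []⟩,
      ⟨1, [16], [], 0, [18,6,8]⟩,
      ⟨1, [0], [4], 1, [19,16]⟩,
      ⟨1, [4], [0,6], 1, [19,8,0]⟩,
      ⟨2, [18], [6], 1, [19]⟩], [0,0]⟩]
theorem PL1_light : PL1.lightOK C = true := by decide +kernel
theorem PL1_eqns_0 : lall (PL1.eqns) (eqP C) = true := by decide +kernel
theorem PL1_eqns : lall (PL1.eqns) (eqP C) = true := PL1_eqns_0
theorem PL1_H : Nat.card (C.grp PL1.hs) = PL1.cardH := PH2_card
theorem PL1_card : Nat.card (C.grp PL1.gs) = 576 :=
  PL1.card hC PL1_light PL1_eqns PL1_H (by decide +kernel)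
def PH1 : List Word := [[65], [64], [57], [59], [61], [56], [58], [60], [62], [53], [52], [54], [49], [48], [50]]
theorem PH1_eq : C.grp PH1 = C.grp PL1.gs :=
  grp_lapp_eq hC PL1.gs [([48], [25]), ([50], [6,8])] (by decide +kernel)
theorem PH1_card : Nat.card (C.grp PH1) = 576 := PH1_eq ▸ PL1_card
theorem PL1_base : IsBase (C.grp PL1.gs) [28,29,42,48] :=
  isBase_level PL1 hC PL1_light PL1_eqns PL1_H PH2_base
theorem PH1_base : IsBase (C.grp PH1) [28,29,42,48] := PH1_eq ▸ PL1_base
noncomputable def PL0 : Level where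
  ω := 27
  hs := PH1
  cardH := 576
  reps := [⟨[30], 32, [0,4,6,24], [([4,24,18,16], [0,25,19,6]), ([19,4], [0,25,8])], [(44, [2,0,2,0,2,2,2,2,2], [[0]]), (0, [0], [])]⟩,
    ⟨[30,0,30], 56, [0,4,8,24,6,16], [([18,8,16,0], [18,8,16,0]), ([24,18], [24,18])], [(4, [0,2,0,0,0,0,0], [])]⟩]
  covs := [⟨[46], [([19,4], [0,25,8]), ([0,25,8], [19,4])], [⟨0, [], [], 1, []⟩,
      ⟨1, [], [], 0, []⟩,
      ⟨1, [0], [], 2, []⟩,
      ⟨1, [6], [6], 1, [6]⟩,
      ⟨2, [], [0], 1, []⟩,
      ⟨2, [4], [4,24], 2, [6,24]⟩], [0,2,0,2,0,2,0,2]⟩]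
theorem PL0_light : PL0.lightOK C = true := by decide +kernel
theorem PL0_eqns_0 : lall (PL0.eqns) (eqP C) = true := by decide +kernel
theorem PL0_eqns : lall (PL0.eqns) (eqP C) = true := PL0_eqns_0
theorem PL0_H : Nat.card (C.grp PL0.hs) = PL0.cardH := PH1_card
theorem PL0_card : Nat.card (C.grp PL0.gs) = 25920 :=
  PL0.card hC PL0_light PL0_eqns PL0_H (by decide +kernel)
def PH0 : List Word := [[65], [64], [57], [59], [61], [56], [58], [60], [62], [53], [52], [54], [49], [48], [50], [46], [36], [38], [40], [42], [44]]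
theorem PH0_eq : C.grp PH0 = C.grp PL0.gs :=
  grp_lapp_eq hC PL0.gs [([36], [4,24,30,22,30,6,25,18,6,8,0]), ([38], [4,30,25,30,18,24,24,19,16,0]), ([40], [0,25,19,6]), ([42], [0,24,18,6]), ([44], [0,30,0,30,0])] (by decide +kernel)
theorem PH0_card : Nat.card (C.grp PH0) = 25920 := PH0_eq ▸ PL0_card
theorem PL0_base : IsBase (C.grp PL0.gs) [27,28,29,42,48] :=
  isBase_level PL0 hC PL0_light PL0_eqns PL0_H PH1_base
theorem PH0_base : IsBase (C.grp PH0) [27,28,29,42,48] := PH0_eq ▸ PL0_base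
def prs : List Word := [[36], [38], [40], [42], [44]]
def low45_w3 : List Word := [[36,40,44,38,42,38,44,40,36]]
theorem low45_3 : Low (C.grp low45_w3) 2 [32] :=
  low_orb hC hlk 32 (by decide) [(32,0)] (m := 2) (grp_mono _ (by decide +kernel))
    (by decide +kernel) (by decide +kernel) (low_nil C) (by decide)
def low45_w2 : List Word := [[36,40,44,38,42,38,44,40,36], [40,38,36,40,38], [40,36,44,38,36,40,36,44,42,38]]
theorem low45_2 : Low (C.grp low45_w2) 18 [29,32] :=
  low_orb hC hlk 29 (by decide) [(29,2), (29,4), (29,5), (33,0), (33,4), (33,5), (35,0), (34,0)] (m := 9) (grp_mono _ (by decide +kernel))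
    (by decide +kernel) (by decide +kernel) low45_3 (by decide)
def low45_w1 : List Word := [[36,40,44,38,42,38,44,40,36], [40,38,36,40,38], [40,36,44,38,36,40,36,44,42,38], [40]]
theorem low45_1 : Low (C.grp low45_w1) 576 [40,29,32] :=
  low_orb hC hlk 40 (by decide) [(40,6), (59,0), (59,2), (59,4), (59,5), (53,4), (53,5), (68,4), (68,5), (64,6), (60,6), (49,6), (45,6), (58,6), (57,6), (50,0), (50,2), (46,0), (46,2), (66,0), (66,2), (62,0), (62,2), (41,0), (41,2), (41,4), (41,5), (42,0), (63,4), (44,4), (43,6)] (m := 32) (grp_mono _ (by decide +kernel))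
    (by decide +kernel) (by decide +kernel) low45_2 (by decide)
theorem low45 : Low (C.grp prs) 25920 [27,40,29,32] :=
  low_orb hC hlk 27 (by decide) [(27,0), (27,2), (27,8), (49,4), (49,8), (55,6), (55,8), (48,2), (48,4), (32,2), (71,8), (63,2), (63,4), (45,0), (45,4), (45,6), (54,0), (54,6), (46,2), (59,0), (59,4), (59,6), (39,6), (62,0), (62,6), (62,8), (28,0), (28,6), (69,6), (40,6), (40,8), (57,6), (57,8), (44,8), (42,6), (52,2), (58,8), (43,2), (43,8), (53,2), (31,2), (56,2), (33,8), (50,8)] (m := 45) (le_of_subst _ [[0,4,8,2,6,2,8,4,0], [4,2,0,4,2], [4,0,8,2,0,4,0,8,6,2], [4]] (by decide +kernel))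
    (by decide +kernel) (by decide +kernel) low45_1 (by decide)
theorem cardP : Nat.card (C.grp prs) = 25920 :=
  low45.card ((Subgroup.card_le_of_le (grp_mono _ (by decide +kernel))).trans PH0_card.le)
theorem baseP : IsBase (C.grp prs) [27,40,29,32] := low45.2 cardP.le

def mu : List (Mat × Mat) := [([[1,0,0,0],[0,1,0,0],[0,0,0,1],[0,0,1,0]], [[1,0,0,0],[0,1,0,0],[0,0,0,1],[0,0,1,0]]),
  ([[1,0,0,0],[0,1,0,0],[0,0,0,3],[0,0,2,0]], [[1,0,0,0],[0,1,0,0],[0,0,0,3],[0,0,2,0]]),
  ([[0,1,1,3],[1,0,1,3],[1,1,0,3],[2,2,2,0]], [[0,1,1,3],[1,0,1,3],[1,1,0,3],[2,2,2,0]]),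
  ([[0,3,3,3],[2,0,1,1],[2,1,0,1],[2,1,1,0]], [[0,3,3,3],[2,0,1,1],[2,1,0,1],[2,1,1,0]]),
  ([[0,3,1,1],[2,0,2,2],[1,3,0,1],[1,3,1,0]], [[0,3,1,1],[2,0,2,2],[1,3,0,1],[1,3,1,0]])]
def SL4 : Mat := [[nat_lit 0xb7feebfdbd78000000, nat_lit 0],
 [nat_lit 0xb0ad9ec75a78000000, nat_lit 0x766a25c2478000000],
 [nat_lit 0x5babe0ccbaa8000000, nat_lit 0x326d0b5bb418000000],
 [nat_lit 0x3bf0aef070b0000000, nat_lit 0x620e32fd5da8000000]]

theorem cardU (F : Type*) [Field F] [Fintype F] (hF : Fintype.card F = 4) : Nat.card (PSU 4 F 2) = 25920 := by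
  have hc := Cfsg.Agent.S0280.result (F := F) (q := 2) hF 4 (by decide)
  simp only [Finset.prod_range_succ, Finset.prod_range_zero] at hc
  norm_num [Nat.even_iff] at hc
  omega

theorem isoU (F : Type*) [Field F] [Fintype F] (hF : Fintype.card F = 4) :
    Subgroup.center (C.grp prs) = ⊥ ∧ Nonempty (C.grp prs ≃* PSU 4 F 2) := by
  obtain ⟨ω, hω⟩ := exists_omega hF
  have hA := sound4 hF hω
  have := charP_two hF
  let ρ := (slToMat 4 F).comp (SU 4 F 2).subtype
  have hρ : Function.Injective ρ := Subtype.val_injective.comp Subtype.val_injective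
  obtain ⟨γ, h1, -, h2⟩ := exists_let (Equiv.refl _) hA ρ (ms := mu) (by decide +kernel) (S := ⊤) fun m hm => by
    have h := band_iff.1 (lall_iff.1 (show lall mu (fun m => band (meq 4 (mpow ar4 4 m.1 2) (mone 4))
      (unitOK ar4 4 2 m.1)) = true by decide +kernel) m hm)
    obtain ⟨g, hg⟩ := exists_SU hA (frobenius F 2) (fun _ => rfl)
      (det_eq_one _ hA (by decide +kernel) h.1) h.2
    exact ⟨g, trivial, hg⟩
  have hl := link ρ _ ⊤ hA hC (SL := SL4) (O := 4722366482869510995968) (inS_top hA) h1 (gens := prs) (k := 5) rfl h2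
    fun _ => allR_spec (by decide +kernel)
  have hO : sub 4722366482869510995968 (C.clo prs [0,8,2,4,6,0,8,2,4,0] (bit 27)) = true := by decide +kernel
  have hZ := center_bot hC (hs := [[2,0,4,2,6]]) (p := ⟨27, by decide⟩) (by decide +kernel)
    (orb_iff ρ hC hl (by decide +kernel) hO) baseP (by decide +kernel)
  exact ⟨hZ, equiv_quot ρ _ hA hρ hl (show frameOK ar4 4 C.n SL4 4722366482869510995968 [35,63,31,43] 28 [[2,1,2,2],[1,3,3,2],[1,1,1,0],[2,2,0,0]] [1,3,2,3] = true by decide +kernel)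
    (inj_orb ρ _ hA hC hl (p := ⟨27, by decide⟩) (by decide +kernel) hO (by decide +kernel)) baseP (by decide +kernel)
    hZ (by decide) cardP (cardU F hF)⟩

end CA.H13We
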