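import Cfsg.Agent.Lib.Rec.U43T
import Cfsg.Agent.Lib.Lin.H13We
set_option autoImplicit false
set_option linter.all false
set_option maxRecDepth 100000
universe u
namespace CA.H13SuT
open CA.CNet CA.CWord CA.CLevel CA.CSimple CA.CPoint CA.CTodd 
noncomputable section
def r2 : List Word := [[0,0,0], [2,2,2], [1,2,1,2,1,2], [0,3,0,0,3,0,0,3,0], [4,4], [1,4,1,4,1,4], [3,4,3,4], [6,6], [1,6,1,6], [3,6,3,6,3,6], [5,6,5,6]]
def r3 : List Word := [[0,0,0], [2,2,2], [1,2,1,2,1,2], [0,3,0,0,3,0,0,3,0], [4,4], [1,4,1,4,1,4], [3,4,3,4], [6,6], [1,6,1,6], [3,6,3,6,3,6], [5,6,5,6], [8,8], [1,8,1,8], [3,8,3,8], [5,8,5,8], [7,8,7,8,7,8], [0,3,4,7,8,0,3,4,7,8,0,3,4,7,8,0,3,4,7,8,0,3,4,7,8,0,3,4,7,8,0,3,4,7,8]]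
namespace T0
noncomputable def A_0 : List (ℕ) := [nat_lit 0x2020120100a00]
noncomputable def A : List (List (ℕ)) := [A_0]
noncomputable def K_0 : List (ℕ) := [nat_lit 0x4060000]
noncomputable def K : List (List (ℕ)) := [K_0]
noncomputable def R_0 : List (Rule) := [Rule.mk (nat_lit 1) (nat_lit 19) (Steps.bwd (nat_lit 1) (Steps.bwd (nat_lit 1) Steps.nil)) (nat_lit 0) (nat_lit 0)]
noncomputable def R : List (List (Rule)) := [R_0]
def LW : List Word := [[], [0], [1]]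
def par : Par := ⟨9, 2, 11, 20, 511, 2047, 1048575⟩
theorem hpar : par.ok := by decide
theorem hR0_0 : lall (R) (fun l => lall l (ruleOK r2 LW par)) = true := by decide +kernel
theorem hR0 : lall (R) (fun l => lall l (ruleOK r2 LW par)) = true := hR0_0
theorem hR : RulesOK r2 LW par R := rulesOK_of rfl hR0
def cols : List (ℕ × ℕ) := [(512, 2)]
theorem hcols : lall cols (colOK r2 LW par) = true := by decide +kernel
noncomputable def JS0 : List ℕ := [nat_lit 0x401]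
theorem S0_c : blocks (facts 9 2 11 20 511 2047 1048575 9 511 1 1 A R 32) 32 JS0 257 = true := by decide +kernel
theorem S0 : On (Step.{u} r2 LW par A) 257 289 :=
  steps_of_blocks hpar hR S0_c (by decide +kernel)
theorem D0_c : allB (defOK 9 11 20 511 1048575 258 A K) 1 2 = true := by decide +kernel
theorem D0 : On (fun r => defOK par.W par.WL par.E par.mW par.mE 258 A K r = true) 256 384 :=
  On.of_allB D0_c
noncomputable def JW0 : List ℕ := [nat_lit 0x3e10042]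
theorem W0_c : blocks (rows 9 2 11 20 511 2047 1048575 10 1023 10 A 289 3 cols 128) 128 JW0 0 = true := by decide +kernel
theorem W0 : On (Row.{u} r2 LW par A 289 3 cols) 0 128 :=
  rows_of_blocks hpar (by decide) hcols W0_c (by decide +kernel)
theorem idx : Idx.{u} r2 [[0]] [] 3 :=
  idx_of_cert hpar hR (K := K) (by decide +kernel) (T := 258) (T' := 384) (by decide) D0
    (subs := []) (by decide +kernel) (T1 := 257) (by decide) (N := 289) S0
    (by decide) (n' := 128) (by decide) W0 (by decide +kernel) (by decide +kernel)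
end T0
namespace T1
noncomputable def A_0 : List (ℕ) := [nat_lit 0xe40e068070410400e0180440c058080240280481000c040020003c0181881411008052020210180c80404c0201600]
noncomputable def A : List (List (ℕ)) := [A_0]
noncomputable def K_0 : List (ℕ) := [nat_lit 0x10583c1a0903814060000]
noncomputable def K : List (List (ℕ)) := [K_0]
noncomputable def R_0 : List (Rule) := [Rule.mk (nat_lit 3) (nat_lit 21) (Steps.bwd (nat_lit 3) (Steps.bwd (nat_lit 3) Steps.nil)) (nat_lit 2) (nat_lit 0),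
  Rule.mk (nat_lit 1) (nat_lit 21) (Steps.bwd (nat_lit 1) (Steps.bwd (nat_lit 1) Steps.nil)) (nat_lit 0) (nat_lit 0),
  Rule.mk (nat_lit 4) (nat_lit 48) (Steps.bwd (nat_lit 1) (Steps.fwd (nat_lit 1536) (Steps.bwd (nat_lit 1) (Steps.fwd (nat_lit 1536) (Steps.bwd (nat_lit 1) Steps.nil))))) (nat_lit 5) (nat_lit 1),
  Rule.mk (nat_lit 4) (nat_lit 21) (Steps.bwd (nat_lit 4) (Steps.bwd (nat_lit 4) Steps.nil)) (nat_lit 3) (nat_lit 0),
  Rule.mk (nat_lit 4) (nat_lit 75) (Steps.bwd (nat_lit 1) (Steps.bwd (nat_lit 1) (Steps.fwd (nat_lit 1536) (Steps.bwd (nat_lit 1) (Steps.bwd (nat_lit 1) (Steps.fwd (nat_lit 1536) (Steps.bwd (nat_lit 1) (Steps.bwd (nat_lit 1) Steps.nil)))))))) (nat_lit 6) (nat_lit 2),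
  Rule.mk (nat_lit 1) (nat_lit 48) (Steps.bwd (nat_lit 4) (Steps.bwd (nat_lit 1) (Steps.bwd (nat_lit 4) (Steps.bwd (nat_lit 1) (Steps.bwd (nat_lit 4) Steps.nil))))) (nat_lit 5) (nat_lit 0),
  Rule.mk (nat_lit 1) (nat_lit 48) (Steps.bwd (nat_lit 4) (Steps.bwd (nat_lit 1) (Steps.fwd (nat_lit 1536) (Steps.bwd (nat_lit 1) (Steps.bwd (nat_lit 4) Steps.nil))))) (nat_lit 5) (nat_lit 0)]
noncomputable def R : List (List (Rule)) := [R_0]
def LW : List Word := [[], [0], [1], [2], [3], [0], [1]]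
def par : Par := ⟨9, 3, 12, 21, 511, 4095, 2097151⟩
theorem hpar : par.ok := by decide
theorem hR0_0 : lall (R) (fun l => lall l (ruleOK r2 LW par)) = true := by decide +kernel
theorem hR0 : lall (R) (fun l => lall l (ruleOK r2 LW par)) = true := hR0_0
theorem hR : RulesOK r2 LW par R := rulesOK_of rfl hR0
def cols : List (ℕ × ℕ) := [(512, 2), (1536, 4)]
theorem hcols : lall cols (colOK r2 LW par) = true := by decide +kernel
noncomputable def JS0 : List ℕ := [nat_lit 0xc1e0e04f00822008100005827028060d02814080903d040190000d0000a010040cc0e06408039]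
theorem S0_c : blocks (facts 9 3 12 21 511 4095 2097151 9 511 3 7 A R 32) 32 JS0 264 = true := by decide +kernel
theorem S0 : On (Step.{u} r2 LW par A) 264 296 :=
  steps_of_blocks hpar hR S0_c (by decide +kernel)
theorem D0_c : allB (defOK 9 12 21 511 2097151 264 A K) 1 2 = true := by decide +kernel
theorem D0 : On (fun r => defOK par.W par.WL par.E par.mW par.mE 264 A K r = true) 256 384 :=
  On.of_allB D0_c
noncomputable def JW0 : List ℕ := [nat_lit 0x11c3210c2e0c4360e4440ec3c0d44a0f8481384c14040]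
theorem W0_c : blocks (rows 9 3 12 21 511 4095 2097151 10 1023 20 A 296 9 cols 64) 64 JW0 0 = true := by decide +kernel
theorem W0 : On (Row.{u} r2 LW par A 296 9 cols) 0 64 :=
  rows_of_blocks hpar (by decide) hcols W0_c (by decide +kernel)
theorem idx : Idx.{u} r2 [[0], [2]] [[0]] 9 :=
  idx_of_cert hpar hR (K := K) (by decide +kernel) (T := 264) (T' := 384) (by decide) D0
    (subs := [1]) (by decide +kernel) (T1 := 264) (by decide) (N := 296) S0
    (by decide) (n' := 64) (by decide) W0 (by decide +kernel) (by decide +kernel)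
end T1
namespace T2
noncomputable def A_0 : List (ℕ) := [nat_lit 0x5902c1680b0510281480a0498240c4090290180ca050118140e60604182008407039020066070188080220300a0040060000080016a09052820124050298100c6030410100ea0402180806a0201080402a00]
noncomputable def A : List (List (ℕ)) := [A_0]
noncomputable def K_0 : List (ℕ) := [nat_lit 0x8542611058241a0f03814060000]
noncomputable def K : List (List (ℕ)) := [K_0]
noncomputable def R_0 : List (Rule) := [Rule.mk (nat_lit 4) (nat_lit 31) (Steps.bwd (nat_lit 5) (Steps.fwd (nat_lit 1536) (Steps.fwd (nat_lit 2560) Steps.nil))) (nat_lit 12) (nat_lit 1),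
  Rule.mk (nat_lit 1) (nat_lit 49) (Steps.bwd (nat_lit 5) (Steps.bwd (nat_lit 1) (Steps.bwd (nat_lit 5) (Steps.bwd (nat_lit 1) (Steps.fwd (nat_lit 2560) Steps.nil))))) (nat_lit 11) (nat_lit 0),
  Rule.mk (nat_lit 1) (nat_lit 22) (Steps.bwd (nat_lit 1) (Steps.bwd (nat_lit 1) Steps.nil)) (nat_lit 0) (nat_lit 0),
  Rule.mk (nat_lit 3) (nat_lit 31) (Steps.bwd (nat_lit 5) (Steps.bwd (nat_lit 3) (Steps.fwd (nat_lit 2560) Steps.nil))) (nat_lit 13) (nat_lit 0),
  Rule.mk (nat_lit 2) (nat_lit 76) (Steps.bwd (nat_lit 2) (Steps.bwd (nat_lit 3) (Steps.fwd (nat_lit 512) (Steps.fwd (nat_lit 512) (Steps.fwd (nat_lit 2048) (Steps.fwd (nat_lit 512) (Steps.fwd (nat_lit 512) (Steps.bwd (nat_lit 3) Steps.nil)))))))) (nat_lit 7) (nat_lit 0),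
  Rule.mk (nat_lit 2) (nat_lit 22) (Steps.bwd (nat_lit 2) (Steps.bwd (nat_lit 2) Steps.nil)) (nat_lit 1) (nat_lit 0),
  Rule.mk (nat_lit 3) (nat_lit 49) (Steps.bwd (nat_lit 2) (Steps.bwd (nat_lit 3) (Steps.fwd (nat_lit 512) (Steps.bwd (nat_lit 3) (Steps.bwd (nat_lit 2) Steps.nil))))) (nat_lit 4) (nat_lit 0),
  Rule.mk (nat_lit 3) (nat_lit 22) (Steps.bwd (nat_lit 3) (Steps.bwd (nat_lit 3) Steps.nil)) (nat_lit 2) (nat_lit 0),
  Rule.mk (nat_lit 5) (nat_lit 31) (Steps.bwd (nat_lit 3) (Steps.fwd (nat_lit 2560) (Steps.bwd (nat_lit 3) Steps.nil))) (nat_lit 13) (nat_lit 1),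
  Rule.mk (nat_lit 2) (nat_lit 49) (Steps.bwd (nat_lit 3) (Steps.fwd (nat_lit 512) (Steps.fwd (nat_lit 2048) (Steps.fwd (nat_lit 512) (Steps.bwd (nat_lit 3) Steps.nil))))) (nat_lit 4) (nat_lit 1),
  Rule.mk (nat_lit 3) (nat_lit 49) (Steps.bwd (nat_lit 2) (Steps.bwd (nat_lit 3) (Steps.bwd (nat_lit 2) (Steps.bwd (nat_lit 3) (Steps.bwd (nat_lit 2) Steps.nil))))) (nat_lit 4) (nat_lit 0),
  Rule.mk (nat_lit 2) (nat_lit 49) (Steps.bwd (nat_lit 5) (Steps.bwd (nat_lit 2) (Steps.fwd (nat_lit 2560) (Steps.bwd (nat_lit 2) (Steps.fwd (nat_lit 2560) Steps.nil))))) (nat_lit 10) (nat_lit 1)]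
noncomputable def R : List (List (Rule)) := [R_0]
def LW : List Word := [[], [0], [1], [2], [3], [4], [0], [1], [2], [3]]
def par : Par := ⟨9, 4, 13, 22, 511, 8191, 4194303⟩
theorem hpar : par.ok := by decide
theorem hR0_0 : lall (R) (fun l => lall l (ruleOK r2 LW par)) = true := by decide +kernel
theorem hR0 : lall (R) (fun l => lall l (ruleOK r2 LW par)) = true := hR0_0
theorem hR : RulesOK r2 LW par R := rulesOK_of rfl hR0
def cols : List (ℕ × ℕ) := [(512, 2), (1536, 4), (2560, 5)]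
theorem hcols : lall cols (colOK r2 LW par) = true := by decide +kernel
noncomputable def JS0 : List ℕ := [nat_lit 0x4808060a04b0220208884412160a84702006080800080608842c000f6008541208085004220e9088360060d800808060f06b83000c000083c06020083416a0d0602d0000d3068081a0c059030000c1]
theorem S0_c : blocks (facts 9 4 13 22 511 8191 4194303 9 511 4 15 A R 32) 32 JS0 268 = true := by decide +kernel
theorem S0 : On (Step.{u} r2 LW par A) 268 300 :=
  steps_of_blocks hpar hR S0_c (by decide +kernel)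
theorem D0_c : allB (defOK 9 13 22 511 4194303 267 A K) 1 2 = true := by decide +kernel
theorem D0 : On (fun r => defOK par.W par.WL par.E par.mW par.mE 267 A K r = true) 256 384 :=
  On.of_allB D0_c
noncomputable def JW0 : List ℕ := [nat_lit 0x1142107c470942311026124460c84f144380dc2d0c0290b02e0ac50128351544c0f0541483a1643f1585810042]
theorem W0_c : blocks (rows 9 4 13 22 511 8191 4194303 10 1023 30 A 300 12 cols 42) 42 JW0 0 = true := by decide +kernel
theorem W0 : On (Row.{u} r2 LW par A 300 12 cols) 0 42 :=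
  rows_of_blocks hpar (by decide) hcols W0_c (by decide +kernel)
theorem idx : Idx.{u} r2 [[0], [2], [4]] [[0], [2]] 12 :=
  idx_of_cert hpar hR (K := K) (by decide +kernel) (T := 267) (T' := 384) (by decide) D0
    (subs := [1,3]) (by decide +kernel) (T1 := 268) (by decide) (N := 300) S0
    (by decide) (n' := 42) (by decide) W0 (by decide +kernel) (by decide +kernel)
end T2
namespace T3
noncomputable def A_0 : List (ℕ) := [nat_lit 0x27a13c9ea4f27913c8e44723b11c8e84720910482c4120a1048c8461e29188c4462691348aa4d2419349c44e2729389864e25993096a4c25b1308844c24912c926481fa924864491f292086c441ca9108664425190c9444a213128844422121087ec3e1fa0f87c84522a0fc6623f1e3114744451da8e87643a17b0ec5c63b1930e87863c1790f06442f17a8c84a6321818bc7a63d1eb0f4624301810f460a311218c06c6361b30d8524361610a452c2c14a8b04062c1518a4704391cb0e05a4381c98e0806391bb1006a4401a10d46e6371590a8544370f98a856a2a1aa8d06a6341418d45ca2e11b0b84e22e19b0cc5aa3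313a0cc4c2270e309844a260eb09c5ac2d1120b4428220bb0844422114088850a28120894362240cb09034c250d08642221a0ca8683281a11a06446a230e088c3a61c0ea04c2ea1d0c2870306170f10602e41e0818603e2200b087c28c1f0ab0803ca1e0a20782a8140a88501c2150b20581ea1607a03c1e40f0da06c24a1b09204824412052844186110588301660c02a82c2620b06084c26c130830401a4100428381a60e04903412c0d0498341020803a0201420a0320280a80602201c0cc050108140e20601881c06a020198080260300a80402401002800006000008009ec4e23a8f482a362331349a64927192c9844825910c92c482411108864a21a8e094a402128dc7e23e1f08cc8a43b1d98e87462e1e10c8646311798907a4311830c4626251b10b05862b14987c706401c90b4804341b90ac54c341a18a06ac2b1598805c22619a0984c82713a8845a8211088a044c1814307848a2512886c348230c88444621d0e8870386130c105c2e6100fa880402160f20542aa140a08382cc0e07b02036c110930282260b05b03026a10062818204090718241aa0704a810108040520140a20403080c0ec0402080806c0201180402c00]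
noncomputable def A : List (List (ℕ)) := [A_0]
noncomputable def K_0 : List (ℕ) := [nat_lit 0xa75269548a3d0a8d45a6d2e7d44a1d069930a04fe713b9ecf2633297cd6592d94cea6d379ccaa4d3495cba672393ca243228f4924b188cc5e3b1c894823f1b8d4522d1587446210c89c2e150d87c1e1308824160d03814060000]
noncomputable def K : List (List (ℕ)) := [K_0]
noncomputable def R_0 : List (Rule) := [Rule.mk (nat_lit 2) (nat_lit 37) (Steps.bwd (nat_lit 6) (Steps.fwd (nat_lit 512) (Steps.fwd (nat_lit 3072) Steps.nil))) (nat_lit 16) (nat_lit 1),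
  Rule.mk (nat_lit 5) (nat_lit 37) (Steps.bwd (nat_lit 6) (Steps.fwd (nat_lit 2560) (Steps.fwd (nat_lit 3072) Steps.nil))) (nat_lit 20) (nat_lit 1),
  Rule.mk (nat_lit 3) (nat_lit 57) (Steps.bwd (nat_lit 6) (Steps.bwd (nat_lit 3) (Steps.bwd (nat_lit 6) (Steps.bwd (nat_lit 3) (Steps.fwd (nat_lit 3072) Steps.nil))))) (nat_lit 19) (nat_lit 0),
  Rule.mk (nat_lit 3) (nat_lit 27) (Steps.bwd (nat_lit 3) (Steps.bwd (nat_lit 3) Steps.nil)) (nat_lit 2) (nat_lit 0),
  Rule.mk (nat_lit 5) (nat_lit 37) (Steps.bwd (nat_lit 3) (Steps.fwd (nat_lit 2560) (Steps.bwd (nat_lit 3) Steps.nil))) (nat_lit 13) (nat_lit 1),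
  Rule.mk (nat_lit 1) (nat_lit 37) (Steps.bwd (nat_lit 6) (Steps.bwd (nat_lit 1) (Steps.fwd (nat_lit 3072) Steps.nil))) (nat_lit 17) (nat_lit 0),
  Rule.mk (nat_lit 1) (nat_lit 27) (Steps.bwd (nat_lit 1) (Steps.bwd (nat_lit 1) Steps.nil)) (nat_lit 0) (nat_lit 0),
  Rule.mk (nat_lit 6) (nat_lit 37) (Steps.bwd (nat_lit 1) (Steps.fwd (nat_lit 3072) (Steps.bwd (nat_lit 1) Steps.nil))) (nat_lit 17) (nat_lit 1),
  Rule.mk (nat_lit 4) (nat_lit 87) (Steps.bwd (nat_lit 1) (Steps.bwd (nat_lit 1) (Steps.fwd (nat_lit 1536) (Steps.fwd (nat_lit 1024) (Steps.fwd (nat_lit 1024) (Steps.fwd (nat_lit 1536) (Steps.bwd (nat_lit 1) (Steps.bwd (nat_lit 1) Steps.nil)))))))) (nat_lit 6) (nat_lit 2),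
  Rule.mk (nat_lit 4) (nat_lit 57) (Steps.bwd (nat_lit 1) (Steps.fwd (nat_lit 1536) (Steps.fwd (nat_lit 1024) (Steps.fwd (nat_lit 1536) (Steps.bwd (nat_lit 1) Steps.nil))))) (nat_lit 5) (nat_lit 1),
  Rule.mk (nat_lit 4) (nat_lit 27) (Steps.bwd (nat_lit 4) (Steps.bwd (nat_lit 4) Steps.nil)) (nat_lit 3) (nat_lit 0),
  Rule.mk (nat_lit 1) (nat_lit 57) (Steps.bwd (nat_lit 4) (Steps.bwd (nat_lit 1) (Steps.bwd (nat_lit 4) (Steps.bwd (nat_lit 1) (Steps.bwd (nat_lit 4) Steps.nil))))) (nat_lit 5) (nat_lit 0),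
  Rule.mk (nat_lit 1) (nat_lit 57) (Steps.bwd (nat_lit 4) (Steps.bwd (nat_lit 1) (Steps.fwd (nat_lit 1536) (Steps.bwd (nat_lit 1) (Steps.bwd (nat_lit 4) Steps.nil))))) (nat_lit 5) (nat_lit 0),
  Rule.mk (nat_lit 3) (nat_lit 37) (Steps.bwd (nat_lit 5) (Steps.fwd (nat_lit 2048) (Steps.fwd (nat_lit 2560) Steps.nil))) (nat_lit 13) (nat_lit 0),
  Rule.mk (nat_lit 6) (nat_lit 37) (Steps.bwd (nat_lit 5) (Steps.bwd (nat_lit 6) (Steps.fwd (nat_lit 2560) Steps.nil))) (nat_lit 20) (nat_lit 0),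
  Rule.mk (nat_lit 2) (nat_lit 57) (Steps.bwd (nat_lit 5) (Steps.fwd (nat_lit 512) (Steps.bwd (nat_lit 5) (Steps.fwd (nat_lit 512) (Steps.fwd (nat_lit 2560) Steps.nil))))) (nat_lit 10) (nat_lit 1),
  Rule.mk (nat_lit 5) (nat_lit 37) (Steps.bwd (nat_lit 3) (Steps.bwd (nat_lit 5) (Steps.fwd (nat_lit 2048) Steps.nil))) (nat_lit 13) (nat_lit 1),
  Rule.mk (nat_lit 2) (nat_lit 27) (Steps.bwd (nat_lit 2) (Steps.bwd (nat_lit 2) Steps.nil)) (nat_lit 1) (nat_lit 0),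
  Rule.mk (nat_lit 6) (nat_lit 37) (Steps.bwd (nat_lit 2) (Steps.bwd (nat_lit 6) (Steps.bwd (nat_lit 2) Steps.nil))) (nat_lit 16) (nat_lit 0),
  Rule.mk (nat_lit 6) (nat_lit 37) (Steps.bwd (nat_lit 5) (Steps.fwd (nat_lit 3072) (Steps.fwd (nat_lit 2560) Steps.nil))) (nat_lit 20) (nat_lit 0),
  Rule.mk (nat_lit 1) (nat_lit 57) (Steps.bwd (nat_lit 5) (Steps.fwd (nat_lit 1024) (Steps.bwd (nat_lit 5) (Steps.bwd (nat_lit 1) (Steps.fwd (nat_lit 2560) Steps.nil))))) (nat_lit 11) (nat_lit 0),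
  Rule.mk (nat_lit 5) (nat_lit 37) (Steps.bwd (nat_lit 6) (Steps.bwd (nat_lit 5) (Steps.bwd (nat_lit 6) Steps.nil))) (nat_lit 20) (nat_lit 1),
  Rule.mk (nat_lit 3) (nat_lit 37) (Steps.bwd (nat_lit 5) (Steps.fwd (nat_lit 2048) (Steps.bwd (nat_lit 5) Steps.nil))) (nat_lit 13) (nat_lit 0),
  Rule.mk (nat_lit 1) (nat_lit 57) (Steps.bwd (nat_lit 5) (Steps.bwd (nat_lit 1) (Steps.bwd (nat_lit 5) (Steps.bwd (nat_lit 1) (Steps.bwd (nat_lit 5) Steps.nil))))) (nat_lit 11) (nat_lit 0),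
  Rule.mk (nat_lit 5) (nat_lit 37) (Steps.bwd (nat_lit 3) (Steps.fwd (nat_lit 2560) (Steps.fwd (nat_lit 2048) Steps.nil))) (nat_lit 13) (nat_lit 1),
  Rule.mk (nat_lit 4) (nat_lit 57) (Steps.bwd (nat_lit 6) (Steps.bwd (nat_lit 4) (Steps.fwd (nat_lit 3072) (Steps.bwd (nat_lit 4) (Steps.fwd (nat_lit 3072) Steps.nil))))) (nat_lit 18) (nat_lit 1),
  Rule.mk (nat_lit 4) (nat_lit 57) (Steps.bwd (nat_lit 6) (Steps.fwd (nat_lit 1536) (Steps.fwd (nat_lit 3072) (Steps.fwd (nat_lit 1536) (Steps.fwd (nat_lit 3072) Steps.nil))))) (nat_lit 18) (nat_lit 1),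
  Rule.mk (nat_lit 1) (nat_lit 57) (Steps.bwd (nat_lit 5) (Steps.bwd (nat_lit 1) (Steps.fwd (nat_lit 2560) (Steps.bwd (nat_lit 1) (Steps.bwd (nat_lit 5) Steps.nil))))) (nat_lit 11) (nat_lit 0),
  Rule.mk (nat_lit 5) (nat_lit 37) (Steps.bwd (nat_lit 4) (Steps.bwd (nat_lit 5) (Steps.bwd (nat_lit 4) Steps.nil))) (nat_lit 12) (nat_lit 0),
  Rule.mk (nat_lit 6) (nat_lit 37) (Steps.bwd (nat_lit 1) (Steps.bwd (nat_lit 6) (Steps.bwd (nat_lit 1) Steps.nil))) (nat_lit 17) (nat_lit 1),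
  Rule.mk (nat_lit 6) (nat_lit 37) (Steps.bwd (nat_lit 5) (Steps.fwd (nat_lit 3072) (Steps.bwd (nat_lit 5) Steps.nil))) (nat_lit 20) (nat_lit 0),
  Rule.mk (nat_lit 1) (nat_lit 57) (Steps.bwd (nat_lit 5) (Steps.bwd (nat_lit 1) (Steps.fwd (nat_lit 2560) (Steps.fwd (nat_lit 1024) (Steps.bwd (nat_lit 5) Steps.nil))))) (nat_lit 11) (nat_lit 0),
  Rule.mk (nat_lit 3) (nat_lit 57) (Steps.bwd (nat_lit 2) (Steps.bwd (nat_lit 3) (Steps.bwd (nat_lit 2) (Steps.bwd (nat_lit 3) (Steps.bwd (nat_lit 2) Steps.nil))))) (nat_lit 4) (nat_lit 0),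
  Rule.mk (nat_lit 2) (nat_lit 87) (Steps.fwd (nat_lit 2048) (Steps.fwd (nat_lit 512) (Steps.fwd (nat_lit 512) (Steps.bwd (nat_lit 3) (Steps.bwd (nat_lit 2) (Steps.bwd (nat_lit 2) (Steps.bwd (nat_lit 3) (Steps.bwd (nat_lit 2) Steps.nil)))))))) (nat_lit 7) (nat_lit 1),
  Rule.mk (nat_lit 2) (nat_lit 87) (Steps.bwd (nat_lit 2) (Steps.bwd (nat_lit 3) (Steps.bwd (nat_lit 2) (Steps.bwd (nat_lit 2) (Steps.bwd (nat_lit 3) (Steps.fwd (nat_lit 512) (Steps.fwd (nat_lit 512) (Steps.fwd (nat_lit 2048) Steps.nil)))))))) (nat_lit 7) (nat_lit 0),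
  Rule.mk (nat_lit 3) (nat_lit 57) (Steps.bwd (nat_lit 2) (Steps.fwd (nat_lit 2048) (Steps.fwd (nat_lit 512) (Steps.fwd (nat_lit 2048) (Steps.bwd (nat_lit 2) Steps.nil))))) (nat_lit 4) (nat_lit 0),
  Rule.mk (nat_lit 5) (nat_lit 37) (Steps.bwd (nat_lit 3) (Steps.bwd (nat_lit 5) (Steps.bwd (nat_lit 3) Steps.nil))) (nat_lit 13) (nat_lit 1),
  Rule.mk (nat_lit 5) (nat_lit 57) (Steps.bwd (nat_lit 1) (Steps.fwd (nat_lit 2560) (Steps.fwd (nat_lit 1024) (Steps.fwd (nat_lit 2560) (Steps.fwd (nat_lit 1024) Steps.nil))))) (nat_lit 11) (nat_lit 1),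
  Rule.mk (nat_lit 4) (nat_lit 37) (Steps.bwd (nat_lit 5) (Steps.fwd (nat_lit 1536) (Steps.bwd (nat_lit 5) Steps.nil))) (nat_lit 12) (nat_lit 1),
  Rule.mk (nat_lit 3) (nat_lit 37) (Steps.fwd (nat_lit 2560) (Steps.bwd (nat_lit 3) (Steps.bwd (nat_lit 5) Steps.nil))) (nat_lit 13) (nat_lit 0),
  Rule.mk (nat_lit 5) (nat_lit 57) (Steps.bwd (nat_lit 1) (Steps.fwd (nat_lit 2560) (Steps.fwd (nat_lit 1024) (Steps.bwd (nat_lit 5) (Steps.bwd (nat_lit 1) Steps.nil))))) (nat_lit 11) (nat_lit 1),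
  Rule.mk (nat_lit 4) (nat_lit 57) (Steps.bwd (nat_lit 1) (Steps.fwd (nat_lit 1536) (Steps.bwd (nat_lit 1) (Steps.fwd (nat_lit 1536) (Steps.bwd (nat_lit 1) Steps.nil))))) (nat_lit 5) (nat_lit 1),
  Rule.mk (nat_lit 5) (nat_lit 37) (Steps.bwd (nat_lit 4) (Steps.fwd (nat_lit 2560) (Steps.bwd (nat_lit 4) Steps.nil))) (nat_lit 12) (nat_lit 0),
  Rule.mk (nat_lit 1) (nat_lit 57) (Steps.bwd (nat_lit 4) (Steps.bwd (nat_lit 1) (Steps.bwd (nat_lit 4) (Steps.bwd (nat_lit 1) (Steps.fwd (nat_lit 1536) Steps.nil))))) (nat_lit 5) (nat_lit 0),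
  Rule.mk (nat_lit 1) (nat_lit 37) (Steps.bwd (nat_lit 6) (Steps.fwd (nat_lit 1024) (Steps.fwd (nat_lit 3072) Steps.nil))) (nat_lit 17) (nat_lit 0),
  Rule.mk (nat_lit 6) (nat_lit 37) (Steps.bwd (nat_lit 1) (Steps.bwd (nat_lit 6) (Steps.fwd (nat_lit 1024) Steps.nil))) (nat_lit 17) (nat_lit 1),
  Rule.mk (nat_lit 4) (nat_lit 57) (Steps.bwd (nat_lit 6) (Steps.fwd (nat_lit 1536) (Steps.fwd (nat_lit 3072) (Steps.fwd (nat_lit 1536) (Steps.bwd (nat_lit 6) Steps.nil))))) (nat_lit 18) (nat_lit 1),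
  Rule.mk (nat_lit 6) (nat_lit 57) (Steps.bwd (nat_lit 4) (Steps.fwd (nat_lit 3072) (Steps.fwd (nat_lit 1536) (Steps.fwd (nat_lit 3072) (Steps.bwd (nat_lit 4) Steps.nil))))) (nat_lit 18) (nat_lit 0),
  Rule.mk (nat_lit 6) (nat_lit 57) (Steps.bwd (nat_lit 4) (Steps.fwd (nat_lit 3072) (Steps.bwd (nat_lit 4) (Steps.fwd (nat_lit 3072) (Steps.fwd (nat_lit 1536) Steps.nil))))) (nat_lit 18) (nat_lit 0),
  Rule.mk (nat_lit 1) (nat_lit 37) (Steps.fwd (nat_lit 3072) (Steps.bwd (nat_lit 1) (Steps.bwd (nat_lit 6) Steps.nil))) (nat_lit 17) (nat_lit 0),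
  Rule.mk (nat_lit 6) (nat_lit 57) (Steps.bwd (nat_lit 4) (Steps.fwd (nat_lit 3072) (Steps.fwd (nat_lit 1536) (Steps.bwd (nat_lit 6) (Steps.bwd (nat_lit 4) Steps.nil))))) (nat_lit 18) (nat_lit 0),
  Rule.mk (nat_lit 5) (nat_lit 57) (Steps.bwd (nat_lit 1) (Steps.fwd (nat_lit 2560) (Steps.bwd (nat_lit 1) (Steps.fwd (nat_lit 2560) (Steps.bwd (nat_lit 1) Steps.nil))))) (nat_lit 11) (nat_lit 1),
  Rule.mk (nat_lit 3) (nat_lit 57) (Steps.bwd (nat_lit 6) (Steps.bwd (nat_lit 3) (Steps.fwd (nat_lit 3072) (Steps.fwd (nat_lit 2048) (Steps.fwd (nat_lit 3072) Steps.nil))))) (nat_lit 19) (nat_lit 0),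
  Rule.mk (nat_lit 5) (nat_lit 37) (Steps.bwd (nat_lit 6) (Steps.fwd (nat_lit 2560) (Steps.bwd (nat_lit 6) Steps.nil))) (nat_lit 20) (nat_lit 1),
  Rule.mk (nat_lit 3) (nat_lit 57) (Steps.bwd (nat_lit 6) (Steps.bwd (nat_lit 3) (Steps.bwd (nat_lit 6) (Steps.fwd (nat_lit 2048) (Steps.bwd (nat_lit 6) Steps.nil))))) (nat_lit 19) (nat_lit 0),
  Rule.mk (nat_lit 2) (nat_lit 87) (Steps.bwd (nat_lit 2) (Steps.bwd (nat_lit 3) (Steps.fwd (nat_lit 512) (Steps.fwd (nat_lit 512) (Steps.fwd (nat_lit 2048) (Steps.fwd (nat_lit 512) (Steps.fwd (nat_lit 512) (Steps.bwd (nat_lit 3) Steps.nil)))))))) (nat_lit 7) (nat_lit 0),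
  Rule.mk (nat_lit 3) (nat_lit 57) (Steps.bwd (nat_lit 2) (Steps.bwd (nat_lit 3) (Steps.fwd (nat_lit 512) (Steps.bwd (nat_lit 3) (Steps.bwd (nat_lit 2) Steps.nil))))) (nat_lit 4) (nat_lit 0),
  Rule.mk (nat_lit 2) (nat_lit 37) (Steps.bwd (nat_lit 6) (Steps.bwd (nat_lit 2) (Steps.bwd (nat_lit 6) Steps.nil))) (nat_lit 16) (nat_lit 1),
  Rule.mk (nat_lit 6) (nat_lit 37) (Steps.bwd (nat_lit 2) (Steps.fwd (nat_lit 3072) (Steps.bwd (nat_lit 2) Steps.nil))) (nat_lit 16) (nat_lit 0),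
  Rule.mk (nat_lit 3) (nat_lit 57) (Steps.bwd (nat_lit 2) (Steps.fwd (nat_lit 2048) (Steps.fwd (nat_lit 512) (Steps.bwd (nat_lit 3) (Steps.bwd (nat_lit 2) Steps.nil))))) (nat_lit 4) (nat_lit 0),
  Rule.mk (nat_lit 2) (nat_lit 57) (Steps.bwd (nat_lit 3) (Steps.bwd (nat_lit 2) (Steps.bwd (nat_lit 3) (Steps.fwd (nat_lit 512) (Steps.fwd (nat_lit 2048) Steps.nil))))) (nat_lit 4) (nat_lit 1),
  Rule.mk (nat_lit 6) (nat_lit 57) (Steps.bwd (nat_lit 3) (Steps.fwd (nat_lit 3072) (Steps.bwd (nat_lit 3) (Steps.bwd (nat_lit 6) (Steps.bwd (nat_lit 3) Steps.nil))))) (nat_lit 19) (nat_lit 1),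
  Rule.mk (nat_lit 6) (nat_lit 57) (Steps.bwd (nat_lit 3) (Steps.fwd (nat_lit 3072) (Steps.bwd (nat_lit 3) (Steps.fwd (nat_lit 3072) (Steps.bwd (nat_lit 3) Steps.nil))))) (nat_lit 19) (nat_lit 1),
  Rule.mk (nat_lit 2) (nat_lit 57) (Steps.bwd (nat_lit 3) (Steps.fwd (nat_lit 512) (Steps.fwd (nat_lit 2048) (Steps.fwd (nat_lit 512) (Steps.bwd (nat_lit 3) Steps.nil))))) (nat_lit 4) (nat_lit 1)]
noncomputable def R_1 : List (Rule) := [Rule.mk (nat_lit 3) (nat_lit 57) (Steps.bwd (nat_lit 6) (Steps.bwd (nat_lit 3) (Steps.fwd (nat_lit 3072) (Steps.fwd (nat_lit 2048) (Steps.bwd (nat_lit 6) Steps.nil))))) (nat_lit 19) (nat_lit 0),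
  Rule.mk (nat_lit 6) (nat_lit 57) (Steps.bwd (nat_lit 3) (Steps.fwd (nat_lit 3072) (Steps.fwd (nat_lit 2048) (Steps.bwd (nat_lit 6) (Steps.bwd (nat_lit 3) Steps.nil))))) (nat_lit 19) (nat_lit 1),
  Rule.mk (nat_lit 2) (nat_lit 37) (Steps.fwd (nat_lit 3072) (Steps.bwd (nat_lit 2) (Steps.bwd (nat_lit 6) Steps.nil))) (nat_lit 16) (nat_lit 1),
  Rule.mk (nat_lit 5) (nat_lit 37) (Steps.fwd (nat_lit 3072) (Steps.fwd (nat_lit 2560) (Steps.bwd (nat_lit 6) Steps.nil))) (nat_lit 20) (nat_lit 1),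
  Rule.mk (nat_lit 4) (nat_lit 87) (Steps.bwd (nat_lit 1) (Steps.bwd (nat_lit 1) (Steps.bwd (nat_lit 4) (Steps.bwd (nat_lit 1) (Steps.bwd (nat_lit 1) (Steps.fwd (nat_lit 1536) (Steps.fwd (nat_lit 1024) (Steps.fwd (nat_lit 1024) Steps.nil)))))))) (nat_lit 6) (nat_lit 2),
  Rule.mk (nat_lit 4) (nat_lit 87) (Steps.fwd (nat_lit 1024) (Steps.fwd (nat_lit 1024) (Steps.fwd (nat_lit 1536) (Steps.bwd (nat_lit 1) (Steps.bwd (nat_lit 1) (Steps.bwd (nat_lit 4) (Steps.bwd (nat_lit 1) (Steps.bwd (nat_lit 1) Steps.nil)))))))) (nat_lit 6) (nat_lit 2),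
  Rule.mk (nat_lit 4) (nat_lit 37) (Steps.bwd (nat_lit 5) (Steps.fwd (nat_lit 1536) (Steps.fwd (nat_lit 2560) Steps.nil))) (nat_lit 12) (nat_lit 1),
  Rule.mk (nat_lit 2) (nat_lit 57) (Steps.bwd (nat_lit 5) (Steps.bwd (nat_lit 2) (Steps.bwd (nat_lit 5) (Steps.bwd (nat_lit 2) (Steps.fwd (nat_lit 2560) Steps.nil))))) (nat_lit 10) (nat_lit 1),
  Rule.mk (nat_lit 2) (nat_lit 57) (Steps.bwd (nat_lit 5) (Steps.bwd (nat_lit 2) (Steps.fwd (nat_lit 2560) (Steps.bwd (nat_lit 2) (Steps.fwd (nat_lit 2560) Steps.nil))))) (nat_lit 10) (nat_lit 1),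
  Rule.mk (nat_lit 3) (nat_lit 37) (Steps.bwd (nat_lit 5) (Steps.bwd (nat_lit 3) (Steps.fwd (nat_lit 2560) Steps.nil))) (nat_lit 13) (nat_lit 0),
  Rule.mk (nat_lit 5) (nat_lit 57) (Steps.bwd (nat_lit 2) (Steps.fwd (nat_lit 2560) (Steps.bwd (nat_lit 2) (Steps.bwd (nat_lit 5) (Steps.fwd (nat_lit 512) Steps.nil))))) (nat_lit 10) (nat_lit 0),
  Rule.mk (nat_lit 2) (nat_lit 37) (Steps.bwd (nat_lit 6) (Steps.bwd (nat_lit 2) (Steps.fwd (nat_lit 3072) Steps.nil))) (nat_lit 16) (nat_lit 1),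
  Rule.mk (nat_lit 3) (nat_lit 37) (Steps.fwd (nat_lit 2560) (Steps.fwd (nat_lit 2048) (Steps.bwd (nat_lit 5) Steps.nil))) (nat_lit 13) (nat_lit 0),
  Rule.mk (nat_lit 5) (nat_lit 57) (Steps.bwd (nat_lit 2) (Steps.fwd (nat_lit 2560) (Steps.fwd (nat_lit 512) (Steps.bwd (nat_lit 5) (Steps.bwd (nat_lit 2) Steps.nil))))) (nat_lit 10) (nat_lit 0),
  Rule.mk (nat_lit 3) (nat_lit 87) (Steps.bwd (nat_lit 2) (Steps.bwd (nat_lit 2) (Steps.bwd (nat_lit 3) (Steps.bwd (nat_lit 2) (Steps.bwd (nat_lit 2) (Steps.bwd (nat_lit 3) (Steps.bwd (nat_lit 2) (Steps.bwd (nat_lit 2) Steps.nil)))))))) (nat_lit 7) (nat_lit 2),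
  Rule.mk (nat_lit 2) (nat_lit 57) (Steps.bwd (nat_lit 3) (Steps.bwd (nat_lit 2) (Steps.bwd (nat_lit 3) (Steps.bwd (nat_lit 2) (Steps.bwd (nat_lit 3) Steps.nil))))) (nat_lit 4) (nat_lit 1)]
noncomputable def R : List (List (Rule)) := [R_0, R_1]
def LW : List Word := [[], [0], [1], [2], [3], [4], [6], [0], [1], [2], [3], [4], [5]]
def par : Par := ⟨9, 4, 13, 22, 511, 8191, 4194303⟩
theorem hpar : par.ok := by decide
theorem hR0_0 : lall (R) (fun l => lall l (ruleOK r2 LW par)) = true := by decide +kernel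
theorem hR0 : lall (R) (fun l => lall l (ruleOK r2 LW par)) = true := hR0_0
theorem hR : RulesOK r2 LW par R := rulesOK_of rfl hR0
def cols : List (ℕ × ℕ) := [(512, 2), (1536, 4), (2560, 5), (3072, 6)]
theorem hcols : lall cols (colOK r2 LW par) = true := by decide +kernel
noncomputable def JS0 : List ℕ := [nat_lit 0x5f04c161a45f342f0222f0119c03178c8022e84004130586717cc000078bc5c101745b2c008002d0616c1017802168a8b2000b250000105a26010b2485c16c5922010b0105917c0c02c58202c0ba2b8f15c051587000040142e0ae34031585800028042b8ac300015458042d012038ac285400459020080185500848022a8a6205514838002907150531483002010a8140014c20a6018a6290a20c520045204288042881,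
  nat_lit 0xc001b8a0023e8dc78001bc38fa1180c378dab0010086c56000d62c011b8210706b54000083700635a91ac6a0e0080601280006c1e1380604804000d098031d8684a000d80501000a41ac091b41e07c761a06746330000d83c3b0120400c881a07c741986542000ce1c0802808198654033800321f01068190f000328c8740018c58023702c0a8c8280018c38240b824310c270621ac140486236310203082184151c06c184d0c0098c00460188630106036300042f82,
  nat_lit 0x7e08008140d02c3f3c010801f9d8003e921f801201d00201056400f8e47b00090001492219054148fc3d380a82d2147b1e9b8f6000f2d801048790a000f01081234271e4786a008f80680e3cb4064051e040063b8700405060031dd980c018ecac761d4580040004c8800d0150047462018e8399d050031ccf8003a82a010e6c0001c858003e8600b0e6bc141cc715c000e01c71044705a3802e3802000710e0f8420f8e037a0,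
  nat_lit 0x92010940b83229c912422920478701c03241d80247920040700e2000028050c0724c900048d7e4691810040e0a80948c84000080391a46210008b240094829066464000406228291a44840148908010081711644b900489221d90e00120042b2744b0b02b22086700013643850ac300b0862160802030204390c84000088576001084802280410e48580011120891641bf0040e2092914408402c810800904480200c0600c807c45918421023fbd,
  nat_lit 0x290360e4bb29249461a14650a20c8a28e5114653808511b07402284114000141300128805024a0a00c0144f990209e080080a069404f500000227528004e0400c0602c0c030a027c9c9e010085180c4dce0049c269d9384c92008992400018014d0280126010024c12f309d0f0ab004979601008030084bc20a89825928004a84258a6256512a148605392b249509c94284a0561694c4a4824c2824e38040201602002cc010005922008641994e0380a01c6,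
  nat_lit 0xa82b413040a8365381c53822980c29a614c1a06a5d94d24a50c4a5285205e5247]
theorem S0_c : blocks (facts 9 4 13 22 511 8191 4194303 10 1023 7 127 A R 32) 32 JS0 337 = true := by decide +kernel
theorem S0 : On (Step.{u} r2 LW par A) 337 529 :=
  steps_of_blocks hpar hR S0_c (by decide +kernel)
theorem D0_c : allB (defOK 9 13 22 511 4194303 335 A K) 1 2 = true := by decide +kernel
theorem D0 : On (fun r => defOK par.W par.WL par.E par.mW par.mE 335 A K r = true) 256 384 :=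
  On.of_allB D0_c
noncomputable def JW0 : List ℕ := [nat_lit 0x24c7c4de1243b84a8fa91d1da4588a9e61d2460891e83fe4f89e9e0206420f1906202424859043b4464901ed1ea45c8d11f3f64d89a9f22527dc9793224e7d8969302a481cf51504024fca09433fc510a31e42a8818f720b3fa4dc9c93b3f4560ad1f82bc83cb0157408824a514840a5310114e4005150a9662be8450615d3f856509962436838b29742de820b49722dc534b5970434840b6a1643e5dcbd21843c5d8bc21c4465f11017f444600c1184,
  nat_lit 0xf61943e8820f41a43f9a21406204f1b310a124491ad1182244708b120220d408717a1b4611c1178670600bb18a680651c5158628551b93963546c0c738c3506b0c91c0388e89a41222604d097368298d70a336a29c540a511a2644e0951b8368d50de1dc38ceb8bf1642d05b0b139434cdd0cd38e348680cf1662d45c0af3ba3e8e41d81d8754728e61d03a8e99ce204778db0fc20077cd80fe1ba438869103b63ac788f81e8750798f62507c0e6122,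
  nat_lit 0x30e0d81a83930c1502b0533181382804d0b81682c1930ba16cc81950e867ccd07332e190c706132c1a0311990786241f83b31a1202384b10813c409a70d41b03705f0d6674380670ea6843c87708462c22841188678df1c3]
theorem W0_c : blocks (rows 9 4 13 22 511 8191 4194303 11 2047 44 A 529 80 cols 32) 32 JW0 0 = true := by decide +kernel
theorem W0 : On (Row.{u} r2 LW par A 529 80 cols) 0 96 :=
  rows_of_blocks hpar (by decide) hcols W0_c (by decide +kernel)
theorem idx : Idx.{u} r2 [[0], [2], [4], [6]] [[0], [2], [4]] 80 :=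
  idx_of_cert hpar hR (K := K) (by decide +kernel) (T := 335) (T' := 384) (by decide) D0
    (subs := [1,3,5]) (by decide +kernel) (T1 := 337) (by decide) (N := 529) S0
    (by decide) (n' := 96) (by decide) W0 (by decide +kernel) (by decide +kernel)
end T3
namespace T4
noncomputable def A_0 : List (ℕ) := [nat_lit 0x2388e062e381ca8e05083823a11c72247202100622401788c45ea3111a0c472e2f1720bc608391828cc604331138c0528301210c04823311b8cc648231120b848c240c2890488240c3060308180c10605ca321438c85cc321708c85422e1530a83ca2a1520a83cc1e0f20783c41e1408a43a2280db0a038c290e086c2421c0db87036a1c0da0704e81b13a89c4ee270f889c40e1f10187c408140ca88034a1f0d186434e1910906832421089868442230b88882ac220b308c42e2110a8842a8210b20542ce150b08541e2160ba05c20a17082040204100ea07426a1d09a04c2641309384816a120698481820d0638341860d0328302820c06885028e140a305022e1108b0441c41107b83c12a0f07183c1440e05383814c0e0518381220904b8241080905882c16e0b03a02c0c80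702a0200ee0603b0180620604081c10c0502082008e0302280c0860301181004e020128080440200a8040280100900400c0000280000600000800ecc6c3c31b4f64743e91e4b84683d11bca64613ca1b8f8875392190de86830b990c886a3539a0d0a743a11c4eac6938b18cdcc603b99c0d865f311160be44f3691a4e04633399a4d26732d1960b06652d9164b2666241124926542520f0784461d89188c8562b1198aac4c1b30d46a43f219148c6660291978a0a603019acd6c7339a998ccc5e2f11349a63f2638f47ee2d2899749ea412ea92ccaa542ba91c9ca402088d08484b1a20947482b2a11148a6442218dc6e22b15a0b058a251288b44cc1a2590f47a62d1f30c45ac211c20cc8ee402008bc6283217a088728291830cc6682812385c30e101908a85ce291538743ce131428a45221d0e209c362121388804021f0f9850344190c984444a2311885c428160b28542a20f0bb03c20c090eb04826c0b09183018c0d0a28441aa070890281e60a07282014a0504a014168060308140e2040438140a20302300c0660201300402e00,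
  nat_lit 0x3b39d8ec8763b29d8ec4763db9e0f66783ea1e0f6a783709e0ea4783e99ece0c7b3891ecfaa7d3eb9f4fac7d3e11f4a6a5c2e1970b8e5c253170d445c3c91f0f4a7a3d19e8f4e7a3d31e8de4723911e8a665329b94c86c5332114cf8c793e39e4dea793a21e4e4a7c38a1f0dec7237b9c8d487230a1bcc2464283184dca61342184a4c6438a990d42682db1a8eaa6a2cb1a0e866e3ab9d0cec743899d4dc4753739c4eec773b91dcd8e773ba9dcda6773611b0d8a6c3119b0bea622f9988e0e622fb188a246236b97cb445f3829b4e066d3011b4ce47031919cb0e672ca99ce6667349180b4e692da9a4b4c5827916892a5a329968b0451242960b665933196c92e5b25116cb244a24396490649243124744482490e8a86481d392886a4a1da1286aa3c1d98f058e3c1db0f07643c1da8d856e3b2331186ee46232918aa8462b2154aaa5622b9589ac562a915888e553311546c6431b20d46c4351338d87e4362198d44ae351a390ca044328b98ca4a6335998ca4450213948a065220b940bc65027b980bae6b2f29acd646b3991cccae732a399896e5e2611789a44c1f393498a4d2619347e64c1fb0fc7ea3f27b14484a51279944ba64f2e91749cc5d329194aec652b915c9ce572ba15c9c44e2721388284225a10484c41210904682421a30d074a341320d074c3a1620e88ec542211508aa4422911070c451b991472c441ba8dc4ec371608dc5622c0fb0ac4ca2b1030b04a8260cb0944c22516889880c4b1f112c7a43e17b0f47ca3d1f18f45a63e16a8b470239]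
noncomputable def A : List (List (ℕ)) := [A_0]
noncomputable def K_0 : List (ℕ) := [nat_lit 0x2f374bd5deeb7bb4df2d96da6dced764b95aacb68a75bec56eb1d328970a959ee34fb352e8b78afd86bd60a1d5ead3dbb5468f50a350a95499ad6eb95d98562793ba9d02832fa44ce695aaccfa59319d556a93f9549e5d2b96c9a65389cc9645238fcda6f298cc6a311e8ec9227219047237288ac5e2d0f894461b148642e1d108442a13058341e0903814060000]
noncomputable def K : List (List (ℕ)) := [K_0]
noncomputable def R_0 : List (Rule) := [Rule.mk (nat_lit 2) (nat_lit 38) (Steps.bwd (nat_lit 7) (Steps.fwd (nat_lit 512) (Steps.fwd (nat_lit 3584) Steps.nil))) (nat_lit 24) (nat_lit 1),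
  Rule.mk (nat_lit 4) (nat_lit 38) (Steps.bwd (nat_lit 7) (Steps.fwd (nat_lit 1536) (Steps.fwd (nat_lit 3584) Steps.nil))) (nat_lit 26) (nat_lit 1),
  Rule.mk (nat_lit 5) (nat_lit 38) (Steps.bwd (nat_lit 7) (Steps.fwd (nat_lit 2560) (Steps.fwd (nat_lit 3584) Steps.nil))) (nat_lit 28) (nat_lit 1),
  Rule.mk (nat_lit 2) (nat_lit 38) (Steps.bwd (nat_lit 6) (Steps.bwd (nat_lit 2) (Steps.fwd (nat_lit 3072) Steps.nil))) (nat_lit 16) (nat_lit 1),
  Rule.mk (nat_lit 5) (nat_lit 38) (Steps.bwd (nat_lit 6) (Steps.fwd (nat_lit 2560) (Steps.fwd (nat_lit 3072) Steps.nil))) (nat_lit 20) (nat_lit 1),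
  Rule.mk (nat_lit 7) (nat_lit 58) (Steps.bwd (nat_lit 6) (Steps.bwd (nat_lit 7) (Steps.fwd (nat_lit 3072) (Steps.fwd (nat_lit 3584) (Steps.fwd (nat_lit 3072) Steps.nil))))) (nat_lit 30) (nat_lit 0),
  Rule.mk (nat_lit 3) (nat_lit 58) (Steps.bwd (nat_lit 6) (Steps.bwd (nat_lit 3) (Steps.bwd (nat_lit 6) (Steps.fwd (nat_lit 2048) (Steps.fwd (nat_lit 3072) Steps.nil))))) (nat_lit 19) (nat_lit 0),
  Rule.mk (nat_lit 3) (nat_lit 28) (Steps.bwd (nat_lit 3) (Steps.bwd (nat_lit 3) Steps.nil)) (nat_lit 2) (nat_lit 0),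
  Rule.mk (nat_lit 5) (nat_lit 38) (Steps.bwd (nat_lit 3) (Steps.fwd (nat_lit 2560) (Steps.bwd (nat_lit 3) Steps.nil))) (nat_lit 13) (nat_lit 1),
  Rule.mk (nat_lit 7) (nat_lit 38) (Steps.bwd (nat_lit 3) (Steps.fwd (nat_lit 3584) (Steps.bwd (nat_lit 3) Steps.nil))) (nat_lit 27) (nat_lit 1),
  Rule.mk (nat_lit 1) (nat_lit 38) (Steps.bwd (nat_lit 7) (Steps.bwd (nat_lit 1) (Steps.fwd (nat_lit 3584) Steps.nil))) (nat_lit 25) (nat_lit 0),
  Rule.mk (nat_lit 6) (nat_lit 38) (Steps.bwd (nat_lit 1) (Steps.fwd (nat_lit 3072) (Steps.bwd (nat_lit 1) Steps.nil))) (nat_lit 17) (nat_lit 1),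
  Rule.mk (nat_lit 1) (nat_lit 28) (Steps.bwd (nat_lit 1) (Steps.bwd (nat_lit 1) Steps.nil)) (nat_lit 0) (nat_lit 0),
  Rule.mk (nat_lit 7) (nat_lit 38) (Steps.bwd (nat_lit 1) (Steps.fwd (nat_lit 3584) (Steps.bwd (nat_lit 1) Steps.nil))) (nat_lit 25) (nat_lit 1),
  Rule.mk (nat_lit 4) (nat_lit 88) (Steps.bwd (nat_lit 1) (Steps.bwd (nat_lit 1) (Steps.fwd (nat_lit 1536) (Steps.fwd (nat_lit 1024) (Steps.fwd (nat_lit 1024) (Steps.fwd (nat_lit 1536) (Steps.bwd (nat_lit 1) (Steps.bwd (nat_lit 1) Steps.nil)))))))) (nat_lit 6) (nat_lit 2),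
  Rule.mk (nat_lit 4) (nat_lit 58) (Steps.bwd (nat_lit 1) (Steps.fwd (nat_lit 1536) (Steps.fwd (nat_lit 1024) (Steps.fwd (nat_lit 1536) (Steps.bwd (nat_lit 1) Steps.nil))))) (nat_lit 5) (nat_lit 1),
  Rule.mk (nat_lit 4) (nat_lit 28) (Steps.bwd (nat_lit 4) (Steps.bwd (nat_lit 4) Steps.nil)) (nat_lit 3) (nat_lit 0),
  Rule.mk (nat_lit 7) (nat_lit 38) (Steps.bwd (nat_lit 4) (Steps.fwd (nat_lit 3584) (Steps.bwd (nat_lit 4) Steps.nil))) (nat_lit 26) (nat_lit 0),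
  Rule.mk (nat_lit 1) (nat_lit 58) (Steps.bwd (nat_lit 4) (Steps.bwd (nat_lit 1) (Steps.bwd (nat_lit 4) (Steps.bwd (nat_lit 1) (Steps.bwd (nat_lit 4) Steps.nil))))) (nat_lit 5) (nat_lit 0),
  Rule.mk (nat_lit 1) (nat_lit 58) (Steps.bwd (nat_lit 4) (Steps.bwd (nat_lit 1) (Steps.fwd (nat_lit 1536) (Steps.bwd (nat_lit 1) (Steps.bwd (nat_lit 4) Steps.nil))))) (nat_lit 5) (nat_lit 0),
  Rule.mk (nat_lit 3) (nat_lit 38) (Steps.bwd (nat_lit 5) (Steps.fwd (nat_lit 2048) (Steps.fwd (nat_lit 2560) Steps.nil))) (nat_lit 13) (nat_lit 0),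
  Rule.mk (nat_lit 6) (nat_lit 38) (Steps.bwd (nat_lit 5) (Steps.bwd (nat_lit 6) (Steps.fwd (nat_lit 2560) Steps.nil))) (nat_lit 20) (nat_lit 0),
  Rule.mk (nat_lit 7) (nat_lit 38) (Steps.bwd (nat_lit 5) (Steps.bwd (nat_lit 7) (Steps.fwd (nat_lit 2560) Steps.nil))) (nat_lit 28) (nat_lit 0),
  Rule.mk (nat_lit 2) (nat_lit 58) (Steps.bwd (nat_lit 5) (Steps.fwd (nat_lit 512) (Steps.bwd (nat_lit 5) (Steps.fwd (nat_lit 512) (Steps.fwd (nat_lit 2560) Steps.nil))))) (nat_lit 10) (nat_lit 1),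
  Rule.mk (nat_lit 5) (nat_lit 38) (Steps.bwd (nat_lit 3) (Steps.bwd (nat_lit 5) (Steps.fwd (nat_lit 2048) Steps.nil))) (nat_lit 13) (nat_lit 1),
  Rule.mk (nat_lit 7) (nat_lit 38) (Steps.bwd (nat_lit 3) (Steps.bwd (nat_lit 7) (Steps.bwd (nat_lit 3) Steps.nil))) (nat_lit 27) (nat_lit 1),
  Rule.mk (nat_lit 2) (nat_lit 28) (Steps.bwd (nat_lit 2) (Steps.bwd (nat_lit 2) Steps.nil)) (nat_lit 1) (nat_lit 0),
  Rule.mk (nat_lit 6) (nat_lit 38) (Steps.bwd (nat_lit 2) (Steps.bwd (nat_lit 6) (Steps.bwd (nat_lit 2) Steps.nil))) (nat_lit 16) (nat_lit 0),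
  Rule.mk (nat_lit 7) (nat_lit 38) (Steps.bwd (nat_lit 2) (Steps.bwd (nat_lit 7) (Steps.bwd (nat_lit 2) Steps.nil))) (nat_lit 24) (nat_lit 0),
  Rule.mk (nat_lit 6) (nat_lit 38) (Steps.bwd (nat_lit 5) (Steps.fwd (nat_lit 3072) (Steps.fwd (nat_lit 2560) Steps.nil))) (nat_lit 20) (nat_lit 0),
  Rule.mk (nat_lit 7) (nat_lit 38) (Steps.bwd (nat_lit 5) (Steps.fwd (nat_lit 3584) (Steps.fwd (nat_lit 2560) Steps.nil))) (nat_lit 28) (nat_lit 0),
  Rule.mk (nat_lit 1) (nat_lit 58) (Steps.bwd (nat_lit 5) (Steps.fwd (nat_lit 1024) (Steps.bwd (nat_lit 5) (Steps.bwd (nat_lit 1) (Steps.fwd (nat_lit 2560) Steps.nil))))) (nat_lit 11) (nat_lit 0),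
  Rule.mk (nat_lit 1) (nat_lit 38) (Steps.bwd (nat_lit 6) (Steps.bwd (nat_lit 1) (Steps.fwd (nat_lit 3072) Steps.nil))) (nat_lit 17) (nat_lit 0),
  Rule.mk (nat_lit 5) (nat_lit 38) (Steps.bwd (nat_lit 6) (Steps.bwd (nat_lit 5) (Steps.bwd (nat_lit 6) Steps.nil))) (nat_lit 20) (nat_lit 1),
  Rule.mk (nat_lit 3) (nat_lit 38) (Steps.bwd (nat_lit 5) (Steps.fwd (nat_lit 2048) (Steps.bwd (nat_lit 5) Steps.nil))) (nat_lit 13) (nat_lit 0),
  Rule.mk (nat_lit 7) (nat_lit 38) (Steps.bwd (nat_lit 5) (Steps.bwd (nat_lit 7) (Steps.bwd (nat_lit 5) Steps.nil))) (nat_lit 28) (nat_lit 0),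
  Rule.mk (nat_lit 1) (nat_lit 58) (Steps.bwd (nat_lit 5) (Steps.bwd (nat_lit 1) (Steps.bwd (nat_lit 5) (Steps.bwd (nat_lit 1) (Steps.bwd (nat_lit 5) Steps.nil))))) (nat_lit 11) (nat_lit 0),
  Rule.mk (nat_lit 5) (nat_lit 38) (Steps.bwd (nat_lit 3) (Steps.fwd (nat_lit 2560) (Steps.fwd (nat_lit 2048) Steps.nil))) (nat_lit 13) (nat_lit 1),
  Rule.mk (nat_lit 2) (nat_lit 38) (Steps.bwd (nat_lit 6) (Steps.fwd (nat_lit 512) (Steps.fwd (nat_lit 3072) Steps.nil))) (nat_lit 16) (nat_lit 1),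
  Rule.mk (nat_lit 4) (nat_lit 58) (Steps.bwd (nat_lit 6) (Steps.bwd (nat_lit 4) (Steps.fwd (nat_lit 3072) (Steps.bwd (nat_lit 4) (Steps.fwd (nat_lit 3072) Steps.nil))))) (nat_lit 18) (nat_lit 1),
  Rule.mk (nat_lit 4) (nat_lit 58) (Steps.bwd (nat_lit 6) (Steps.fwd (nat_lit 1536) (Steps.fwd (nat_lit 3072) (Steps.fwd (nat_lit 1536) (Steps.fwd (nat_lit 3072) Steps.nil))))) (nat_lit 18) (nat_lit 1),
  Rule.mk (nat_lit 1) (nat_lit 58) (Steps.bwd (nat_lit 5) (Steps.bwd (nat_lit 1) (Steps.fwd (nat_lit 2560) (Steps.bwd (nat_lit 1) (Steps.bwd (nat_lit 5) Steps.nil))))) (nat_lit 11) (nat_lit 0),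
  Rule.mk (nat_lit 5) (nat_lit 38) (Steps.bwd (nat_lit 4) (Steps.bwd (nat_lit 5) (Steps.bwd (nat_lit 4) Steps.nil))) (nat_lit 12) (nat_lit 0),
  Rule.mk (nat_lit 7) (nat_lit 38) (Steps.bwd (nat_lit 4) (Steps.bwd (nat_lit 7) (Steps.bwd (nat_lit 4) Steps.nil))) (nat_lit 26) (nat_lit 0),
  Rule.mk (nat_lit 6) (nat_lit 38) (Steps.bwd (nat_lit 1) (Steps.bwd (nat_lit 6) (Steps.bwd (nat_lit 1) Steps.nil))) (nat_lit 17) (nat_lit 1),
  Rule.mk (nat_lit 6) (nat_lit 38) (Steps.bwd (nat_lit 5) (Steps.fwd (nat_lit 3072) (Steps.bwd (nat_lit 5) Steps.nil))) (nat_lit 20) (nat_lit 0),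
  Rule.mk (nat_lit 1) (nat_lit 58) (Steps.bwd (nat_lit 5) (Steps.bwd (nat_lit 1) (Steps.fwd (nat_lit 2560) (Steps.fwd (nat_lit 1024) (Steps.bwd (nat_lit 5) Steps.nil))))) (nat_lit 11) (nat_lit 0),
  Rule.mk (nat_lit 3) (nat_lit 58) (Steps.bwd (nat_lit 2) (Steps.bwd (nat_lit 3) (Steps.bwd (nat_lit 2) (Steps.bwd (nat_lit 3) (Steps.bwd (nat_lit 2) Steps.nil))))) (nat_lit 4) (nat_lit 0),
  Rule.mk (nat_lit 2) (nat_lit 88) (Steps.fwd (nat_lit 2048) (Steps.fwd (nat_lit 512) (Steps.fwd (nat_lit 512) (Steps.bwd (nat_lit 3) (Steps.bwd (nat_lit 2) (Steps.bwd (nat_lit 2) (Steps.bwd (nat_lit 3) (Steps.bwd (nat_lit 2) Steps.nil)))))))) (nat_lit 7) (nat_lit 1),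
  Rule.mk (nat_lit 2) (nat_lit 88) (Steps.bwd (nat_lit 2) (Steps.bwd (nat_lit 3) (Steps.bwd (nat_lit 2) (Steps.bwd (nat_lit 2) (Steps.bwd (nat_lit 3) (Steps.fwd (nat_lit 512) (Steps.fwd (nat_lit 512) (Steps.fwd (nat_lit 2048) Steps.nil)))))))) (nat_lit 7) (nat_lit 0),
  Rule.mk (nat_lit 7) (nat_lit 38) (Steps.bwd (nat_lit 2) (Steps.fwd (nat_lit 3584) (Steps.bwd (nat_lit 2) Steps.nil))) (nat_lit 24) (nat_lit 0),
  Rule.mk (nat_lit 3) (nat_lit 58) (Steps.bwd (nat_lit 2) (Steps.fwd (nat_lit 2048) (Steps.fwd (nat_lit 512) (Steps.fwd (nat_lit 2048) (Steps.bwd (nat_lit 2) Steps.nil))))) (nat_lit 4) (nat_lit 0),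
  Rule.mk (nat_lit 5) (nat_lit 38) (Steps.bwd (nat_lit 3) (Steps.bwd (nat_lit 5) (Steps.bwd (nat_lit 3) Steps.nil))) (nat_lit 13) (nat_lit 1),
  Rule.mk (nat_lit 5) (nat_lit 58) (Steps.bwd (nat_lit 1) (Steps.fwd (nat_lit 2560) (Steps.fwd (nat_lit 1024) (Steps.fwd (nat_lit 2560) (Steps.fwd (nat_lit 1024) Steps.nil))))) (nat_lit 11) (nat_lit 1),
  Rule.mk (nat_lit 4) (nat_lit 38) (Steps.bwd (nat_lit 5) (Steps.fwd (nat_lit 1536) (Steps.bwd (nat_lit 5) Steps.nil))) (nat_lit 12) (nat_lit 1),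
  Rule.mk (nat_lit 3) (nat_lit 38) (Steps.fwd (nat_lit 2560) (Steps.bwd (nat_lit 3) (Steps.bwd (nat_lit 5) Steps.nil))) (nat_lit 13) (nat_lit 0),
  Rule.mk (nat_lit 7) (nat_lit 38) (Steps.fwd (nat_lit 2560) (Steps.bwd (nat_lit 7) (Steps.bwd (nat_lit 5) Steps.nil))) (nat_lit 28) (nat_lit 0),
  Rule.mk (nat_lit 7) (nat_lit 38) (Steps.bwd (nat_lit 1) (Steps.bwd (nat_lit 7) (Steps.bwd (nat_lit 1) Steps.nil))) (nat_lit 25) (nat_lit 1),
  Rule.mk (nat_lit 5) (nat_lit 58) (Steps.bwd (nat_lit 1) (Steps.fwd (nat_lit 2560) (Steps.fwd (nat_lit 1024) (Steps.bwd (nat_lit 5) (Steps.bwd (nat_lit 1) Steps.nil))))) (nat_lit 11) (nat_lit 1),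
  Rule.mk (nat_lit 4) (nat_lit 58) (Steps.bwd (nat_lit 1) (Steps.fwd (nat_lit 1536) (Steps.bwd (nat_lit 1) (Steps.fwd (nat_lit 1536) (Steps.bwd (nat_lit 1) Steps.nil))))) (nat_lit 5) (nat_lit 1),
  Rule.mk (nat_lit 5) (nat_lit 38) (Steps.bwd (nat_lit 4) (Steps.fwd (nat_lit 2560) (Steps.bwd (nat_lit 4) Steps.nil))) (nat_lit 12) (nat_lit 0),
  Rule.mk (nat_lit 1) (nat_lit 58) (Steps.bwd (nat_lit 4) (Steps.bwd (nat_lit 1) (Steps.bwd (nat_lit 4) (Steps.bwd (nat_lit 1) (Steps.fwd (nat_lit 1536) Steps.nil))))) (nat_lit 5) (nat_lit 0),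
  Rule.mk (nat_lit 2) (nat_lit 38) (Steps.bwd (nat_lit 7) (Steps.bwd (nat_lit 2) (Steps.fwd (nat_lit 3584) Steps.nil))) (nat_lit 24) (nat_lit 1),
  Rule.mk (nat_lit 4) (nat_lit 38) (Steps.bwd (nat_lit 7) (Steps.bwd (nat_lit 4) (Steps.fwd (nat_lit 3584) Steps.nil))) (nat_lit 26) (nat_lit 1)]
noncomputable def R_1 : List (Rule) := [Rule.mk (nat_lit 6) (nat_lit 58) (Steps.bwd (nat_lit 7) (Steps.bwd (nat_lit 6) (Steps.fwd (nat_lit 3584) (Steps.fwd (nat_lit 3072) (Steps.fwd (nat_lit 3584) Steps.nil))))) (nat_lit 30) (nat_lit 1),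
  Rule.mk (nat_lit 4) (nat_lit 348) (Steps.bwd (nat_lit 5) (Steps.fwd (nat_lit 3072) (Steps.bwd (nat_lit 7) (Steps.bwd (nat_lit 1) (Steps.bwd (nat_lit 4) (Steps.fwd (nat_lit 2560) (Steps.bwd (nat_lit 6) (Steps.fwd (nat_lit 3584) (Steps.bwd (nat_lit 1) (Steps.bwd (nat_lit 4) (Steps.bwd (nat_lit 5) (Steps.bwd (nat_lit 6) (Steps.fwd (nat_lit 3584) (Steps.bwd (nat_lit 1) (Steps.fwd (nat_lit 1536) (Steps.fwd (nat_lit 2560) (Steps.fwd (nat_lit 3072) (Steps.bwd (nat_lit 7) (Steps.bwd (nat_lit 1) (Steps.bwd (nat_lit 4) (Steps.fwd (nat_lit 2560) (Steps.fwd (nat_lit 3072) (Steps.bwd (nat_lit 7) (Steps.fwd (nat_lit 1024) (Steps.fwd (nat_lit 1536) (Steps.fwd (nat_lit 2560) (Steps.fwd (nat_lit 3072) (Steps.fwd (nat_lit 3584) (Steps.fwd (nat_lit 1024) (Steps.bwd (nat_lit 4) (Steps.bwd (nat_lit 5) (Steps.fwd (nat_lit 3072) (Steps.bwd (nat_lit 7) (Steps.bwd (nat_lit 1) Steps.nil)))))))))))))))))))))))))))))))))) (nat_lit 32)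 (nat_lit 2),
  Rule.mk (nat_lit 4) (nat_lit 38) (Steps.fwd (nat_lit 2560) (Steps.bwd (nat_lit 4) (Steps.bwd (nat_lit 5) Steps.nil))) (nat_lit 12) (nat_lit 1),
  Rule.mk (nat_lit 1) (nat_lit 348) (Steps.bwd (nat_lit 4) (Steps.bwd (nat_lit 5) (Steps.fwd (nat_lit 3072) (Steps.fwd (nat_lit 3584) (Steps.bwd (nat_lit 1) (Steps.fwd (nat_lit 1536) (Steps.bwd (nat_lit 5) (Steps.bwd (nat_lit 6) (Steps.fwd (nat_lit 3584) (Steps.bwd (nat_lit 1) (Steps.fwd (nat_lit 1536) (Steps.fwd (nat_lit 2560) (Steps.bwd (nat_lit 6) (Steps.bwd (nat_lit 7) (Steps.bwd (nat_lit 1) (Steps.fwd (nat_lit 1536) (Steps.fwd (nat_lit 2560) (Steps.fwd (nat_lit 3072) (Steps.fwd (nat_lit 3584) (Steps.fwd (nat_lit 1024) (Steps.bwd (nat_lit 4) (Steps.fwd (nat_lit 2560) (Steps.fwd (nat_lit 3072) (Steps.fwd (nat_lit 3584) (Steps.fwd (nat_lit 1024) (Steps.fwd (nat_lit 1536) (Steps.fwd (nat_lit 2560) (Steps.bwd (nat_lit 6) (Steps.fwd (nat_lit 3584) (Steps.bwd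 (nat_lit 1) (Steps.bwd (nat_lit 4) (Steps.bwd (nat_lit 5) (Steps.fwd (nat_lit 3072) (Steps.fwd (nat_lit 3584) Steps.nil)))))))))))))))))))))))))))))))))) (nat_lit 32) (nat_lit 1),
  Rule.mk (nat_lit 4) (nat_lit 58) (Steps.bwd (nat_lit 6) (Steps.bwd (nat_lit 4) (Steps.fwd (nat_lit 3072) (Steps.bwd (nat_lit 4) (Steps.bwd (nat_lit 6) Steps.nil))))) (nat_lit 18) (nat_lit 1),
  Rule.mk (nat_lit 7) (nat_lit 58) (Steps.bwd (nat_lit 6) (Steps.fwd (nat_lit 3584) (Steps.fwd (nat_lit 3072) (Steps.bwd (nat_lit 7) (Steps.bwd (nat_lit 6) Steps.nil))))) (nat_lit 30) (nat_lit 0),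
  Rule.mk (nat_lit 2) (nat_lit 38) (Steps.fwd (nat_lit 3584) (Steps.fwd (nat_lit 512) (Steps.bwd (nat_lit 7) Steps.nil))) (nat_lit 24) (nat_lit 1),
  Rule.mk (nat_lit 5) (nat_lit 38) (Steps.fwd (nat_lit 3584) (Steps.fwd (nat_lit 2560) (Steps.bwd (nat_lit 7) Steps.nil))) (nat_lit 28) (nat_lit 1),
  Rule.mk (nat_lit 4) (nat_lit 58) (Steps.bwd (nat_lit 1) (Steps.bwd (nat_lit 4) (Steps.bwd (nat_lit 1) (Steps.bwd (nat_lit 4) (Steps.bwd (nat_lit 1) Steps.nil))))) (nat_lit 5) (nat_lit 1),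
  Rule.mk (nat_lit 1) (nat_lit 58) (Steps.bwd (nat_lit 4) (Steps.fwd (nat_lit 1024) (Steps.bwd (nat_lit 4) (Steps.bwd (nat_lit 1) (Steps.bwd (nat_lit 4) Steps.nil))))) (nat_lit 5) (nat_lit 0),
  Rule.mk (nat_lit 3) (nat_lit 58) (Steps.bwd (nat_lit 6) (Steps.fwd (nat_lit 2048) (Steps.fwd (nat_lit 3072) (Steps.fwd (nat_lit 2048) (Steps.fwd (nat_lit 3072) Steps.nil))))) (nat_lit 19) (nat_lit 0),
  Rule.mk (nat_lit 6) (nat_lit 58) (Steps.bwd (nat_lit 3) (Steps.bwd (nat_lit 6) (Steps.fwd (nat_lit 2048) (Steps.bwd (nat_lit 6) (Steps.fwd (nat_lit 2048) Steps.nil))))) (nat_lit 19) (nat_lit 1),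
  Rule.mk (nat_lit 2) (nat_lit 38) (Steps.bwd (nat_lit 6) (Steps.fwd (nat_lit 512) (Steps.bwd (nat_lit 6) Steps.nil))) (nat_lit 16) (nat_lit 1),
  Rule.mk (nat_lit 6) (nat_lit 38) (Steps.bwd (nat_lit 2) (Steps.fwd (nat_lit 3072) (Steps.fwd (nat_lit 512) Steps.nil))) (nat_lit 16) (nat_lit 0),
  Rule.mk (nat_lit 1) (nat_lit 38) (Steps.bwd (nat_lit 6) (Steps.fwd (nat_lit 1024) (Steps.fwd (nat_lit 3072) Steps.nil))) (nat_lit 17) (nat_lit 0),
  Rule.mk (nat_lit 6) (nat_lit 38) (Steps.bwd (nat_lit 1) (Steps.bwd (nat_lit 6) (Steps.fwd (nat_lit 1024) Steps.nil))) (nat_lit 17) (nat_lit 1),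
  Rule.mk (nat_lit 6) (nat_lit 58) (Steps.bwd (nat_lit 4) (Steps.fwd (nat_lit 3072) (Steps.bwd (nat_lit 4) (Steps.fwd (nat_lit 3072) (Steps.fwd (nat_lit 1536) Steps.nil))))) (nat_lit 18) (nat_lit 0),
  Rule.mk (nat_lit 1) (nat_lit 38) (Steps.fwd (nat_lit 3072) (Steps.bwd (nat_lit 1) (Steps.bwd (nat_lit 6) Steps.nil))) (nat_lit 17) (nat_lit 0),
  Rule.mk (nat_lit 5) (nat_lit 58) (Steps.bwd (nat_lit 1) (Steps.fwd (nat_lit 2560) (Steps.bwd (nat_lit 1) (Steps.fwd (nat_lit 2560) (Steps.bwd (nat_lit 1) Steps.nil))))) (nat_lit 11) (nat_lit 1),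
  Rule.mk (nat_lit 6) (nat_lit 58) (Steps.bwd (nat_lit 3) (Steps.fwd (nat_lit 3072) (Steps.fwd (nat_lit 2048) (Steps.bwd (nat_lit 6) (Steps.fwd (nat_lit 2048) Steps.nil))))) (nat_lit 19) (nat_lit 1),
  Rule.mk (nat_lit 2) (nat_lit 38) (Steps.fwd (nat_lit 3072) (Steps.fwd (nat_lit 512) (Steps.bwd (nat_lit 6) Steps.nil))) (nat_lit 16) (nat_lit 1),
  Rule.mk (nat_lit 5) (nat_lit 38) (Steps.fwd (nat_lit 3072) (Steps.bwd (nat_lit 5) (Steps.bwd (nat_lit 6) Steps.nil))) (nat_lit 20) (nat_lit 1),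
  Rule.mk (nat_lit 6) (nat_lit 58) (Steps.bwd (nat_lit 4) (Steps.fwd (nat_lit 3072) (Steps.fwd (nat_lit 1536) (Steps.bwd (nat_lit 6) (Steps.bwd (nat_lit 4) Steps.nil))))) (nat_lit 18) (nat_lit 0),
  Rule.mk (nat_lit 6) (nat_lit 58) (Steps.bwd (nat_lit 4) (Steps.fwd (nat_lit 3072) (Steps.fwd (nat_lit 1536) (Steps.fwd (nat_lit 3072) (Steps.bwd (nat_lit 4) Steps.nil))))) (nat_lit 18) (nat_lit 0),
  Rule.mk (nat_lit 1) (nat_lit 58) (Steps.bwd (nat_lit 4) (Steps.fwd (nat_lit 1024) (Steps.fwd (nat_lit 1536) (Steps.bwd (nat_lit 1) (Steps.bwd (nat_lit 4) Steps.nil))))) (nat_lit 5) (nat_lit 0),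
  Rule.mk (nat_lit 4) (nat_lit 58) (Steps.bwd (nat_lit 1) (Steps.bwd (nat_lit 4) (Steps.bwd (nat_lit 1) (Steps.fwd (nat_lit 1536) (Steps.fwd (nat_lit 1024) Steps.nil))))) (nat_lit 5) (nat_lit 1),
  Rule.mk (nat_lit 4) (nat_lit 88) (Steps.bwd (nat_lit 1) (Steps.bwd (nat_lit 1) (Steps.bwd (nat_lit 4) (Steps.bwd (nat_lit 1) (Steps.bwd (nat_lit 1) (Steps.bwd (nat_lit 4) (Steps.bwd (nat_lit 1) (Steps.bwd (nat_lit 1) Steps.nil)))))))) (nat_lit 6) (nat_lit 2),
  Rule.mk (nat_lit 4) (nat_lit 38) (Steps.bwd (nat_lit 5) (Steps.bwd (nat_lit 4) (Steps.fwd (nat_lit 2560) Steps.nil))) (nat_lit 12) (nat_lit 1),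
  Rule.mk (nat_lit 2) (nat_lit 58) (Steps.bwd (nat_lit 5) (Steps.fwd (nat_lit 512) (Steps.fwd (nat_lit 2560) (Steps.fwd (nat_lit 512) (Steps.fwd (nat_lit 2560) Steps.nil))))) (nat_lit 10) (nat_lit 1),
  Rule.mk (nat_lit 2) (nat_lit 58) (Steps.bwd (nat_lit 5) (Steps.bwd (nat_lit 2) (Steps.bwd (nat_lit 5) (Steps.bwd (nat_lit 2) (Steps.fwd (nat_lit 2560) Steps.nil))))) (nat_lit 10) (nat_lit 1),
  Rule.mk (nat_lit 2) (nat_lit 58) (Steps.bwd (nat_lit 5) (Steps.bwd (nat_lit 2) (Steps.fwd (nat_lit 2560) (Steps.bwd (nat_lit 2) (Steps.fwd (nat_lit 2560) Steps.nil))))) (nat_lit 10) (nat_lit 1),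
  Rule.mk (nat_lit 6) (nat_lit 58) (Steps.bwd (nat_lit 3) (Steps.fwd (nat_lit 3072) (Steps.fwd (nat_lit 2048) (Steps.bwd (nat_lit 6) (Steps.bwd (nat_lit 3) Steps.nil))))) (nat_lit 19) (nat_lit 1),
  Rule.mk (nat_lit 3) (nat_lit 38) (Steps.bwd (nat_lit 7) (Steps.bwd (nat_lit 3) (Steps.fwd (nat_lit 3584) Steps.nil))) (nat_lit 27) (nat_lit 0),
  Rule.mk (nat_lit 2) (nat_lit 38) (Steps.bwd (nat_lit 7) (Steps.bwd (nat_lit 2) (Steps.bwd (nat_lit 7) Steps.nil))) (nat_lit 24) (nat_lit 1),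
  Rule.mk (nat_lit 7) (nat_lit 58) (Steps.bwd (nat_lit 6) (Steps.fwd (nat_lit 3584) (Steps.fwd (nat_lit 3072) (Steps.fwd (nat_lit 3584) (Steps.bwd (nat_lit 6) Steps.nil))))) (nat_lit 30) (nat_lit 0),
  Rule.mk (nat_lit 2) (nat_lit 38) (Steps.fwd (nat_lit 3584) (Steps.bwd (nat_lit 2) (Steps.bwd (nat_lit 7) Steps.nil))) (nat_lit 24) (nat_lit 1),
  Rule.mk (nat_lit 3) (nat_lit 38) (Steps.bwd (nat_lit 5) (Steps.bwd (nat_lit 3) (Steps.fwd (nat_lit 2560) Steps.nil))) (nat_lit 13) (nat_lit 0),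
  Rule.mk (nat_lit 7) (nat_lit 38) (Steps.bwd (nat_lit 5) (Steps.fwd (nat_lit 3584) (Steps.bwd (nat_lit 5) Steps.nil))) (nat_lit 28) (nat_lit 0),
  Rule.mk (nat_lit 7) (nat_lit 38) (Steps.bwd (nat_lit 3) (Steps.fwd (nat_lit 3584) (Steps.fwd (nat_lit 2048) Steps.nil))) (nat_lit 27) (nat_lit 1),
  Rule.mk (nat_lit 7) (nat_lit 38) (Steps.bwd (nat_lit 2) (Steps.fwd (nat_lit 3584) (Steps.fwd (nat_lit 512) Steps.nil))) (nat_lit 24) (nat_lit 0),
  Rule.mk (nat_lit 7) (nat_lit 38) (Steps.bwd (nat_lit 2) (Steps.bwd (nat_lit 7) (Steps.fwd (nat_lit 512) Steps.nil))) (nat_lit 24) (nat_lit 0),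
  Rule.mk (nat_lit 7) (nat_lit 58) (Steps.bwd (nat_lit 6) (Steps.fwd (nat_lit 3584) (Steps.fwd (nat_lit 3072) (Steps.fwd (nat_lit 3584) (Steps.fwd (nat_lit 3072) Steps.nil))))) (nat_lit 30) (nat_lit 0),
  Rule.mk (nat_lit 4) (nat_lit 38) (Steps.fwd (nat_lit 3584) (Steps.bwd (nat_lit 4) (Steps.bwd (nat_lit 7) Steps.nil))) (nat_lit 26) (nat_lit 1),
  Rule.mk (nat_lit 3) (nat_lit 38) (Steps.fwd (nat_lit 3584) (Steps.fwd (nat_lit 2048) (Steps.bwd (nat_lit 7) Steps.nil))) (nat_lit 27) (nat_lit 0),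
  Rule.mk (nat_lit 7) (nat_lit 58) (Steps.bwd (nat_lit 6) (Steps.bwd (nat_lit 7) (Steps.fwd (nat_lit 3072) (Steps.fwd (nat_lit 3584) (Steps.bwd (nat_lit 6) Steps.nil))))) (nat_lit 30) (nat_lit 0),
  Rule.mk (nat_lit 5) (nat_lit 58) (Steps.bwd (nat_lit 2) (Steps.fwd (nat_lit 2560) (Steps.bwd (nat_lit 2) (Steps.bwd (nat_lit 5) (Steps.bwd (nat_lit 2) Steps.nil))))) (nat_lit 10) (nat_lit 0),
  Rule.mk (nat_lit 4) (nat_lit 38) (Steps.fwd (nat_lit 3584) (Steps.fwd (nat_lit 1536) (Steps.bwd (nat_lit 7) Steps.nil))) (nat_lit 26) (nat_lit 1),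
  Rule.mk (nat_lit 7) (nat_lit 38) (Steps.bwd (nat_lit 4) (Steps.fwd (nat_lit 3584) (Steps.fwd (nat_lit 1536) Steps.nil))) (nat_lit 26) (nat_lit 0),
  Rule.mk (nat_lit 5) (nat_lit 38) (Steps.fwd (nat_lit 3584) (Steps.bwd (nat_lit 5) (Steps.bwd (nat_lit 7) Steps.nil))) (nat_lit 28) (nat_lit 1),
  Rule.mk (nat_lit 2) (nat_lit 28) (Steps.bwd (nat_lit 2) (Steps.fwd (nat_lit 512) Steps.nil)) (nat_lit 1) (nat_lit 0),
  Rule.mk (nat_lit 3) (nat_lit 58) (Steps.bwd (nat_lit 2) (Steps.fwd (nat_lit 2048) (Steps.bwd (nat_lit 2) (Steps.fwd (nat_lit 2048) (Steps.fwd (nat_lit 512) Steps.nil))))) (nat_lit 4) (nat_lit 0),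
  Rule.mk (nat_lit 5) (nat_lit 58) (Steps.bwd (nat_lit 2) (Steps.fwd (nat_lit 2560) (Steps.fwd (nat_lit 512) (Steps.bwd (nat_lit 5) (Steps.bwd (nat_lit 2) Steps.nil))))) (nat_lit 10) (nat_lit 0),
  Rule.mk (nat_lit 4) (nat_lit 28) (Steps.bwd (nat_lit 4) (Steps.fwd (nat_lit 1536) Steps.nil)) (nat_lit 3) (nat_lit 0),
  Rule.mk (nat_lit 5) (nat_lit 38) (Steps.bwd (nat_lit 4) (Steps.fwd (nat_lit 2560) (Steps.fwd (nat_lit 1536) Steps.nil))) (nat_lit 12) (nat_lit 0),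
  Rule.mk (nat_lit 6) (nat_lit 38) (Steps.bwd (nat_lit 2) (Steps.fwd (nat_lit 3072) (Steps.bwd (nat_lit 2) Steps.nil))) (nat_lit 16) (nat_lit 0),
  Rule.mk (nat_lit 3) (nat_lit 58) (Steps.bwd (nat_lit 2) (Steps.bwd (nat_lit 3) (Steps.bwd (nat_lit 2) (Steps.fwd (nat_lit 2048) (Steps.bwd (nat_lit 2) Steps.nil))))) (nat_lit 4) (nat_lit 0),
  Rule.mk (nat_lit 2) (nat_lit 58) (Steps.fwd (nat_lit 2560) (Steps.fwd (nat_lit 512) (Steps.fwd (nat_lit 2560) (Steps.bwd (nat_lit 2) (Steps.bwd (nat_lit 5) Steps.nil))))) (nat_lit 10) (nat_lit 1),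
  Rule.mk (nat_lit 2) (nat_lit 58) (Steps.bwd (nat_lit 3) (Steps.bwd (nat_lit 2) (Steps.bwd (nat_lit 3) (Steps.bwd (nat_lit 2) (Steps.bwd (nat_lit 3) Steps.nil))))) (nat_lit 4) (nat_lit 1),
  Rule.mk (nat_lit 6) (nat_lit 348) (Steps.fwd (nat_lit 2560) (Steps.bwd (nat_lit 3) (Steps.bwd (nat_lit 2) (Steps.fwd (nat_lit 3584) (Steps.fwd (nat_lit 3072) (Steps.bwd (nat_lit 5) (Steps.fwd (nat_lit 2048) (Steps.bwd (nat_lit 2) (Steps.fwd (nat_lit 3584) (Steps.fwd (nat_lit 3072) (Steps.bwd (nat_lit 5) (Steps.fwd (nat_lit 2048) (Steps.fwd (nat_lit 512) (Steps.fwd (nat_lit 3584) (Steps.fwd (nat_lit 3072) (Steps.fwd (nat_lit 2560) (Steps.bwd (nat_lit 3) (Steps.bwd (nat_lit 2) (Steps.fwd (nat_lit 3584) (Steps.fwd (nat_lit 3072) (Steps.fwd (nat_lit 2560) (Steps.bwd (nat_lit 3) (Steps.bwd (nat_lit 2) (Steps.bwd (nat_lit 7) (Steps.fwd (nat_lit 3072) (Steps.fwd (nat_lit 2560) (Steps.bwd (nat_lit 3) (Steps.bwd (nat_lit 2) (Steps.bwd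 (nat_lit 7) (Steps.fwd (nat_lit 3072) (Steps.bwd (nat_lit 5) (Steps.bwd (nat_lit 3) (Steps.bwd (nat_lit 2) (Steps.bwd (nat_lit 7) Steps.nil)))))))))))))))))))))))))))))))))) (nat_lit 33) (nat_lit 2),
  Rule.mk (nat_lit 7) (nat_lit 58) (Steps.bwd (nat_lit 6) (Steps.fwd (nat_lit 3584) (Steps.fwd (nat_lit 3072) (Steps.bwd (nat_lit 7) (Steps.fwd (nat_lit 3072) Steps.nil))))) (nat_lit 30) (nat_lit 0),
  Rule.mk (nat_lit 3) (nat_lit 58) (Steps.bwd (nat_lit 6) (Steps.bwd (nat_lit 3) (Steps.fwd (nat_lit 3072) (Steps.bwd (nat_lit 3) (Steps.fwd (nat_lit 3072) Steps.nil))))) (nat_lit 19) (nat_lit 0),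
  Rule.mk (nat_lit 3) (nat_lit 38) (Steps.bwd (nat_lit 7) (Steps.bwd (nat_lit 3) (Steps.bwd (nat_lit 7) Steps.nil))) (nat_lit 27) (nat_lit 0),
  Rule.mk (nat_lit 5) (nat_lit 38) (Steps.bwd (nat_lit 7) (Steps.bwd (nat_lit 5) (Steps.fwd (nat_lit 3584) Steps.nil))) (nat_lit 28) (nat_lit 1),
  Rule.mk (nat_lit 6) (nat_lit 58) (Steps.bwd (nat_lit 7) (Steps.fwd (nat_lit 3072) (Steps.fwd (nat_lit 3584) (Steps.bwd (nat_lit 6) (Steps.bwd (nat_lit 7) Steps.nil))))) (nat_lit 30) (nat_lit 1)]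
noncomputable def R_2 : List (Rule) := [Rule.mk (nat_lit 1) (nat_lit 38) (Steps.fwd (nat_lit 3072) (Steps.fwd (nat_lit 1024) (Steps.bwd (nat_lit 6) Steps.nil))) (nat_lit 17) (nat_lit 0),
  Rule.mk (nat_lit 6) (nat_lit 58) (Steps.bwd (nat_lit 4) (Steps.fwd (nat_lit 3072) (Steps.fwd (nat_lit 1536) (Steps.bwd (nat_lit 6) (Steps.fwd (nat_lit 1536) Steps.nil))))) (nat_lit 18) (nat_lit 0),
  Rule.mk (nat_lit 4) (nat_lit 38) (Steps.bwd (nat_lit 7) (Steps.bwd (nat_lit 4) (Steps.bwd (nat_lit 7) Steps.nil))) (nat_lit 26) (nat_lit 1),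
  Rule.mk (nat_lit 2) (nat_lit 38) (Steps.fwd (nat_lit 3072) (Steps.bwd (nat_lit 2) (Steps.bwd (nat_lit 6) Steps.nil))) (nat_lit 16) (nat_lit 1),
  Rule.mk (nat_lit 6) (nat_lit 58) (Steps.bwd (nat_lit 4) (Steps.bwd (nat_lit 6) (Steps.fwd (nat_lit 1536) (Steps.fwd (nat_lit 3072) (Steps.bwd (nat_lit 4) Steps.nil))))) (nat_lit 18) (nat_lit 0),
  Rule.mk (nat_lit 2) (nat_lit 88) (Steps.bwd (nat_lit 2) (Steps.fwd (nat_lit 2048) (Steps.bwd (nat_lit 2) (Steps.bwd (nat_lit 2) (Steps.bwd (nat_lit 3) (Steps.bwd (nat_lit 2) (Steps.bwd (nat_lit 2) (Steps.fwd (nat_lit 2048) Steps.nil)))))))) (nat_lit 7) (nat_lit 0),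
  Rule.mk (nat_lit 3) (nat_lit 58) (Steps.bwd (nat_lit 2) (Steps.fwd (nat_lit 2048) (Steps.bwd (nat_lit 2) (Steps.fwd (nat_lit 2048) (Steps.bwd (nat_lit 2) Steps.nil))))) (nat_lit 4) (nat_lit 0),
  Rule.mk (nat_lit 5) (nat_lit 348) (Steps.bwd (nat_lit 3) (Steps.bwd (nat_lit 2) (Steps.bwd (nat_lit 7) (Steps.fwd (nat_lit 3072) (Steps.bwd (nat_lit 5) (Steps.fwd (nat_lit 2048) (Steps.bwd (nat_lit 2) (Steps.fwd (nat_lit 3584) (Steps.bwd (nat_lit 6) (Steps.fwd (nat_lit 2560) (Steps.bwd (nat_lit 3) (Steps.bwd (nat_lit 2) (Steps.fwd (nat_lit 3584) (Steps.fwd (nat_lit 3072) (Steps.bwd (nat_lit 5) (Steps.bwd (nat_lit 3) (Steps.bwd (nat_lit 2) (Steps.bwd (nat_lit 7) (Steps.bwd (nat_lit 6) (Steps.bwd (nat_lit 5) (Steps.bwd (nat_lit 3) (Steps.bwd (nat_lit 2) (Steps.fwd (nat_lit 3584) (Steps.bwd (nat_lit 6) (Steps.bwd (nat_lit 5) (Steps.bwd (nat_lit 3) (Steps.bwd (nat_lit 2) (Steps.bwd (nat_lit 7) (Steps.fwd (nat_lit 3072)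 (Steps.bwd (nat_lit 5) (Steps.fwd (nat_lit 2048) (Steps.bwd (nat_lit 2) (Steps.fwd (nat_lit 3584) (Steps.fwd (nat_lit 3072) Steps.nil)))))))))))))))))))))))))))))))))) (nat_lit 33) (nat_lit 3),
  Rule.mk (nat_lit 2) (nat_lit 58) (Steps.fwd (nat_lit 2560) (Steps.bwd (nat_lit 2) (Steps.fwd (nat_lit 2560) (Steps.bwd (nat_lit 2) (Steps.bwd (nat_lit 5) Steps.nil))))) (nat_lit 10) (nat_lit 1),
  Rule.mk (nat_lit 5) (nat_lit 58) (Steps.bwd (nat_lit 2) (Steps.bwd (nat_lit 5) (Steps.bwd (nat_lit 2) (Steps.bwd (nat_lit 5) (Steps.bwd (nat_lit 2) Steps.nil))))) (nat_lit 10) (nat_lit 0),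
  Rule.mk (nat_lit 5) (nat_lit 38) (Steps.bwd (nat_lit 6) (Steps.fwd (nat_lit 2560) (Steps.bwd (nat_lit 6) Steps.nil))) (nat_lit 20) (nat_lit 1),
  Rule.mk (nat_lit 4) (nat_lit 58) (Steps.bwd (nat_lit 6) (Steps.fwd (nat_lit 1536) (Steps.bwd (nat_lit 6) (Steps.fwd (nat_lit 1536) (Steps.fwd (nat_lit 3072) Steps.nil))))) (nat_lit 18) (nat_lit 1),
  Rule.mk (nat_lit 3) (nat_lit 58) (Steps.bwd (nat_lit 6) (Steps.bwd (nat_lit 3) (Steps.fwd (nat_lit 3072) (Steps.bwd (nat_lit 3) (Steps.bwd (nat_lit 6) Steps.nil))))) (nat_lit 19) (nat_lit 0),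
  Rule.mk (nat_lit 7) (nat_lit 58) (Steps.bwd (nat_lit 6) (Steps.bwd (nat_lit 7) (Steps.bwd (nat_lit 6) (Steps.fwd (nat_lit 3584) (Steps.bwd (nat_lit 6) Steps.nil))))) (nat_lit 30) (nat_lit 0)]
noncomputable def R : List (List (Rule)) := [R_0, R_1, R_2]
def LW : List Word := [[], [0], [1], [2], [3], [4], [6], [8], [0], [1], [2], [3], [4], [5], [6], [7]]
def par : Par := ⟨9, 4, 13, 22, 511, 8191, 4194303⟩
theorem hpar : par.ok := by decide
theorem hR0_0 : lall (R) (fun l => lall l (ruleOK r3 LW par)) = true := by decide +kernel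
theorem hR0 : lall (R) (fun l => lall l (ruleOK r3 LW par)) = true := hR0_0
theorem hR : RulesOK r3 LW par R := rulesOK_of rfl hR0
def cols : List (ℕ × ℕ) := [(512, 2), (1536, 4), (2560, 5), (3072, 6), (3584, 7)]
theorem hcols : lall cols (colOK r3 LW par) = true := by decide +kernel
noncomputable def JS0 : List ℕ := [nat_lit 0xc921b00403248689424c911900c9008244970481024060902548f1723c0d238588e01c8d150040c03c9323850002448d120108c110040700c8d2304c0000c8b120008a1100c8f0340a22c40890088e0300c0248a00c3c02228880e0040221c308921834012183400220870c000862142c0200c870a004032182400214208501085210830721085014852101883004830520802208108200c820320403204088000c8001,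
  nat_lit 0xa60d0280c028a5290bca6000a32e018a728cb40100ca32c000a3288ac0028444022b01c06ca21000418284380028034170741727c9e2a27ca80681727ca49f0549e052781c098a9278a09d0649d272749f28005274a49d00c9c052701b07ca6270a09b0609b270040326c68a30109a2600899080081b080a326c94010609a24000152648c17260962200800254849605c990109520250012507c93004931e004062507400018931c,
  nat_lit 0x1008b80c000b70d2e0bb2dc2cb73242f324b7412dc2b2d80cb50a4b5402d4c7114c72d504b40a4b4402cc292ccfc002d0342509c252ccb22f010002c47801300b12d000b20d3002b024b22c0f802010af12004022b8f4002b444022c028088ad3c004062c0052b4ec00004ac3a2b0ab0d0080500ce40100c0238000ac2e0dc0402c03000a836010b62a0d4012b00d028023400007004ccaa02cac094262d4a7298c8a500021094b502c0a01cc42009cb3294a430,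
  nat_lit 0x50d00c040300e3352808048cc120280b32cf4d132844ca004ca40014ca3242c0000c3832cc949000c80d00c1806ccf3204c0204cc73d028c61100404318b0093144403314440135805480002f0111c300d83100cc3460641e060c33091404000c127308d613455180613a0623a467194ea1a0691a8eb1ac6c1b46e3acea198643945b170dd100cb06817320c14400009300b007000cf430a4bf0000101005300d4128dc1304d138dd15ce116059104400f83f3604138053150d60e037318c202006422f8d2120d22f904be0c8bd032f0302f100bc3404d340bc412ec302ed00ba0c0ba3f00c05024052e8ec0a2ecb93a,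
  nat_lit 0x20581d060df59004e81641337d6002394de3d040dd110000e1480c3755ce1370441a00cdc4e004db1b0041a00d58000580255390ea08c0136550d936020e70fcf2004d854004da020043614c46008d70c000d60d000f100948f11ac46004d551004d5350ac45004d42e0040202404358d7350010f120d834d400034834d6114d24f3600234938003446c00038d24d35c46128d23413001008cf09000ce0833ce91100c3392cce114ce05,
  nat_lit 0x1305c1500cf1633c8f13c088ef000ef040001100190f7000ee1f0810a0c8003b98c32008ee33000ed1b000313b988343b8ec1a004033ac24003a820eb3fcea613a9001d9003a904e90c0e9030080402c043a580ef3a8e819000e7083a00a39c54e7094283dce75f3a42339878e6044123b4e65e3980f39478e50a42b0b8e518394f73905ce30ace35c38cf60bc2d38d74e20ace25c008030181a3b0e4388025b3b4ee3ace33856801008e00c000df0d,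
  nat_lit 0x41905720005003dc523005040e0090609c064116046011037000002408f4004044401470046f0110a0690a401b91906cff33429093f870013f46c3f17c4e428fd6d418193f010020d0066c00444011ac0011403474608a10c023e5a81a3e4f8040080a04c183e0c11440cf7690a8053dda0033d86c1901cf60a00cf73d424f73d0200009002474100a3cd9c013c820fc004f266008f23c59412000f10a,
  nat_lit 0x11b1b0dc404bc0346de91c00d1a0a028034642519460200000c39640103d45c28074ad16350004600ddc481252f009157a02402450251444c20000245514c43790292e448d40044c211905c1d449117844802440cc0043c6c0000c06640103143828014b45b14002340004e005dd2b164584b8524b10d430c90b0004f144534b858134c44e4ad2a42d0a3012c0442c48180050a76005097504c0442808425d1094280d02108731400541da10700d064e,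
  nat_lit 0x30024b80d2f4b92d83531510b0024b608070092c760013c00a042a0bc2d0052b800092b4a9fc1b0092a1e00002011f80200d29330592a4a07129135464c9287d4a41849c112814461125277c004040180702809044155114515c8a23c9057cd533ccc32c820cd384e4394ed485706e52c601212d4a0027b0080f4f92c49de80401d261a0000b494d40b49020010185d499247a0000148cd401488200504d2c059226e0101317528484c007025201d0080e47ddc114786c0310d1e1d0311d1b0080548c09475b8010144447d1c300151b1b,
  nat_lit 0x81703415519b80104d453300011511dc0550c6c0e0794e535438a008160214850a1c0152941331281f501dc1b4fdc80c4fc000140e8900801011420614a1b0415503f12848558445a1671d4885b88524c721bc715954b089480300b03c104f8008800d41048114f61c020393c1d0040c4ec713a0006d3d0393a000030380d4e618024fc1304139340053d4e074630313777029361b01140565414da140305d352c018094d0ac104cdd403035332b045327500804184074c95c014cd31124cd301100d30110005b00e105d1f85b0092f80,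
  nat_lit 0x5403c0e83c540194f58c441014f295383e538154d0f14d0401840104435363805578350e54c8d020030104452e30031094a8b568435253d5757948040154e0b82a521e0410ad477754d461b]
theorem S0_c : blocks (facts 9 4 13 22 511 8191 4194303 10 1023 8 255 A R 32) 32 JS0 384 = true := by decide +kernel
theorem S0 : On (Step.{u} r3 LW par A) 384 736 :=
  steps_of_blocks hpar hR S0_c (by decide +kernel)
theorem D0_c : allB (defOK 9 13 22 511 4194303 381 A K) 1 2 = true := by decide +kernel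
theorem D0 : On (fun r => defOK par.W par.WL par.E par.mW par.mE 381 A K r = true) 256 384 :=
  On.of_allB D0_c
noncomputable def JW0 : List ℕ := [nat_lit 0x3713ec7ccfc9fb6dce5d2c25771c94523b9349e95128245724935292784f4e8dc32766f0e7530a634ca999cd2684d4e013e27e744e29d3b707329652da5d504e5942286728a29463ab51ca05373a074a9c13626f7429c9cf274530e7134bb152ca2d46bad750a254939850aebd483b7552ea94aaaa542a8dd229b54ca815127353aa91db2a8758a7dd92ad776abd593b4558ee9572b0770ad1dfab6778ae5e0bbe574af55fbc0580b09622c6,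
  nat_lit 0x1c56b4751b29d23c4dacef9dd3c2760db9d56ced89baa013fa76d023306ba6f9ac3521fa699a898b340414d11a469ed31bba0641082db9374430de8f2a123fe859bd9c94288a0cea2644a8a891b5534a61cd7129354d40d49ac6de7c0f91f53ce7ad2338c3ae900f1a4471a7bd212486b8929c8a3b45a69d192317048b0d1a3445ce11bca0c41283d08b767369812fb7c43c8651037f43887d0ba214468691cb5446a8f9c4a383568cd1b23d,
  nat_lit 0xf209e3d1858e31c23a86a8e81de39c758db1e0c1db098d67472ce610820c42988b0e226650c8996326464cc19069063c950651ea4718d9372fa585a09802765f19a1792fcd80d8b3c39e7419895a2b8cb0929536b66e4de1b365c6d8dc1ba36a3f07f0f81f4c34820ff2063dc808f3310615a28ed3b2664e3b69380710ca9c66be7088499c334d28cf12262e4088f921250c587c9266324acc1184686cf8f536a3bcdb4f41fe4007f0f6a02,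
  nat_lit 0x12e5d44c0990c31602c8560ae5e6b7c3f0800f61f49f2ec640c705f8b61662b5782f5298ca0a1b1e656504b433766459c2604e090129688e011633c6f30319a3446a0d6172398478c71b8394628d01b4bf86c9702dacecb996f2244508810f6264618a91121a45ca598c670c21a38620c8124302d526c2149893826a4bcaf1602c42d49d07f6424f09693f2becd4b20d32e25a59e9772ea5488a9542ac54597b142aa560a794d360cd8bdb57,
  nat_lit 0x6b0d21c16c84705e0f01a83a59a1602d0540acb4c350680d8b5c2982e5960d018036140270510a413e0996482a0520b449ae911a2581c892128b9037ae7290c9193afc28e1d83a0715b617c4d2eb10e1cc1f8b107a2ed772f90ee1d436add0ba26d768811202645baca1742f17b8a15902a0550a7280c94a132228ab8c4508c0f2144662e819cbe865ae211cb9441888188254630c818252994b2660846ca496c672c00b5ade10821970867,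
  nat_lit 0x4208810019acf]
theorem W0_c : blocks (rows 9 4 13 22 511 8191 4194303 11 2047 55 A 736 126 cols 25) 25 JW0 0 = true := by decide +kernel
theorem W0 : On (Row.{u} r3 LW par A 736 126 cols) 0 150 :=
  rows_of_blocks hpar (by decide) hcols W0_c (by decide +kernel)
theorem idx : Idx.{u} r3 [[0], [2], [4], [6], [8]] [[0], [2], [4], [6]] 126 :=
  idx_of_cert hpar hR (K := K) (by decide +kernel) (T := 381) (T' := 384) (by decide) D0
    (subs := [1,3,5,6]) (by decide +kernel) (T1 := 384) (by decide) (N := 736) S0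
    (by decide) (n' := 150) (by decide) W0 (by decide +kernel) (by decide +kernel)
end T4
theorem b2 : Bound.{u} r2 [[0], [2], [4], [6]] 25920 :=
  .of_idx T3.idx (.of_idx T2.idx (.of_idx T1.idx (.of_idx T0.idx (.nil _) (N := 3) (by decide)) (N := 27) (by decide)) (N := 324) (by decide)) (by decide)
theorem b3 : Bound.{u} r3 [[0], [2], [4], [6], [8]] 3265920 := .of_idx T4.idx (b2.mono (by decide +kernel)) (by decide)
def a0 : Net := [(nat_lit 0x1041145151410505414455055144, nat_lit 1),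
  (nat_lit 0x3012011333101333211312103012, nat_lit 2),
  (nat_lit 0xb0809040a0709090a0c06040405, nat_lit 4),
  (nat_lit 0xb2009000e5001800da00380040, nat_lit 8),
  (nat_lit 0x1f480000748f00003d4e, nat_lit 16),
  (nat_lit 0xefcc00000000c7180400, nat_lit 32),
  (nat_lit 0xe00005080000, nat_lit 64),
  (nat_lit 0xe0000000000005080000, nat_lit 32),
  (nat_lit 0x50c0000000000000400, nat_lit 16),
  (nat_lit 0x86005200e500e300c400100000, nat_lit 8),
  (nat_lit 0x20f0000000e0602060002020000, nat_lit 4),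
  (nat_lit 0x3121300120002100230000320010, nat_lit 2),
  (nat_lit 0x1414551104010044404405140010, nat_lit 1)]
def a1 : Net := [(nat_lit 0x4141404410044140455051051401, nat_lit 1),
  (nat_lit 0x32331020213200333102131233, nat_lit 2),
  (nat_lit 0x2070606020d02000703020e0a05, nat_lit 4),
  (nat_lit 0x200510061009c00b10095002d, nat_lit 8),
  (nat_lit 0x7f3d000050250000f942, nat_lit 16),
  (nat_lit 0xe6c900000000638c6000, nat_lit 32),
  (nat_lit 0x80611c0000, nat_lit 64),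
  (nat_lit 0x8000000000611c0000, nat_lit 32),
  (nat_lit 0xe51d0000020800006000, nat_lit 16),
  (nat_lit 0x8f007200610023004000910000, nat_lit 8),
  (nat_lit 0xe060500000d0102010000050600, nat_lit 4),
  (nat_lit 0x202031000003100220023122300, nat_lit 2),
  (nat_lit 0x415550110441441150401405504, nat_lit 1)]
def a2 : Net := [(nat_lit 0x4105050541014415014001045100, nat_lit 1),
  (nat_lit 0x2000333010120223332111122020, nat_lit 2),
  (nat_lit 0x9090606060e01020a03080d0c00, nat_lit 4),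
  (nat_lit 0x800080008000ee00a200850004, nat_lit 8),
  (nat_lit 0x807f000003dd0000834a, nat_lit 16),
  (nat_lit 0xffff0000000080680000, nat_lit 32),
  (nat_lit 0x80680000, nat_lit 64),
  (nat_lit 0x80680000, nat_lit 32),
  (nat_lit 0x807f0000004800000000, nat_lit 16),
  (nat_lit 0x80008000800010000000810000, nat_lit 8),
  (nat_lit 0xe03010800000d0c00, nat_lit 4),
  (nat_lit 0x1000003020002100210001120000, nat_lit 2),
  (nat_lit 0x1450505014014415014001045100, nat_lit 1)]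
def a3 : Net := [(nat_lit 0x5054550014000055440440001540, nat_lit 1),
  (nat_lit 0x10030020012232321132002220, nat_lit 2),
  (nat_lit 0x60609060600030b0206030c0608, nat_lit 4),
  (nat_lit 0x7f0080008000ee002300700004, nat_lit 8),
  (nat_lit 0x807f0000059d0000688a, nat_lit 16),
  (nat_lit 0xffff0000000080580000, nat_lit 32),
  (nat_lit 0x80580000, nat_lit 64),
  (nat_lit 0x80580000, nat_lit 32),
  (nat_lit 0x807f0000004800000000, nat_lit 16),
  (nat_lit 0x7f008000800090000000600000, nat_lit 8),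
  (nat_lit 0x408000001040600, nat_lit 4),
  (nat_lit 0x10300020103103230022000220, nat_lit 2),
  (nat_lit 0x5014000004000055440440001500, nat_lit 1)]
def c0 : Net := [(nat_lit 0x1150444505544411044515514004145540150155510551010540054441444411545510, nat_lit 1),
  (nat_lit 0x1101210022103101200311211301321323230100133332322021102002312213031010, nat_lit 2),
  (nat_lit 0xb020b0f0b0402030d020e0d0d0104010d0d090e04070a0c0c05070a07050809060f02, nat_lit 4),
  (nat_lit 0xd400c400ee00cf005e00c3008f007000b0001b00220018008700f000cf005d008c, nat_lit 8),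
  (nat_lit 0x1e000067d000004b120000ab9e000086760000099a000092e00000488c0000d8aa, nat_lit 16),
  (nat_lit 0xed4672b600000000a858551f00000000112de71f000000007f310d7c, nat_lit 32),
  (nat_lit 0x922cd71b1bf76e6c0000000000000000319f893996e245dd, nat_lit 64),
  (nat_lit 0x421ca90c3928b3a537706bf1c9971dbe, nat_lit 128),
  (nat_lit 0xfffcff, nat_lit 256),
  (nat_lit 0x5d58a4, nat_lit 128),
  (nat_lit 0x652402f170bc429a00000000000000000000000000e0b092, nat_lit 64),
  (nat_lit 0xccc7184e000000000b0cc094000000000139b4770000000000909449, nat_lit 32),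
  (nat_lit 0x38000097070000ab9700003c81000096080000a8a8000086a900000f0200001000, nat_lit 16),
  (nat_lit 0x53000f00d2000a00e900ac0033004e00660007003c00830056009f00c600fe001b, nat_lit 8),
  (nat_lit 0x60f0b0205080703040a080f0509050604050c0404050e060b0c0d01020e0100000000, nat_lit 4),
  (nat_lit 0x211331120210131130312101101131121102110110331322301131001210231103000, nat_lit 2),
  (nat_lit 0x4044151055414000001015001110141155144511454405500404445155404445110544, nat_lit 1)]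
def c1 : Net := [(nat_lit 0x41501455045044105014555505111110145540544114415144441005041045104055, nat_lit 1),
  (nat_lit 0x3033021223311212021201111310223201011210322023313122101332320332101133, nat_lit 2),
  (nat_lit 0xd0a070a0d0e0a060e0f0607050c0301060c030f0e0a02030c040708010b0c060d020a, nat_lit 4),
  (nat_lit 0xd100390097004e00a2009500e90083002400c0001c00660096002000ec006c0071, nat_lit 8),
  (nat_lit 0xed000078a9000098300000110e0000d0a30000507b0000c7da0000df9a0000a37b, nat_lit 16),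
  (nat_lit 0x798307a50000000055e6a57700000000dabc0a8b00000000e2303daa, nat_lit 32),
  (nat_lit 0xd9e5d428024f84cb000000000000000076c111054419dc31, nat_lit 64),
  (nat_lit 0x31eeca7b6c5a4bb51f210185d2a51ab2, nat_lit 128),
  (nat_lit 0xdfffff, nat_lit 256),
  (nat_lit 0x97bf79, nat_lit 128),
  (nat_lit 0x44302c226de26740000000000000000000000000000c278, nat_lit 64),
  (nat_lit 0x5d830bc000000000230d7ce800000000108c832200000000004a24d4, nat_lit 32),
  (nat_lit 0x87000089330000fa880000159e0000fad9000099d200008d470000c1000000a000, nat_lit 16),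
  (nat_lit 0x37008d0094007300a400f50049003700d100220096000c004c00b2008c0024003f, nat_lit 8),
  (nat_lit 0x70d0f010002020b0304000a040a0a030005050f0f000805080203080a0007090a00, nat_lit 4),
  (nat_lit 0x2211130021201120212310222010322033211020111001013212330022223332133220, nat_lit 2),
  (nat_lit 0x4155141154444115145410044111140514101050004114414104544154041101104050, nat_lit 1)]
def c2 : Net := [(nat_lit 0x5541405155040055011015440551550455511441544115501401405454541454014044, nat_lit 1),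
  (nat_lit 0x1132300010112302021320232333003303332100103021031312333300100233300232, nat_lit 2),
  (nat_lit 0x40705080b09080a000c0c0d0e0609090a0c0200010b050f06080e0b080408000c0b, nat_lit 4),
  (nat_lit 0x99009c00d900fb002b00c6009400060038009a00320029001300510037006400f3, nat_lit 8),
  (nat_lit 0x440000eee20000ee1e00009fc800006dd80000d93d0000615f000071f600005a9f, nat_lit 16),
  (nat_lit 0x7356644700000000e6a023b1000000003df94e8400000000990fa380, nat_lit 32),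
  (nat_lit 0x46fac6c8e2f5332a0000000000000000aa6185c85692fa35, nat_lit 64),
  (nat_lit 0xa5f29e812a123d9b689565aa93dd994a, nat_lit 128),
  (nat_lit 0xffffef, nat_lit 256),
  (nat_lit 0x71372e, nat_lit 128),
  (nat_lit 0x4062f1039835335700000000000000000000000000964a63, nat_lit 64),
  (nat_lit 0x41db6c740000000060a6a00000000000ac458d810000000000280000, nat_lit 32),
  (nat_lit 0xa90000ee250000230000009d090000128e00009329000072e2000002570000e000, nat_lit 16),
  (nat_lit 0x1300b6005f007c002c00ec008000a800b100830039007a005a00700081000500f9, nat_lit 8),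
  (nat_lit 0xd06050a0b010800010a0c010c04040909080d01090a0a0204060006000908000a0400, nat_lit 4),
  (nat_lit 0x2033123320220120203111010300133320110232120201103011010120123211101300, nat_lit 2),
  (nat_lit 0x5555005155040154011014450551150551501441444005141001405454541454010044, nat_lit 1)]
def c3 : Net := [(nat_lit 0x4050044500045114451045515050044115050551104401110010050504411450014404, nat_lit 1),
  (nat_lit 0x322010220132122132103223223330312213120100112232012122122222211010020, nat_lit 2),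
  (nat_lit 0xb010a0f01010c0e010f020d0b020906010107020a060c040d090b0a0e0509040d0d03, nat_lit 4),
  (nat_lit 0x8a00b9002b002f005c00f4002d00ba005a008100e800d300cc00e600d200a5005d, nat_lit 8),
  (nat_lit 0x710000854d0000e8580000ab940000e71a00008b730000edc2000022130000a93b, nat_lit 16),
  (nat_lit 0x4561127d00000000cb4b21b400000000b67c7be3000000002fa1c3da, nat_lit 32),
  (nat_lit 0x25b0b6b6fe5a837c0000000000000000183f3d7b07c4de4a, nat_lit 64),
  (nat_lit 0x791d4328fbfc9f1dcfe2380d91d86fd5, nat_lit 128),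
  (nat_lit 0xbffbff, nat_lit 256),
  (nat_lit 0x274b9e, nat_lit 128),
  (nat_lit 0x960813210a04f39800000000000000000000000000929b56, nat_lit 64),
  (nat_lit 0x27f626c00000000c0e0343300000000845278620000000000206945, nat_lit 32),
  (nat_lit 0x68000044610000000c00006c8f000010600000b07a00009ff40000bb3800003200, nat_lit 16),
  (nat_lit 0xfe004300f6000100d0004e00cb00730088001d00f8008f00a0000000ca003d0042, nat_lit 8),
  (nat_lit 0x50d0e0b050e090108070d040f070f02080d06070e040c0008040f030e04010e010000, nat_lit 4),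
  (nat_lit 0x2320000220102102122113203203133210210123000330233010122032222031000120, nat_lit 2),
  (nat_lit 0x4041044500444114440045515050045115050551004401110010050104411450014404, nat_lit 1)]
def c4 : Net := [(nat_lit 0x41144540105051140010115401555110151140404454411500414405414111140514, nat_lit 1),
  (nat_lit 0x1013331021310223003323331210233123130233310310101133122011010013120332, nat_lit 2),
  (nat_lit 0x4050f070d030e09030a040e090f05060103060b090d060203010d090f010c0b060609, nat_lit 4),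
  (nat_lit 0x7c003000c10030007c00ab00a500aa0078008c00220088006000a7006200570015, nat_lit 8),
  (nat_lit 0xd100009ae300003d620000bbcf0000f6ba000063750000d8a40000401800004e99, nat_lit 16),
  (nat_lit 0xdf4a15d200000000c6642eed00000000782929dc000000002abf0189, nat_lit 32),
  (nat_lit 0x13c86180ccb2fb8e0000000000000000e5387ed500e9b907, nat_lit 64),
  (nat_lit 0x9568d482934e39776d6d533bbd85e7c4, nat_lit 128),
  (nat_lit 0x77ebff, nat_lit 256),
  (nat_lit 0x11c34e, nat_lit 128),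
  (nat_lit 0x80087110089d25b00000000000000000000000000060878, nat_lit 64),
  (nat_lit 0x85ca60030000000044f2a09d0000000040210ba6000000000037a109, nat_lit 32),
  (nat_lit 0x2f0000872b00007e27000007dc00008dd70000d30400006b5e00002b0000000200, nat_lit 16),
  (nat_lit 0x55004d007c00ce007800a20034002f00d9001b0066004900b00006000000d90016, nat_lit 8),
  (nat_lit 0x90b000204060d0c0c0608070d040e010b060b010a08030b08020507000f0d06070500, nat_lit 4),
  (nat_lit 0x2032023132031311001332021122210303212010122112200111230031202210103100, nat_lit 2),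
  (nat_lit 0x41144400104051140010011401555110151140404454411500414405414111140114, nat_lit 1)]
def C2 : Ctx := ⟨112, 7, [a0, a1, a2, a3, H13We.t18, H13We.t19, H13We.t20, H13We.t21, H13We.t22]⟩
theorem hC2 : C2.ok = true := by decide +kernel
def C3 : Ctx := ⟨280, 9, [c0, c1, c2, c3, c4, U43T.t0, U43T.t1, U43T.t2, U43T.t3, U43T.t4, U43T.t5]⟩
theorem hC3 : C3.ok = true := by decide +kernel
theorem hrel2 : ∀ r ∈ r2, C2.ev r = 1 := rels_of_eqW hC2 (by decide +kernel)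
theorem hrel3 : ∀ r ∈ r3, C3.ev r = 1 := rels_of_eqW hC3 (by decide +kernel)
theorem le2 : H13We.C.grp H13We.prs ≤ C2.grp [[0], [2], [4], [6]] := by
  have h : ∀ i < 5, C2.ev [2 * (i + 4)] ∈ C2.grp [[0], [2], [4], [6]] := fun i hi => by
    rw [← Ctx.eq_of_eqW hC2 ((by decide +kernel : ∀ i < 5, C2.eqW (subst [[0], [2], [4], [6]] (nth [[6,2,0,4,1,3,6,2,1,4,0,3,6,2,1,4,0], [4,0,2,6,3,1,4,0,3,6,2,1,4,0,3,6,2], [3,6,0,2,1,4,0,3,6,0,2,1,4,0], [2,1,4,0,2,6,3,1,4,0,3,6,2,1,4,0], [3,6,2,1,4,2,0,3,6,2,1,4,2,0]] [] i)) [2 * (i + 4)] = true) i hi)]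
    exact subst_mem_grp _ _ _
  simp only [Ctx.ev, ev_gen] at h
  refine (grp_le_iff _).2 ?_
  simp only [H13We.prs, List.forall_mem_cons, List.not_mem_nil, false_imp_iff, implies_true, and_true]
  exact ⟨ev_gen H13We.C.g 18 ▸ h 0 (by decide), ev_gen H13We.C.g 19 ▸ h 1 (by decide), ev_gen H13We.C.g 20 ▸ h 2 (by decide),
    ev_gen H13We.C.g 21 ▸ h 3 (by decide), ev_gen H13We.C.g 22 ▸ h 4 (by decide)⟩
theorem le3 : U43T.C.grp U43T.ws ≤ C3.grp [[0], [2], [4], [6], [8]] := by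
  have h : ∀ i < 6, C3.ev [2 * (i + 5)] ∈ C3.grp [[0], [2], [4], [6], [8]] := fun i hi => by
    rw [← Ctx.eq_of_eqW hC3 ((by decide +kernel : ∀ i < 6, C3.eqW (subst [[0], [2], [4], [6], [8]] (nth [[1,2,6,8,1,4,0,3,6,1,4,2,1,2], [3,6,3,1,4,3,1,2,6,8,6,2,1,3,5,1,7,2], [6,8,3,0,4,2,0,3,6,3,0,4,1,3,0,9,7], [4,1,2,6,1,2,0,4,1,3,6,1,3,9,7,3,0], [6,0,2,0], [4,0,3,6,8,3,1,4,0,2,6,3,1,5,0,2,9,7,2,1,5]] [] i)) [2 * (i + 5)] = true) i hi)]
    exact subst_mem_grp _ _ _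
  simp only [Ctx.ev, ev_gen] at h
  refine (grp_le_iff _).2 ?_
  simp only [U43T.ws, List.forall_mem_cons, List.not_mem_nil, false_imp_iff, implies_true, and_true]
  exact ⟨ev_gen U43T.C.g 0 ▸ h 0 (by decide), ev_gen U43T.C.g 1 ▸ h 1 (by decide), ev_gen U43T.C.g 2 ▸ h 2 (by decide),
    ev_gen U43T.C.g 5 ▸ h 5 (by decide), ev_gen U43T.C.g 3 ▸ h 3 (by decide), ev_gen U43T.C.g 4 ▸ h 4 (by decide)⟩
theorem eq2 : H13We.C.grp H13We.prs = C2.grp [[0], [2], [4], [6]] :=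
  have := (b2 _ _ hrel2).1
  Subgroup.eq_of_le_of_card_ge le2 ((b2 _ _ hrel2).2.trans H13We.cardP.ge)
theorem eq3 : U43T.C.grp U43T.ws = C3.grp [[0], [2], [4], [6], [8]] :=
  have := (b3 _ _ hrel3).1
  Subgroup.eq_of_le_of_card_ge le3 ((b3 _ _ hrel3).2.trans U43T.card.ge)
end
end CA.H13SuT
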