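import Cfsg.Agent.Lib.Lin.U32
import Cfsg.Agent.Lib.Lin.PrsSL1
import Cfsg.Agent.Lib.Lin.CFormFin
import Cfsg.Agent.S0281
import Cfsg.Agent.S0278
import Cfsg.Agent.S2283

/-! `SU 2` and `SU 3` are generated by two elements. -/

set_option autoImplicit false

namespace CA.SuTwo

open Matrix Cfsg CA.SmallF CA.U32

theorem two_of_equiv {G H : Type*} [Group G] [Group H] (e : G ≃* H)
    (h : ∃ a b : H, Subgroup.closure {a, b} = ⊤) : ∃ a b : G, Subgroup.closure {a, b} = ⊤ := by
  obtain ⟨a, b, h⟩ := h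
  refine ⟨e.symm a, e.symm b, ?_⟩
  have := congrArg (Subgroup.map e.symm.toMonoidHom) h
  rwa [MonoidHom.map_closure, Set.image_pair, Subgroup.map_top_of_surjective _ e.symm.surjective] at this

/-- The scalar matrix of a cube root of unity. -/
def zm : Matrix (Fin 3) (Fin 3) F4 := !![om, 0, 0; 0, om, 0; 0, 0, om]

/-- A numerical code of a matrix. -/
def code (A : Matrix (Fin 3) (Fin 3) F4) : ℕ :=
  ([0, 1, 2].flatMap fun i => [0, 1, 2].map fun j => A i j).foldl (fun n x => 4 * n + 2 * x.im.val + x.re.val) 0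

/-- Exponent vectors. -/
def ex : List (ℕ × ℕ × ℕ × ℕ × ℕ) :=
  [0, 1, 2].flatMap fun i => [0, 1, 2].flatMap fun j => [0, 1, 2].flatMap fun k => [0, 1, 2, 3].flatMap fun s =>
    [0, 1].map fun t => (i, j, k, s, t)

theorem nodup : (ex.map fun x => code (dm ^ x.1 * cm ^ x.2.1 * zm ^ x.2.2.1 * im ^ x.2.2.2.1 * jm ^ x.2.2.2.2)).Nodup := by
  decide +kernel

theorem aux {H : Type*} [Group H] (ρ : H →* Matrix (Fin 3) (Fin 3) F4) (hρ : Function.Injective ρ)
    (h2 : Nat.card H = 216) {d c a j : H} (d0 : ρ d = dm) (c0 : ρ c = cm) (a0 : ρ a = im) (j0 : ρ j = jm) :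
    Subgroup.closure {a, j * d} = ⊤ := by
  classical
  have : Finite H := Nat.finite_of_card_ne_zero (by omega)
  have := Fintype.ofFinite H
  set M := Subgroup.closure {a, j * d}
  have ha : a ∈ M := Subgroup.subset_closure (by simp)
  have hb : j * d ∈ M := Subgroup.subset_closure (by simp)
  have e1 : d = a * a * (j * d) * (j * d) * a * (j * d) * (j * d) * a := hρ (by
    simp only [map_mul, d0, a0, j0]; decide +kernel)
  have e2 : c = a * a * a * (j * d) * (j * d) * a * (j * d) * (j * d) := hρ (by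
    simp only [map_mul, d0, a0, j0, c0]; decide +kernel)
  have hd : d ∈ M := by rw [e1]; repeat (first | exact ha | exact hb | apply M.mul_mem)
  have hc : c ∈ M := by rw [e2]; repeat (first | exact ha | exact hb | apply M.mul_mem)
  have hj : j ∈ M := (M.mul_mem_cancel_right hd).1 hb
  obtain ⟨z, hz, ez⟩ : ∃ z ∈ M, ρ z = zm := ⟨c * d * c * c * d * d,
    by repeat (first | exact hd | exact hc | apply M.mul_mem), by
    simp only [map_mul, d0, c0]; decide +kernel⟩
  let f : ℕ × ℕ × ℕ × ℕ × ℕ → H := fun x => d ^ x.1 * c ^ x.2.1 * z ^ x.2.2.1 * a ^ x.2.2.2.1 * j ^ x.2.2.2.2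
  have h1 : (ex.map f).Nodup := List.Nodup.of_map (fun g => code (ρ g)) (by
    rw [List.map_map]
    simpa only [Function.comp_def, f, map_mul, map_pow, ez, d0, c0, a0, j0] using nodup)
  have h3 : (ex.map f).toFinset = Finset.univ := Finset.eq_univ_of_card _ (by
    rw [List.toFinset_card_of_nodup h1, ← Nat.card_eq_fintype_card, h2, List.length_map]; rfl)
  refine eq_top_iff.2 fun g _ => ?_
  obtain ⟨x, -, rfl⟩ := List.mem_map.1 (List.mem_toFinset.1 (h3 ▸ Finset.mem_univ g))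
  exact M.mul_mem (M.mul_mem (M.mul_mem (M.mul_mem (M.pow_mem hd _) (M.pow_mem hc _)) (M.pow_mem hz _))
    (M.pow_mem ha _)) (M.pow_mem hj _)

theorem su32 : ∃ a b : SU 3 F4 2, Subgroup.closure {a, b} = ⊤ :=
  ⟨_, _, aux ((Cfsg.slToMat 3 F4).comp (Cfsg.SU 3 F4 2).subtype)
    (Subtype.val_injective.comp Subtype.val_injective) (by
      have := Cfsg.Agent.S0278.result (F := F4) (q := 2) card_F4 3 (by omega)
      generalize Nat.card (SU 3 F4 2) = k at this ⊢
      simp [Finset.prod_range_succ, Nat.even_iff] at this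
      omega)
    (d := ⟨⟨dm, det_dm⟩, mem_SU fr (fun _ => rfl) _ (show dmᵀ * dm.map fr = 1 by decide +kernel)⟩)
    (c := ⟨⟨cm, det_cm⟩, mem_SU fr (fun _ => rfl) _ (show cmᵀ * cm.map fr = 1 by decide +kernel)⟩)
    (a := ⟨⟨im, det_im⟩, mem_SU fr (fun _ => rfl) _ (show imᵀ * im.map fr = 1 by decide +kernel)⟩)
    (j := ⟨⟨jm, det_jm⟩, mem_SU fr (fun _ => rfl) _ (show jmᵀ * jm.map fr = 1 by decide +kernel)⟩)
    rfl rfl rfl rfl⟩

variable {F : Type*} [Field F] [Fintype F] {q : ℕ}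

theorem su3_two (hF : Fintype.card F = q ^ 2) : ∃ a b : SU 3 F q, Subgroup.closure {a, b} = ⊤ := by
  obtain rfl | h := (CA.CForm.two_le_of_card_sq hF).eq_or_lt
  · obtain ⟨e⟩ := nonempty_F4 hF
    exact two_of_equiv (CA.FieldIso.suEquiv e 3 2) su32
  · obtain ⟨u, g, -, h⟩ := Cfsg.Agent.S2283.result q h hF
    exact ⟨_, _, h⟩

theorem su2_two (hF : Fintype.card F = q ^ 2) : ∃ a b : SU 2 F q, Subgroup.closure {a, b} = ⊤ := by
  classical
  let K : Subfield F := (CA.CForm.conj hF).eqLocusField (RingHom.id F)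
  obtain ⟨e⟩ := Cfsg.Agent.S0281.result (K := K) hF (by
    rw [← Nat.card_eq_fintype_card]; exact CA.CForm.card_conj_fixed hF)
  exact two_of_equiv e (CA.Prs.sl2_two K)

end CA.SuTwo
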