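import Cfsg.Agent.Lib.Lin.H29Su
import Cfsg.Agent.Lib.Lin.Phan5
import Cfsg.Agent.Lib.Lin.SuTwo

/-! A bounded presentation of `SU₅(q)` from one of `SU₄(q)`, for all `q`. -/

set_option autoImplicit false
set_option maxHeartbeats 400000

namespace CA.H13Su

open Matrix Cfsg CA.Phan CA.Prs CA.H29Su Subgroup Equiv Monoid
open scoped commutatorElement

variable {F : Type*} [Field F] [Fintype F] {q d r : ℕ}

/-- the five-cycle -/
def rot5 : alternatingGroup (Fin 5) := ⟨finRotate 5, Perm.mem_alternatingGroup.2 (by decide)⟩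

theorem rot5_up (y : SU 4 F q) : pm 5 rot5 * up 4 y * (pm 5 rot5)⁻¹ = lo 4 y :=
  Subtype.ext (H29Pr.pm_conj rot5 fun a b => by fin_cases a <;> fin_cases b <;> rfl)

theorem pres5 (hF : Fintype.card F = q ^ 2) (h : Pres d r (SU 4 F q)) : Pres (d + 1) (r + 11) (SU 5 F q) := by
  obtain ⟨a, b, hab⟩ := H29Su.su2_two hF
  obtain ⟨c, e, hce⟩ := SuTwo.su3_two hF
  let g : SU 5 F q := pm 5 rot5
  have hg : ∀ y, g * up 4 y * g⁻¹ = lo 4 y := rot5_up
  let il : SU 4 F q →* Coprod (SU 4 F q) (FreeGroup (Fin 1)) := Coprod.inl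
  let t : Coprod (SU 4 F q) (FreeGroup (Fin 1)) := Coprod.inr (.of 0)
  let M := il.range ⊔ ((MulAut.conj t).toMonoidHom.comp il).range
  let L := Coprod.lift (up (F := F) (q := q) 4) (FreeGroup.lift ![g])
  have hM : M.map L = ⊤ := top_unique ((gen4 hF (n := 1)).ge.trans (sup_le
    (by rintro _ ⟨x, rfl⟩; exact ⟨_, mem_sup_left ⟨x, rfl⟩, rfl⟩)
    (by rintro _ ⟨x, rfl⟩; exact ⟨_, mem_sup_right ⟨x, rfl⟩, by simp [L, il, t, hg]⟩)))
  obtain ⟨w, w1, w2⟩ := hM.ge (mem_top g)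
  have k : ∀ x y : SU 3 F q, x ∈ (up 2).range ∨ y ∈ (lo 2).range →
      Commute (up 4 (up 3 x)) (g * up 4 (lo 3 y) * g⁻¹) := fun x y hxy => by
    rw [hg]
    exact blk3_comm (m := 2) (i := 0) (j := 2) le_rfl (x := x) (y := y) (Or.inl ⟨le_rfl, hxy⟩)
  refine h.ext (up 4) ![g] ((t⁻¹ * w :: [c, e].map fun x => t * il (up 3 x) * t⁻¹ * (il (lo 3 x))⁻¹) ++
    (([a, b].flatMap fun x => [c, e].map fun y => ⁅il (up 3 (up 2 x)), t * il (lo 3 y) * t⁻¹⁆) ++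
    [c, e].flatMap fun x => [a, b].map fun y => ⁅il (up 3 x), t * il (lo 3 (lo 2 y)) * t⁻¹⁆)) ?_
    (top_unique ((gen4 hF (n := 1)).ge.trans (sup_le ?_ ?_))) fun J _ ψ ξ h => ?_
  · simp only [il, t, List.forall_mem_append, List.forall_mem_cons, List.forall_mem_flatMap, List.forall_mem_map, map_mul,
      map_inv, map_commutatorElement, Coprod.lift_apply_inl, Coprod.lift_apply_inr, mul_inv_eq_one,
      commutatorElement_eq_one_iff_commute, FreeGroup.lift_apply_of, cons_val_zero, inv_mul_eq_one]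
    have u : ∀ x : SU 3 F q, g * up 4 (up 3 x) * g⁻¹ = up 4 (lo 3 x) := fun x => (hg _).trans (up_lo x).symm
    exact ⟨⟨w2.symm, u c, u e, by simp⟩, ⟨⟨k _ _ (.inl ⟨_, rfl⟩), k _ _ (.inl ⟨_, rfl⟩), by simp⟩,
      ⟨k _ _ (.inl ⟨_, rfl⟩), k _ _ (.inl ⟨_, rfl⟩), by simp⟩, by simp⟩,
      ⟨k _ _ (.inr ⟨_, rfl⟩), k _ _ (.inr ⟨_, rfl⟩), by simp⟩, ⟨k _ _ (.inr ⟨_, rfl⟩), k _ _ (.inr ⟨_, rfl⟩), by simp⟩, by simp⟩
  · rintro _ ⟨x, rfl⟩; exact subset_closure (.inl ⟨x, rfl⟩)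
  · rintro _ ⟨x, rfl⟩
    have k' : g ∈ closure (Set.range (up (F := F) (q := q) 4) ∪ Set.range ![g]) := subset_closure (.inr ⟨0, rfl⟩)
    exact hg x ▸ mul_mem (mul_mem k' (subset_closure (.inl ⟨x, rfl⟩))) (inv_mem k')
  simp only [il, t, List.forall_mem_append, List.forall_mem_cons, List.forall_mem_flatMap, List.forall_mem_map, map_mul,
    map_inv, map_commutatorElement, Coprod.lift_apply_inl, Coprod.lift_apply_inr, mul_inv_eq_one,
    commutatorElement_eq_one_iff_commute, FreeGroup.lift_apply_of, inv_mul_eq_one] at h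
  obtain ⟨⟨e0, e1, e2, -⟩, ⟨⟨e3, e4, -⟩, ⟨e5, e6, -⟩, -⟩, ⟨e7, e8, -⟩, ⟨e9, e10, -⟩, -⟩ := h
  let C : SU 4 F q →* J := (MulAut.conj (ξ 0)).toMonoidHom.comp ψ
  have u : C.comp (up 3) = ψ.comp (lo 3) := MonoidHom.eq_of_eqOn_dense hce (by rintro _ (rfl | rfl); exacts [e1, e2])
  have g2 : ∀ (f : SU 2 F q →* J) {z : J}, Commute (f a) z → Commute (f b) z → ∀ x, Commute (f x) z :=
    fun f z h1 h2 x => comm2 (hab.ge (mem_top x)) f (by simp [h1, h2])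
  have g3 : ∀ (f : SU 3 F q →* J) {z : J}, Commute (f c) z → Commute (f e) z → ∀ x, Commute (f x) z :=
    fun f z h1 h2 x => comm2 (hce.ge (mem_top x)) f (by simp [h1, h2])
  obtain ⟨Φ, v0, v1⟩ := step5 hF (n := 0) ψ C u.symm fun x y hxy => by
    rcases hxy with ⟨x, rfl⟩ | ⟨y, rfl⟩ | hxy
    · exact g2 ((ψ.comp (up 3)).comp (up 2)) (g3 (C.comp (lo 3)) e3.symm e4.symm y).symm
        (g3 (C.comp (lo 3)) e5.symm e6.symm y).symm x
    · exact g3 (ψ.comp (up 3)) (g2 ((C.comp (lo 3)).comp (lo 2)) e7.symm e8.symm y).symm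
        (g2 ((C.comp (lo 3)).comp (lo 2)) e9.symm e10.symm y).symm x
    · omega
  refine ⟨Φ, v0, fun i => ?_⟩
  obtain rfl : i = 0 := Subsingleton.elim _ _
  rw [e0]
  refine (congrArg Φ w2.symm).trans ((show M ≤ (Φ.comp L).eqLocus (Coprod.lift ψ (FreeGroup.lift ξ)) from
    sup_le ?_ ?_) w1) <;>
    rintro _ ⟨z, rfl⟩
  · exact DFunLike.congr_fun v0 z
  · change Φ _ = _
    have := DFunLike.congr_fun v1 z
    rw [MonoidHom.comp_apply, ← hg] at this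
    simpa [L, il, t, C, -map_mul, map_mul (Coprod.lift _ _)] using this

end CA.H13Su
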