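import Cfsg.Agent.Lib.Lin.H10Syl
import Cfsg.Agent.Lib.Lin.Rank2
import Cfsg.Agent.Lib.Grp.H10Dl

/-! Normal elementary abelian subgroups and derived length of Sylow 2-subgroups of wreath products. -/

set_option autoImplicit false
set_option linter.unusedSectionVars false
set_option maxHeartbeats 400000

namespace CA.H13Wr
open Subgroup Cfsg CA.SylIn CA.H10Wr CA.H10Syl CA.H10Dl CA.CForm CA.CForm.Form Equiv Module Function
open scoped MatrixGroups

/-- normal 2-rank at least `k` -/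
def NG (k : ℕ) (S : Type*) [Group S] : Prop :=
  ∃ E : Subgroup S, E.Normal ∧ IsElementaryAbelian 2 E ∧ 2 ^ k ≤ Nat.card E

/-- normal 2-rank at most `k` -/
def NL (k : ℕ) (S : Type*) [Group S] : Prop :=
  ∀ E : Subgroup S, E.Normal → IsElementaryAbelian 2 E → Nat.card E ≤ 2 ^ k

section
variable {S S' : Type*} [Group S] [Group S'] {k : ℕ}

theorem ea_map {E : Subgroup S} (h : IsElementaryAbelian 2 E) (f : S →* S') : IsElementaryAbelian 2 (E.map f) :=
  haveI := h.1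
  ⟨inferInstance, by rintro _ ⟨a, ha, rfl⟩; rw [← map_pow, h.2 a ha, map_one]⟩

theorem NG.of_equiv (h : NG k S) (e : S ≃* S') : NG k S' :=
  let ⟨E, h1, h2, h3⟩ := h
  ⟨E.map e.toMonoidHom, h1.map _ e.surjective, ea_map h2 _, by rwa [card_map_of_injective e.injective]⟩

theorem NL.of_equiv (h : NL k S) (e : S ≃* S') : NL k S' := fun E h1 h2 => by
  have := h (E.map e.symm.toMonoidHom) (h1.map _ e.symm.surjective) (ea_map h2 _)
  rwa [card_map_of_injective e.symm.injective] at this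

theorem nl_of_rank (h : PRankLE 2 k S) (P : Subgroup S) : NL k P := fun E _ h2 => by
  have := h _ (ea_map h2 P.subtype).1 (ea_map h2 P.subtype).2
  rwa [card_map_of_injective P.subtype_injective] at this
end

variable {ι H R Γ Γ' : Type*} [Group H] [Group R] [Group Γ] [Group Γ'] [Fintype ι] [DecidableEq ι]
  (W : Wr ι H R Γ) {D : Subgroup H} {E : Subgroup R} (T : Subgroup (Perm ι)) {z : H} {k : ℕ}

/-- transport along an isomorphism -/
def tr (e : Γ ≃* Γ') : Wr ι H R Γ' where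
  β := e.toMonoidHom.comp W.β
  σ := e.toMonoidHom.comp W.σ
  conj π f r := by simpa using congrArg e (W.conj π f r)
  inj b π h := W.inj b π (e.injective h)

theorem Ph_bot : W.Ph D E ⊥ = (Wr.bs D E).map W.β := by rw [Wr.Ph, Subgroup.map_bot, sup_bot_eq]

variable [Finite Γ] [Finite H] [Finite R]

theorem card_A (hz : orderOf z = 2) (hE : Nat.card E = 2 ^ k) :
    Nat.card ((Wr.bs (zpowers z) E).map W.β) = 2 ^ (Fintype.card ι + k) := by
  rw [← Ph_bot, W.card_Ph, Nat.card_zpowers, hz, hE, card_bot, mul_one, pow_add]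

theorem exists_equiv (D : Sylow 2 H) (T : Sylow 2 (Perm ι)) (hE : IsPGroup 2 E)
    (h : (Nat.card Γ).factorization 2 ≤ Fintype.card ι * (Nat.card H).factorization 2 +
      (Nat.card E).factorization 2 + (Fintype.card ι).factorial.factorization 2) (S : Sylow 2 Γ) :
    Nonempty (W.Ph D E T ≃* S) := by
  obtain ⟨P, hP⟩ := (W.syl (G := ⊤) D T hE h).exists_sylow_eq
  rw [Wr.P, inf_top_eq] at hP
  exact ⟨(MulEquiv.subgroupCongr hP.symm).trans (Sylow.equiv P S)⟩

theorem ng (hz : orderOf z = 2) (hD : z ∈ D) (hc : ∀ d ∈ D, d * z = z * d) (hE : Nat.card E = 2 ^ k)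
    (h1 : ∀ r ∈ E, r ^ 2 = 1) (h2 : ∀ r ∈ E, ∀ s ∈ E, r * s = s * r) : NG (Fintype.card ι + k) (W.Ph D E T) := by
  have l0 : (Wr.bs (zpowers z) E : Subgroup ((ι → H) × R)) ≤ Wr.bs D E := fun b hb =>
    Wr.mem_bs.2 ⟨fun i => zpowers_le.2 hD ((Wr.mem_bs.1 hb).1 i), (Wr.mem_bs.1 hb).2⟩
  have l : (Wr.bs (zpowers z) E).map W.β ≤ W.Ph D E T := (map_mono l0).trans le_sup_left
  have c : ∀ b ∈ (Wr.bs D E : Subgroup ((ι → H) × R)), ∀ a ∈ (Wr.bs (zpowers z) E : Subgroup ((ι → H) × R)),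
      b * a = a * b := fun b hb a ha => Prod.ext (funext fun i => by
    obtain ⟨n, e⟩ := (Wr.mem_bs.1 ha).1 i
    show b.1 i * a.1 i = a.1 i * b.1 i
    rw [← e]
    exact (Commute.zpow_right (hc _ ((Wr.mem_bs.1 hb).1 i)) n).eq) (h2 _ (Wr.mem_bs.1 hb).2 _ (Wr.mem_bs.1 ha).2)
  refine ⟨((Wr.bs (zpowers z) E).map W.β).subgroupOf _, (normal_subgroupOf_iff_le_normalizer l).2
    (sup_le ?_ (W.norm_bs _ _ _)), ⟨⟨⟨?_⟩⟩, ?_⟩, ?_⟩
  · rintro _ ⟨b, hb, rfl⟩
    refine mem_normalizer_of_forall ?_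
    rintro _ ⟨a, ha, rfl⟩
    rw [← map_mul, c b hb a ha, map_mul, mul_inv_cancel_right]
    exact mem_map_of_mem _ ha
  · rintro ⟨⟨x, _⟩, a, ha, e⟩ ⟨⟨y, _⟩, b, hb, e'⟩
    refine Subtype.ext (Subtype.ext ?_)
    show x * y = y * x
    rw [← show W.β a = x from e, ← show W.β b = y from e', ← map_mul, c a (l0 ha) b hb, map_mul]
  · rintro ⟨_, _⟩ ⟨a, ha, rfl⟩
    refine Subtype.ext ?_
    show W.β a ^ 2 = 1
    rw [← map_pow, ← map_one W.β]
    congr 1
    refine Prod.ext (funext fun i => ?_) (h1 _ (Wr.mem_bs.1 ha).2)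
    exact orderOf_dvd_iff_pow_eq_one.1 (hz ▸ orderOf_dvd_of_mem_zpowers ((Wr.mem_bs.1 ha).1 i))
  · rw [Nat.card_congr (subgroupOfEquivOfLe l).toEquiv, card_A W hz hE]

theorem nl (hz : orderOf z = 2) (hE : Nat.card E = 2 ^ k) (h1 : ∃ d ∈ D, d ^ 2 ≠ 1)
    (h2 : ∀ d ∈ D, d ^ 2 = 1 → (∀ g ∈ D, (g * d * g⁻¹ * d⁻¹) ^ 2 = 1) → d ∈ zpowers z) :
    NL (Fintype.card ι + k) (W.Ph D E T) := fun A hn hA => by
  rw [← card_A W hz hE, ← card_map_of_injective (W.Ph D E T).subtype_injective]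
  refine card_le_of_le ?_
  rintro _ ⟨⟨x, hx⟩, hxA, rfl⟩
  have k0 : x ^ 2 = 1 := congrArg Subtype.val (hA.2 _ hxA)
  have k1 : ∀ i, ∀ d ∈ D, (W.e i d * (x * (W.e i d)⁻¹ * x⁻¹)) ^ 2 = 1 := fun i d hd => by
    have := congrArg Subtype.val (hA.2 _ (mul_mem (hn.conj_mem _ hxA ⟨_, W.e_mem i hd⟩) (inv_mem hxA)))
    simpa [mul_assoc] using this
  obtain ⟨_, ⟨b, hb, rfl⟩, _, ⟨π, -, rfl⟩, rfl⟩ := mem_sup_of (W.norm_bs D E T) hx
  have k2 : ∀ i, ∀ d ∈ D, (d * (b.1 i * Pi.mulSingle (M := fun _ => H) (π i) d⁻¹ i * (b.1 i)⁻¹)) ^ 2 = 1 :=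
    fun i d hd => by
    have := k1 i d hd
    rw [← map_inv, show W.β b * W.σ π * W.e i d⁻¹ * (W.β b * W.σ π)⁻¹ =
      W.β b * (W.σ π * W.e i d⁻¹ * (W.σ π)⁻¹) * (W.β b)⁻¹ by simp only [mul_inv_rev, mul_assoc], W.conj_e,
      Wr.e_apply, Wr.e_apply, ← map_inv, ← map_mul, ← map_mul, ← map_mul, ← map_pow, map_eq_one_iff _ W.β_inj] at this
    simpa using congrFun (congrArg Prod.fst this) i
  obtain rfl : π = 1 := Equiv.ext fun i => by_contra fun e => by
    obtain ⟨d, hd, h⟩ := h1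
    have := k2 i d hd
    rw [Pi.mulSingle_eq_of_ne (Ne.symm (show π i ≠ i from e)), mul_one, mul_inv_cancel, mul_one] at this
    exact h this
  rw [map_one, mul_one, ← map_pow, map_eq_one_iff _ W.β_inj] at k0
  refine ⟨b, Wr.mem_bs.2 ⟨fun i => h2 _ ((Wr.mem_bs.1 hb).1 i) (congrFun (congrArg Prod.fst k0) i) fun g hg => ?_,
    (Wr.mem_bs.1 hb).2⟩, by simp⟩
  simpa [mul_assoc] using k2 i g hg

/-- monomial data -/
theorem exists_mon {X₀ : Type} [Group X₀] [Finite X₀] (h0 : IsPGroup 2 X₀) (φ : X₀ →* H) (hφ : Injective φ) {m : ℕ}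
    (hm : derivedSeries X₀ m ≠ ⊥) (j : ℕ) : ∃ (X : Type) (_ : Group X) (_ : Finite X) (Λ : Type) (_ : Finite Λ)
      (π : X →* Perm Λ) (c : X → Λ → H), IsPGroup 2 X ∧ derivedSeries X (m + j) ≠ ⊥ ∧ Nat.card Λ = 2 ^ j ∧
      (∀ x y i, c (x * y) i = c x i * c y ((π x)⁻¹ i)) ∧ ∀ x, (∀ i, c x i = 1) → π x = 1 → x = 1 := by
  induction j with
  | zero => exact ⟨X₀, inferInstance, inferInstance, Unit, inferInstance, 1, fun x _ => φ x, h0, hm, by simp,
      fun x y _ => map_mul φ x y, fun x h _ => (map_eq_one_iff φ hφ).1 (h ())⟩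
  | succ j ih =>
    obtain ⟨X, _, _, Λ, _, π, c, h1, h2, h3, h4, h5⟩ := ih
    have : Nonempty Λ := (Nat.card_pos_iff.1 (h3 ▸ pow_pos two_pos _)).1
    let π' : X ≀ᵣ Multiplicative (ZMod 2) →* Perm (Λ × Multiplicative (ZMod 2)) := MonoidHom.mk' (fun a =>
      ⟨fun u => (π (a.left (a.right * u.2)) u.1, a.right * u.2), fun u => ((π (a.left u.2))⁻¹ u.1, a.right⁻¹ * u.2),
        fun u => by simp, fun u => by simp⟩) fun a b => Equiv.ext fun u => by simp [mul_assoc]
    refine ⟨_, inferInstance, inferInstance, _, inferInstance, π', fun w u => c (w.left u.2) u.1, isP_wr h1 isP_zmod,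
      fun e => h2 (der_wr e), by simp [h3, pow_succ], fun x y u => h4 _ _ _, fun w a b => ?_⟩
    obtain ⟨l⟩ := this
    have e : w.right = 1 := by simpa [π'] using congrArg Prod.snd (Equiv.ext_iff.1 b (l, 1))
    refine RegularWreathProduct.ext (funext fun q => h5 _ (fun i => a (i, q)) (Equiv.ext fun i => ?_)) e
    simpa [π', e] using congrArg Prod.fst (Equiv.ext_iff.1 b (i, q))

include W in
theorem der_ne {X₀ : Type} [Group X₀] [Finite X₀] (h0 : IsPGroup 2 X₀) (φ : X₀ →* H) (hφ : Injective φ) {m j : ℕ}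
    (hm : derivedSeries X₀ m ≠ ⊥) (hj : 2 ^ j ≤ Fintype.card ι) (S : Sylow 2 Γ) : derivedSeries S (m + j) ≠ ⊥ := by
  classical
  obtain ⟨X, _, _, Λ, _, π, c, h1, h2, h3, h4, h5⟩ := exists_mon h0 φ hφ hm j
  have := Fintype.ofFinite Λ
  obtain ⟨f⟩ : Nonempty (Λ ↪ ι) := Function.Embedding.nonempty_of_card_le (by rwa [← Nat.card_eq_fintype_card, h3])
  let ψ : X →* Γ := MonoidHom.mk' (fun x => W.β (extend f (c x) 1, 1) * W.σ (Perm.viaEmbeddingHom f (π x))) fun x y => by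
    have := W.conj (Perm.viaEmbeddingHom f (π x)) (extend f (c y) 1) 1
    rw [mul_inv_eq_iff_eq_mul] at this
    rw [mul_assoc, ← mul_assoc (W.σ _), this, mul_assoc, ← mul_assoc, ← map_mul, ← map_mul, ← map_mul, ← map_mul]
    congr 2
    refine Prod.ext (funext fun i => ?_) (mul_one _).symm
    rw [← map_inv, Perm.viaEmbeddingHom_apply]
    by_cases h : i ∈ Set.range f
    · obtain ⟨l, rfl⟩ := h
      simp [Perm.viaEmbedding_apply, f.injective.extend_apply, h4]
    · simp [Perm.viaEmbedding_apply_of_notMem _ _ _ h, extend_apply' _ _ _ h]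
  refine fun h => h2 (der_sylow h1 ψ ((injective_iff_map_eq_one _).2 fun x hx => ?_) S h)
  have := W.inj _ _ ((eq_inv_of_mul_eq_one_left hx).trans (map_inv _ _).symm)
  refine h5 x (fun i => ?_) (Perm.viaEmbeddingHom_injective f (by rw [map_one]; exact inv_eq_one.1 this.2))
  simpa [f.injective.extend_apply] using congrFun (congrArg Prod.fst this.1) (f i)

section lin
variable {F : Type*} [Field F] [Fintype F]

theorem exists_sp (h2 : (2 : F) ≠ 0) (k : ℕ) :
    Nonempty (Wr (Fin k) SL(2, F) (Empty → ℤˣ) (Matrix.symplecticGroup (Fin k) F)) ∧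
    (Nat.card (Matrix.symplecticGroup (Fin k) F)).factorization 2 ≤
      k * (Nat.card SL(2, F)).factorization 2 + k.factorial.factorization 2 := by
  have hd : finrank F (V F (Fin k) Empty) = 2 * k := by rw [finrank_V]; simp
  obtain ⟨e⟩ := ((spF_nondeg k).symp_equivalent (sympStd_nondeg F k)
    (by rw [hd, finrank_plus])).nonempty_mulEquiv
  let W := lw (ι := Fin k) (ρ := Empty) Matrix.SpecialLinearGroup.toLin' h2
    Matrix.SpecialLinearGroup.toLin'_injective (spF F k).Isom (fun b => ⟨fun u v => by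
      rw [spF_B, spF_B]
      refine Finset.sum_congr rfl fun i _ => ?_
      have := (b.1 i).det_coe
      rw [Matrix.det_fin_two] at this
      simp [bse_apply, Matrix.SpecialLinearGroup.toLin'_apply]
      linear_combination (u.1 i 0 * v.1 i 1 - u.1 i 1 * v.1 i 0) * this, fun _ => rfl⟩)
    fun π => ⟨fun u v => by
      rw [spF_B, spF_B, pm_blk, pm_blk]
      exact Equiv.sum_comp π⁻¹ fun i => u.1 i 0 * v.1 i 1 - u.1 i 1 * v.1 i 0, fun _ => rfl⟩
  refine ⟨⟨tr W (e.trans (spEquiv F k).symm)⟩, ?_⟩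
  rw [← Nat.card_congr (e.trans (spEquiv F k).symm).toEquiv, (spF_nondeg k).card_isom_symp k hd,
    v_mul (pow_ne_zero _ Nat.card_pos.ne')
    (Finset.prod_ne_zero_iff.2 fun i _ => sub_ne Finite.one_lt_card (by omega)), v_odd (odd_card h2),
    v_prod (odd_card h2) Finite.one_lt_card, v_SL2 h2]
  omega

/-- the monomial group -/
def mon (F : Type*) [Field F] (ι : Type*) [Fintype ι] [DecidableEq ι] : Wr ι Fˣ Unit (GL ι F) where
  β := ((Matrix.diagonalRingHom ι F).toMonoidHom.comp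
    (((Units.coeHom F).compLeft ι).comp (MonoidHom.fst _ _))).toHomUnits
  σ := (Matrix.permMatrixHom (R := F)).toHomUnits
  conj π f r := by
    rw [mul_inv_eq_iff_eq_mul]
    ext i j
    change ((π⁻¹.permMatrix F) * Matrix.diagonal fun i => (f i : F)) i j =
      (Matrix.diagonal (fun i => (f (π⁻¹ i) : F)) * π⁻¹.permMatrix F) i j
    rw [Matrix.mul_diagonal, Matrix.diagonal_mul]
    by_cases h : π⁻¹ i = j
    · simp [← h]
    · simp [PEquiv.toMatrix_apply, show ¬ π.symm i = j from h]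
  inj b π h := by
    have k : ∀ i j, Matrix.diagonal (fun i => (b.1 i : F)) i j = π⁻¹.permMatrix F i j := fun i j =>
      congrArg (fun g : GL ι F => g.1 i j) h
    obtain rfl : π = 1 := inv_eq_one.1 (Equiv.ext fun i => by_contra fun e => by
      have := k i (π⁻¹ i)
      rw [Matrix.diagonal_apply_ne _ (Ne.symm (show π⁻¹ i ≠ i from e))] at this
      simp at this)
    exact ⟨Prod.ext (funext fun i => Units.ext (by simpa using k i i)) rfl, rfl⟩

end lin

end CA.H13Wr
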