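import Mathlib
import Cfsg.Prelude.Def_Classical

/-! Standard embeddings between classical groups: permutation matrices, block matrices, Levi factors. -/

set_option autoImplicit false

namespace CA.H22Embed

open Matrix
open scoped MatrixGroups

variable {F : Type*} [Field F]

/-- Even permutations as permutation matrices of determinant one. -/
def permSL (n : ℕ) (F : Type*) [Field F] : alternatingGroup (Fin n) →* SL(n, F) where
  toFun σ := ⟨Matrix.permMatrixHom (σ : Equiv.Perm (Fin n)), by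
    have := σ.2
    rw [Equiv.Perm.mem_alternatingGroup] at this
    simp [Matrix.permMatrixHom_apply, this]⟩
  map_one' := Subtype.ext (map_one (Matrix.permMatrixHom (n := Fin n) (R := F)))
  map_mul' σ τ := Subtype.ext (map_mul (Matrix.permMatrixHom (n := Fin n) (R := F)) _ _)

theorem permSL_mulVec {n : ℕ} (σ : alternatingGroup (Fin n)) (v : Fin n → F) :
    (permSL n F σ : Matrix (Fin n) (Fin n) F) *ᵥ v = v ∘ ((σ : Equiv.Perm (Fin n))⁻¹ : Equiv.Perm (Fin n)) :=
  Matrix.permMatrix_mulVec _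

theorem permSL_injective (n : ℕ) (F : Type*) [Field F] : Function.Injective (permSL n F) := by
  rw [injective_iff_map_eq_one]
  intro σ h
  ext i
  have h1 := permSL_mulVec σ (Pi.single i (1 : F))
  rw [h] at h1
  change (1 : Matrix (Fin n) (Fin n) F) *ᵥ _ = _ at h1
  rw [one_mulVec] at h1
  have h2 := congrFun h1 ((σ : Equiv.Perm (Fin n)) i)
  simp only [Function.comp_apply, Equiv.Perm.coe_inv,
    Equiv.symm_apply_apply, Pi.single_eq_same] at h2
  by_contra hne
  rw [Pi.single_eq_of_ne] at h2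
  · exact zero_ne_one h2
  · intro h3; apply hne; rw [h3]; rfl

theorem permSL_mem_SU {n q : ℕ} (σ : alternatingGroup (Fin n)) : permSL n F σ ∈ Cfsg.SU n F q := by
  intro u v
  show Cfsg.hermForm n F q ((permSL n F σ : Matrix (Fin n) (Fin n) F) *ᵥ u)
    ((permSL n F σ : Matrix (Fin n) (Fin n) F) *ᵥ v) = _
  rw [permSL_mulVec, permSL_mulVec]
  exact Equiv.sum_comp ((σ : Equiv.Perm (Fin n))⁻¹ : Equiv.Perm (Fin n)) (fun i => u i * v i ^ q)

/-- `A ↦ A ⊕ 1`. -/
def blockMat (α β : Type*) [Fintype α] [Fintype β] [DecidableEq α] [DecidableEq β] (F : Type*) [Field F] :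
    Matrix α α F →* Matrix (α ⊕ β) (α ⊕ β) F where
  toFun A := fromBlocks A 0 0 1
  map_one' := fromBlocks_one
  map_mul' A B := by simp [fromBlocks_multiply]

/-- `A ↦ 1 ⊕ A`. -/
def blockMat' (α β : Type*) [Fintype α] [Fintype β] [DecidableEq α] [DecidableEq β] (F : Type*) [Field F] :
    Matrix β β F →* Matrix (α ⊕ β) (α ⊕ β) F where
  toFun A := fromBlocks 1 0 0 A
  map_one' := fromBlocks_one
  map_mul' A B := by simp [fromBlocks_multiply]

theorem blockMat_injective (α β : Type*) [Fintype α] [Fintype β] [DecidableEq α] [DecidableEq β] :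
    Function.Injective (blockMat α β F) := fun _ _ h => (fromBlocks_inj.mp h).1

theorem blockMat'_injective (α β : Type*) [Fintype α] [Fintype β] [DecidableEq α] [DecidableEq β] :
    Function.Injective (blockMat' α β F) := fun _ _ h => (fromBlocks_inj.mp h).2.2.2

/-- `SL_a → SL_{a+k}`, `A ↦ A ⊕ 1`. -/
def blockSL (a k : ℕ) (F : Type*) [Field F] : SL(a, F) →* SL(a + k, F) where
  toFun A := ⟨reindexAlgEquiv F F finSumFinEquiv (blockMat (Fin a) (Fin k) F A), by
    simp [blockMat, det_fromBlocks_zero₂₁]⟩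
  map_one' := Subtype.ext (by
    show reindexAlgEquiv F F finSumFinEquiv (blockMat (Fin a) (Fin k) F 1) = 1
    simp only [map_one])
  map_mul' A B := Subtype.ext (by
    show reindexAlgEquiv F F finSumFinEquiv (blockMat (Fin a) (Fin k) F (A.1 * B.1)) =
      reindexAlgEquiv F F finSumFinEquiv (blockMat (Fin a) (Fin k) F A.1) *
      reindexAlgEquiv F F finSumFinEquiv (blockMat (Fin a) (Fin k) F B.1)
    simp only [map_mul])

theorem blockSL_injective (a k : ℕ) : Function.Injective (blockSL a k F) := by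
  intro A B h
  have h1 := congrArg Subtype.val h
  exact Subtype.ext (blockMat_injective _ _ ((reindexAlgEquiv F F finSumFinEquiv).injective h1))

theorem blockSL_mulVec {a k : ℕ} (A : SL(a, F)) (v : Fin (a + k) → F) :
    (blockSL a k F A).1 *ᵥ v = Sum.elim (A.1 *ᵥ (fun i => v (Fin.castAdd k i)))
      (fun j => v (Fin.natAdd a j)) ∘ finSumFinEquiv.symm := by
  show (reindexAlgEquiv F F finSumFinEquiv (fromBlocks A.1 0 0 1)) *ᵥ v = _
  rw [reindexAlgEquiv_apply, reindex_apply, submatrix_mulVec_equiv, fromBlocks_mulVec]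
  simp only [zero_mulVec, add_zero, zero_add, one_mulVec, Equiv.symm_symm]
  rfl

theorem blockSL_mem_SU {a k q : ℕ} {A : SL(a, F)} (hA : A ∈ Cfsg.SU a F q) :
    blockSL a k F A ∈ Cfsg.SU (a + k) F q := by
  intro u v
  show Cfsg.hermForm _ F q ((blockSL a k F A).1 *ᵥ u)
    ((blockSL a k F A).1 *ᵥ v) = _
  rw [blockSL_mulVec, blockSL_mulVec]
  have h := hA (fun i => u (Fin.castAdd k i)) (fun i => v (Fin.castAdd k i))
  change Cfsg.hermForm _ F q (A.1 *ᵥ _) (A.1 *ᵥ _) = _ at h
  simp only [Cfsg.hermForm] at h ⊢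
  rw [Fin.sum_univ_add, Fin.sum_univ_add, ← h]
  simp

/-- `SU_a → SU_{a+k}`. -/
def blockSU (a k q : ℕ) (F : Type*) [Field F] : Cfsg.SU a F q →* Cfsg.SU (a + k) F q :=
  ((blockSL a k F).comp (Subgroup.subtype _)).codRestrict _ (fun A => blockSL_mem_SU A.2)

theorem blockSU_injective (a k q : ℕ) : Function.Injective (blockSU a k q F) := by
  rw [blockSU, MonoidHom.injective_codRestrict]
  exact (blockSL_injective a k).comp Subtype.val_injective

/-- The Levi embedding `g ↦ g ⊕ g⁻ᵀ`. -/
def levi (ι : Type*) [Fintype ι] [DecidableEq ι] (F : Type*) [Field F] :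
    GL ι F →* Matrix (ι ⊕ ι) (ι ⊕ ι) F where
  toFun g := fromBlocks (g : Matrix ι ι F) 0 0 ((g⁻¹ : GL ι F) : Matrix ι ι F)ᵀ
  map_one' := by simp
  map_mul' A B := by simp [fromBlocks_multiply, Matrix.mul_inv_rev]

theorem levi_injective (ι : Type*) [Fintype ι] [DecidableEq ι] : Function.Injective (levi ι F) :=
  fun _ _ h => Units.ext (fromBlocks_inj.mp h).1

theorem levi_mem_symplectic {ι : Type*} [Fintype ι] [DecidableEq ι] (g : GL ι F) :
    levi ι F g ∈ symplecticGroup ι F := by
  rw [SymplecticGroup.mem_iff]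
  show fromBlocks _ _ _ _ * _ * (fromBlocks _ _ _ _)ᵀ = _
  rw [fromBlocks_transpose, Matrix.J, fromBlocks_multiply, fromBlocks_multiply]
  simp [← transpose_mul]

theorem levi_quad {ι : Type*} [Fintype ι] [DecidableEq ι] (g : GL ι F) (v : ι ⊕ ι → F) :
    ∑ i, (levi ι F g *ᵥ v) (.inl i) * (levi ι F g *ᵥ v) (.inr i) = ∑ i, v (.inl i) * v (.inr i) := by
  show ∑ i, (fromBlocks _ _ _ _ *ᵥ v) (.inl i) * (fromBlocks _ _ _ _ *ᵥ v) (.inr i) = _
  rw [fromBlocks_mulVec]
  simp only [zero_mulVec, add_zero, zero_add, Sum.elim_inl, Sum.elim_inr]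
  change ((g : Matrix ι ι F) *ᵥ (v ∘ Sum.inl)) ⬝ᵥ (((g⁻¹ : GL ι F) : Matrix ι ι F)ᵀ *ᵥ (v ∘ Sum.inr)) =
    (v ∘ Sum.inl) ⬝ᵥ (v ∘ Sum.inr)
  rw [dotProduct_mulVec, vecMul_transpose, mulVec_mulVec, ← Units.val_mul, inv_mul_cancel]
  simp

/-- `GL_m → Sp_{2m}`. -/
def leviSp (ι : Type*) [Fintype ι] [DecidableEq ι] (F : Type*) [Field F] :
    GL ι F →* symplecticGroup ι F where
  toFun g := ⟨levi ι F g, levi_mem_symplectic g⟩
  map_one' := Subtype.ext (map_one (levi ι F))
  map_mul' A B := Subtype.ext (map_mul (levi ι F) A B)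

theorem leviSp_injective (ι : Type*) [Fintype ι] [DecidableEq ι] : Function.Injective (leviSp ι F) :=
  fun _ _ h => levi_injective ι (congrArg Subtype.val h)

/-- `GL_m → O⁺_{2m}`. -/
def leviPlus (m : ℕ) (F : Type*) [Field F] :
    GL (Fin m) F →* Cfsg.isometryGroup F (Cfsg.quadFormPlus m F) :=
  ((levi (Fin m) F).toHomUnits).codRestrict _ (fun g u _ => levi_quad g u)

theorem leviPlus_injective (m : ℕ) : Function.Injective (leviPlus m F) := by
  intro a b h
  exact levi_injective _ (congrArg (fun x => x.1.1) h)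

/-- `GL_m → O_{2m+1}`. -/
def leviOdd (m : ℕ) (F : Type*) [Field F] :
    GL (Fin m) F →* Cfsg.isometryGroup F (Cfsg.quadFormOdd m F) :=
  (((blockMat' Unit (Fin m ⊕ Fin m) F).comp (levi (Fin m) F)).toHomUnits).codRestrict _ (fun g u _ => by
    show Cfsg.quadFormOdd m F (fromBlocks 1 0 0 (levi (Fin m) F g) *ᵥ u) = Cfsg.quadFormOdd m F u
    rw [fromBlocks_mulVec]
    simp only [Cfsg.quadFormOdd, zero_mulVec, add_zero, zero_add, one_mulVec, Sum.elim_inl, Sum.elim_inr]
    rw [levi_quad]; rfl)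

theorem leviOdd_injective (m : ℕ) : Function.Injective (leviOdd m F) := by
  intro a b h
  exact levi_injective _ (blockMat'_injective _ _ (congrArg (fun x => x.1.1) h))

/-- `GL_m → O⁻_{2m+2}`. -/
def leviMinus (m : ℕ) (F : Type*) [Field F] (a b : F) :
    GL (Fin m) F →* Cfsg.isometryGroup F (Cfsg.quadFormMinus m F a b) :=
  (((blockMat (Fin m ⊕ Fin m) (Fin 2) F).comp (levi (Fin m) F)).toHomUnits).codRestrict _ (fun g u _ => by
    show Cfsg.quadFormMinus m F a b (fromBlocks (levi (Fin m) F g) 0 0 1 *ᵥ u) = Cfsg.quadFormMinus m F a b u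
    rw [fromBlocks_mulVec]
    simp only [Cfsg.quadFormMinus, zero_mulVec, add_zero, zero_add, one_mulVec, Sum.elim_inl, Sum.elim_inr]
    rw [levi_quad]; rfl)

theorem leviMinus_injective (m : ℕ) (a b : F) : Function.Injective (leviMinus m F a b) := by
  intro a b h
  exact levi_injective _ (blockMat_injective _ _ (congrArg (fun x => x.1.1) h))

/-- A homomorphism from a perfect group lands in the commutator subgroup. -/
theorem mem_commutator_of_perfect {G H : Type*} [Group G] [Group H] (hG : commutator G = ⊤) (φ : G →* H)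
    (g : G) : φ g ∈ commutator H := by
  have h1 : (commutator G).map φ ≤ commutator H := by
    rw [commutator_def, commutator_def, Subgroup.map_commutator]
    exact Subgroup.commutator_mono le_top le_top
  exact h1 ⟨g, by rw [hG]; trivial, rfl⟩

end CA.H22Embed
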