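/-
Spectra of powers of classical groups.
-/
import Cfsg.Agent.Lib.Lin.PSUOrd

set_option autoImplicit false

namespace CA.H23Spec

open Module Polynomial CA.Rcf CA.CForm CA.CForm.Form CA.PSLOrd CA.PSUOrd

section Grp
variable {L A : Type*} [Group L] [Finite L] [Group A] [Finite A] {r : ℕ}

theorem range_eq (h1 : ∀ x : L, ∃ y : A, orderOf x ∣ orderOf y) (h2 : ∀ y : A, ∃ x : L, orderOf y ∣ orderOf x) :
    Set.range (orderOf : L → ℕ) = Set.range (orderOf : A → ℕ) := Set.ext fun _ =>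
  ⟨fun ⟨x, hx⟩ => let ⟨y, hy⟩ := h1 x; mem_range_of_dvd y (hx ▸ hy),
    fun ⟨x, hx⟩ => let ⟨y, hy⟩ := h2 x; mem_range_of_dvd y (hx ▸ hy)⟩

/-- some element has order divisible by `r` and `o` -/
def Good (L : Type*) [Group L] (r o : ℕ) : Prop := ∃ g : L, o ∣ orderOf g ∧ r ∣ orderOf g

variable (hA : ∀ a : A, orderOf a ∣ r) {s u : L}
  (h : ∀ g : L, Good L r (orderOf g) ∨ orderOf g ∣ (orderOf s).lcm (orderOf u))
include hA h

theorem three {z : L} (hz : r ∣ orderOf z) :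
    Set.range (orderOf : L × L × L × A → ℕ) = Set.range (orderOf : L × L × L → ℕ) := by
  refine range_eq (fun ⟨a, b, c, w⟩ => ?_) fun ⟨a, b, c⟩ => ⟨(a, b, c, 1), by simp [Prod.orderOf_mk]⟩
  have k : ∀ a' b' c' : L, (∀ M, orderOf a' ∣ M → orderOf b' ∣ M → orderOf c' ∣ M →
      orderOf a ∣ M ∧ orderOf b ∣ M ∧ orderOf c ∣ M ∧ r ∣ M) → ∃ y : L × L × L, orderOf (a, b, c, w) ∣ orderOf y :=
    fun a' b' c' H => ⟨(a', b', c'), by
      obtain ⟨h1, h2, h3, h4⟩ := H (orderOf (a', b', c')) (orderOf_fst_dvd_orderOf (x := (a', b', c')))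
        ((orderOf_fst_dvd_orderOf (x := (b', c'))).trans (orderOf_snd_dvd_orderOf (x := (a', b', c'))))
        ((orderOf_snd_dvd_orderOf (x := (b', c'))).trans (orderOf_snd_dvd_orderOf (x := (a', b', c'))))
      simp only [Prod.orderOf_mk (a := a), Prod.orderOf_mk (a := b), Prod.orderOf_mk (a := c), Nat.lcm_dvd_iff]
      exact ⟨h1, h2, h3, (hA w).trans h4⟩⟩
  rcases h a with ⟨g, h1, h2⟩ | ha
  · exact k g b c fun M l1 l2 l3 => ⟨h1.trans l1, l2, l3, h2.trans l1⟩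
  rcases h b with ⟨g, h1, h2⟩ | hb
  · exact k a g c fun M l1 l2 l3 => ⟨l1, h1.trans l2, l3, h2.trans l2⟩
  rcases h c with ⟨g, h1, h2⟩ | hc
  · exact k a b g fun M l1 l2 l3 => ⟨l1, l2, h1.trans l3, h2.trans l3⟩
  exact k s u z fun M l1 l2 l3 => have := Nat.lcm_dvd l1 l2; ⟨ha.trans this, hb.trans this, hc.trans this, hz.trans l3⟩

theorem two (hu : r ∣ orderOf u) : Set.range (orderOf : L × L × A → ℕ) = Set.range (orderOf : L × L → ℕ) := by
  refine range_eq (fun ⟨a, b, w⟩ => ?_) fun ⟨a, b⟩ => ⟨(a, b, 1), by simp [Prod.orderOf_mk]⟩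
  have k : ∀ a' b' : L, (∀ M, orderOf a' ∣ M → orderOf b' ∣ M → orderOf a ∣ M ∧ orderOf b ∣ M ∧ r ∣ M) →
      ∃ y : L × L, orderOf (a, b, w) ∣ orderOf y := fun a' b' H => ⟨(a', b'), by
      obtain ⟨h1, h2, h4⟩ := H (orderOf (a', b')) (orderOf_fst_dvd_orderOf (x := (a', b')))
        (orderOf_snd_dvd_orderOf (x := (a', b')))
      simp only [Prod.orderOf_mk (a := a), Prod.orderOf_mk (a := b), Nat.lcm_dvd_iff]
      exact ⟨h1, h2, (hA w).trans h4⟩⟩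
  rcases h a with ⟨g, h1, h2⟩ | ha
  · exact k g b fun M l1 l2 => ⟨h1.trans l1, l2, h2.trans l1⟩
  rcases h b with ⟨g, h1, h2⟩ | hb
  · exact k a g fun M l1 l2 => ⟨l1, h1.trans l2, h2.trans l2⟩
  exact k s u fun M l1 l2 => have := Nat.lcm_dvd l1 l2; ⟨ha.trans this, hb.trans this, hu.trans l2⟩

omit hA h in
theorem ord_elem (m : ℕ) (a : Multiplicative (Fin m → ZMod r)) : orderOf a ∣ r :=
  orderOf_dvd_iff_pow_eq_one.2 (by
    rw [← ofAdd_toAdd a, ← ofAdd_nsmul, ofAdd_eq_one]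
    exact funext fun i => by simp)

end Grp

variable {F : Type*} [Field F]

/-- scaling the roots -/
noncomputable def scE {a : F} (ha : a ≠ 0) : F[X] ≃* F[X] where
  toFun d := d.scaleRoots a
  invFun d := d.scaleRoots a⁻¹
  left_inv d := by simp [← scaleRoots_mul, ha]
  right_inv d := by simp [← scaleRoots_mul, ha]
  map_mul' d e := mul_scaleRoots_of_noZeroDivisors d e a

theorem prim_sc {a : F} (ha : a ≠ 0) {d : F[X]} (h : IsPrim d) : IsPrim (d.scaleRoots a) :=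
  mon_eq_self ((monic_scaleRoots_iff a).2 h.monic) ▸ h.map_mon (scE ha)

theorem nX_sc {a : F} (ha : a ≠ 0) {d : F[X]} (h : ¬X ∣ d) : ¬X ∣ d.scaleRoots a := by
  simpa [X_dvd_iff, ha] using h

theorem sc_dvd {a : F} (ha : a ≠ 0) {d : F[X]} {M : ℕ} {c : F} :
    d.scaleRoots a ∣ X ^ M - C (c * a ^ M) ↔ d ∣ X ^ M - C c := by
  rw [← scaleRoots_dvd_iff d _ ha.isUnit]
  congr! 1
  rcases M with - | M
  · rw [pow_zero, pow_zero, mul_one, ← C_1, ← C_sub, scaleRoots_C]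
  ext i
  rw [coeff_scaleRoots, natDegree_X_pow_sub_C]
  simp only [coeff_sub, coeff_X_pow, coeff_C]
  split_ifs <;> simp_all

theorem dual_sc {σ : F →+* F} {a : F} (ha : a * σ a = 1) {d : F[X]} (h : ¬X ∣ d) :
    dual σ (d.scaleRoots a) = (dual σ d).scaleRoots a := by
  have h0 := left_ne_zero_of_mul_eq_one ha
  have h1 := nX_sc h0 h
  rw [X_dvd_iff] at h h1
  ext i
  rw [coeff_scaleRoots, natDegree_dual, dual_eq σ h, dual_eq σ h1]
  simp only [coeff_C_mul, coeff_reverse, coeff_map, coeff_scaleRoots, natDegree_map, natDegree_scaleRoots, map_mul, map_pow,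
    eq_inv_of_mul_eq_one_right ha]
  by_cases hi : i ≤ d.natDegree
  · obtain ⟨j, hj⟩ := Nat.exists_eq_add_of_le hi
    rw [revAt_le hi, hj]
    simp only [Nat.sub_zero, Nat.add_sub_cancel_left, Nat.add_sub_cancel, inv_pow]
    field_simp
    ring
  · rw [revAt_eq_self_of_lt (by omega), coeff_eq_zero_of_natDegree_lt (show d.natDegree < i by omega)]
    simp

theorem coeff_sc (a : F) (m : Multiset F[X]) :
    (m.map (scaleRoots · a)).prod.coeff 0 = m.prod.coeff 0 * a ^ dg m := by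
  induction m using Multiset.induction_on with
  | empty => simp [dg]
  | cons d m ih => simp [ih, pow_add, dg]; ring

theorem dg_sc (a : F) (m : Multiset F[X]) : dg (m.map (scaleRoots · a)) = dg m := by
  simp [dg, natDegree_scaleRoots]

theorem dg_add (m m' : Multiset F[X]) : dg (m + m') = dg m + dg m' := by simp [dg]

theorem eq_of_dvd {d : F[X]} (h : IsPrim d) {M : ℕ} {b c : F} (h1 : d ∣ X ^ M - C b) (h2 : d ∣ X ^ M - C c) : b = c := by
  by_contra e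
  have := dvd_sub h2 h1
  rw [sub_sub_sub_cancel_left, ← C_sub] at this
  exact h.natDegree_pos.ne' (natDegree_eq_zero_of_isUnit (isUnit_of_dvd_unit this (isUnit_C.2 (sub_ne_zero.2 e).isUnit)))

theorem ne_zero_of_dvd {d : F[X]} (h : IsPrim d) (hX : ¬X ∣ d) {M : ℕ} {c : F} (h1 : d ∣ X ^ M - C c) : c ≠ 0 := by
  rintro rfl
  obtain ⟨φ, e, -, h2, rfl⟩ := h
  rw [C_0, sub_zero] at h1
  exact hX (((h2.dvd_symm irreducible_X (h2.prime.dvd_of_dvd_pow ((dvd_pow_self _ e.succ_ne_zero).trans h1)))).trans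
    (dvd_pow_self _ e.succ_ne_zero))

theorem unip (p : ℕ) [hp : Fact p.Prime] [CharP F p] {k M : ℕ} {c : F} (h : (X - 1 : F[X]) ^ (k + 1) ∣ X ^ M - C c) :
    p ^ Nat.clog p (k + 1) ∣ M := by
  rcases eq_or_ne M 0 with rfl | h0
  · exact dvd_zero _
  obtain rfl : c = 1 := ((lin_dvd (a := 1)).1 ((dvd_pow_self _ k.succ_ne_zero).trans h)).symm.trans (one_pow _)
  obtain ⟨j, M', h1, rfl⟩ := Nat.exists_eq_pow_mul_and_not_dvd h0 p hp.out.ne_one
  rw [mul_comm] at h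
  exact (pow_dvd_pow _ ((Nat.clog_le_iff_le_pow hp.out.one_lt).2 ((cyc_pow_dvd_iff (N := 1) (by simp) (mem_cycT_one.2 rfl) p
    (mt (CharP.cast_eq_zero_iff F p _).1 h1) k j).1 h).2)).mul_right _

/-- description of the spectrum of `L` by elementary divisors -/
structure Sp (L : Type*) [Group L] (n r : ℕ) (Ad : Multiset F[X] → Prop) : Prop where
  of : ∀ g : L, ∃ m, Ad m ∧ dg m = n ∧ m.prod.coeff 0 = (-1) ^ n ∧ ∀ M, orderOf g ∣ M ↔ Kl m M
  ex : ∀ m, Ad m → dg m = n → m.prod.coeff 0 = (-1) ^ n → ∃ g : L, ∀ M, orderOf g ∣ M ↔ Kl m M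
  add : ∀ m m', Ad m → Ad m' → Ad (m + m')
  prim : ∀ m, Ad m → ∀ d ∈ m, IsPrim d ∧ ¬X ∣ d
  sc : ∀ m (a : F), Ad m → a ≠ 0 → a ^ r = 1 → Ad (m.map (scaleRoots · a))
  un : ∀ k, Ad {(X - 1) ^ (k + 1)}

namespace Sp
variable [Fintype F] {L : Type*} [Group L] [Finite L] {n r : ℕ} {Ad : Multiset F[X] → Prop} (h : Sp L n r Ad) (hr : r.Prime)
  (hn : ¬r ∣ n) {ζ : F} (hζ : orderOf ζ = r)
include h hr hn hζ

theorem dec {m m' : Multiset F[X]} (h1 : Ad m) (h2 : Ad m') (h3 : m ≠ 0) (h4 : m' ≠ 0) (h5 : dg (m + m') = n)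
    (h6 : (m + m').prod.coeff 0 = (-1) ^ n) {g : L} (hg : ∀ M, orderOf g ∣ M ↔ Kl (m + m') M) : Good L r (orderOf g) := by
  by_cases H : r ∣ orderOf g
  · exact ⟨g, dvd_rfl, H⟩
  have z1 : ζ ^ r = 1 := hζ ▸ pow_orderOf_eq_one ζ
  have z0 : ζ ≠ 0 := fun e => by simp [e, hr.ne_zero] at z1
  have a1 : (ζ ^ dg m') ^ r = 1 := by rw [← pow_mul, mul_comm, pow_mul, z1, one_pow]
  have b1 : (ζ⁻¹ ^ dg m) ^ r = 1 := by rw [← pow_mul, mul_comm, pow_mul, inv_pow, z1, inv_one, one_pow]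
  have a0 := pow_ne_zero (dg m') z0
  have b0 := pow_ne_zero (dg m) (inv_ne_zero z0)
  obtain ⟨g', hg'⟩ := h.ex _ (h.add _ _ (h.sc _ _ h1 a0 a1) (h.sc _ _ h2 b0 b1)) (by rw [dg_add, dg_sc, dg_sc, ← dg_add, h5]) (by
    rw [← h6, Multiset.prod_add, Multiset.prod_add, mul_coeff_zero, mul_coeff_zero, coeff_sc, coeff_sc, mul_mul_mul_comm,
      ← pow_mul, ← pow_mul, mul_comm (dg m'), ← mul_pow, mul_inv_cancel₀ z0, one_pow, mul_one])
  obtain ⟨c, hc⟩ := (hg' _).1 dvd_rfl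
  have k : ∀ {a : F} {d : F[X]} {M}, a ≠ 0 → d.scaleRoots a ∣ X ^ M - C c → d ∣ X ^ M - C (c / a ^ M) := fun a0 e =>
    (sc_dvd a0).1 (by rwa [div_mul_cancel₀ _ (pow_ne_zero _ a0)])
  have k1 := fun d hd => k a0 (hc _ (Multiset.mem_add.2 (.inl (Multiset.mem_map_of_mem _ (a := d) hd))))
  have k2 := fun d hd => k b0 (hc _ (Multiset.mem_add.2 (.inr (Multiset.mem_map_of_mem _ (a := d) hd))))
  have k3 : orderOf g ∣ orderOf g' := by
    refine ((hr.coprime_iff_not_dvd.2 H).symm).dvd_of_dvd_mul_right ((hg _).2 ⟨c ^ r, fun d hd => ?_⟩)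
    rcases Multiset.mem_add.1 hd with hd | hd
    · simpa only [div_pow, ← pow_mul _ (orderOf g'), mul_comm (orderOf g') r, pow_mul _ r, a1, one_pow, div_one]
        using dvd_mul_of_dvd (k1 d hd) r
    · simpa only [div_pow, ← pow_mul _ (orderOf g'), mul_comm (orderOf g') r, pow_mul _ r, b1, one_pow, div_one]
        using dvd_mul_of_dvd (k2 d hd) r
  refine ⟨g', k3, ?_⟩
  obtain ⟨b, hb⟩ := (hg _).1 k3
  obtain ⟨d, hd⟩ := Multiset.exists_mem_of_ne_zero h3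
  obtain ⟨d', hd'⟩ := Multiset.exists_mem_of_ne_zero h4
  have e := (eq_of_dvd (h.prim _ h1 d hd).1 (k1 d hd) (hb d (Multiset.mem_add.2 (.inl hd)))).trans
    (eq_of_dvd (h.prim _ h2 d' hd').1 (k2 d' hd') (hb d' (Multiset.mem_add.2 (.inr hd')))).symm
  have c0 := (div_ne_zero_iff.1 (ne_zero_of_dvd (h.prim _ h1 d hd).1 (h.prim _ h1 d hd).2 (k1 d hd))).1
  rw [div_eq_div_iff (pow_ne_zero _ a0) (pow_ne_zero _ b0), mul_right_inj' c0, inv_pow, inv_pow,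
    ← inv_mul_eq_one₀ (inv_ne_zero (pow_ne_zero _ (pow_ne_zero _ z0))), inv_inv, ← mul_pow, ← pow_add, ← dg_add, h5, ← pow_mul,
    ← orderOf_dvd_iff_pow_eq_one, hζ] at e
  exact (hr.dvd_mul.1 e).resolve_left hn

theorem good_unip (p : ℕ) [hp : Fact p.Prime] [CharP F p] (h2 : 2 ≤ n) : Good L r (p ^ Nat.clog p (n - 1)) := by
  obtain ⟨k, rfl⟩ := Nat.exists_eq_add_of_le' h2
  have e1 : dg ({(X - 1) ^ (k + 1)} + {(X - 1) ^ (0 + 1)} : Multiset F[X]) = k + 2 := by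
    simp only [dg, Multiset.map_add, Multiset.map_singleton, Multiset.sum_add, Multiset.sum_singleton, natDegree_X_sub_one_pow]
  have e2 : ({(X - 1) ^ (k + 1)} + {(X - 1) ^ (0 + 1)} : Multiset F[X]).prod.coeff 0 = (-1) ^ (k + 2) := by
    simp [coeff_zero_eq_eval_zero, pow_succ]
  obtain ⟨g, hg⟩ := h.ex _ (h.add _ _ (h.un k) (h.un 0)) e1 e2
  obtain ⟨g', h1, h2⟩ := h.dec hr hn hζ (h.un k) (h.un 0) (by simp) (by simp) e1 e2 hg
  obtain ⟨c, hc⟩ := (hg _).1 h1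
  exact ⟨g', unip p (hc _ (by simp)), h2⟩

theorem main (p : ℕ) [hp : Fact p.Prime] [CharP F p] (h2 : 2 ≤ n) {s : L} (hs : ∀ m, Ad m → dg m = n →
    m.prod.coeff 0 = (-1) ^ n → (∃ m₁ m₂, Ad m₁ ∧ Ad m₂ ∧ m₁ ≠ 0 ∧ m₂ ≠ 0 ∧ m = m₁ + m₂) ∨
      ∃ N, ¬p ∣ N ∧ N ∣ orderOf s ∧ Kl m (N * p ^ Nat.clog p n))
    {A : Type*} [Group A] [Finite A] (hA : ∀ a : A, orderOf a ∣ r) :
    Set.range (orderOf : L × L × L × A → ℕ) = Set.range (orderOf : L × L × L → ℕ) ∧ ((¬∃ j, n - 1 = p ^ j) →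
      Set.range (orderOf : L × L × A → ℕ) = Set.range (orderOf : L × L → ℕ)) := by
  have k : ∀ u : L, p ^ Nat.clog p n ∣ orderOf u → ∀ g : L, Good L r (orderOf g) ∨
      orderOf g ∣ (orderOf s).lcm (orderOf u) := fun u hu g => by
    obtain ⟨m, h1, h3, h4, h5⟩ := h.of g
    rcases hs m h1 h3 h4 with ⟨m₁, m₂, l1, l2, l3, l4, rfl⟩ | ⟨N, l1, l2, l3⟩
    · exact .inl (h.dec hr hn hζ l1 l2 l3 l4 h3 h4 h5)
    · exact .inr (((h5 _).2 l3).trans (Nat.Coprime.mul_dvd_of_dvd_of_dvd ((hp.out.coprime_iff_not_dvd.2 l1).symm.pow_right _)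
        (Nat.dvd_lcm_of_dvd_left l2 _) (Nat.dvd_lcm_of_dvd_right hu _)))
  obtain ⟨z, h3, h4⟩ := h.good_unip hr hn hζ p h2
  refine ⟨?_, fun H => two hA (k z (Dvd.dvd.trans (pow_dvd_pow _ ?_) h3)) h4⟩
  · obtain ⟨j, rfl⟩ := Nat.exists_eq_add_of_le' (one_le_two.trans h2)
    obtain ⟨u, hu⟩ := h.ex _ (h.un j) (by simp [dg, -natDegree_pow, natDegree_X_sub_one_pow]) (by simp [coeff_zero_eq_eval_zero])
    obtain ⟨c, hc⟩ := (hu _).1 dvd_rfl
    exact three hA (k u (unip p (hc _ (by simp)))) h4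
  · have := Nat.le_pow_clog hp.out.one_lt (n - 1)
    exact (Nat.clog_le_iff_le_pow hp.out.one_lt).2 (by
      have := mt (fun e => ⟨Nat.clog p (n - 1), e⟩ : _ → ∃ j, n - 1 = p ^ j) H
      omega)

end Sp

section PSL
variable [Fintype F] {n r : ℕ}
local notation "q" => Fintype.card F

theorem sp_PSL : Sp (Matrix.ProjectiveSpecialLinearGroup (Fin n) F) n r fun m : Multiset F[X] => ∀ d ∈ m, IsPrim d ∧ ¬X ∣ d where
  of g := by
    obtain ⟨g, rfl⟩ := QuotientGroup.mk_surjective g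
    exact ⟨_, fun _ h => ⟨isPrim_of_mem_edivs h, not_X_dvd g h⟩, sum_E _, by rw [det_E, g.2, mul_one], orderOf_mk_dvd_iff g⟩
  ex m h1 h2 h3 := by
    obtain ⟨g, rfl⟩ := exists_SL (fun d hd => (h1 d hd).1) h2 h3
    exact ⟨_, orderOf_mk_dvd_iff g⟩
  add m m' h h' d hd := (Multiset.mem_add.1 hd).elim (h d) (h' d)
  prim _ h := h
  sc m a h ha _ d hd := by
    obtain ⟨x, hx, rfl⟩ := Multiset.mem_map.1 hd
    exact ⟨prim_sc ha (h x hx).1, nX_sc ha (h x hx).2⟩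
  un k d hd := by
    rw [Multiset.mem_singleton.1 hd]
    exact ⟨isPrim_X_sub_one_pow k.succ_pos, by simp [X_dvd_iff, coeff_zero_eq_eval_zero]⟩

theorem ord_T (hn : n ≠ 0) : orderOf (q : ZMod ((q ^ n - 1) / (q - 1))) = n := by
  have h2 : 2 ≤ q := Fintype.one_lt_card
  have h1 := (orderOf_dvd_iff_dvd (N := (q ^ n - 1) / (q - 1)) (k := n) (one_le_two.trans h2)).2
    (Nat.div_dvd_of_dvd (Nat.sub_one_dvd_pow_sub_one _ _))
  have h3 := (orderOf_dvd_iff_dvd (one_le_two.trans h2)).1 (dvd_refl (orderOf (q : ZMod ((q ^ n - 1) / (q - 1)))))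
  generalize orderOf (q : ZMod ((q ^ n - 1) / (q - 1))) = j at *
  by_contra e
  have h4 := Nat.pos_of_dvd_of_pos h1 hn.bot_lt
  have h5 := Nat.le_of_dvd (Nat.sub_pos_of_lt (Nat.one_lt_pow h4.ne' h2)) h3
  rw [← Nat.geomSum_eq h2] at h5
  have := Finset.single_le_sum (f := fun i => q ^ i) (fun _ _ => Nat.zero_le _)
    (Finset.mem_range.2 (lt_of_le_of_ne (Nat.le_of_dvd hn.bot_lt h1) e))
  have := Nat.pow_pos (n := j) (two_pos.trans_le h2)
  omega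

theorem root_pow {φ : F[X]} (h1 : Irreducible φ) (h2 : φ.Monic) {e : ℕ}
    (h : (φ ^ (e + 1)).coeff 0 = (-1) ^ ((e + 1) * φ.natDegree)) :
    AdjoinRoot.root φ ^ ((q ^ ((e + 1) * φ.natDegree) - 1) / (q - 1)) = 1 := by
  have h3 : 2 ≤ q ^ φ.natDegree := Nat.one_lt_pow h1.natDegree_pos.ne' Fintype.one_lt_card
  rw [← Nat.div_mul_div (m := q ^ φ.natDegree - 1) (by rw [mul_comm, pow_mul]; exact Nat.sub_one_dvd_pow_sub_one _ _)
    (Nat.sub_one_dvd_pow_sub_one _ _), mul_comm (e + 1), pow_mul q, ← Nat.geomSum_eq h3, mul_comm, pow_mul,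
    ← root_pow_coeff h1 h2, ← map_pow, ← Finset.prod_pow_eq_pow_sum]
  simp only [← pow_mul, FiniteField.pow_card_pow, Finset.prod_const, Finset.card_range]
  rw [coeff_zero_eq_eval_zero, eval_pow, ← coeff_zero_eq_eval_zero] at h
  rw [mul_pow, h, ← pow_mul, mul_comm (e + 1), ← mul_pow]
  simp

theorem singer_PSL (hn : n ≠ 0) : ∃ s : Matrix.ProjectiveSpecialLinearGroup (Fin n) F,
    ∀ M, orderOf s ∣ M ↔ (q ^ n - 1) / (q - 1) ∣ M * (q - 1) := by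
  have h1 := natCast_ne_zero (F := F) hn (Nat.div_dvd_of_dvd (Nat.sub_one_dvd_pow_sub_one q n))
  obtain ⟨φ, h2⟩ := exists_mem_cycT (F := F) (ne_zero_of_cast h1)
  have h3 := natDegree_cyc h1 h2
  rw [Nat.card_eq_fintype_card, ord_T hn] at h3
  obtain ⟨k1, k2, -⟩ := mem_cycT.1 h2
  have := Fact.mk k1
  have h4 := root_pow_coeff k1 k2
  have h5 := not_X_dvd_cyc (ne_zero_of_cast h1) h2
  rw [h3, (isPrimitiveRoot_root h1 h2).pow_eq_one, map_eq_one_iff _ (algebraMap F _).injective] at h4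
  obtain ⟨s, hs⟩ := (sp_PSL (r := 1)).ex {φ} (by simpa using ⟨isPrim_of_irreducible k2 k1, h5⟩) (by simpa [dg] using h3)
    (by rw [Multiset.prod_singleton, eq_inv_of_mul_eq_one_right h4, ← inv_pow, inv_neg, inv_one])
  refine ⟨s, fun M => ?_⟩
  rw [hs, ← (isPrimitiveRoot_root h1 h2).pow_eq_one_iff_dvd, ← exists_scalar_iff k1 h5]
  simp [Kl]

theorem main_PSL (p : ℕ) [hp : Fact p.Prime] [CharP F p] (h2 : 2 ≤ n) (hr : r.Prime) (hq : r ∣ q - 1) (hn : ¬r ∣ n)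
    {A : Type*} [Group A] [Finite A] (hA : ∀ a : A, orderOf a ∣ r) :
    let L := Matrix.ProjectiveSpecialLinearGroup (Fin n) F
    Set.range (orderOf : L × L × L × A → ℕ) = Set.range (orderOf : L × L × L → ℕ) ∧ ((¬∃ j, n - 1 = p ^ j) →
      Set.range (orderOf : L × L × A → ℕ) = Set.range (orderOf : L × L → ℕ)) := by
  obtain ⟨g, hg⟩ := IsCyclic.exists_ofOrder_eq_natCard (α := Fˣ)
  rw [Nat.card_units, Nat.card_eq_fintype_card] at hg
  obtain ⟨ζ, hζ⟩ := mem_range_of_dvd g (hg ▸ hq)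
  obtain ⟨s, hs⟩ := singer_PSL (F := F) (n := n) (by omega)
  refine sp_PSL.main hr hn (orderOf_units.trans hζ) p h2 (s := s) (fun m h1 h3 h4 => ?_) hA
  obtain ⟨d, hd⟩ := Multiset.exists_mem_of_ne_zero (s := m) (by rintro rfl; simp [dg] at h3; omega)
  obtain ⟨m', rfl⟩ := Multiset.exists_cons_of_mem hd
  by_cases h0 : m' = 0
  swap
  · exact .inl ⟨{d}, m', by simpa using h1 d hd, fun x hx => h1 x (Multiset.mem_cons_of_mem hx), by simp, h0, rfl⟩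
  subst h0
  obtain ⟨⟨φ, e, k1, k2, rfl⟩, k3⟩ := h1 d hd
  have k4 : (e + 1) * φ.natDegree = n := by simpa [dg] using h3
  have k5 := root_pow k2 k1 (e := e) (by simpa [k4] using h4)
  obtain ⟨u, hu⟩ := (hs _).1 dvd_rfl
  obtain ⟨c, hc⟩ := (exists_scalar_iff k2 (fun H => k3 (H.trans (dvd_pow_self _ e.succ_ne_zero))) (orderOf s)).2
    (by rw [hu, pow_mul, ← k4, k5, one_pow])
  refine .inr ⟨_, fun H => natCast_ne_zero (F := F) (by omega : n ≠ 0) (((hs _).2 (dvd_mul_right _ _)).trans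
    (Nat.div_dvd_of_dvd (Nat.sub_one_dvd_pow_sub_one q n))) ((CharP.cast_eq_zero_iff F p _).2 H), dvd_rfl, c ^ p ^ Nat.clog p n,
    fun d hd => ?_⟩
  rw [Multiset.mem_singleton.1 hd]
  exact dvd_of_pow p hc ((k4 ▸ Nat.le_mul_of_pos_right _ k2.natDegree_pos).trans (Nat.le_pow_clog hp.out.one_lt n))

end PSL

theorem ord_TU {q n : ℕ} (hq : 2 ≤ q) (hn : 3 ≤ n) (h : ¬(n = 3 ∧ q = 2)) : orderOf (-(q : ZMod (T q n))) = n := by
  have h0 := mul_T (a := n) (one_le_two.trans hq)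
  have h1 := (dvd_U_iff (N := T q n) (a := n) (one_le_two.trans hq)).1 ⟨_, by rw [← h0, mul_comm]⟩
  have h3 := (dvd_U_iff (N := T q n) (one_le_two.trans hq)).2 dvd_rfl
  generalize orderOf (-(q : ZMod (T q n))) = j at *
  by_contra e
  have h4 := Nat.pos_of_dvd_of_pos h1 (by omega)
  have h5 := Nat.mul_le_mul_left (q + 1) (Nat.le_of_dvd (U_pos hq h4.ne') h3)
  rw [h0] at h5
  obtain ⟨c, rfl⟩ := h1
  obtain ⟨c, rfl⟩ : ∃ c', c = c' + 2 := ⟨c - 2, by rcases c with - | - | c <;> simp_all⟩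
  obtain ⟨q, rfl⟩ := Nat.exists_eq_add_of_le' hq
  by_cases H : j + 3 ≤ j * (c + 2)
  · have h6 := (le_U.trans h5).trans (Nat.mul_le_mul_left _ U_le)
    have h7 := Nat.pow_le_pow_right (n := q + 2) (by omega) H
    have h8 := Nat.le_self_pow h4.ne' (q + 2)
    rw [pow_add] at h7
    generalize (q + 2) ^ j = x at *
    have : (q + 2) ^ 3 ≥ 2 * (q + 3) + 2 := by nlinarith [sq_nonneg q, Nat.zero_le (q ^ 3)]
    have := Nat.mul_le_mul_left x this
    have := Nat.mul_le_mul_left (q + 3) (show 2 ≤ x by omega)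
    have : x * (q + 2) ^ 3 ≤ (q + 2 + 1) * (x + 1) + 1 := by omega
    nlinarith
  obtain ⟨rfl, rfl⟩ | ⟨rfl, rfl⟩ : j = 1 ∧ c = 1 ∨ j = 2 ∧ c = 0 := by
    rcases c with - | - | c
    · omega
    · omega
    · nlinarith
  · rw [U_odd (by decide), U_one] at h5
    obtain ⟨q, rfl⟩ : ∃ q', q = q' + 1 := ⟨q - 1, by omega⟩
    ring_nf at h5
    omega
  · rw [U_even (by decide), U_even (by decide), show (q + 2) ^ 2 = q ^ 2 + 4 * q + 3 + 1 by ring, Nat.add_sub_cancel,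
      tsub_le_iff_right] at h5
    ring_nf at h5
    omega

theorem exists_T {q a k : ℕ} (hq : 1 ≤ q) : ∃ R, T q (a * k) = T q a * R ∧ ∀ g, g ∣ q + 1 → g ∣ k → g ∣ R := by
  refine ⟨(∑ i ∈ Finset.range k, ((-(q : ℤ)) ^ a) ^ i).natAbs, Nat.eq_of_mul_eq_mul_left q.add_one_pos ?_, fun g h1 h2 => ?_⟩
  · have e : ∀ b, U q b = ((-(q : ℤ)) ^ b - 1).natAbs := fun b => by
      rw [← Int.natAbs_natCast (U q b), cast_U hq, Int.natAbs_eq_natAbs_iff]
      rcases Nat.even_or_odd b with h | h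
      · exact .inl (by rw [h.neg_one_pow, h.neg_pow])
      · exact .inr (by rw [h.neg_one_pow, h.neg_pow]; ring)
    rw [← mul_assoc, mul_T hq, mul_T hq, e, e, ← Int.natAbs_mul, mul_geom_sum, pow_mul]
  · have h3 : -(q : ZMod g) = 1 := by
      rw [neg_eq_iff_add_eq_zero]; exact_mod_cast (ZMod.natCast_eq_zero_iff _ _).2 h1
    rw [← Int.natCast_dvd, ← ZMod.intCast_zmod_eq_zero_iff_dvd]
    simp [h3, (ZMod.natCast_eq_zero_iff _ _).2 h2]

section PSU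
variable [Fintype F] {q n r : ℕ} (hF : Fintype.card F = q ^ 2)
include hF

theorem sp_PSU (hn : 2 ≤ n) (hr : r ∣ q + 1) : Sp (Cfsg.PSU n F q) n r (Adm (hermKind hF)) where
  of g := (psu_iff hF hn).1 ⟨g, rfl⟩
  ex m h1 h2 h3 := by
    obtain ⟨g, rfl⟩ := (hermStd_nondeg hF n).herm_exists_isom (conj_ne_id hF) h1.1 h1.2.1 h1.2.2 (by simpa using h2)
    have k : ∀ M, orderOf (QuotientGroup.mk g : _ ⧸ (hermStd hF n).scalars) ∣ M ↔ _ := fun M => by
      rw [orderOf_dvd_iff_pow_eq_one, ← QuotientGroup.mk_pow, QuotientGroup.eq_one_iff, pow_mem_scalars hF g M]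
    obtain ⟨x, hx⟩ := (psu_iff hF hn).2 ⟨_, h1, h2, h3, k⟩
    exact ⟨x, hx ▸ k⟩
  add _ _ := adm_add hF
  prim _ h d hd := ⟨h.1 d hd, h.2.1 d hd⟩
  sc m a h ha h1 := by
    refine ⟨fun d hd => ?_, fun d hd => ?_, ?_⟩
    iterate 2 obtain ⟨x, hx, rfl⟩ := Multiset.mem_map.1 hd; swap
    · exact prim_sc ha (h.1 x hx)
    · exact nX_sc ha (h.2.1 x hx)
    obtain ⟨u, hu⟩ := hr
    have : a * (hermKind hF).σ a = 1 := by
      change a * a ^ q = 1
      rw [← pow_succ', hu, pow_mul, h1, one_pow]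
    conv_rhs => rw [← h.2.2]
    rw [Multiset.map_map, Multiset.map_map]
    exact Multiset.map_congr rfl fun d hd => dual_sc this (h.2.1 d hd)
  un k := adm_lin hF (a := 1) (one_pow _) k.succ_pos

theorem main_PSU (p : ℕ) [hp : Fact p.Prime] [CharP F p] (h3 : 3 ≤ n) (h4 : ¬(n = 3 ∧ q = 2)) (hr : r.Prime) (hq : r ∣ q + 1)
    (hn : ¬r ∣ n) {A : Type*} [Group A] [Finite A] (hA : ∀ a : A, orderOf a ∣ r) :
    let L := Cfsg.PSU n F q
    Set.range (orderOf : L × L × L × A → ℕ) = Set.range (orderOf : L × L × L → ℕ) ∧ ((¬∃ j, n - 1 = p ^ j) →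
      Set.range (orderOf : L × L × A → ℕ) = Set.range (orderOf : L × L → ℕ)) := by
  have h2 := two_le_of_card_sq hF
  have sp := sp_PSU hF (n := n) (by omega) hq
  obtain ⟨ζ, -, hζ⟩ := exists_ord hF (hq.trans ⟨q - 1, by rw [← Nat.sq_sub_sq, one_pow]⟩)
  have h5 : ∀ N, N ∣ T q n → (N : F) ≠ 0 := fun N h H => coprime_U hF p (a := n) (by omega)
    ((CharP.cast_eq_zero_iff F p _).2 (((CharP.cast_eq_zero_iff F p _).1 H).trans (h.trans ⟨_, by
      rw [← mul_T (by omega), mul_comm]⟩)))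
  have l1 := h5 _ dvd_rfl
  obtain ⟨ψ, l2⟩ := exists_mem_cycT (F := F) (ne_zero_of_cast l1)
  obtain ⟨c, l7, l8, l9⟩ := blk_c hF l1 l2
  have l3 := ord_TU h2 h3 h4
  rw [l3] at l8 l9
  have := Fact.mk (mem_cycT.1 l2).1
  obtain rfl : c = 1 := by
    have h4 := (dvd_X_pow_sub_C_iff _ _ _).1 (l8 _ self_mem_cl)
    rwa [(isPrimitiveRoot_root l1 l2).pow_eq_one, eq_comm, map_eq_one_iff _ (algebraMap F _).injective] at h4
  obtain ⟨s, hs⟩ := sp.ex _ (adm_cl hF l1 l2) (by rw [dg_cl hF l1 l2, l3]) (by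
    rw [l9]; split_ifs with H
    exacts [H.neg_one_pow.symm, inv_one.trans (Nat.not_odd_iff_even.1 H).neg_one_pow.symm])
  simp only [kl_cl hF l1 l2] at hs
  refine sp.main hr hn hζ p (by omega) (s := s) (fun m k1 k2 k3 => ?_) hA
  obtain ⟨d, hd⟩ := Multiset.exists_mem_of_ne_zero (s := m) (by rintro rfl; simp [dg] at k2; omega)
  obtain ⟨N, e, φ, m', j1, j2, rfl, rfl, j3, j4⟩ := exists_blk hF k1 hd
  by_cases h0 : m' = 0
  swap
  · exact .inl ⟨_, m', ⟨fun d hd => k1.1 d (Multiset.mem_add.2 (.inl hd)), fun d hd => k1.2.1 d (Multiset.mem_add.2 (.inl hd)),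
      map_dual_cl (conj_conj hF) (k1.1 _ hd).monic⟩, j3, fun H => by simpa [H] using self_mem_cl (σ := conj hF) (d := φ ^ (e + 1)),
      h0, rfl⟩
  subst h0
  rw [add_zero] at k3 ⊢
  rw [k2, show dg (0 : Multiset F[X]) = 0 from rfl, add_zero] at j4
  obtain ⟨c, i1, i2, i3⟩ := blk_c hF j1 j2
  have i4 : c ^ (e + 1) = 1 := by
    have : (cl (conj hF) (φ ^ (e + 1))).prod = (cl (conj hF) φ).prod ^ (e + 1) := by
      unfold cl
      have := dual_pow_eq_iff (conj_conj hF) (mem_cycT.1 j2).1 (mem_cycT.1 j2).2.1 e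
      by_cases H : dual (conj hF) φ = φ
      · rw [if_pos H, if_pos (this.2 H)]; simp
      · rw [if_neg H, if_neg (mt this.1 H)]; simp [mul_pow]
    rw [this, coeff_zero_eq_eval_zero, eval_pow, ← coeff_zero_eq_eval_zero, i3, j4, mul_comm, pow_mul] at k3
    split_ifs at k3 with H
    · rwa [H.neg_one_pow, neg_pow, mul_eq_left₀ (pow_ne_zero _ (by simp))] at k3
    · rwa [(Nat.not_odd_iff_even.1 H).neg_one_pow, one_pow, inv_pow, inv_eq_one] at k3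
  obtain ⟨R, i5, i6⟩ := exists_T (a := orderOf (-(q : ZMod N))) (k := e + 1) (show 1 ≤ q by omega)
  have i7 := dvd_mul_of_dvd (i2 _ self_mem_cl) R
  rw [← i5, mul_comm, ← j4, orderOf_dvd_iff_pow_eq_one.1 (i6 _ (orderOf_dvd_iff_pow_eq_one.2 i1)
    (orderOf_dvd_iff_pow_eq_one.2 i4)), C_1, cyc_dvd_iff j1 j2] at i7
  obtain ⟨b, -, hb⟩ := exists_of_dvd hF j1 j2 (i7.trans ((hs _).1 dvd_rfl))
  refine .inr ⟨_, fun H => h5 _ ((hs _).2 (dvd_mul_left _ _)) ((CharP.cast_eq_zero_iff F p _).2 H), dvd_rfl,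
    b ^ p ^ Nat.clog p n, fun d hd => ?_⟩
  obtain ⟨x, hx, rfl⟩ := mem_cl_pow hF hd
  exact dvd_of_pow p (hb x hx) ((j4 ▸ Nat.le_mul_of_pos_right _ (ord_pos hF j1)).trans (Nat.le_pow_clog hp.out.one_lt n))

end PSU

end CA.H23Spec
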