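import Cfsg.Agent.Lib.Lin.SLTv

/-! The companion matrix of `(X - 1) ^ n` and generation of `SL_n` from it and a transvection. -/

set_option autoImplicit false

namespace CA.SLReg

open Matrix Polynomial CA.SLTv

variable {F : Type*} [Field F] {n : ℕ}

/-- last column of the companion matrix -/
noncomputable def cc (n : ℕ) (F : Type*) [Field F] (i : ℕ) : F := -((X - 1 : F[X]) ^ n).coeff i

theorem cc_int (i : ℕ) : ∃ m : ℤ, cc n F i = m :=
  ⟨-((X - 1 : ℤ[X]) ^ n).coeff i, by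
    rw [cc, show (X - 1 : F[X]) ^ n = ((X - 1 : ℤ[X]) ^ n).map (Int.castRingHom F) by simp, coeff_map]
    simp⟩

theorem cc_zero : cc n F 0 = -(-1) ^ n := by simp [cc, coeff_zero_eq_eval_zero]

theorem cc_zero_sq : cc n F 0 * cc n F 0 = 1 := by
  rw [cc_zero, neg_mul_neg, ← mul_pow]; simp

theorem cc_zero_ne : cc n F 0 ≠ 0 := left_ne_zero_of_mul_eq_one cc_zero_sq

noncomputable def lastCol (n : ℕ) (F : Type*) [Field F] : Fin n → F := fun i => cc n F i

noncomputable def Cm (n : ℕ) (F : Type*) [Field F] : Matrix (Fin n) (Fin n) F :=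
  ofCols fun k => if k + 1 < n then e n F (k + 1) else lastCol n F

theorem Cm_e {k : ℕ} (hk : k + 1 < n) : Cm n F *ᵥ e n F k = e n F (k + 1) := by
  rw [Cm, ofCols_e _ (by omega), if_pos hk]

theorem Cm_last {k : ℕ} (hk : k + 1 = n) : Cm n F *ᵥ e n F k = lastCol n F := by
  rw [Cm, ofCols_e _ (by omega), if_neg (by omega)]

theorem e_dot_lastCol {k : ℕ} (hk : k < n) : e n F k ⬝ᵥ lastCol n F = cc n F k := e_dot hk _

theorem Cm_pow_e {k : ℕ} (hk : k < n) : Cm n F ^ k *ᵥ e n F 0 = e n F k := by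
  induction k with
  | zero => simp
  | succ k ih => rw [pow_succ', ← mulVec_mulVec, ih (by omega), Cm_e hk]

theorem aeval_e (Q : F[X]) (hQ : Q.natDegree < n) :
    aeval (Cm n F) Q *ᵥ e n F 0 = fun i : Fin n => Q.coeff i := by
  rw [aeval_eq_sum_range' hQ, sum_mulVec, Finset.sum_range, eq_sum_e fun i : Fin n => Q.coeff i]
  exact Finset.sum_congr rfl fun i _ => by rw [smul_mulVec, Cm_pow_e i.2]

theorem natDegree_pow' (k : ℕ) : ((X - 1 : F[X]) ^ k).natDegree = k := by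
  rw [← C_1, natDegree_pow, natDegree_X_sub_C, mul_one]

theorem coeff_pow_self (k : ℕ) : ((X - 1 : F[X]) ^ k).coeff k = 1 := by
  have := ((monic_X_sub_C (1 : F)).pow k).coeff_natDegree
  rwa [map_one, natDegree_pow'] at this

theorem Cm_nilp : (Cm n F - 1) ^ n = 0 := by
  rcases Nat.eq_zero_or_pos n with rfl | hn
  · exact Subsingleton.elim _ _
  have h : (Cm n F - 1) ^ n *ᵥ e n F 0 = 0 := by
    have e1 : (Cm n F - 1) ^ n = aeval (Cm n F) ((X - 1 : F[X]) ^ n) := by simp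
    obtain ⟨m, rfl⟩ : ∃ m, n = m + 1 := ⟨n - 1, by omega⟩
    rw [e1, aeval_eq_sum_range, natDegree_pow', Finset.sum_range_succ, coeff_pow_self, one_smul,
      add_mulVec, pow_succ' (Cm _ F), ← mulVec_mulVec, Cm_pow_e (by omega), Cm_last rfl,
      eq_sum_e (lastCol _ F), sum_mulVec, Finset.sum_range, ← Finset.sum_add_distrib]
    exact Finset.sum_eq_zero fun i _ => by rw [smul_mulVec, Cm_pow_e i.2]; simp [lastCol, cc]
  refine matrix_ext fun k hk => ?_
  rw [← Cm_pow_e hk, mulVec_mulVec,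
    (((Commute.refl (Cm n F)).sub_left (Commute.one_left _)).pow_pow n k).eq, ← mulVec_mulVec, h]
  simp

theorem Cm_reg (hn : 1 ≤ n) : (Cm n F - 1) ^ (n - 1) ≠ 0 := fun h => by
  have := congrFun (aeval_e (n := n) ((X - 1 : F[X]) ^ (n - 1)) (by rw [natDegree_pow']; omega))
    ⟨n - 1, by omega⟩
  simp [h, coeff_pow_self] at this

theorem det_of_unip {ι : Type*} [Fintype ι] [DecidableEq ι] {A : Matrix ι ι F}
    (h : IsNilpotent (A - 1)) : A.det = 1 := by
  have h1 := (isNilpotent_charpoly_sub_pow_of_isNilpotent (neg_sub A 1 ▸ h.neg)).eq_zero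
  have h2 := eval_charpoly (1 - A) 1
  rw [sub_eq_zero.1 h1] at h2
  simpa using h2.symm

noncomputable def Cs (n : ℕ) (F : Type*) [Field F] : SpecialLinearGroup (Fin n) F :=
  ⟨Cm n F, det_of_unip ⟨n, Cm_nilp⟩⟩

theorem dot0 {k : ℕ} (hk : k + 1 = n) (x : Fin n → F) :
    (cc n F 0 • e n F 0) ⬝ᵥ (Cm n F *ᵥ x) = e n F k ⬝ᵥ x := by
  refine dot_ext (fun l hl => ?_) x
  rcases (show l + 1 < n ∨ l = k by omega) with h | rfl
  · rw [Cm_e h, e_dot_e_ne (by omega : k ≠ l)]; simp [e_dot_e_ne]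
  · rw [Cm_last hk, e_dot_e_self hl, smul_dotProduct, e_dot_lastCol (by omega)]; exact cc_zero_sq

theorem dot1 {k : ℕ} (hk : k + 1 < n) (x : Fin n → F) :
    (e n F (k + 1) - (cc n F (k + 1) * cc n F 0) • e n F 0) ⬝ᵥ (Cm n F *ᵥ x) = e n F k ⬝ᵥ x := by
  refine dot_ext (fun l hl => ?_) x
  rcases (show l + 1 < n ∨ l + 1 = n by omega) with h | h
  · rw [Cm_e h]; simp [e_dot_e hk, e_dot_e (show k < n by omega), e_dot_e (show 0 < n by omega)]
  · rw [Cm_last h, e_dot_e_ne (by omega : k ≠ l), sub_dotProduct, smul_dotProduct,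
      e_dot_lastCol hk, e_dot_lastCol (by omega), smul_eq_mul, mul_assoc, cc_zero_sq, mul_one, sub_self]

variable {H : Subgroup (SpecialLinearGroup (Fin n) F)} (hC : Cs n F ∈ H)
include hC

theorem el10_iff {k : ℕ} (hk : k + 1 = n) (h1 : 1 ≤ k) {c : F} :
    El H 1 0 (cc n F 0 * c) ↔ El H 0 k c := by
  have e1 : (Cs n F).1 *ᵥ (c • e n F 0) = c • e n F 1 := by
    rw [mulVec_smul]; exact congrArg _ (Cm_e (by omega))
  rw [El, mul_smul, tv_smul]
  exact ⟨fun h => h.conj_inv hC e1 (dot0 hk), fun h => e1 ▸ Tv.conj h hC (dot0 hk)⟩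

theorem el_succ {j k : ℕ} (hj : j + 1 < n) (hk : k + 1 < n) {c : F} (h : El H j k c) :
    Tv H (c • e n F (j + 1)) (e n F (k + 1) - (cc n F (k + 1) * cc n F 0) • e n F 0) := by
  have := Tv.conj h hC (dot1 hk)
  rwa [mulVec_smul, show (Cs n F).1 *ᵥ e n F j = _ from Cm_e hj] at this

theorem el_succ0 {j : ℕ} (hj : j + 1 < n) (h1 : 1 ≤ j) {c c' : F} (h : El H j 0 c) (h' : El H 1 0 c') :
    El H (j + 1) 0 (c * c') := by
  have := (el_succ hC hj (by omega) h).comm h'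
    (by simp [e_dot_e_ne (show 1 ≠ j + 1 by omega), e_dot_e_ne]) (by simp [e_dot_e_ne]) (by simp [e_dot_e_ne])
  simpa [El, e_dot_e_self (show 1 < n by omega), e_dot_e_ne, smul_smul, mul_comm] using this

theorem all_one {k : ℕ} (hk : k + 1 = n) (h1 : 1 ≤ k) (h : El H 0 k 1) : All H 1 := by
  obtain ⟨m, hm⟩ := cc_int (n := n) (F := F) 0
  have h10 : El H 1 0 1 := by
    have := ((el10_iff hC hk h1).2 h).zmul one_ne_zero m
    rwa [← hm, mul_one, cc_zero_sq] at this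
  have h0 : ∀ j, 1 ≤ j → j < n → El H j 0 1 := fun j hj => by
    induction j, hj using Nat.le_induction with
    | base => exact fun _ => h10
    | succ j hj ih => exact fun h => by simpa using el_succ0 hC h hj (ih (by omega)) h10
  have low : ∀ l j, l < j → j < n → El H j l 1 := fun l => by
    induction l with
    | zero => exact h0
    | succ l ih =>
      intro j h1 h2
      obtain ⟨j, rfl⟩ : ∃ j', j = j' + 1 := ⟨j - 1, by omega⟩
      obtain ⟨m', hm'⟩ := cc_int (n := n) (F := F) (l + 1)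
      have h3 := (h0 (j + 1) (by omega) h2).zmul (by omega) (m' * m)
      rw [El, mul_smul, tv_smul, Int.cast_mul, ← hm, ← hm'] at h3
      simpa [El] using (el_succ hC h2 (by omega) (ih j (by omega) (by omega))).add_right h3
        (by simp [e_dot_e_ne (show l + 1 ≠ j + 1 by omega), e_dot_e_ne])
  have up : ∀ i < k, El H i k 1 := fun i hi => by
    rcases Nat.eq_zero_or_pos i with rfl | h0'
    · exact h
    · simpa using (h0 i h0' (by omega)).mul h (by omega) (by omega) (by omega) (by omega)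
  intro i hi j hj hij
  rcases lt_or_gt_of_ne hij with h2 | h2
  · rcases (show j = k ∨ j < k by omega) with rfl | h3
    · exact up i h2
    · simpa using (up i (by omega)).mul (low j k h3 (by omega)) (by omega) hij (by omega) (by omega)
  · exact low j i h2 hi

omit hC in
theorem el_of_act {k : ℕ} (hk : k + 1 = n) {s : SpecialLinearGroup (Fin n) F} (hs : s ∈ H) {c : F}
    (h1 : ∀ j < k, s.1 *ᵥ e n F j = e n F j) (h2 : s.1 *ᵥ e n F k = e n F k + c • e n F 0) :
    El H 0 k c := by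
  refine ⟨s, hs, mulVec_ext (T := LinearMap.id + (dotProductBilin F F (e n F k)).smulRight
    (c • e n F 0)) fun l hl => ?_⟩
  rcases (show l < k ∨ l = k by omega) with h | rfl
  · simp [h1 l h, e_dot_e_ne h.ne']
  · simp [h2, e_dot_e_self hl]

omit hC in
/-- `M⁻¹ C M` as an element of `SL`. -/
theorem exists_conj {M : Matrix (Fin n) (Fin n) F} (hM : M.det ≠ 0) :
    ∃ v : SpecialLinearGroup (Fin n) F, M * v.1 = Cm n F * M ∧ IsNilpotent (v.1 - 1) ∧
      (1 ≤ n → (v.1 - 1) ^ (n - 1) ≠ 0) := by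
  have hu : IsUnit M.det := isUnit_iff_ne_zero.2 hM
  have e1 : ∀ k, M * (M⁻¹ * Cm n F * M - 1) ^ k = (Cm n F - 1) ^ k * M := fun k => by
    induction k with
    | zero => simp
    | succ k ih =>
      rw [pow_succ, pow_succ, ← mul_assoc, ih, mul_assoc, mul_assoc (_ ^ k), mul_sub, sub_mul,
        mul_assoc M⁻¹, mul_nonsing_inv_cancel_left _ _ hu, mul_one, one_mul]
  have e2 : IsNilpotent (M⁻¹ * Cm n F * M - 1) := ⟨n, by
    rw [← nonsing_inv_mul_cancel_left M (_ ^ n) hu, e1, Cm_nilp]; simp⟩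
  refine ⟨⟨_, det_of_unip e2⟩, ?_, e2, fun hn (h : (M⁻¹ * Cm n F * M - 1) ^ (n - 1) = 0) =>
    Cm_reg (F := F) hn ?_⟩
  · change M * (M⁻¹ * Cm n F * M) = _
    rw [mul_assoc, mul_nonsing_inv_cancel_left _ _ hu]
  · rw [← mul_nonsing_inv_cancel_right M (_ ^ (n - 1)) hu, ← e1, h]; simp

omit hC in
theorem act_of_conj {M : Matrix (Fin n) (Fin n) F} (hM : M.det ≠ 0) {v : SpecialLinearGroup (Fin n) F}
    (hv : M * v.1 = Cm n F * M) (x : Fin n → F) :
    M *ᵥ Cm n F *ᵥ ((Cs n F)⁻¹ * v).1 *ᵥ x = Cm n F *ᵥ M *ᵥ x ∧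
      ∀ y, M *ᵥ Cm n F *ᵥ y = Cm n F *ᵥ M *ᵥ x → ((Cs n F)⁻¹ * v).1 *ᵥ x = y := by
  have h1 : M *ᵥ Cm n F *ᵥ ((Cs n F)⁻¹ * v).1 *ᵥ x = Cm n F *ᵥ M *ᵥ x := by
    rw [mul_mulVec, show Cm n F *ᵥ _ = _ from mulVec_inv (Cs n F) _, mulVec_mulVec, hv, mulVec_mulVec]
  refine ⟨h1, fun y hy => ?_⟩
  rw [← hy] at h1
  exact mulVec_injective_of_isUnit ((isUnit_iff_isUnit_det _).2 (by simp [(Cs n F).2]) : IsUnit (Cs n F).1)
    (mulVec_injective_of_isUnit ((isUnit_iff_isUnit_det _).2 (isUnit_iff_ne_zero.2 hM)) h1)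

end CA.SLReg
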