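import Cfsg.Agent.Lib.Lin.SLReg

/-! Pairs of regular unipotent elements generating `SL_n`, `n ≥ 4`. -/

set_option autoImplicit false

namespace CA.SLReg

open Matrix CA.SLTv

variable {F : Type*} [Field F] {n : ℕ}

theorem mid {k : ℕ} (hk : k + 1 = n) {T : (Fin n → F) →ₗ[F] Fin n → F} {g : Fin n → F}
    (h : ∀ j, 1 ≤ j → j < k → T (e n F j) = 0) (h0 : e n F 0 ⬝ᵥ g = 0) (h1 : e n F k ⬝ᵥ g = 0) :
    T g = 0 := by
  rw [eq_sum_e g, map_sum]
  refine Finset.sum_eq_zero fun i _ => ?_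
  have := i.2
  rw [map_smul, show g i = e n F i ⬝ᵥ g from (e_dot i.2 g).symm]
  rcases (show (i : ℕ) = 0 ∨ (i : ℕ) = k ∨ (1 ≤ (i : ℕ) ∧ (i : ℕ) < k) by omega) with e | e | e
  · rw [e, h0, zero_smul]
  · rw [e, h1, zero_smul]
  · rw [h i e.1 e.2, smul_zero]

theorem det_upper {f : ℕ → Fin n → F} (h : ∀ j < n, ∀ i, j < i → e n F i ⬝ᵥ f j = 0) :
    (ofCols f).det = ∏ j : Fin n, e n F j ⬝ᵥ f j := by
  rw [det_of_isUpperTriangular (M := ofCols f) fun (i j : Fin n) hij =>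
    (e_dot i.2 (f j)).symm.trans (h j j.2 i hij)]
  exact Finset.prod_congr rfl fun j _ => (e_dot j.2 (f j)).symm

theorem det_lower {f : ℕ → Fin n → F} (h : ∀ j < n, ∀ i < j, e n F i ⬝ᵥ f j = 0) :
    (ofCols f).det = ∏ j : Fin n, e n F j ⬝ᵥ f j := by
  rw [det_of_isLowerTriangular (ofCols f) fun (i j : Fin n) hij =>
    (e_dot i.2 (f j)).symm.trans (h j j.2 i hij)]
  exact Finset.prod_congr rfl fun j _ => (e_dot j.2 (f j)).symm

theorem dot0' {k : ℕ} (hk : k + 1 = n) (x : Fin n → F) :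
    e n F 0 ⬝ᵥ (Cm n F *ᵥ x) = cc n F 0 * (e n F k ⬝ᵥ x) := by
  rw [← dot0 hk, smul_dotProduct, smul_eq_mul, ← mul_assoc, cc_zero_sq, one_mul]

theorem dot1' {k j : ℕ} (hk : k + 1 = n) (hj : j < k) (x : Fin n → F) :
    e n F (j + 1) ⬝ᵥ (Cm n F *ᵥ x) = e n F j ⬝ᵥ x + cc n F (j + 1) * (e n F k ⬝ᵥ x) := by
  rw [← dot1 (show j + 1 < n by omega), ← dot0 hk]
  simp [mul_assoc]

/-- odd characteristic -/
theorem famI [Finite F] (h2 : (2 : F) ≠ 0) (hn : 4 ≤ n) : ∃ M : Matrix (Fin n) (Fin n) F, M.det = 1 ∧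
    ∀ v : SpecialLinearGroup (Fin n) F, M * v.1 = Cm n F * M → ∀ H : Subgroup _, Cs n F ∈ H → v ∈ H →
      All H 1 := by
  obtain ⟨k, hk⟩ : ∃ k, k + 1 = n := ⟨n - 1, by omega⟩
  obtain ⟨γ, ⟨g0, hg0⟩, hγ, hb⟩ : ∃ γ : F, (∃ m : ℤ, γ = m) ∧ γ * γ = 1 ∧ 2 * cc n F 1 - γ * cc n F 0 ≠ 0 := by
    by_cases h : 2 * cc n F 1 - 1 * cc n F 0 = 0
    · refine ⟨-1, ⟨-1, by simp⟩, by simp, fun h' => mul_ne_zero h2 (cc_zero_ne (n := n)) ?_⟩
      linear_combination h' - h
    · exact ⟨1, ⟨1, by simp⟩, by simp, h⟩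
  let U : Matrix (Fin n) (Fin n) F :=
    ofCols fun j => if j ≤ 2 then e n F j else e n F j + (2 * γ) • e n F (j - 1)
  let B : Matrix (Fin n) (Fin n) F := ofCols fun j => if j = 0 then -(e n F 0 + γ • e n F 1) else
    if j = 1 then e n F 1 + γ • e n F 2 else if j = 2 then -e n F 2 else e n F j
  have U1 : ∀ j ≤ 2, U *ᵥ e n F j = e n F j := fun j hj => by rw [ofCols_e _ (by omega), if_pos hj]
  have M0 : (U * B) *ᵥ e n F 0 = -(e n F 0 + γ • e n F 1) := by
    rw [← mulVec_mulVec, ofCols_e _ (by omega)]; simp [mulVec_neg, mulVec_add, mulVec_smul, U1]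
  have M1 : (U * B) *ᵥ e n F 1 = e n F 1 + γ • e n F 2 := by
    rw [← mulVec_mulVec, ofCols_e _ (by omega)]; simp [mulVec_add, mulVec_smul, U1]
  have M2 : (U * B) *ᵥ e n F 2 = -e n F 2 := by
    rw [← mulVec_mulVec, ofCols_e _ (by omega)]; simp [mulVec_neg, U1]
  have M3 : ∀ j, 2 ≤ j → j + 1 < n → (U * B) *ᵥ e n F (j + 1) = e n F (j + 1) + (2 * γ) • e n F j :=
    fun j h1 h2 => by
      rw [← mulVec_mulVec, ofCols_e _ h2, if_neg (by omega), if_neg (by omega), if_neg (by omega),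
        ofCols_e _ h2, if_neg (by omega)]; rfl
  have hd : (U * B).det = 1 := by
    rw [det_mul, det_upper, det_lower, Finset.prod_eq_one, one_mul,
      Finset.prod_eq_mul_of_mem (⟨0, by omega⟩ : Fin n) ⟨2, by omega⟩ (by simp) (by simp) (by simp)]
    · simp [e_dot_e_self (show 0 < n by omega), e_dot_e_self (show 2 < n by omega), e_dot_e_ne]
    · intro c _ hc
      simp only [Ne, Fin.ext_iff] at hc
      by_cases h : (c : ℕ) = 1
      · simp [h, e_dot_e_self (show 1 < n by omega), e_dot_e_ne]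
      · simp [h, hc.1, hc.2, e_dot_e_self c.2]
    · intro c _
      split_ifs with h
      · exact e_dot_e_self c.2
      · simp [e_dot_e_self c.2, e_dot_e_ne (show (c : ℕ) ≠ c - 1 by omega)]
    · intro j _ i hi
      split_ifs with h1 h2 h3
      · omega
      · simp [e_dot_e_ne (show i ≠ 1 by omega), e_dot_e_ne (show i ≠ 2 by omega)]
      · simp [e_dot_e_ne (show i ≠ 2 by omega)]
      · exact e_dot_e_ne hi.ne
    · intro j _ i hi
      split_ifs with h
      · exact e_dot_e_ne hi.ne'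
      · simp [e_dot_e_ne hi.ne', e_dot_e_ne (show i ≠ j - 1 by omega)]
  refine ⟨U * B, hd, fun v hv H hC hvH => ?_⟩
  generalize U * B = M at *
  have hA := act_of_conj (hd ▸ one_ne_zero) hv
  have hs : (Cs n F)⁻¹ * v ∈ H := H.mul_mem (H.inv_mem hC) hvH
  generalize (Cs n F)⁻¹ * v = s at *
  have C0 := Cm_e (F := F) (show 0 + 1 < n by omega)
  have C1 := Cm_e (F := F) (show 1 + 1 < n by omega)
  have C2 := Cm_e (F := F) (show 2 + 1 < n by omega)
  have M3' := M3 2 le_rfl (by omega)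
  have s0 : s.1 *ᵥ e n F 0 = -e n F 0 := (hA _).2 _ (by
    simp only [mulVec_neg, mulVec_add, mulVec_smul, M0, C0, C1, zero_add, M1])
  have s1 : s.1 *ᵥ e n F 1 = e n F 1 + γ • e n F 2 := (hA _).2 _ (by
    simp only [mulVec_add, mulVec_smul, M1, C1, C2, M2, M3']
    linear_combination (norm := module) (2 * hγ) • e n F 2)
  have s2 : s.1 *ᵥ e n F 2 = -((2 * γ) • e n F 1) - e n F 2 := (hA _).2 _ (by
    simp only [mulVec_neg, mulVec_sub, mulVec_smul, C1, C2, M2, M3']; module)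
  have ss1 : s.1 *ᵥ s.1 *ᵥ e n F 1 = -e n F 1 := by
    rw [s1, mulVec_add, mulVec_smul, s1, s2]
    linear_combination (norm := module) (-2 * hγ) • e n F 1
  have ss2 : s.1 *ᵥ s.1 *ᵥ e n F 2 = -e n F 2 := by
    rw [s2, mulVec_sub, mulVec_neg, mulVec_smul, s1, s2]
    linear_combination (norm := module) (-2 * hγ) • e n F 2
  have s3 : ∀ j, 3 ≤ j → j < k → s.1 *ᵥ e n F j = e n F j := fun j h1 h2 => (hA _).2 _ (by
    obtain ⟨j, rfl⟩ : ∃ i, j = i + 1 := ⟨j - 1, by omega⟩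
    rw [Cm_e (by omega), M3 _ (by omega) (by omega), M3 _ (by omega) (by omega), mulVec_add,
      mulVec_smul, Cm_e (by omega), Cm_e (by omega)])
  have cases : ∀ j < n, j = 0 ∨ j = 1 ∨ j = 2 ∨ ∃ i, 2 ≤ i ∧ j = i + 1 := fun j _ => by
    rcases (show j = 0 ∨ j = 1 ∨ j = 2 ∨ 3 ≤ j by omega) with h | h | h | h
    exacts [.inl h, .inr (.inl h), .inr (.inr (.inl h)), .inr (.inr (.inr ⟨j - 1, by omega, by omega⟩))]
  have e00 := e_dot_e_self (F := F) (show 0 < n by omega)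
  have e11 := e_dot_e_self (F := F) (show 1 < n by omega)
  have d0 : ∀ z, e n F 0 ⬝ᵥ (M *ᵥ z) = (-e n F 0) ⬝ᵥ z := dot_ext fun j hj => by
    rcases cases j hj with rfl | rfl | rfl | ⟨i, hi, rfl⟩
    · simp [M0, e_dot_e_ne]
    · simp [M1, e_dot_e_ne]
    · simp [M2, e_dot_e_ne]
    · simp [M3 i hi hj, e_dot_e_ne, e_dot_e_ne (show 0 ≠ i by omega)]
  have d1 : ∀ z, e n F 1 ⬝ᵥ (M *ᵥ z) = (e n F 1 - γ • e n F 0) ⬝ᵥ z := dot_ext fun j hj => by
    rcases cases j hj with rfl | rfl | rfl | ⟨i, hi, rfl⟩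
    · simp [M0, e_dot_e_ne, e00, e11]
    · simp [M1, e_dot_e_ne]
    · simp [M2, e_dot_e_ne]
    · simp [M3 i hi hj, e_dot_e_ne, e_dot_e_ne (show 1 ≠ i by omega), e_dot_e_ne (show 1 ≠ i + 1 by omega)]
  obtain ⟨k, rfl⟩ : ∃ i, k = i + 1 := ⟨k - 1, by omega⟩
  have hy := (hA (e n F (k + 1))).1
  rw [M3 k (by omega) (by omega), mulVec_add, mulVec_smul, Cm_last hk, Cm_e (by omega)] at hy
  set y := s.1 *ᵥ e n F (k + 1) with hy'
  have y1 : e n F (k + 1) ⬝ᵥ y = -1 := by
    have := congrArg (e n F 0 ⬝ᵥ ·) hy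
    simp only [d0, neg_dotProduct, dot0' hk, dotProduct_add, e_dot_lastCol (show 0 < n by omega),
      dotProduct_smul, e_dot_e_ne (show 0 ≠ k + 1 by omega), smul_zero, add_zero] at this
    exact mul_left_cancel₀ (cc_zero_ne (n := n)) (by linear_combination -this)
  have y0 : e n F 0 ⬝ᵥ y = 2 * cc n F 1 - γ * cc n F 0 := by
    have := congrArg (e n F 1 ⬝ᵥ ·) hy
    simp only [d1, sub_dotProduct, smul_dotProduct, dot0' hk, dotProduct_add,
      e_dot_lastCol (show 1 < n by omega), dot1' hk (show 0 < k + 1 by omega), zero_add, y1,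
      dotProduct_smul, e_dot_e_ne (show 1 ≠ k + 1 by omega), smul_eq_mul] at this
    linear_combination this
  set b := 2 * cc n F 1 - γ * cc n F 0 with hb'
  let T := toLin' s.1
  have hg := mid hk (T := T * T * T + T - T * T - 1) (g := y + e n F (k + 1) - b • e n F 0)
    (fun j h1 h2 => by
      rcases cases j (by omega) with rfl | rfl | rfl | ⟨i, hi, rfl⟩
      · omega
      · simp [T, ss1, mulVec_neg]
      · simp [T, ss2, mulVec_neg]
      · simp [T, s3 _ (show 3 ≤ i + 1 by omega) h2])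
    (by simp [y0, e00, e_dot_e_ne]) (by simp [y1, e_dot_e_self (show k + 1 < n by omega), e_dot_e_ne])
  obtain ⟨m0, hm0⟩ := cc_int (n := n) (F := F) 0
  obtain ⟨m1, hm1⟩ := cc_int (n := n) (F := F) 1
  refine all_one hC hk (by omega) ((el_of_act hk (H.pow_mem hs 4) (c := -4 * b) (fun j hj => ?_) ?_).one
    (by omega) (m := -4 * (2 * m1 - g0 * m0)) (by rw [hb', hm0, hm1, hg0]; push_cast; ring) ?_)
  · simp only [pow_succ, pow_zero, one_mul, mul_mulVec]
    rcases cases j (by omega) with rfl | rfl | rfl | ⟨i, hi, rfl⟩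
    · simp [s0, mulVec_neg]
    · simp only [ss1, mulVec_neg, neg_neg]
    · simp only [ss2, mulVec_neg, neg_neg]
    · simp [s3 _ (show 3 ≤ i + 1 by omega) hj]
  · simp only [T, LinearMap.sub_apply, LinearMap.add_apply, Module.End.mul_apply, toLin'_apply,
      Module.End.one_apply, s0, ← hy', mulVec_add, mulVec_sub, mulVec_neg, mulVec_smul] at hg
    simp only [pow_succ, pow_zero, one_mul, mul_mulVec, ← hy']
    linear_combination (norm := module) hg
  · refine mul_ne_zero (neg_ne_zero.2 fun h => mul_ne_zero h2 h2 ?_) hb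
    linear_combination h

theorem pow_mulVec_eig {s : SpecialLinearGroup (Fin n) F} {x : Fin n → F} {c : F}
    (h : s.1 *ᵥ x = c • x) (m : ℕ) : (s ^ m).1 *ᵥ x = c ^ m • x := by
  induction m with
  | zero => simp
  | succ m ih => rw [pow_succ, mul_mulVec, h, mulVec_smul, ih, smul_smul, pow_succ']

theorem pow_mulVec_add {s : SpecialLinearGroup (Fin n) F} {x v : Fin n → F}
    (h : s.1 *ᵥ x = x + v) (hv : s.1 *ᵥ v = v) (m : ℕ) : (s ^ m).1 *ᵥ x = x + (m : F) • v := by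
  induction m with
  | zero => simp
  | succ m ih => rw [pow_succ', mul_mulVec, ih, mulVec_add, mulVec_smul, h, hv]; push_cast; module

/-- fields with more than three elements -/
theorem famII [Fintype F] {a : F} (a0 : a ≠ 0) (a2 : a * a ≠ 1) (hn : 4 ≤ n) :
    ∃ M : Matrix (Fin n) (Fin n) F, M.det ≠ 0 ∧ ∀ v : SpecialLinearGroup (Fin n) F,
      M * v.1 = Cm n F * M → ∀ H : Subgroup _, Cs n F ∈ H → v ∈ H → All H 1 ∧ All H a := by
  obtain ⟨k, hk⟩ : ∃ k, k + 1 = n := ⟨n - 1, by omega⟩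
  let M : Matrix (Fin n) (Fin n) F := ofCols fun j => if j = 0 then e n F 0 + e n F 1 else
    if j = 1 then e n F 1 + e n F 2 else if j = 2 then a⁻¹ • e n F 2 else e n F j
  have M0 : M *ᵥ e n F 0 = e n F 0 + e n F 1 := ofCols_e _ (by omega)
  have M1 : M *ᵥ e n F 1 = e n F 1 + e n F 2 := ofCols_e _ (by omega)
  have M2 : M *ᵥ e n F 2 = a⁻¹ • e n F 2 := ofCols_e _ (by omega)
  have M3 : ∀ j, 3 ≤ j → j < n → M *ᵥ e n F j = e n F j := fun j h1 h2 => by
    rw [ofCols_e _ h2, if_neg (by omega), if_neg (by omega), if_neg (by omega)]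
  have e00 := e_dot_e_self (F := F) (show 0 < n by omega)
  have e11 := e_dot_e_self (F := F) (show 1 < n by omega)
  have e22 := e_dot_e_self (F := F) (show 2 < n by omega)
  have hd : M.det ≠ 0 := by
    rw [det_lower, Finset.prod_ne_zero_iff]
    · intro c _
      split_ifs with h1 h2 h3
      · simp [h1, e00, e_dot_e_ne]
      · simp [h2, e11, e_dot_e_ne]
      · simp [h3, e22, a0]
      · simp [e_dot_e_self c.2]
    · intro j _ i hi
      split_ifs with h1 h2 h3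
      · omega
      · simp [e_dot_e_ne (show i ≠ 1 by omega), e_dot_e_ne (show i ≠ 2 by omega)]
      · simp [e_dot_e_ne (show i ≠ 2 by omega)]
      · exact e_dot_e_ne hi.ne
  refine ⟨M, hd, fun v hv H hC hvH => ?_⟩
  clear_value M
  have hA := act_of_conj hd hv
  have hs : (Cs n F)⁻¹ * v ∈ H := H.mul_mem (H.inv_mem hC) hvH
  generalize (Cs n F)⁻¹ * v = s at *
  have C0 : Cm n F *ᵥ e n F 0 = e n F 1 := Cm_e (by omega)
  have C1 : Cm n F *ᵥ e n F 1 = e n F 2 := Cm_e (by omega)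
  have C2 : Cm n F *ᵥ e n F 2 = e n F 3 := Cm_e (by omega)
  have M3' := M3 3 le_rfl (by omega)
  have s0 : s.1 *ᵥ e n F 0 = e n F 0 := (hA _).2 _ (by simp only [mulVec_add, M0, C0, C1, M1])
  have s1 : s.1 *ᵥ e n F 1 = a • e n F 1 + e n F 2 := (hA _).2 _ (by
    simp only [mulVec_add, mulVec_smul, M1, C1, C2, M2, M3', smul_smul, mul_inv_cancel₀ a0, one_smul])
  have s2 : s.1 *ᵥ e n F 2 = a⁻¹ • e n F 2 := (hA _).2 _ (by simp only [mulVec_smul, C2, M2, M3'])
  have s3 : ∀ j, 3 ≤ j → j < k → s.1 *ᵥ e n F j = e n F j := fun j h1 h2 => (hA _).2 _ (by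
    rw [Cm_e (by omega), M3 _ (by omega) (by omega), M3 _ (by omega) (by omega), Cm_e (by omega)])
  have cases : ∀ j, j = 0 ∨ j = 1 ∨ j = 2 ∨ 3 ≤ j := by omega
  have Ml : M *ᵥ lastCol n F = lastCol n F + cc n F 0 • e n F 1 + cc n F 1 • e n F 2 +
      cc n F 2 • (a⁻¹ - 1) • e n F 2 := by
    rw [← e_dot_lastCol (show 0 < n by omega), ← e_dot_lastCol (show 1 < n by omega),
      ← e_dot_lastCol (show 2 < n by omega)]
    refine mulVec_ext (T := LinearMap.id + (dotProductBilin F F (e n F 0)).smulRight (e n F 1) +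
      (dotProductBilin F F (e n F 1)).smulRight (e n F 2) +
      (dotProductBilin F F (e n F 2)).smulRight ((a⁻¹ - 1) • e n F 2)) (fun j hj => ?_) _
    rcases cases j with rfl | rfl | rfl | h
    · simp [M0, e00, e_dot_e_ne]
    · simp [M1, e11, e_dot_e_ne]
    · simp [M2, e22, e_dot_e_ne, sub_smul]
    · simp [M3 j h hj, e_dot_e_ne (show 0 ≠ j by omega), e_dot_e_ne (show 1 ≠ j by omega),
        e_dot_e_ne (show 2 ≠ j by omega)]
  set g := a * (cc n F 2 - cc n F 1 + cc n F 0) - cc n F 2 with hg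
  have sk : s.1 *ᵥ e n F k = e n F k - cc n F 0 • e n F 0 + g • e n F 1 := (hA _).2 _ (by
    simp only [mulVec_add, mulVec_sub, mulVec_smul, C0, C1, Cm_last hk, Ml, M1, M2,
      M3 k (by omega) (by omega), hg]
    match_scalars <;> field_simp <;> ring)
  have a1 : a ≠ 1 := fun h => a2 (by rw [h, mul_one])
  have a1' : 1 - a ≠ 0 := sub_ne_zero.2 a1.symm
  have hD : a - a⁻¹ ≠ 0 := fun h => a2 (by nth_rw 2 [sub_eq_zero.1 h]; exact mul_inv_cancel₀ a0)
  have hm : ((Fintype.card F - 1 : ℕ) : F) = -1 := by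
    rw [Nat.cast_sub Fintype.card_pos, FiniteField.cast_card_eq_zero]; simp
  have p2 : (s ^ (Fintype.card F - 1)).1 *ᵥ e n F 2 = e n F 2 := by
    rw [pow_mulVec_eig s2, FiniteField.pow_card_sub_one_eq_one _ (inv_ne_zero a0), one_smul]
  have p1 : (s ^ (Fintype.card F - 1)).1 *ᵥ e n F 1 = e n F 1 := by
    have := pow_mulVec_eig (s := s) (x := (a - a⁻¹) • e n F 1 + e n F 2) (c := a)
      (by rw [mulVec_add, mulVec_smul, s1, s2]; module) (Fintype.card F - 1)
    rw [FiniteField.pow_card_sub_one_eq_one _ a0, one_smul, mulVec_add, p2, mulVec_smul,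
      add_left_inj] at this
    exact smul_right_injective _ hD this
  have pk : (s ^ (Fintype.card F - 1)).1 *ᵥ e n F k = e n F k + cc n F 0 • e n F 0 := by
    have := pow_mulVec_add (s := s) (v := -cc n F 0 • e n F 0)
      (x := e n F k + (g / (1 - a)) • e n F 1 - (a * g / (1 - a) ^ 2) • e n F 2)
      (by rw [mulVec_sub, mulVec_add, mulVec_smul, mulVec_smul, s1, s2, sk]
          match_scalars <;> field_simp <;> ring) (by rw [mulVec_smul, s0]) (Fintype.card F - 1)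
    rw [mulVec_sub, mulVec_add, mulVec_smul, mulVec_smul, p1, p2, hm] at this
    linear_combination (norm := module) this
  obtain ⟨m0, hm0⟩ := cc_int (n := n) (F := F) 0
  have h1 : All H 1 := by
    refine all_one hC hk (by omega) ((el_of_act hk (H.pow_mem hs _) (fun j hj => ?_) pk).one
      (by omega) hm0 cc_zero_ne)
    rcases cases j with rfl | rfl | rfl | h
    · simpa using pow_mulVec_eig (c := 1) (s0.trans (one_smul _ _).symm) _
    · exact p1
    · exact p2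
    · simpa using pow_mulVec_eig (c := 1) ((s3 j h hj).trans (one_smul _ _).symm) _
  refine ⟨h1, h1.of_el (by omega) (show 1 < n by omega) (show k < n by omega) (by omega) ?_⟩
  have h2 := Tv.conj (ψ := e n F k) (h1 1 (by omega) k (by omega) (by omega)) hs (dot_ext fun j hj => by
    rcases (show j = 0 ∨ j = 1 ∨ j = 2 ∨ (3 ≤ j ∧ j < k) ∨ j = k by omega) with rfl | rfl | rfl | h | rfl
    · rw [s0]
    · simp [s1, e_dot_e_ne (show k ≠ 1 by omega), e_dot_e_ne (show k ≠ 2 by omega)]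
    · simp [s2, e_dot_e_ne (show k ≠ 2 by omega)]
    · rw [s3 j h.1 h.2]
    · simp [sk, e_dot_e_ne (show j ≠ 1 by omega), e_dot_e_ne (show j ≠ 0 by omega)])
  have h3 := h2.add_left ((h1 2 (by omega) k (by omega) (by omega)).neg (by omega))
    (by simp [e_dot_e_ne (show k ≠ 2 by omega)])
  simpa [s1, El] using h3

theorem famIII_aux (h2 : (2 : F) = 0) {k : ℕ} (hk : k + 1 = n) (h1 : 1 ≤ k)
    {M : Matrix (Fin n) (Fin n) F} (hd : M.det = 1) {ρ η : Fin n → F} (r1 : ρ ⬝ᵥ e n F 1 = 0)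
    (Mj : ∀ j < k, Cm n F *ᵥ M *ᵥ e n F j = M *ᵥ e n F (j + 1) + (ρ ⬝ᵥ e n F (j + 1)) • M *ᵥ e n F 1)
    (d0 : ∀ j < n, e n F 0 ⬝ᵥ M *ᵥ e n F j = e n F 0 ⬝ᵥ e n F j) (dk : e n F k ⬝ᵥ M *ᵥ e n F k = 1)
    (hη : ∀ j < n, η ⬝ᵥ M *ᵥ e n F j = ρ ⬝ᵥ e n F j)
    (hμ : η ⬝ᵥ Cm n F *ᵥ M *ᵥ e n F k - ρ ⬝ᵥ lastCol n F = 1)
    (v : SpecialLinearGroup (Fin n) F) (hv : M * v.1 = Cm n F * M) (H : Subgroup _) (hC : Cs n F ∈ H)
    (hvH : v ∈ H) : All H 1 := by
  have hA := act_of_conj (hd ▸ one_ne_zero) hv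
  have hs : (Cs n F)⁻¹ * v ∈ H := H.mul_mem (H.inv_mem hC) hvH
  generalize (Cs n F)⁻¹ * v = s at *
  have sj : ∀ j < k, s.1 *ᵥ e n F j = e n F j + (ρ ⬝ᵥ e n F (j + 1)) • e n F 0 := fun j hj =>
    (hA _).2 _ (by rw [Mj j hj, mulVec_add, mulVec_smul, Cm_e (by omega), Cm_e (by omega), mulVec_add,
      mulVec_smul])
  have s0 : s.1 *ᵥ e n F 0 = e n F 0 := by rw [sj 0 h1, zero_add, r1, zero_smul, add_zero]
  have hy := (hA (e n F k)).1
  set y := s.1 *ᵥ e n F k with hy'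
  have y1 : e n F k ⬝ᵥ y = 1 := by
    have := congrArg (e n F 0 ⬝ᵥ ·) hy
    simp only [dot_ext d0, dot0' hk, dk] at this
    exact mul_left_cancel₀ cc_zero_ne this
  have hx := mulVec_ext (A := s.1) (T := LinearMap.id +
    (dotProductBilin F F (ρ ᵥ* Cm n F)).smulRight (e n F 0) + (dotProductBilin F F (e n F k)).smulRight
      (y - e n F k - (ρ ⬝ᵥ lastCol n F) • e n F 0)) (fun j hj => by
    rcases (show j < k ∨ j = k by omega) with h | rfl
    · simp [sj j h, ← dotProduct_mulVec, Cm_e (show j + 1 < n by omega), e_dot_e_ne h.ne']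
    · simp [← hy', ← dotProduct_mulVec, Cm_last hk, e_dot_e_self hj]) y
  refine all_one hC hk h1 (el_of_act hk (H.mul_mem hs hs) (fun j hj => ?_) ?_)
  · rw [mul_mulVec, sj j hj, mulVec_add, mulVec_smul, sj j hj, s0]
    linear_combination (norm := module) (ρ ⬝ᵥ e n F (j + 1) * h2) • e n F 0
  · rw [mul_mulVec, ← hy', hx]
    simp only [LinearMap.add_apply, LinearMap.id_apply, LinearMap.smulRight_apply, y1,
      dotProductBilin_apply_apply, ← dotProduct_mulVec, ← dot_ext hη (Cm n F *ᵥ y), hy]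
    linear_combination (norm := module) hμ • e n F 0 + h2 • (y - e n F k)

theorem famIII_aux2 (h2 : (2 : F) = 0) {k : ℕ} (hk : k + 1 = n) (h3 : 3 ≤ k) {κ ε : F}
    (hκ : κ * κ = κ) (hε : k = 3 → ε = 0)
    (hμ : κ * (1 ⬝ᵥ lastCol n F - cc n F 0 - cc n F 1 - cc n F 2 - 1) -
      ε * (κ + if k = 4 then ε else 0) = 1) : ∃ M : Matrix (Fin n) (Fin n) F, M.det = 1 ∧
    ∀ v : SpecialLinearGroup (Fin n) F, M * v.1 = Cm n F * M → ∀ H : Subgroup _, Cs n F ∈ H → v ∈ H →
      All H 1 := by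
  let M : Matrix (Fin n) (Fin n) F := ofCols fun j => e n F j - (if 2 ≤ j then κ else 0) • e n F (j - 1) -
    (if k ≤ j + 1 then ε else 0) • e n F (j + 2 - k)
  have hM : ∀ j < n, M *ᵥ e n F j = e n F j - (if 2 ≤ j then κ else 0) • e n F (j - 1) -
    (if k ≤ j + 1 then ε else 0) • e n F (j + 2 - k) := fun j hj => ofCols_e _ hj
  have one_e : ∀ j < n, (1 : Fin n → F) ⬝ᵥ e n F j = 1 := fun j hj => by
    rw [dotProduct_comm, e_dot hj]; rfl
  have hd : M.det = 1 := by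
    rw [det_upper, Finset.prod_eq_one]
    · intro c _
      simp only [dotProduct_sub, dotProduct_smul, e_dot_e c.2, smul_eq_mul]
      split_ifs <;> first | omega | simp
    · intro j hj i hi
      rw [dotProduct_sub, dotProduct_sub, dotProduct_smul, dotProduct_smul, e_dot_e_ne hi.ne',
        e_dot_e_ne (by omega : i ≠ j - 1)]
      split_ifs <;> simp [e_dot_e_ne (by omega : i ≠ j + 2 - k)]
  have n0 : 0 < n := by omega
  have n1 : 1 < n := by omega
  have n2 : 2 < n := by omega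
  have nk : k - 1 < n := by omega
  have M1 : M *ᵥ e n F 1 = e n F 1 := by rw [hM 1 n1, if_neg (by omega), if_neg (by omega)]; simp
  have Mk : M *ᵥ e n F k = e n F k - κ • e n F (k - 1) - ε • e n F 2 := by
    rw [hM k (by omega), if_pos (by omega), if_pos (by omega), show k + 2 - k = 2 by omega]
  have ηe : ∀ i < n, (κ • (1 - e n F 0 - e n F 1) + ε • e n F (k - 1)) ⬝ᵥ e n F i =
      (if 2 ≤ i then κ else 0) + if k - 1 = i then ε else 0 := fun i hi => by
    simp only [add_dotProduct, smul_dotProduct, sub_dotProduct, e_dot_e n0, e_dot_e n1, e_dot_e nk,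
      smul_eq_mul, one_e i hi]
    split_ifs <;> first | omega | simp
  clear_value M
  refine ⟨M, hd, famIII_aux h2 hk (by omega) hd (ρ := κ • e n F 2 + ε • e n F (k - 1))
    (η := κ • (1 - e n F 0 - e n F 1) + ε • e n F (k - 1))
    (by simp [e_dot_e_ne, e_dot_e_ne (show k - 1 ≠ 1 by omega)]) (fun j hj => ?_) (fun j hj => ?_) ?_
    (fun j hj => ?_) ?_⟩
  · rw [M1, hM j (by omega), hM (j + 1) (by omega), mulVec_sub, mulVec_sub, mulVec_smul, mulVec_smul,
      Cm_e (by omega), Cm_e (by omega), Cm_e (by omega)]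
    simp only [add_dotProduct, smul_dotProduct, e_dot_e n2, e_dot_e nk, smul_eq_mul, Nat.add_sub_cancel]
    rcases (show j = 0 ∨ j = 1 ∨ (2 ≤ j ∧ j + 2 < k) ∨ (2 ≤ j ∧ j + 2 = k) ∨ (2 ≤ j ∧ j + 1 = k) by omega)
      with rfl | rfl | h | ⟨h, rfl⟩ | ⟨h, rfl⟩
    · split_ifs <;> first | omega | simp
    · split_ifs with h1 h2 h3 h4 h5 h6 <;> try omega
      · rw [hε (by omega)]; simp
      · simp
    · rw [show j - 1 + 1 = j by omega]
      split_ifs <;> first | omega | simp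
    · rw [show j - 1 + 1 = j by omega, show j + 1 + 2 - (j + 2) = 1 by omega]
      split_ifs <;> first | omega | simp
    · rw [show j - 1 + 1 = j by omega, show j + 1 + 2 - (j + 1) = 2 by omega,
        show j + 2 - (j + 1) + 1 = 2 by omega]
      split_ifs <;> first | omega | simp
  · simp only [hM j hj, dotProduct_sub, dotProduct_smul, e_dot_e n0, smul_eq_mul]
    split_ifs <;> first | omega | simp
  · simp [Mk, e_dot_e_self (show k < n by omega), e_dot_e_ne (show k ≠ k - 1 by omega),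
      e_dot_e_ne (show k ≠ 2 by omega)]
  · rw [hM j hj, dotProduct_sub, dotProduct_sub, dotProduct_smul, dotProduct_smul, ηe j hj,
      ηe _ (by omega), ηe _ (by omega), add_dotProduct, smul_dotProduct, smul_dotProduct, e_dot_e n2,
      e_dot_e nk]
    simp only [smul_eq_mul]
    rcases (show j ≤ 1 ∨ j = 2 ∨ (3 ≤ j ∧ j + 1 < k) ∨ (3 ≤ j ∧ j + 1 = k) ∨ j = k by omega)
      with h | rfl | h | h | rfl
    · rw [if_neg (by omega), if_neg (by omega), if_neg (by omega : ¬ k ≤ j + 1), if_neg (by omega : ¬ 2 = j),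
        if_neg (by omega : ¬ k - 1 = j)]
      simp
    · rw [if_neg (by omega : ¬ 2 ≤ 2 - 1), if_neg (by omega : ¬ k - 1 = 2 - 1),
        if_neg (by omega : ¬ 2 ≤ 2 + 2 - k), if_neg (by omega : ¬ k - 1 = 2 + 2 - k)]
      simp
    · rw [if_pos (by omega), if_neg (by omega), if_pos (by omega), if_neg (by omega), if_neg (by omega),
        if_neg (by omega : ¬ 2 = j), if_neg (by omega : ¬ k - 1 = j)]
      linear_combination -hκ
    · rw [if_pos (by omega), if_pos (by omega), if_pos (by omega), if_neg (by omega), if_pos (by omega),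
        if_neg (by omega), if_neg (by omega), if_neg (by omega), if_pos (by omega)]
      linear_combination -hκ
    · rw [if_pos (by omega), if_neg (by omega), if_pos (by omega), if_pos rfl, if_pos (by omega),
        if_pos (by omega), if_neg (by omega : ¬ 2 = j), if_neg (by omega : ¬ j - 1 = j)]
      split_ifs
      · have := hε (by omega)
        subst this; linear_combination -hκ
      · linear_combination -hκ - κ * ε * h2
  · rw [Mk, mulVec_sub, mulVec_sub, mulVec_smul, mulVec_smul, Cm_last hk, Cm_e (by omega),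
      Cm_e (by omega), show k - 1 + 1 = k by omega, dotProduct_sub, dotProduct_sub, dotProduct_smul,
      dotProduct_smul, ηe _ (by omega), ηe _ (by omega), if_pos (by omega), if_neg (by omega),
      if_pos (by omega)]
    simp only [add_dotProduct, smul_dotProduct, sub_dotProduct, smul_eq_mul, e_dot_lastCol n0,
      e_dot_lastCol n1, e_dot_lastCol n2]
    split_ifs at hμ ⊢ <;> first | omega | linear_combination hμ - hκ

theorem famIII (h2 : (2 : F) = 0) (hn : 4 ≤ n) : ∃ M : Matrix (Fin n) (Fin n) F, M.det = 1 ∧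
    ∀ v : SpecialLinearGroup (Fin n) F, M * v.1 = Cm n F * M → ∀ H : Subgroup _, Cs n F ∈ H → v ∈ H →
      All H 1 := by
  obtain ⟨k, hk⟩ : ∃ k, k + 1 = n := ⟨n - 1, by omega⟩
  rcases (show k = 3 ∨ k = 4 ∨ 5 ≤ k by omega) with rfl | rfl | h
  · subst hk
    refine famIII_aux2 h2 rfl le_rfl (κ := 1) (ε := 0) (by simp) (fun _ => rfl) ?_
    have : cc 4 F 3 = 4 := by
      rw [cc, show (Polynomial.X - 1 : Polynomial F) ^ 4 = Polynomial.X ^ 4 - Polynomial.C 4 *
        Polynomial.X ^ 3 + Polynomial.C 6 * Polynomial.X ^ 2 - Polynomial.C 4 * Polynomial.X + 1 by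
          simp only [map_ofNat]; ring]
      simp [Polynomial.coeff_one]
    have e : (1 : Fin 4 → F) ⬝ᵥ lastCol 4 F = cc 4 F 0 + cc 4 F 1 + cc 4 F 2 + cc 4 F 3 := by
      simp [dotProduct, lastCol, Fin.sum_univ_four]
    change _ * ((1 : Fin 4 → F) ⬝ᵥ lastCol 4 F - cc 4 F 0 - cc 4 F 1 - cc 4 F 2 - _) - _ = _
    rw [e, this]
    linear_combination h2
  · exact famIII_aux2 h2 hk (by omega) (κ := 0) (ε := 1) (by simp) (by omega)
      (by simp; linear_combination -h2)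
  · exact famIII_aux2 h2 hk (by omega) (κ := 1)
      (ε := 1 ⬝ᵥ lastCol n F - cc n F 0 - cc n F 1 - cc n F 2 - 2) (by simp) (by omega)
      (by rw [if_neg (by omega)]; ring)

theorem fam [Finite F] (hn : 4 ≤ n) : ∃ g : SpecialLinearGroup (Fin n) F,
    ∀ H : Subgroup _, Cs n F ∈ H → g * Cs n F * g⁻¹ ∈ H → All H 1 := by
  obtain ⟨M, hM, h⟩ : ∃ M : Matrix (Fin n) (Fin n) F, M.det = 1 ∧
      ∀ v : SpecialLinearGroup (Fin n) F, M * v.1 = Cm n F * M → ∀ H : Subgroup _, Cs n F ∈ H →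
        v ∈ H → All H 1 := by
    by_cases h2 : (2 : F) = 0
    exacts [famIII h2 hn, famI h2 hn]
  obtain ⟨g, rfl⟩ : ∃ g : SpecialLinearGroup (Fin n) F, g.1 = M := ⟨⟨M, hM⟩, rfl⟩
  have : g * (g⁻¹ * Cs n F * g⁻¹⁻¹) = Cs n F * g := by group
  exact ⟨g⁻¹, h _ (congrArg Subtype.val this)⟩

end CA.SLReg
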