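/-
Bounded presentations of `Sp_{2n}(q)`, `n ≥ 3`, from those of `SL_n(q)`, `SL₂(q)` and the relations of `Sp₄(q)`.
-/
import Cfsg.Agent.Lib.Lin.H25Pr1
import Cfsg.Agent.Lib.Lin.H13Pr3
import Cfsg.Agent.S2278
import Cfsg.Agent.S2279
import Cfsg.Agent.S0246

set_option autoImplicit false

namespace CA.H25Pr

open Matrix Subgroup Monoid Function CA.Prs
open scoped MatrixGroups commutatorElement

theorem pres_am {N N' G : Type*} [Group N] [Group N'] [Group G] {d r d' r' : ℕ} (hN : Pres d r N) (hN' : Pres d' r' N')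
    (π : N →* G) (π' : N' →* G) (W : List (Coprod N N')) (hW : ∀ w ∈ W, Coprod.lift π π' w = 1)
    (hs : Surjective (Coprod.lift π π')) (UP : ∀ (J : Type) [Group J] (ψ : N →* J) (ψ' : N' →* J),
      (∀ w ∈ W, Coprod.lift ψ ψ' w = 1) → ∃ σ : G →* J, σ.comp π = ψ ∧ σ.comp π' = ψ') :
    Pres (d + d') (r + (r' + W.length)) G := by
  obtain ⟨R, hR, ⟨e⟩⟩ := hN'
  let φ : FreeGroup (Fin d') →* N' := e.toMonoidHom.comp (PresentedGroup.mk _)
  have φs : Surjective φ := e.surjective.comp (PresentedGroup.mk_surjective _)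
  have Φs : Surjective (Coprod.map (MonoidHom.id N) φ) := fun w => by
    induction w using Coprod.induction_on with
    | inl n => exact ⟨Coprod.inl n, rfl⟩
    | inr g => obtain ⟨g, rfl⟩ := φs g; exact ⟨Coprod.inr g, rfl⟩
    | mul a b ha hb => obtain ⟨a, rfl⟩ := ha; obtain ⟨b, rfl⟩ := hb; exact ⟨a * b, map_mul _ _ _⟩
  choose l hl using Φs
  have a1 : ∀ {J : Type _} [Group J] (ψ : N →* J) (ψ' : N' →* J), Coprod.lift ψ (FreeGroup.lift fun i => ψ' (φ (.of i))) =
      (Coprod.lift ψ ψ').comp (Coprod.map (MonoidHom.id N) φ) := fun ψ ψ' => by ext <;> simp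
  have a2 : ∀ {J : Type} [Group J] (ψ : N →* J) (ψ' : N' →* J), Coprod.lift ψ (FreeGroup.lift fun i => ψ' (φ (.of i))) =
      (Coprod.lift ψ ψ').comp (Coprod.map (MonoidHom.id N) φ) := fun ψ ψ' => by ext <;> simp
  refine (hN.ext π (fun i => π' (φ (.of i))) (R.toList.map Coprod.inr ++ W.map l) (fun w hw => ?_) ?_
    fun J _ ψ ξ h => ?_).mono (by simpa using hR)
  · rw [a1]
    rcases List.mem_append.1 hw with h | h <;> obtain ⟨w, hw', rfl⟩ := List.mem_map.1 h
    · have : φ w = 1 := (congrArg e (PresentedGroup.one_of_mem (Finset.mem_coe.2 (Finset.mem_toList.1 hw')))).trans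
        (map_one e)
      simp [this]
    · rw [MonoidHom.comp_apply, hl, hW w hw']
  · rw [Subgroup.closure_union, ← MonoidHom.coe_range, closure_eq, ← FreeGroup.range_lift_eq_closure, ← Coprod.range_lift,
      MonoidHom.range_eq_top, a1]
    exact fun g => let ⟨w, h⟩ := hs g; ⟨l w, by rw [MonoidHom.comp_apply, hl, h]⟩
  · let ψ' : N' →* J := (PresentedGroup.toGroup (f := ξ) fun g hg => by
      simpa using h _ (List.mem_append_left _ (List.mem_map_of_mem (Finset.mem_toList.2 hg)))).comp e.symm.toMonoidHom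
    have a3 : ∀ i, ψ' (φ (.of i)) = ξ i := fun i => by
      simp only [ψ', φ, MonoidHom.comp_apply, MulEquiv.coe_toMonoidHom, MulEquiv.symm_apply_apply]
      exact PresentedGroup.toGroup.of _
    obtain ⟨σ, s1, s2⟩ := UP J ψ ψ' fun w hw => by
      have := h _ (List.mem_append_right _ (List.mem_map_of_mem hw))
      rwa [← funext a3, a2, MonoidHom.comp_apply, hl] at this
    exact ⟨σ, s1, fun i => (DFunLike.congr_fun s2 _).trans (a3 i)⟩

theorem comm_of_gen {A C J : Type*} [Group A] [Group C] [Group J] {S : Set A} {T : Set C} (hS : closure S = ⊤)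
    (hT : closure T = ⊤) (f : A →* J) (g : C →* J) (h : ∀ a ∈ S, ∀ c ∈ T, Commute (f a) (g c)) (a : A) (c : C) :
    Commute (f a) (g c) := by
  have h1 : ∀ a ∈ S, Commute (f a) (g c) := fun a ha => mem_centralizer_singleton_iff.1
    ((hT.ge.trans ((closure_le ((centralizer {f a}).comap g)).2 fun c hc =>
      mem_centralizer_singleton_iff.2 (h a ha c hc).symm)) (mem_top c)) |>.symm
  exact mem_centralizer_singleton_iff.1 ((hS.ge.trans ((closure_le ((centralizer {g c}).comap f)).2 fun a ha =>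
    mem_centralizer_singleton_iff.2 (h1 a ha))) (mem_top a))

variable {F : Type*} [Field F]

theorem sl_two [Finite F] {n : ℕ} (hn : 2 ≤ n) :
    ∃ a b : SpecialLinearGroup (Fin n) F, closure ({a, b} : Set _) = ⊤ := by
  have := Fintype.ofFinite F
  obtain rfl | rfl | h : n = 2 ∨ n = 3 ∨ 4 ≤ n := by omega
  · obtain ⟨a, b, h⟩ := CA.H13Pr.pair (F := F)
    exact ⟨a, b, h _ (subset_closure (by simp)) (subset_closure (by simp))⟩
  · obtain ⟨u, g, -, -, h⟩ := Cfsg.Agent.S2278.result (F := F)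
    exact ⟨_, _, h⟩
  · obtain ⟨u, v, -, -, h⟩ := (Cfsg.Agent.S2279.result (F := F) n h).1
    exact ⟨_, _, h⟩

theorem lon_inj {ι : Type*} [Fintype ι] [DecidableEq ι] (i : ι) : Injective (lon (F := F) i) :=
  (injective_iff_map_eq_one _).2 fun _ h => Subtype.ext (ex_inj _ (congrArg Subtype.val h))

theorem ex_fix {ι κ : Type*} [Fintype ι] [DecidableEq ι] [Fintype κ] [DecidableEq κ] (f : κ ↪ ι) (A : Matrix κ κ F) {i : ι}
    (h : ∀ a, f a ≠ i) : ex f A *ᵥ Pi.single i 1 = Pi.single i 1 := by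
  have : (em F f)ᵀ *ᵥ Pi.single i 1 = 0 := by ext a; simp [em, (h a).symm]
  rw [ex_def, add_mulVec, ← mulVec_mulVec, this, mulVec_zero, add_zero, one_mulVec]

theorem lon_fix (g : SL(2, F)) : (lon (1 : Fin 2) g).1 *ᵥ Pi.single (.inl 0) 1 = Pi.single (.inl 0) 1 ∧
    (lon (1 : Fin 2) g).1 *ᵥ Pi.single (.inr 0) 1 = Pi.single (.inr 0) 1 := by
  constructor <;> exact ex_fix _ _ fun a => by fin_cases a <;> simp [hp0, hp1]

theorem sp4_gen [Finite F] : closure (Set.range (lev : SL(2, F) →* _) ∪ Set.range (lon (F := F) (1 : Fin 2))) = ⊤ := by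
  rw [Subgroup.closure_union, ← MonoidHom.coe_range, ← MonoidHom.coe_range, closure_eq, closure_eq, ← Coprod.range_lift,
    MonoidHom.range_eq_top]
  exact sp_gen le_rfl

variable (F) in
/-- the relations of `Sp₄` in terms of a short and a long `SL₂` -/
def Rel4 (w : ℕ) : Prop := ∃ W : List (Coprod SL(2, F) SL(2, F)), W.length ≤ w ∧
  (∀ w ∈ W, Coprod.lift lev (lon (1 : Fin 2)) w = 1) ∧ ∀ (J : Type) [Group J] (ψ lam : SL(2, F) →* J),
    (∀ w ∈ W, Coprod.lift ψ lam w = 1) → ∃ Φ : symplecticGroup (Fin 2) F →* J, Φ.comp lev = ψ ∧ Φ.comp (lon 1) = lam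

theorem pres_sp [Finite F] {n d r w : ℕ} (hn : 3 ≤ n) (h : Pres d r (SpecialLinearGroup (Fin n) F)) (h4 : Rel4 F w) :
    Pres (d + 3) (r + 12 + w) (symplecticGroup (Fin n) F) := by
  obtain ⟨n, rfl⟩ : ∃ m, n = m + 2 := ⟨n - 2, by omega⟩
  obtain ⟨W, h1, h2, h3⟩ := h4
  obtain ⟨a, b, hab⟩ := sl_two (F := F) (n := n + 1) (by omega)
  obtain ⟨c, d, hcd⟩ := sl_two (F := F) (n := 2) le_rfl
  let cm : SpecialLinearGroup (Fin (n + 1)) F → SL(2, F) → Coprod (SpecialLinearGroup (Fin (n + 2)) F) SL(2, F) :=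
    fun x y => ⁅(Coprod.inl (blk Fin.castSuccEmb x) : Coprod (SpecialLinearGroup (Fin (n + 2)) F) SL(2, F)), Coprod.inr y⁆
  let m := Coprod.map (blk (F := F) (Fin.natAddEmb n : Fin 2 ↪ Fin (n + 2))) (MonoidHom.id SL(2, F))
  have hd : ∀ a : Fin (n + 1), Fin.castSuccEmb a ≠ Fin.last _ := fun a => (Fin.castSucc_lt_last a).ne
  refine (pres_am h pres_sl2.1 lev (lon (Fin.last _)) ([cm a c, cm a d, cm b c, cm b d] ++ W.map m) (fun w hw => ?_)
    (sp_gen (by omega)) fun J _ ψ lam hw => ?_).mono (by simp; omega)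
  · have : ∀ x y, Coprod.lift lev (lon (Fin.last _)) (cm x y) = 1 := fun x y => by
      simpa [cm, map_commutatorElement] using (lev_lon_comm hd x y).commutator_eq
    rcases List.mem_append.1 hw with h | h
    · simp only [List.mem_cons, List.not_mem_nil, or_false] at h
      rcases h with rfl | rfl | rfl | rfl <;> exact this _ _
    obtain ⟨w, hw', rfl⟩ := List.mem_map.1 h
    have : (Coprod.lift lev (lon (Fin.last _))).comp m = (spb (Fin.natAddEmb n)).comp (Coprod.lift lev (lon 1)) :=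
      Coprod.hom_ext (spb_lev _).symm (spb_lon (Fin.natAddEmb n) (1 : Fin 2)).symm
    exact (DFunLike.congr_fun this w).trans (by rw [MonoidHom.comp_apply, h2 w hw', map_one])
  · obtain ⟨Φ, a1, a2⟩ := h3 J (ψ.comp (blk (Fin.natAddEmb n))) lam fun w h => by
      rw [show Coprod.lift (ψ.comp (blk (Fin.natAddEmb n))) lam = (Coprod.lift ψ lam).comp m from Coprod.hom_ext rfl rfl]
      exact hw _ (List.mem_append_right _ (List.mem_map_of_mem h))
    have : ∀ x y, cm x y ∈ [cm a c, cm a d, cm b c, cm b d] → Commute (ψ (blk Fin.castSuccEmb x)) (lam y) :=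
      fun x y h => commutatorElement_eq_one_iff_commute.1 (by
        simpa [cm, map_commutatorElement] using hw _ (List.mem_append_left _ h))
    refine sp_up (by omega) ψ lam (comm_of_gen hab hcd (ψ.comp (blk Fin.castSuccEmb)) lam ?_) Φ a1 a2
    rintro _ (rfl | rfl) _ (rfl | rfl) <;> exact this _ _ (by simp)

theorem pres_psp [Fintype F] {n d r : ℕ} (hn : 1 ≤ n) (h : Pres d r (symplecticGroup (Fin n) F)) :
    Pres d (r + 1) (symplecticGroup (Fin n) F ⧸ center _) := by
  have : IsCyclic (center (symplecticGroup (Fin n) F)) := isCyclic_of_card_dvd_prime (p := 2)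
    (Cfsg.Agent.S0246.result (F := F) rfl n hn ▸ Nat.gcd_dvd_left _ _)
  exact h.quot_cyc _

end CA.H25Pr
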