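/-
Bounded presentations of `Sp_{2n}(q)` and `PSp_{2n}(q)` in terms of those of `SL_n(q)`.
-/
import Cfsg.Agent.Lib.Lin.H25Pr2
import Cfsg.Agent.Lib.Lin.PrsSp2

set_option autoImplicit false

namespace CA.H25Pr

open Matrix Subgroup CA.Prs

variable {F : Type*} [Field F] [Fintype F]

theorem rel4 : Rel4 F 14 := sp4_W lev (lon 1) (lon_inj 1) lon_fix sp4_gen

theorem pres_both {n d r d' r' : ℕ} (hn : 3 ≤ n) (h : Pres d r (SpecialLinearGroup (Fin n) F)) (h1 : d + 3 ≤ d')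
    (h2 : r + 23 + d' ≤ r' + d) :
    Pres d' r' (symplecticGroup (Fin n) F) ∧ Pres d' (r' + 1) (symplecticGroup (Fin n) F ⧸ center _) :=
  have := (pres_sp hn h rel4).le h1 (by omega)
  ⟨this, pres_psp (by omega) this⟩

end CA.H25Pr
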