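import Cfsg.Agent.Lib.Lin.Phan0
import Cfsg.Agent.Lib.Lin.AutPSL
import Cfsg.Agent.Lib.Lin.QuadExt
import Cfsg.Agent.Lib.Lin.SLnGen
import Mathlib.FieldTheory.Finite.Extension

/-! Uniqueness of the amalgam of a weak Phan system of unitary type. -/

set_option autoImplicit false

namespace CA.PhanA

open Matrix Cfsg CA.Phan CA.CForm Subgroup
open scoped MatrixGroups commutatorElement

variable {K F : Type*} [Field K] [Field F] {q n : ℕ}

theorem eq_of_center {G H : Type*} [Group G] [Group H] {f g : G →* H} (hG : commutator G = ⊤)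
    (h : ∀ x, (f x)⁻¹ * g x ∈ center H) : f = g := by
  refine MonoidHom.eq_of_eqOn_top fun x _ => (show commutator G ≤ f.eqLocus g from commutator_le.2 fun a _ b _ => ?_)
    (hG.ge trivial)
  have e : ∀ x, g x = f x * ((f x)⁻¹ * g x) := fun x => by group
  change f _ = g _
  rw [map_commutatorElement, map_commutatorElement, e a, e b]
  have k : ∀ y ∈ center H, ∀ a w : H, ⁅a * y, w⁆ = ⁅a, w⁆ := fun y h a w => by
    simp only [commutatorElement_def, _root_.mul_inv_rev, mul_assoc]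
    rw [← mul_assoc y w, ← mem_center_iff.1 h w, mul_assoc, mul_inv_cancel_left]
  rw [k _ (h a), ← commutatorElement_inv (f b * _), k _ (h b), commutatorElement_inv]

theorem ex3 {X : Type*} [Finite X] (h : 3 < Nat.card X) (a b c : X) : ∃ x, x ≠ a ∧ x ≠ b ∧ x ≠ c := by
  classical
  have := Fintype.ofFinite X
  obtain ⟨x, -, hx⟩ := Finset.exists_mem_notMem_of_card_lt_card (s := {a, b, c}) (t := Finset.univ)
    (Finset.card_le_three.trans_lt (by simpa using h))
  exact ⟨x, by simpa [not_or] using hx⟩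

theorem aut_up [Finite F] [Finite K] (i : K →+* F) (σ : RingAut K) : ∃ s : RingAut F, ∀ a, s (i a) = i (σ a) := by
  haveI := Fact.mk (CharP.char_is_prime F (ringChar F))
  haveI := (RingHom.charP_iff_charP i (ringChar F)).mpr inferInstance
  letI := ZMod.algebra K (ringChar F)
  obtain ⟨n, hn⟩ : ∃ n, ∀ x, σ x = x ^ ringChar F ^ n := by
    simpa using! FiniteField.exists_forall_apply_eq_pow (ZMod (ringChar F)) (ringChar F) K (AutFld.ringAutEquiv _ σ)
  exact ⟨iterateFrobeniusEquiv F (ringChar F) n, fun a => by rw [hn, map_pow]; rfl⟩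

/-- semilinear conjugation -/
noncomputable def cm (B : Matrix (Fin n) (Fin n) F) (hB : B.det ≠ 0) (σ : K →+* F) : SL(n, K) →* SL(n, F) :=
  MonoidHom.mk' (fun g => ⟨B * g.1.map σ * B⁻¹, by
    rw [det_mul, det_mul, mul_right_comm, ← det_mul, mul_nonsing_inv _ hB.isUnit, ← RingHom.mapMatrix_apply,
      ← RingHom.map_det, g.2]; simp⟩) fun g g' => Subtype.ext (by
    change B * (g.1 * g'.1).map σ * B⁻¹ = B * g.1.map σ * B⁻¹ * (B * g'.1.map σ * B⁻¹)
    simp only [Matrix.map_mul, Matrix.mul_assoc, nonsing_inv_mul_cancel_left _ _ hB.isUnit])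

theorem cm_mul {B : Matrix (Fin n) (Fin n) F} (hB : B.det ≠ 0) (σ : K →+* F) (g : SL(n, K)) :
    (cm B hB σ g).1 * B = B * g.1.map σ := nonsing_inv_mul_cancel_right _ _ hB.isUnit

theorem isU {B : Matrix (Fin n) (Fin n) F} (hB : B.det ≠ 0) : IsUnit B := (isUnit_iff_isUnit_det B).2 hB.isUnit

theorem autSL [Finite K] (h : ∃ a : K, a ≠ 0 ∧ a ^ 2 ≠ 1) (α : SL(2, K) ≃* SL(2, K)) :
    ∃ (m : Matrix (Fin 2) (Fin 2) K) (τ : RingAut K), m.det ≠ 0 ∧ ∀ s, (α s).1 * m = m * s.1.map τ := by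
  let β : MulAut PSL(2, K) := QuotientGroup.congr _ _ α
    ((characteristic_iff_map_eq.1 inferInstance) α)
  obtain ⟨⟨m, τ, ε⟩, e1, e2⟩ := CA.AutPSL.exists_Ph le_rfl β
  obtain rfl : ε = 1 := e2 rfl
  have hm : m.1.det ≠ 0 := m.det_ne_zero
  have : α.toMonoidHom = cm m.1 hm τ := eq_of_center (SLnGen.commutator_eq_top (.inr h)) fun s =>
    QuotientGroup.eq.1 ((CA.AutPSL.semilinear_iff m τ β).2 e1 s _ (by rw [coe_units_inv]; rfl))
  exact ⟨m, τ, hm, fun s => (by rw [← this]; rfl : _ = _).trans (cm_mul hm (τ : K →+* K) s)⟩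

variable [Fintype F] (hF : Fintype.card F = q ^ 2)

theorem memU {g : SL(n, F)} : g ∈ SU n F q ↔ g.1ᵀ.map (conj hF) * g.1 = 1 := by
  letI : StarRing F := { star := conj hF, star_involutive := conj_conj hF, star_add := map_add (conj hF), star_mul := fun a b =>
    (map_mul (conj hF) a b).trans (mul_comm _ _) }
  exact CA.QuadExt.mem_SU_iff fun _ => rfl

theorem mem2 {g : SL(2, F)} : g ∈ SU 2 F q ↔ g.1 1 1 = conj hF (g.1 0 0) ∧ g.1 1 0 = -conj hF (g.1 0 1) := by
  have d := (det_fin_two _).symm.trans g.2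
  rw [memU hF, ← Matrix.ext_iff]
  simp only [Fin.forall_fin_two, mul_apply, Fin.sum_univ_two, map_apply, transpose_apply, one_apply_eq, ne_eq,
    zero_ne_one, not_false_eq_true, one_apply_ne, one_ne_zero]
  constructor
  · rintro ⟨⟨h1, h2⟩, h3, h4⟩
    exact ⟨by linear_combination -g.1 1 1 * h1 + g.1 1 0 * h2 + conj hF (g.1 0 0) * d,
      by
        have : g.1 0 1 = -conj hF (g.1 1 0) := by linear_combination -g.1 0 1 * h1 + g.1 0 0 * h2 - conj hF (g.1 1 0) * d
        rw [this, map_neg, conj_conj, neg_neg]⟩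
  · rintro ⟨h1, h2⟩
    rw [h1, h2] at d ⊢
    simp only [map_neg, conj_conj]
    exact ⟨⟨by linear_combination d, by ring⟩, by ring, by linear_combination d⟩

theorem memw {g : SL(2, F)} : g ∈ SU 2 F q ↔ g.1.map (conj hF) * !![0, 1; -1, 0] = !![0, 1; -1, 0] * g.1 := by
  rw [mem2 hF, ← Matrix.ext_iff]
  simp only [Fin.forall_fin_two, mul_apply, Fin.sum_univ_two, map_apply]
  simp only [of_apply, cons_val', cons_val_zero, cons_val_one, cons_val_fin_one, mul_zero, mul_neg, mul_one, zero_add,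
    zero_mul, one_mul, add_zero, neg_mul, neg_inj]
  exact ⟨fun ⟨h1, h2⟩ => ⟨⟨h2.symm, h1.symm⟩, by rw [h1, conj_conj], by rw [h2, map_neg, conj_conj]⟩,
    fun h => ⟨h.1.2.symm, h.1.1.symm⟩⟩

include hF in
theorem autSU (hq : 3 < q) (α : SU 2 F q ≃* SU 2 F q) : ∃ (B : Matrix (Fin 2) (Fin 2) F) (σ : RingAut F), B.det ≠ 0 ∧
    ∀ g, (α g).1.1 * B = B * g.1.1.map σ := by
  let K := (conj hF).eqLocusField (RingHom.id F)
  obtain ⟨c, hc⟩ := exists_norm_eq (conj hF) (conj_conj hF) (conj_ne_id hF) (-1) (by simp)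
  obtain ⟨ω, hω⟩ : ∃ ω, conj hF ω ≠ ω := not_forall.1 fun h => conj_ne_id hF (RingHom.ext h)
  have c0 : c ≠ 0 := fun h => by simp [h] at hc
  obtain ⟨P, hP, eP⟩ : ∃ P : Matrix (Fin 2) (Fin 2) F, P.det ≠ 0 ∧ c • P.map (conj hF) = !![0, 1; -1, 0] * P :=
    ⟨!![1, ω; c, c * conj hF ω], by
      rw [det_fin_two_of, one_mul, mul_comm ω, ← mul_sub]; exact mul_ne_zero c0 (sub_ne_zero.2 hω), by
      ext i j
      fin_cases i <;> fin_cases j <;> simp [mul_apply, Fin.sum_univ_two, conj_conj, hc, ← mul_assoc]⟩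
  have hw : IsUnit (!![0, 1; -1, 0] * P) := isU (by rw [det_mul]; simp [hP])
  have key : ∀ (x : SL(2, F)) h, x.1 * P = P * h → (x ∈ SU 2 F q ↔ h.map (conj hF) = h) := fun x h e => by
    have e' := congrArg (fun M => c • M.map (conj hF)) e
    simp only [Matrix.map_mul] at e'
    rw [← Matrix.mul_smul, ← Matrix.smul_mul, eP, ← mul_assoc] at e'
    rw [memw hF, ← hw.mul_right_inj (b := h.map _), ← e', mul_assoc _ P, ← e, ← mul_assoc, (isU hP).mul_left_inj]
  let φ := (cm P hP K.subtype).codRestrict (SU 2 F q) fun s => (key _ _ (cm_mul hP _ s)).2 (by ext i j; exact (s.1 i j).2)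
  have hφ : ∀ s, (φ s).1.1 * P = P * s.1.map K.subtype := cm_mul hP _
  let φ' : SL(2, K) ≃* SU 2 F q := MulEquiv.ofBijective φ ⟨fun (s t : SL(2, K)) e => Subtype.ext (Matrix.map_injective K.subtype.injective
    ((isU hP).mul_right_inj.1 (by rw [← hφ, ← hφ, e]))), fun g => by
      have e : g.1.1 * P = P * (P⁻¹ * g.1.1 * P) := by
        rw [← mul_assoc, mul_nonsing_inv_cancel_left _ _ hP.isUnit]
      have e1 := (key _ _ e).1 g.2
      let s : Matrix (Fin 2) (Fin 2) K := of fun i j => ⟨(P⁻¹ * g.1.1 * P) i j, congrFun (congrFun e1 i) j⟩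
      have e2 : s.map K.subtype = P⁻¹ * g.1.1 * P := rfl
      refine ⟨⟨s, K.subtype.injective ?_⟩, Subtype.ext (Subtype.ext ((isU hP).mul_left_inj.1 ((hφ _).trans e.symm)))⟩
      rw [RingHom.map_det, RingHom.mapMatrix_apply, e2, det_mul, det_mul, g.1.2, mul_one, ← det_mul,
        nonsing_inv_mul _ hP.isUnit, det_one, map_one]⟩
  obtain ⟨m, τ, hm, e⟩ := autSL (K := K) (by
    obtain ⟨a, a1, a2, a3⟩ := ex3 (X := K) (hq.trans_eq (card_conj_fixed hF).symm) 0 1 (-1)
    exact ⟨a, a1, by simp [a2, a3]⟩) (φ'.trans (α.trans φ'.symm))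
  obtain ⟨σ, hσ⟩ := aut_up K.subtype τ
  have hP' : (P.map σ).det ≠ 0 := by
    rw [show P.map σ = (σ : F →+* F).mapMatrix P from rfl, ← RingHom.map_det]; simpa using hP
  have hm' : (m.map K.subtype).det ≠ 0 := by
    rw [← RingHom.mapMatrix_apply, ← RingHom.map_det]; simpa using hm
  refine ⟨P * m.map K.subtype * (P.map σ)⁻¹, σ, by
    rw [det_mul, det_mul]; exact mul_ne_zero (mul_ne_zero hP hm') (by simpa using hP'), fun g => ?_⟩
  obtain ⟨s, rfl⟩ := φ'.surjective g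
  have e1 := congrArg (·.map K.subtype) (e s)
  have e2 := hφ (φ'.symm (α (φ' s)))
  have e3 := congrArg (·.map (σ : F →+* F)) (hφ s)
  simp only [Matrix.map_mul] at e1 e3
  rw [show φ (φ'.symm (α (φ' s))) = α (φ' s) from φ'.apply_symm_apply _] at e2
  rw [← (isU hP').mul_left_inj, mul_assoc, nonsing_inv_mul_cancel_right _ _ hP'.isUnit, ← mul_assoc, e2, mul_assoc,
    mul_assoc, mul_assoc, mul_assoc]
  erw [e1, e3, nonsing_inv_mul_cancel_left _ _ hP'.isUnit]
  congr 2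
  ext i j
  exact (hσ _).symm

/-- diagonal elements -/
def dg {a : F} (ha : a * conj hF a = 1) : SU 2 F q :=
  ⟨⟨!![a, 0; 0, conj hF a], by simp [ha]⟩, (mem2 hF).2 ⟨rfl, by simp⟩⟩

/-- the Weyl element -/
def wy : SU 2 F q := ⟨⟨!![0, 1; -1, 0], by simp⟩, (mem2 hF).2 ⟨by simp, by simp⟩⟩

theorem mono {B Y Y' : Matrix (Fin 2) (Fin 2) F} {l m l' m' s : F} (hB : B.det ≠ 0) (hl : l ≠ m) (h1 : s ^ 2 ≠ 1) (h0 : s ≠ 0)
    (e : !![l, 0; 0, m] * B = B * Y) (e' : !![l', 0; 0, m'] * B = B * Y') (e'' : Y' * !![s, 0; 0, 1] = !![s, 0; 0, 1] * Y) :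
    B 0 1 = 0 ∧ B 1 0 = 0 ∨ B 0 0 = 0 ∧ B 1 1 = 0 := by
  rw [det_fin_two] at hB
  simp only [← Matrix.ext_iff, Fin.forall_fin_two, mul_apply, Fin.sum_univ_two, of_apply, cons_val', cons_val_zero,
    cons_val_one, cons_val_fin_one, mul_zero, zero_mul, add_zero, zero_add, mul_one, one_mul] at e e' e''
  obtain ⟨⟨a1, a2⟩, a3, a4⟩ := e
  obtain ⟨⟨b1, b2⟩, b3, b4⟩ := e'
  obtain ⟨⟨c1, c2⟩, c3, c4⟩ := e''
  generalize B 0 0 = x, B 0 1 = y, B 1 0 = z, B 1 1 = w at *
  have s1 : s - 1 ≠ 0 := sub_ne_zero.2 fun h => by simp [h] at h1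
  have k := sub_ne_zero.2 hl
  have h2 := sub_ne_zero.2 h1
  have y1 : Y 0 1 * (x * w - y * z) = y * w * (l - m) := by linear_combination y * a4 - w * a2
  have y2 : Y 1 0 * (x * w - y * z) = -x * z * (l - m) := by linear_combination z * a1 - x * a3
  have y3 : (Y 1 1 - Y 0 0) * (x * w - y * z) = -(x * w + y * z) * (l - m) := by
    linear_combination z * a2 - x * a4 + w * a1 - y * a3
  have q1 : Y 0 1 * (s * x) ^ 2 + (Y 1 1 - Y 0 0) * (s * x) * y - Y 1 0 * y ^ 2 = 0 := by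
    linear_combination s * y * b1 - s * x * b2 + x * y * c1 - s * x ^ 2 * c2 + y ^ 2 * c3 - s * x * y * c4
  have q2 : Y 0 1 * (s * z) ^ 2 + (Y 1 1 - Y 0 0) * (s * z) * w - Y 1 0 * w ^ 2 = 0 := by
    linear_combination s * w * b3 - s * z * b4 + z * w * c1 - s * z ^ 2 * c2 + w ^ 2 * c3 - s * z * w * c4
  have r1 : (l - m) * ((s - 1) * ((x * y) * (s * x * w - z * y))) = 0 := by
    linear_combination (x * w - y * z) * q1 - (s * x) ^ 2 * y1 - s * x * y * y3 + y ^ 2 * y2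
  have r2 : (l - m) * ((s - 1) * ((z * w) * (s * y * z - x * w))) = 0 := by
    linear_combination (x * w - y * z) * q2 - (s * z) ^ 2 * y1 - s * z * w * y3 + w ^ 2 * y2
  simp only [mul_eq_zero, k, s1, false_or] at r1 r2
  clear a1 a2 a3 a4 b1 b2 b3 b4 c1 c2 c3 c4 y1 y2 y3 q1 q2 k hl
  grind

theorem ne0 {a : F} (ha : a * conj hF a = 1) : a ≠ 0 := left_ne_zero_of_mul_eq_one ha

theorem cm_dg {d : Fin n → F} (hd : ∀ i, d i * conj hF (d i) = 1) (h) (σ : F →+* F) (g : SL(n, F)) (i j : Fin n) :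
    (cm (diagonal d) h σ g).1 i j = d i * σ (g.1 i j) * conj hF (d j) := by
  have := congrFun (congrFun (cm_mul h σ g) i) j
  rw [mul_diagonal, diagonal_mul, map_apply] at this
  rw [← this, mul_assoc, hd, mul_one]

theorem dne {d : Fin n → F} (hd : ∀ i, d i * conj hF (d i) = 1) : (diagonal d).det ≠ 0 := by
  rw [det_diagonal]; exact Finset.prod_ne_zero_iff.2 fun i _ => ne0 hF (hd i)

/-- diagonal and field automorphisms -/
noncomputable def dc (d : Fin n → F) (hd : ∀ i, d i * conj hF (d i) = 1) (σ : F →+* F) : SU n F q →* SU n F q :=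
  ((cm (diagonal d) (dne hF hd) σ).comp
    (SU n F q).subtype).codRestrict _ fun g => (memU hF).2 (by
      ext i j
      have := congrArg σ (congrFun (congrFun ((memU hF).1 g.2) i) j)
      simp only [mul_apply, map_apply, transpose_apply, map_sum, map_mul] at this
      simp only [mul_apply, map_apply, transpose_apply, MonoidHom.comp_apply, cm_dg hF hd, map_mul, conj_conj]
      calc _ = d i * conj hF (d j) * ∑ k, σ (conj hF (g.1.1 k i)) * σ (g.1.1 k j) := by
            rw [Finset.mul_sum]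
            refine Finset.sum_congr rfl fun k _ => ?_
            rw [conj_apply hF (g.1.1 k i), map_pow, ← conj_apply hF]
            change conj hF (d k) * conj hF (σ (g.1.1 k i)) * d i * (d k * σ (g.1.1 k j) * conj hF (d j)) = _
            linear_combination d i * conj hF (d j) * conj hF (σ (g.1.1 k i)) * σ (g.1.1 k j) * hd k
        _ = _ := by
            rw [this]
            by_cases h : i = j
            · subst h; simp [hd]
            · simp [h])

theorem dc_val {d : Fin n → F} (hd : ∀ i, d i * conj hF (d i) = 1) (σ : F →+* F) (g : SU n F q) (i j : Fin n) :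
    (dc hF d hd σ g).1.1 i j = d i * σ (g.1.1 i j) * conj hF (d j) := cm_dg hF hd (dne hF hd) σ g.1 i j

theorem dc_surj {d : Fin n → F} (hd : ∀ i, d i * conj hF (d i) = 1) (σ : F →+* F) :
    Function.Surjective (dc hF d hd σ) := Finite.surjective_of_injective fun g h e => Subtype.ext (Subtype.ext (by
  ext i j
  have := congrArg (fun x : SU n F q => x.1.1 i j) e
  exact σ.injective (by simpa [dc_val, ne0 hF (hd i), ne0 hF (hd j)] using this)))

theorem h2 {c : F} (hc : c * conj hF c = 1) : ∀ i, ![c, 1] i * conj hF (![c, 1] i) = 1 := by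
  simp [Fin.forall_fin_two, hc]

theorem h3 {c : F} (hc : c * conj hF c = 1) : ∀ i, ![c, 1, 1] i * conj hF (![c, 1, 1] i) = 1 := fun i => by
  fin_cases i <;> simp [hc]

theorem diagAut (hq : 3 < q) (α : SU 2 F q ≃* SU 2 F q) (h : ∀ a (ha : a * conj hF a = 1) y, a ≠ 1 →
    (α y).1.1 0 1 = 0 → (α (dc hF _ (h2 hF ha) (RingHom.id F) y)).1.1 0 1 = 0) :
    ∃ (c : F) (hc : c * conj hF c = 1) (σ : F →+* F), ∀ g, α g = dc hF _ (h2 hF hc) σ g := by
  obtain ⟨B, σ, hB, e⟩ := autSU hF hq α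
  obtain ⟨⟨a, ha⟩, a1, a2, -⟩ := ex3 (X := {x : F // x ^ (q + 1) = 1})
    (by rw [card_norm_eq hF one_ne_zero (one_pow q)]; omega) ⟨1, one_pow _⟩
    ⟨-1, by rw [pow_succ, ← conj_apply hF]; simp⟩ ⟨1, one_pow _⟩
  rw [pow_succ', ← conj_apply hF] at ha
  simp only [ne_eq, Subtype.mk.injEq] at a1 a2
  have a3 : a ^ 2 ≠ 1 := by simp [a1, a2]
  obtain ⟨y, hy⟩ := α.surjective (dg hF ha)
  have h' := h a ha y a1 (by rw [hy]; rfl)
  have e1 := e y
  have e2 := e (dc hF _ (h2 hF ha) (RingHom.id F) y)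
  rw [hy] at e1
  rw [eta_fin_two (α _).1.1, ((mem2 hF).1 (α _).2).2, h', map_zero, neg_zero] at e2
  obtain ⟨B, σ, hB, e, b1, b2⟩ : ∃ (B : Matrix (Fin 2) (Fin 2) F) (σ : F →+* F), B.det ≠ 0 ∧
      (∀ g, (α g).1.1 * B = B * g.1.1.map σ) ∧ B 0 1 = 0 ∧ B 1 0 = 0 := by
    rcases mono (s := σ a) hB (fun e => a3 (by rw [sq, ← ha, ← e])) (by simpa [← map_pow] using a3)
      (by simpa using ne0 hF ha) e1 e2 (by
        ext i j
        fin_cases i <;> fin_cases j <;>
          simp [mul_apply, Fin.sum_univ_two, dc_val, mul_assoc, ← map_mul, mul_comm _ a, mul_left_comm a, ha])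
      with b | b
    · exact ⟨B, σ, hB, e, b⟩
    · refine ⟨B * !![0, 1; -1, 0], (σ : F →+* F).comp (conj hF), by rw [det_mul]; simp [hB], fun g => ?_,
        by simp [mul_apply, Fin.sum_univ_two, b]⟩
      obtain ⟨g1, g2⟩ := (mem2 hF).1 g.2
      rw [← mul_assoc, e, mul_assoc, mul_assoc]
      congr 1
      ext i j
      fin_cases i <;> fin_cases j <;> simp [mul_apply, Fin.sum_univ_two, g1, g2, conj_conj]
  rw [det_fin_two, b1, zero_mul, sub_zero, mul_ne_zero_iff] at hB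
  have e' : ∀ g i j, (α g).1.1 i j * B j j = B i i * σ (g.1.1 i j) := fun g i j => by
    have := congrFun (congrFun (e g) i) j
    fin_cases i <;> fin_cases j <;> simpa [mul_apply, Fin.sum_univ_two, b1, b2] using this
  have hc : B 0 0 / B 1 1 * conj hF (B 0 0 / B 1 1) = 1 := by
    have w1 := e' (wy hF) 0 1
    have w2 := e' (wy hF) 1 0
    rw [((mem2 hF).1 (α _).2).2] at w2
    rw [show B 0 0 / B 1 1 = (α (wy hF)).1.1 0 1 from (eq_div_of_mul_eq hB.2 (by simpa [wy] using w1)).symm]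
    generalize (α (wy hF)).1.1 0 1 = t at w1 w2 ⊢
    simp only [wy, of_apply, cons_val', cons_val_zero, cons_val_one, cons_val_fin_one, map_one, map_neg] at w1 w2
    exact mul_right_cancel₀ (mul_ne_zero hB.1 hB.2) (by linear_combination B 0 0 * conj hF t * w1 - B 0 0 * w2)
  refine ⟨_, hc, σ, fun g => Subtype.ext (Subtype.ext ?_)⟩
  have hc' : conj hF (B 0 0 / B 1 1) = B 1 1 / B 0 0 := by rw [eq_inv_of_mul_eq_one_right hc, inv_div]
  ext i j
  have := hB.1
  have := hB.2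
  refine mul_right_cancel₀ (show B j j ≠ 0 by fin_cases j <;> assumption) ?_
  rw [e', dc_val]
  fin_cases i <;> fin_cases j <;> simp [-map_div₀, hc'] <;> field_simp

variable {G : Type*} [Group G]

theorem eq_zero_or_one_of_eq_mul {x a : F} (h : x = x * a) : x = 0 ∨ a = 1 := by grind

theorem su_ext {x y : SU n F q} (h : ∀ i j, x.1.1 i j = y.1.1 i j) : x = y := Subtype.ext (Subtype.ext (Matrix.ext h))

theorem su_mul (x y : SU n F q) : (x * y).1.1 = x.1.1 * y.1.1 := rfl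

include hF in
theorem step (hq : 3 < q) {ρ π : SU 3 F q →* G} (hk : π.ker ≤ center _)
    (h1 : (ρ.comp (lo 2)).range = (π.comp (up 2)).range) (hi : Function.Injective (π.comp (up 2)))
    (hi' : Function.Injective (ρ.comp (lo 2))) (hc : ∀ x y, Commute (ρ (up 2 x)) (π (lo 2 y))) :
    ∃ ρ' : SU 3 F q →* G, ρ'.comp (up 2) = ρ.comp (lo 2) ∧ (ρ'.comp (lo 2)).range = (π.comp (lo 2)).range := by
  let α := (MonoidHom.ofInjective hi').trans ((MulEquiv.subgroupCongr h1).trans (MonoidHom.ofInjective hi).symm)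
  have hα : ∀ y, π (up 2 (α y)) = ρ (lo 2 y) := fun y =>
    congrArg Subtype.val ((MonoidHom.ofInjective hi).apply_symm_apply _)
  obtain ⟨c, hc', σ, e⟩ := diagAut hF hq α fun a ha y a1 h => by
    have ha' : conj hF a * conj hF (conj hF a) = 1 := by rw [conj_conj, mul_comm, ha]
    have e1 : lo 2 (dc hF _ (h2 hF ha) (RingHom.id F) y) = up 2 (dg hF ha') * lo 2 y * (up 2 (dg hF ha'))⁻¹ :=
      eq_mul_inv_of_mul_eq (su_ext fun i j => by
        fin_cases i <;> fin_cases j <;> simp [su_mul, up_two, lo_two, dg, dc_val, conj_conj, mul_assoc, mul_comm _ a, ha,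
          mul_left_comm a])
    have e2 := hα (dc hF _ (h2 hF ha) (RingHom.id F) y)
    rw [e1, map_mul, map_mul, map_inv, ← hα] at e2
    generalize α y = t, α (dc hF _ (h2 hF ha) (RingHom.id F) y) = t' at *
    obtain ⟨t1, t2⟩ := (mem2 hF).1 t.2
    have t3 : t.1.1 1 1 * conj hF (t.1.1 1 1) = 1 := by
      have := (det_fin_two _).symm.trans t.1.2
      rwa [h, zero_mul, sub_zero, mul_comm, ← conj_conj hF (t.1.1 0 0), ← t1] at this
    have e3 : up 2 t * lo 2 (wy hF) * (up 2 t)⁻¹ = lo 2 (dc hF _ (h2 hF t3) (RingHom.id F) (wy hF)) :=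
      mul_inv_eq_of_eq_mul (su_ext fun i j => by
        fin_cases i <;> fin_cases j <;> simp [su_mul, up_two, lo_two, wy, dc_val, h, t2, mul_comm _ (t.1.1 1 1), t3])
    generalize dc hF _ (h2 hF t3) (RingHom.id F) (wy hF) = z at e3
    have e4 : up 2 t' * lo 2 (wy hF) * (up 2 t')⁻¹ * (lo 2 z)⁻¹ ∈ center _ := hk (by
      have := congrArg π e3
      simp only [map_mul, map_inv] at this
      simp only [MonoidHom.mem_ker, map_mul, map_inv, e2, mul_inv_eq_one, _root_.mul_inv_rev, inv_inv, mul_assoc]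
      rw [← mul_assoc _ (π (lo 2 _)), (hc _ _).inv_left.eq, mul_assoc, inv_mul_cancel_left, ← mul_assoc (π _),
        ← mul_assoc (_ * _), this, ← mul_assoc, (hc _ _).eq, mul_assoc, mul_inv_cancel_left, mul_inv_cancel])
    obtain ⟨k, hk, e5⟩ : ∃ k ∈ center _, up 2 t' * lo 2 (wy hF) = k * lo 2 z * up 2 t' := ⟨_, e4, by group⟩
    have e6 := congrArg (fun x : SU 3 F q => x.1.1) (mem_center_iff.1 hk (lo 2 (dg hF ha)))
    have a2 : conj hF a ≠ 1 := fun h => a1 (by rw [← ha, h, mul_one])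
    have k3 := congrArg (fun x : SU 3 F q => x.1.1 0 2) e5
    simp only [su_mul, lo_two] at e6
    have k1 := congrFun (congrFun e6 0) 1
    have k2 := congrFun (congrFun e6 0) 2
    rw [mul_apply, mul_apply, Fin.sum_univ_three, Fin.sum_univ_three] at k1 k2
    replace k1 := (eq_zero_or_one_of_eq_mul (x := k.1.1 0 1) (by simpa [dg] using k1)).resolve_right a1
    replace k2 := (eq_zero_or_one_of_eq_mul (x := k.1.1 0 2) (by simpa [dg] using k2)).resolve_right a2
    simpa [su_mul, lo_two, up_two, wy, mul_apply, Fin.sum_univ_three, k1, k2] using k3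
  refine ⟨π.comp (dc hF _ (h3 hF hc') σ), MonoidHom.ext fun g => ?_, ?_⟩
  · refine (congrArg π (su_ext fun i j => ?_)).trans (hα g)
    fin_cases i <;> fin_cases j <;> simp [e, dc_val, up_two]
  · have h : ∀ i : Fin 2, (1 : Fin 2 → F) i * conj hF ((1 : Fin 2 → F) i) = 1 := by simp
    rw [show (π.comp (dc hF _ (h3 hF hc') σ)).comp (lo 2) = (π.comp (lo 2)).comp (dc hF _ h σ) from
      MonoidHom.ext fun g => congrArg π (su_ext fun i j => by
        fin_cases i <;> fin_cases j <;> simp [dc_val, lo_two, hc']), MonoidHom.range_comp,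
      MonoidHom.range_eq_top.2 (dc_surj hF h σ), ← MonoidHom.range_eq_map]

include hF in
theorem frames (hq : 3 < q) (n : ℕ) (U : ℕ → Subgroup G) (e : ∀ i < n, Nonempty (SU 2 F q ≃* U i))
    (h1 : ∀ i, i + 2 < n → ∀ x ∈ U i, ∀ y ∈ U (i + 2), x * y = y * x)
    (h2 : ∀ i, i + 1 < n → ∃ π : SU 3 F q →* G, π.ker ≤ center _ ∧ (π.comp (up 2)).range = U i ∧
      (π.comp (lo 2)).range = U (i + 1)) (hn : 2 ≤ n) : ∃ f : ℕ → (SU 2 F q →* G), (∀ i < n, (f i).range = U i) ∧
      ∀ i, i + 1 < n → ∃ π : SU 3 F q →* G, π.comp (up 2) = f i ∧ π.comp (lo 2) = f (i + 1) := by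
  have inj : ∀ i < n, ∀ f : SU 2 F q →* G, f.range = U i → Function.Injective f := fun i hi f h => by
    obtain ⟨e⟩ := e i hi
    have := ((Nat.bijective_iff_surjective_and_card f.rangeRestrict).2 ⟨f.rangeRestrict_surjective, by
      rw [h, Nat.card_congr e.toEquiv]⟩).1
    exact fun x y h => this (Subtype.ext h)
  have st : ∀ i (ρ : SU 3 F q →* G), i + 2 < n → (ρ.comp (up 2)).range = U i → (ρ.comp (lo 2)).range = U (i + 1) →
      ∃ ρ' : SU 3 F q →* G, ρ'.comp (up 2) = ρ.comp (lo 2) ∧ (ρ'.comp (lo 2)).range = U (i + 2) := fun i ρ h a b => by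
    obtain ⟨π, p1, p2, p3⟩ := h2 (i + 1) h
    exact p3 ▸ step hF hq p1 (b.trans p2.symm) (inj _ (by omega) _ p2) (inj _ (by omega) _ b) fun x y =>
      h1 i h _ (a.le ⟨x, rfl⟩) _ (p3.le ⟨y, rfl⟩)
  choose! nx n1 n2 using st
  obtain ⟨π, -, p2, p3⟩ := h2 0 hn
  let ρ : ℕ → (SU 3 F q →* G) := fun i => Nat.rec π nx i
  have Q : ∀ i, i + 1 < n → ((ρ i).comp (up 2)).range = U i ∧ ((ρ i).comp (lo 2)).range = U (i + 1) := fun i => by
    induction i with
    | zero => exact fun _ => ⟨p2, p3⟩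
    | succ i ih => exact fun h => have := ih (by omega); ⟨(congrArg _ (n1 i _ h this.1 this.2)).trans this.2,
        n2 i _ h this.1 this.2⟩
  refine ⟨fun i => Nat.casesOn i (π.comp (up 2)) fun i => (ρ i).comp (lo 2), fun i h => ?_, fun i h => ⟨ρ i, ?_, rfl⟩⟩
  · cases i
    exacts [p2, (Q _ h).2]
  · cases i
    exacts [rfl, have := Q _ (Nat.lt_of_succ_lt h); n1 _ _ h this.1 this.2]

theorem cover {V A B : Subgroup G} (hq : q ≠ 0) (h : IsStandardUnitaryPair V A B F q) : ∃ π : SU 3 F q →* G,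
    π.ker ≤ center _ ∧ (π.comp (up 2)).range = A ∧ (π.comp (lo 2)).range = B ∧ π.range = V := by
  rw [IsStandardUnitaryPair, suBlock_up hq, suBlock_lo hq] at h
  rcases h with ⟨ψ, a, b⟩ | ⟨ψ, a, b⟩ <;>
    refine ⟨_, fun x hx => ?_, (MonoidHom.range_comp ..).trans a, (MonoidHom.range_comp ..).trans b, ?_⟩
  · obtain rfl : x = 1 := ψ.map_eq_one_iff.1 (Subtype.ext hx)
    exact one_mem _
  · rw [MonoidHom.range_comp, MonoidHom.range_eq_top.2 ψ.surjective, ← MonoidHom.range_eq_map, range_subtype]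
  · exact (QuotientGroup.eq_one_iff x).1 (ψ.map_eq_one_iff.1 (Subtype.ext hx))
  · rw [MonoidHom.range_comp, MonoidHom.range_eq_top.2 (ψ.surjective.comp (QuotientGroup.mk'_surjective _)),
      ← MonoidHom.range_eq_map, range_subtype]

include hF in
theorem phan (hq : 3 < q) (univ : ∀ f : ℕ → (SU 2 F q →* G),
      (∀ i, i + 1 < n → ∃ π : SU 3 F q →* G, π.comp (up 2) = f i ∧ π.comp (lo 2) = f (i + 1)) →
      (∀ i j, i + 2 ≤ j → j < n → ∀ x y, Commute (f i x) (f j y)) → ∃ Φ : SU (n + 1) F q →* G,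
        ∀ i < n, (f i).range ≤ Φ.range) (gen3 : (up (F := F) (q := q) 2).range ⊔ (lo 2).range = ⊤) (hn : 2 ≤ n)
    (U : Fin n → Subgroup G) (e : ∀ i, SU 2 F q ≃* U i) (V : Fin n → Fin n → Subgroup G)
    (h1 : ∀ i j : Fin n, (i : ℕ) + 2 ≤ j → ∀ x ∈ U i, ∀ y ∈ U j, x * y = y * x)
    (h2 : ∀ i j : Fin n, (i : ℕ) + 1 = j → IsStandardUnitaryPair (V i j) (U i) (U j) F q)
    (hgen : (⨆ i, U i) ⊔ (⨆ (i : Fin n) (j : Fin n) (_ : (i : ℕ) + 1 = j), V i j) = ⊤) :
    ∃ f : SU (n + 1) F q →* G, Function.Surjective f := by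
  obtain ⟨f, f1, f2⟩ := frames hF hq n (fun i => if h : i < n then U ⟨i, h⟩ else ⊥)
    (fun i h => by rw [dif_pos h]; exact ⟨e _⟩)
    (fun i h => by rw [dif_pos h, dif_pos (by omega)]; exact h1 _ _ le_rfl)
    (fun i h => by
      obtain ⟨π, a, b, c, -⟩ := cover (by omega) (h2 ⟨i, by omega⟩ ⟨i + 1, h⟩ rfl)
      exact ⟨π, a, by rw [dif_pos (by omega), b], by rw [dif_pos h, c]⟩) hn
  replace f1 : ∀ i : Fin n, (f i).range = U i := fun i => (f1 i i.2).trans (dif_pos i.2)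
  obtain ⟨Φ, h⟩ := univ f f2 fun i j a b x y =>
    h1 ⟨i, by omega⟩ ⟨j, b⟩ a _ ((f1 ⟨i, _⟩).le ⟨x, rfl⟩) _ ((f1 ⟨j, b⟩).le ⟨y, rfl⟩)
  replace h : ∀ i, U i ≤ Φ.range := fun i => (f1 i).ge.trans (h i i.2)
  refine ⟨Φ, MonoidHom.range_eq_top.1 (top_unique (hgen.ge.trans (sup_le (iSup_le h)
    (iSup_le fun i => iSup_le fun j => iSup_le fun hij => ?_))))⟩
  obtain ⟨π, -, a, b, c⟩ := cover (by omega) (h2 i j hij)
  rw [← c, MonoidHom.range_eq_map, ← gen3, Subgroup.map_sup, ← MonoidHom.range_comp, ← MonoidHom.range_comp, a, b]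
  exact sup_le (h i) (h j)

end CA.PhanA
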