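import Cfsg.Agent.Lib.Lin.Phan2
import Cfsg.Agent.Lib.Lin.PhanA
import Cfsg.Agent.Lib.Lin.H25Pr2
import Cfsg.Agent.Lib.Lin.H29Pr3
import Cfsg.Agent.Lib.Lin.CFormSpU
import Cfsg.Agent.S0281
import Cfsg.Agent.S3377

/-! Bounded presentations of the special unitary groups from presentations of `SU₃(q)`, `q > 3`. -/

set_option autoImplicit false
set_option linter.unusedSectionVars false

namespace CA.H29Su

open Matrix Cfsg CA.Phan CA.PhanA CA.CForm CA.Prs Subgroup Equiv Equiv.Perm Monoid CA.H22Embed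
open scoped MatrixGroups commutatorElement

theorem alt_top {n : ℕ} (E : Subgroup (alternatingGroup (Fin (n + 2))))
    (h : ∀ (i : Fin n) (c : alternatingGroup (Fin (n + 2))),
      c.1 = swap i.castSucc.castSucc i.succ.castSucc * swap i.castSucc.succ i.succ.succ → c ∈ E) : E = ⊤ := by
  let s : Fin (n + 1) → Perm (Fin (n + 2)) := fun i => swap i.castSucc i.succ
  let E' := E.map (alternatingGroup _).subtype
  have a : ∀ i, s 0 * s i ∈ E' := fun i => by
    induction i using Fin.induction with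
    | zero => simp [s]
    | succ i ih =>
      have : s i.castSucc * s i.succ ∈ E' := ⟨⟨_, by simp [s, Fin.ext_iff]⟩, h i _ rfl, rfl⟩
      simpa [s, mul_assoc] using mul_mem ih this
  have b : ∀ σ : Perm (Fin (n + 2)), σ ∈ E' ∨ s 0 * σ ∈ E' := fun σ => by
    induction (mclosure_swap_castSucc_succ (n + 1)).ge (Submonoid.mem_top σ) using Submonoid.closure_induction_left with
    | one => exact .inl (one_mem _)
    | mul_left x hx y _ ih =>
      obtain ⟨i, rfl⟩ := hx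
      rcases ih with ih | ih
      · exact .inr (by rw [← mul_assoc]; exact mul_mem (a i) ih)
      · exact .inl (by simpa [s, mul_assoc] using mul_mem (inv_mem (a i)) (show s 0 * s 0 * (s 0 * y) ∈ E' by
          simpa [s] using ih))
  refine top_unique fun σ _ => ?_
  rcases b σ with ⟨τ, h, e⟩ | ⟨τ, -, e⟩
  · rwa [← Subtype.ext e]
  · have := congrArg sign e
    simp [s, mem_alternatingGroup.1 τ.2, mem_alternatingGroup.1 σ.2] at this

variable {F : Type*} [Field F] {q n d r : ℕ}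

theorem blk_val : ∀ (m i : ℕ) (x : SU 2 F q), i ≤ m → ∀ (a b : Fin 2) (k l : Fin (m + 2)), k.1 = i + a → l.1 = i + b →
    (blk m i x).1.1 k l = x.1.1 a b
  | 0, i, x, h, a, b, k, l, h1, h2 => by
    obtain rfl : k = a := Fin.ext (by omega)
    obtain rfl : l = b := Fin.ext (by omega)
    rfl
  | m + 1, 0, x, h, a, b, k, l, h1, h2 => by
    obtain ⟨k, rfl⟩ := Fin.exists_succAbove_eq (x := k) (y := Fin.last _) (by simp [Fin.ext_iff]; omega)
    obtain ⟨l, rfl⟩ := Fin.exists_succAbove_eq (x := l) (y := Fin.last _) (by simp [Fin.ext_iff]; omega)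
    exact (E_ss ..).trans (blk_val m 0 x (by omega) a b k l (by simpa using h1) (by simpa using h2))
  | m + 1, i + 1, x, h, a, b, k, l, h1, h2 => by
    obtain ⟨k, rfl⟩ := Fin.exists_succAbove_eq (x := k) (y := 0) (fun e => by subst e; simp at h1; omega)
    obtain ⟨l, rfl⟩ := Fin.exists_succAbove_eq (x := l) (y := 0) (fun e => by subst e; simp at h2; omega)
    exact (E_ss ..).trans (blk_val m i x (by omega) a b k l (by simp at h1; omega) (by simp at h2; omega))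

/-- the top left block -/
def tl : (m : ℕ) → (SU 3 F q →* SU (m + 3) F q)
  | 0 => MonoidHom.id _
  | m + 1 => (up (m + 3)).comp (tl m)

theorem tl_up : ∀ (m : ℕ) (x : SU 2 F q), tl m (up 2 x) = blk (m + 1) 0 x
  | 0, _ => rfl
  | m + 1, x => congrArg (up _) (tl_up m x)

theorem tl_lo : ∀ (m : ℕ) (x : SU 2 F q), tl m (lo 2 x) = blk (m + 1) 1 x
  | 0, _ => rfl
  | m + 1, x => (congrArg (up _) (tl_lo m x)).trans (DFunLike.congr_fun (blk_up (m + 1) 1 (by omega)) x).symm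

theorem tl_inj : ∀ m : ℕ, Function.Injective (tl (F := F) (q := q) m)
  | 0 => Function.injective_id
  | m + 1 => (emb_inj _).comp (tl_inj m)

variable [Fintype F] (hF : Fintype.card F = q ^ 2)

theorem mem_tl : ∀ (m : ℕ) (g : SU (m + 3) F q), (∀ k : Fin (m + 3), 3 ≤ k.1 → g • pt hF k = pt hF k) → g ∈ (tl m).range
  | 0, g, _ => ⟨g, rfl⟩
  | m + 1, g, h => by
    obtain ⟨g, rfl⟩ := stab hF (Fin.last _) (h _ (by simp))
    obtain ⟨g, rfl⟩ := mem_tl m g fun k hk => fix_of_emb hF _ k (h _ (by simpa using hk))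
    exact ⟨g, rfl⟩

/-- permutation matrices -/
def pm (n : ℕ) : alternatingGroup (Fin n) →* SU n F q :=
  (permSL n F).codRestrict _ fun τ => mem_SU.2 fun u v => by
    rw [permSL_mulVec, permSL_mulVec]
    exact Equiv.sum_comp (τ.1⁻¹) fun i => u i * v i ^ q

theorem pm_pt (τ : alternatingGroup (Fin n)) (k : Fin n) : pm (F := F) (q := q) n τ • pt hF k = pt hF (τ.1 k) :=
  Subtype.ext ((permSL_mulVec τ _).trans (funext fun i => by simp [pt, Pi.single_apply, Equiv.symm_apply_eq]))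

theorem pm_blk {m i j : ℕ} (hi : i ≤ m) (hj : j ≤ m) (τ : alternatingGroup (Fin (m + 2)))
    (h : ∀ (a : Fin 2) (k : Fin (m + 2)), k.1 = i + a → (τ.1 k).1 = j + a) (x : SU 2 F q) :
    pm _ τ * blk m i x * (pm _ τ)⁻¹ = blk m j x := Subtype.ext (H29Pr.pm_conj τ fun a b => by
  have k : ∀ a : Fin (m + 2), (∃ t : Fin 2, a.1 = i + t) ∨ (a.1 ≠ i ∧ a.1 ≠ i + 1) ∧ (τ.1 a).1 ≠ j ∧ (τ.1 a).1 ≠ j + 1 :=
    fun a => by
    by_cases h1 : a.1 = i
    · exact .inl ⟨0, h1⟩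
    by_cases h2 : a.1 = i + 1
    · exact .inl ⟨1, h2⟩
    exact .inr ⟨⟨h1, h2⟩, fun e => h1 (congrArg Fin.val (τ.1.injective (Fin.ext (e.trans (h 0 ⟨i, by omega⟩ rfl).symm)))),
      fun e => h2 (congrArg Fin.val (τ.1.injective (Fin.ext (e.trans (h 1 ⟨i + 1, by omega⟩ rfl).symm))))⟩
  have o : (1 : Matrix (Fin (m + 2)) (Fin (m + 2)) F) a b = (1 : Matrix (Fin (m + 2)) (Fin (m + 2)) F) (τ.1 a) (τ.1 b) := by
    simp only [Matrix.one_apply, τ.1.injective.eq_iff]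
  rcases k a with ⟨s, hs⟩ | ⟨h1, h2⟩
  · rcases k b with ⟨t, ht⟩ | ⟨h1, h2⟩
    · exact (blk_val m i x hi s t _ _ hs ht).trans (blk_val m j x hj s t _ _ (h s a hs) (h t b ht)).symm
    · exact (sub_eq_zero.1 (blk_supp m i x hi b a h1.1 h1.2).2).trans
        (o.trans (sub_eq_zero.1 (blk_supp m j x hj _ _ h2.1 h2.2).2).symm)
  · exact (sub_eq_zero.1 (blk_supp m i x hi a b h1.1 h1.2).1).trans
      (o.trans (sub_eq_zero.1 (blk_supp m j x hj _ _ h2.1 h2.2).1).symm))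

include hF in
theorem su2_two : ∃ a b : SU 2 F q, closure {a, b} = ⊤ := by
  let K := (conj hF).eqLocusField (RingHom.id F)
  have := Fintype.ofFinite K
  obtain ⟨e⟩ := Agent.S0281.result (K := K) hF (by rw [← Nat.card_eq_fintype_card]; exact card_conj_fixed hF)
  obtain ⟨a, b, h⟩ := sl2_two K
  exact ⟨e.symm a, e.symm b, by
    rw [← Set.image_pair, ← MulEquiv.coe_toMonoidHom, ← MonoidHom.map_closure, h, map_top_of_surjective _ e.symm.surjective]⟩

include hF in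
theorem blk_top (hq : 3 < q) : ∀ (m : ℕ) (M : Subgroup (SU (m + 2) F q)), (∀ i ≤ m, ∀ x, blk m i x ∈ M) → M = ⊤
  | 0, M, h => top_unique fun x _ => h 0 le_rfl x
  | m + 1, M, h => top_unique ((gen hF hq).ge.trans (sup_le
    (by rintro _ ⟨x, rfl⟩; exact (blk_top hq m (M.comap (up _)) fun i hi x => by
          simpa [blk_up m i hi] using h i (by omega) x).ge (mem_top x))
    (by rintro _ ⟨x, rfl⟩; exact (blk_top hq m (M.comap (lo _)) fun i hi x => h (i + 1) (by omega) x).ge (mem_top x))))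

theorem comm2 {G J : Type*} [Group G] [Group J] {S : Set G} {x : G} (h : x ∈ closure S) (f : G →* J) {z : J}
    (h1 : ∀ a ∈ S, Commute (f a) z) : Commute (f x) z :=
  mem_centralizer_singleton_iff.1 ((closure_le ((centralizer {z}).comap f)).2
    (fun a ha => mem_centralizer_singleton_iff.2 (h1 a ha)) h)

include hF in
theorem main (hq : 3 < q) {m d' r' : ℕ} (hm : 2 ≤ m) (h3 : Pres d r (SU 3 F q))
    (hA : Pres d' r' (alternatingGroup (Fin (m + 3))))
    (h4 : ∀ i j, i + 2 ≤ j → j ≤ m + 1 → ∃ τ : alternatingGroup (Fin (m + 3)), (τ.1 0).1 = i ∧ (τ.1 1).1 = i + 1 ∧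
      (τ.1 ⟨2, by omega⟩).1 = j ∧ (τ.1 ⟨3, by omega⟩).1 = j + 1) :
    Pres (d + d') (r + (r' + (5 + 2 * min 2 (m - 1)))) (SU (m + 3) F q) := by
  let c : alternatingGroup (Fin (m + 3)) := ⟨swap 0 1 * swap 1 ⟨2, by omega⟩, by simp [Fin.ext_iff]⟩
  have pb : ∀ {j : ℕ} (τ : alternatingGroup (Fin (m + 3))), j ≤ m + 1 → (τ.1 0).1 = j → (τ.1 1).1 = j + 1 → ∀ x,
      pm _ τ * blk (F := F) (q := q) (m + 1) 0 x * (pm _ τ)⁻¹ = blk (m + 1) j x := fun τ hj a b =>
    pm_blk (by omega) hj τ fun t k hk => by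
      fin_cases t
      · obtain rfl : k = 0 := Fin.ext hk
        exact a
      · obtain rfl : k = 1 := Fin.ext hk
        exact b
  obtain ⟨c3, hc⟩ := mem_tl hF m (pm _ c) fun k hk => by
    rw [pm_pt]; congr 1
    simp only [c, Perm.mul_apply]
    have k0 : k ≠ 0 := fun e => by subst e; exact absurd hk (by decide : ¬ 3 ≤ 0)
    have k1 : k ≠ 1 := fun e => by subst e; exact absurd hk (by decide : ¬ 3 ≤ 1)
    have k2 : k ≠ ⟨2, by omega⟩ := fun e => by rw [e] at hk; exact absurd hk (by decide : ¬ 3 ≤ 2)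
    rw [swap_apply_of_ne_of_ne k1 k2, swap_apply_of_ne_of_ne k0 k1]
  have c0 : c.1 0 = 1 := by simp [c, swap_apply_def, Fin.ext_iff]
  have c1 : c.1 1 = ⟨2, by omega⟩ := by simp [c, swap_apply_def, Fin.ext_iff]
  have hl : ∀ x, lo 2 x = c3 * up 2 x * c3⁻¹ := fun x => tl_inj m (by
    rw [map_mul, map_mul, map_inv, hc, tl_up, tl_lo, pb (j := 1) c (by omega) (by rw [c0]; rfl) (by rw [c1])])
  obtain ⟨s, s1, s2, s3⟩ := H29Pr.stab_gens (a := (0 : Fin (m + 3))) (b := 1) (by simp)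
  have ex : ∀ i ≤ m, ∃ τ : alternatingGroup (Fin (m + 3)), (τ.1 0).1 = i ∧ (τ.1 1).1 = i + 1 ∧
      (τ.1 ⟨2, by omega⟩).1 = i + 2 := fun i hi => by
    obtain ⟨τ, e | e⟩ := H29Pr.ex_alt (a := ⟨3, by omega⟩) (b := ⟨4, by omega⟩) ![(0 : Fin (m + 3)), 1, ⟨2, by omega⟩]
      ![⟨i, by omega⟩, ⟨i + 1, by omega⟩, ⟨i + 2, by omega⟩] (H29Pr.inj3 (by simp) (by simp [Fin.ext_iff]) (by simp [Fin.ext_iff]))
      (H29Pr.inj3 (by simp) (by simp) (by simp)) (by simp)
    · exact ⟨τ, congrArg Fin.val (e 0), congrArg Fin.val (e 1), congrArg Fin.val (e 2)⟩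
    · exact ⟨τ, by simpa [swap_apply_def, Fin.ext_iff] using e 0, by simpa [swap_apply_def, Fin.ext_iff] using e 1,
        by simpa [swap_apply_def, Fin.ext_iff] using e 2⟩
  choose! τ t0 t1 t2 using ex
  have ex : ∀ i ≤ m + 1, ∃ τ : alternatingGroup (Fin (m + 3)), (τ.1 0).1 = i ∧ (τ.1 1).1 = i + 1 := fun i hi => by
    cases i
    exacts [⟨1, rfl, rfl⟩, ⟨τ _ * c, by simpa [c0] using t1 _ (by omega), by simpa [c1] using t2 _ (by omega)⟩]
  choose! ρ r0 r1 using ex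
  obtain ⟨a, b, hab⟩ := su2_two hF
  let il : SU 3 F q →* Coprod (SU 3 F q) (alternatingGroup (Fin (m + 3))) := Coprod.inl
  let ir : alternatingGroup (Fin (m + 3)) →* Coprod (SU 3 F q) (alternatingGroup (Fin (m + 3))) := Coprod.inr
  refine (H25Pr.pres_am h3 hA (tl m) (pm _) ((il c3 * (ir c)⁻¹ ::
    s.flatMap fun y => [a, b].map fun x => ⁅il (up 2 x), ir y⁆) ++ [a, b].flatMap fun x => [a, b].map fun y =>
      ⁅il (up 2 x), ir (ρ 2) * il (up 2 y) * (ir (ρ 2))⁻¹⁆) ?_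
      (MonoidHom.range_eq_top.1 (blk_top hF hq (m + 1) _ fun i hi x => ?_)) fun J _ ψ α h => ?_).mono ?_
  · simp only [il, ir, List.forall_mem_append, List.forall_mem_cons, List.forall_mem_flatMap,
      List.forall_mem_map, map_mul, map_inv,
      map_commutatorElement, Coprod.lift_apply_inl, Coprod.lift_apply_inr, mul_inv_eq_one, tl_up,
      commutatorElement_eq_one_iff_commute, pb _ (by omega) (r0 2 (by omega)) (r1 2 (by omega))]
    exact ⟨⟨hc, fun y hy => by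
      have := fun x => (mul_inv_eq_iff_eq_mul.1 (pb (j := 0) y (by omega) (by rw [(s2 y hy).1]; rfl) (by rw [(s2 y hy).2]; rfl) x)).symm
      simpa using ⟨this a, this b⟩⟩, by simp [blk_comm (m := m + 1) (i := 0) (j := 2) le_rfl (by omega)]⟩
  · rw [← pb _ hi (r0 i hi) (r1 i hi), ← tl_up]
    exact ⟨Coprod.inr (ρ i) * Coprod.inl (up 2 x) * (Coprod.inr (ρ i))⁻¹, by simp⟩
  swap
  · simp [List.length_flatMap] at s1 ⊢; omega
  simp only [il, ir, List.forall_mem_append, List.forall_mem_cons, List.forall_mem_flatMap,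
      List.forall_mem_map, map_mul, map_inv,
    map_commutatorElement, Coprod.lift_apply_inl, Coprod.lift_apply_inr, mul_inv_eq_one,
    commutatorElement_eq_one_iff_commute] at h
  obtain ⟨⟨e1, e2⟩, ⟨e3, e4, -⟩, ⟨e5, e6, -⟩, -⟩ := h
  let C : alternatingGroup (Fin (m + 3)) → (SU 3 F q →* J) := fun σ => (MulAut.conj (α σ)).toMonoidHom.comp ψ
  have g2 : ∀ (f : SU 2 F q →* J) {z : J}, Commute (f a) z → Commute (f b) z → ∀ x, Commute (f x) z :=
    fun f z h1 h2 x => comm2 (hab.ge (mem_top x)) f (by simp [h1, h2])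
  have wd : ∀ σ σ' : alternatingGroup (Fin (m + 3)), (σ.1 0).1 = (σ'.1 0).1 → (σ.1 1).1 = (σ'.1 1).1 → ∀ x,
      C σ (up 2 x) = C σ' (up 2 x) := fun σ σ' h0 h1 x => by
    have := comm2 (s3 (σ'⁻¹ * σ) (by simp [Fin.ext h0]) (by simp [Fin.ext h1])) α fun y hy =>
      (g2 (ψ.comp (up 2)) (e2 y hy).1 (e2 y hy).2.1 x).symm
    change α σ * _ * (α σ)⁻¹ = α σ' * _ * (α σ')⁻¹
    rw [← mul_inv_cancel_left σ' σ, map_mul α, mul_assoc (α σ'), show α _ * ψ _ = ψ _ * _ from this.eq]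
    simp [mul_assoc]
  have Cl : ∀ σ x, C σ (lo 2 x) = C (σ * c) (up 2 x) := fun σ x => by simp [C, hl, e1, mul_assoc]
  have k : ∀ x y, Commute (ψ (up 2 x)) (C (ρ 2) (up 2 y)) := fun x y => g2 (ψ.comp (up 2))
    (g2 ((C (ρ 2)).comp (up 2)) e3.symm e4.symm y).symm (g2 ((C (ρ 2)).comp (up 2)) e5.symm e6.symm y).symm x
  have u1 : ∀ i ≤ m, ∀ x, C (τ i) (up 2 x) = C (ρ i) (up 2 x) := fun i hi =>
    wd _ _ (by rw [t0 i hi, r0 i (by omega)]) (by rw [t1 i hi, r1 i (by omega)])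
  have u2 : ∀ i ≤ m, ∀ x, C (τ i) (lo 2 x) = C (ρ (i + 1)) (up 2 x) := fun i hi x => (Cl _ _).trans
    (wd _ _ (by simpa [c0, r0 (i + 1) (by omega)] using t1 i hi) (by simpa [c1, r1 (i + 1) (by omega)] using t2 i hi) x)
  obtain ⟨Φ, hΦ⟩ := univ' hF hq m (fun i => (C (ρ i)).comp (up 2))
    (fun i hi => ⟨C (τ i), MonoidHom.ext (u1 i (by omega)), MonoidHom.ext (u2 i (by omega))⟩) fun i j h h' x y => by
      obtain ⟨σ, p0, p1, p2, p3⟩ := h4 i j h (by omega)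
      have q0 : (ρ 2).1 0 = ⟨2, by omega⟩ := Fin.ext (r0 2 (by omega))
      have q1 : (ρ 2).1 1 = ⟨3, by omega⟩ := Fin.ext (r1 2 (by omega))
      change Commute (C _ (up 2 x)) (C _ (up 2 y))
      rw [wd (ρ i) σ (by rw [p0, r0 i (by omega)]) (by rw [p1, r1 i (by omega)]),
        wd (ρ j) (σ * ρ 2) (by simp [q0, p2, r0 j (by omega)]) (by simp [q1, p3, r1 j (by omega)])]
      simpa [C, mul_assoc] using (k x y).map (MulAut.conj (α σ))
  replace hΦ : ∀ i ≤ m + 1, ∀ x, Φ (blk (m + 1) i x) = C (ρ i) (up 2 x) := fun i hi => DFunLike.congr_fun (hΦ i hi)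
  have v : ∀ σ : alternatingGroup (Fin (m + 3)), ∀ i ≤ m, (σ.1 0).1 = i → (σ.1 1).1 = i + 1 →
      (σ.1 ⟨2, by omega⟩).1 = i + 2 → ∀ z, Φ (pm _ σ * tl m z * (pm _ σ)⁻¹) = C σ z := fun σ i hi p0 p1 p2 z =>
    (blk_top hF hq 1 (((Φ.comp (MulAut.conj (pm _ σ)).toMonoidHom).comp (tl m)).eqLocus (C σ)) fun j hj x => by
      interval_cases j
      · change Φ (_ * tl m (up 2 x) * _) = C σ (up 2 x)
        rw [tl_up, pb σ (by omega) p0 p1, hΦ i (by omega)]
        exact wd _ _ (by rw [p0, r0 i (by omega)]) (by rw [p1, r1 i (by omega)]) x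
      · change Φ (_ * tl m (lo 2 x) * _) = C σ (lo 2 x)
        have := pb (j := i + 1) (σ * c) (by omega) (by simpa [c0] using p1) (by simpa [c1] using p2) x
        rw [Cl, hl, map_mul (tl m), map_mul (tl m), map_inv (tl m), hc, tl_up, wd _ (ρ (i + 1))
          (by simpa [c0, r0 (i + 1) (by omega)] using p1) (by simpa [c1, r1 (i + 1) (by omega)] using p2),
          ← hΦ _ (by omega), ← this]
        simp [mul_assoc]).ge (mem_top z)
  refine ⟨Φ, MonoidHom.ext fun z => by simpa [C] using v 1 0 (by omega) rfl rfl rfl z,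
    MonoidHom.eq_of_eqOn_top fun σ _ => (alt_top ((Φ.comp (pm _)).eqLocus α) fun i c' hc' => ?_).ge (mem_top σ)⟩
  have hi : i.1 ≤ m := by omega
  obtain rfl : c' = τ i * c * (τ i)⁻¹ := Subtype.ext (by
    rw [hc', show i.castSucc.castSucc = (τ i).1 0 from Fin.ext (t0 i hi).symm,
      show i.succ.castSucc = (τ i).1 1 from Fin.ext (t1 i hi).symm,
      show i.castSucc.succ = (τ i).1 1 from Fin.ext (t1 i hi).symm,
      show i.succ.succ = (τ i).1 ⟨2, by omega⟩ from Fin.ext (t2 i hi).symm, swap_apply_apply, swap_apply_apply]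
    simp [c, mul_assoc])
  change Φ _ = _
  rw [map_mul (pm _), map_mul (pm _), map_inv (pm _), ← hc, v _ i hi (t0 i hi) (t1 i hi) (t2 i hi)]
  simp [C, e1]

include hF in
theorem five (hq : 3 < q) (h : Pres d r (SU 3 F q)) : Pres (d + 2) (r + 10) (SU 5 F q) :=
  main hF hq (m := 2) (r' := 3) le_rfl h (let ⟨e⟩ := Agent.S3377.result; by
    classical
    exact ⟨{.of 0 ^ 3, .of 1 ^ 5, (.of 0 * .of 1) ^ 2}, Finset.card_le_three, by
      rw [Finset.coe_insert, Finset.coe_insert, Finset.coe_singleton]; exact ⟨e⟩⟩) fun i j h1 h2 => by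
    obtain ⟨rfl, rfl⟩ | ⟨rfl, rfl⟩ | ⟨rfl, rfl⟩ : i = 0 ∧ j = 2 ∨ i = 0 ∧ j = 3 ∨ i = 1 ∧ j = 3 := by omega
    exacts [⟨1, rfl, rfl, rfl, rfl⟩, ⟨⟨swap 2 3 * swap 3 4, mem_alternatingGroup.2 (by decide)⟩, rfl, rfl, rfl, rfl⟩,
      ⟨⟨finRotate 5, mem_alternatingGroup.2 (by decide)⟩, rfl, rfl, rfl, rfl⟩]

include hF in
theorem big (hq : 3 < q) (hn : 6 ≤ n) (h : Pres d r (SU 3 F q)) : Pres (d + 3) (r + 16) (SU n F q) := by
  obtain ⟨m, rfl⟩ : ∃ m, n = m + 3 := ⟨n - 3, by omega⟩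
  obtain ⟨g, hg⟩ := (CA.AltP.three (n := m + 3) (by omega)).2
  refine (main hF hq (by omega) h hg.fp fun i j h1 h2 => ?_).mono (by omega)
  obtain ⟨τ, e | e⟩ := H29Pr.ex_alt (a := ⟨4, by omega⟩) (b := ⟨5, by omega⟩)
    ![(0 : Fin (m + 3)), 1, ⟨2, by omega⟩, ⟨3, by omega⟩]
    ![⟨i, by omega⟩, ⟨i + 1, by omega⟩, ⟨j, by omega⟩, ⟨j + 1, by omega⟩]
    (H29Pr.inj4 (by simp) (by simp [Fin.ext_iff]) (by simp [Fin.ext_iff]) (by simp [Fin.ext_iff]) (by simp [Fin.ext_iff])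
      (by simp)) (H29Pr.inj4 (by simp) (by simp; omega) (by simp; omega) (by simp; omega) (by simp; omega) (by simp)) (by simp)
  · exact ⟨τ, congrArg Fin.val (e 0), congrArg Fin.val (e 1), congrArg Fin.val (e 2), congrArg Fin.val (e 3)⟩
  · exact ⟨τ, by simpa [swap_apply_def, Fin.ext_iff] using e 0, by simpa [swap_apply_def, Fin.ext_iff] using e 1,
      by simpa [swap_apply_def, Fin.ext_iff] using e 2, by simpa [swap_apply_def, Fin.ext_iff] using e 3⟩

/-- a signed cycle -/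
def g4 : SU 4 F q := ⟨⟨!![0, 0, 0, -1; 1, 0, 0, 0; 0, 1, 0, 0; 0, 0, 1, 0], by
  simp [det_succ_row_zero, Fin.sum_univ_succ, Fin.succAbove]; norm_num⟩, (memU hF).2 (by
    ext i j; fin_cases i <;> fin_cases j <;> simp [Matrix.mul_apply, Fin.sum_univ_four])⟩

theorem b0 (x : SU 2 F q) :
    (blk 2 0 x).1.1 = !![x.1.1 0 0, x.1.1 0 1, 0, 0; x.1.1 1 0, x.1.1 1 1, 0, 0; 0, 0, 1, 0; 0, 0, 0, 1] := by
  ext i j; fin_cases i <;> fin_cases j <;> rfl
theorem b1 (x : SU 2 F q) :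
    (blk 2 1 x).1.1 = !![1, 0, 0, 0; 0, x.1.1 0 0, x.1.1 0 1, 0; 0, x.1.1 1 0, x.1.1 1 1, 0; 0, 0, 0, 1] := by
  ext i j; fin_cases i <;> fin_cases j <;> rfl
theorem b2 (x : SU 2 F q) :
    (blk 2 2 x).1.1 = !![1, 0, 0, 0; 0, 1, 0, 0; 0, 0, x.1.1 0 0, x.1.1 0 1; 0, 0, x.1.1 1 0, x.1.1 1 1] := by
  ext i j; fin_cases i <;> fin_cases j <;> rfl

theorem g4_0 (x : SU 2 F q) : g4 hF * blk 2 0 x * (g4 hF)⁻¹ = blk 2 1 x :=
  mul_inv_eq_of_eq_mul (Subtype.ext (Subtype.ext (by rw [su_mul, su_mul, b0, b1]; simp [g4])))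
theorem g4_1 (x : SU 2 F q) : g4 hF * blk 2 1 x * (g4 hF)⁻¹ = blk 2 2 x :=
  mul_inv_eq_of_eq_mul (Subtype.ext (Subtype.ext (by rw [su_mul, su_mul, b1, b2]; simp [g4])))

include hF in
theorem four (hq : 3 < q) (h : Pres d r (SU 3 F q)) : Pres (d + 1) (r + 7) (SU 4 F q) := by
  obtain ⟨a, b, hab⟩ := su2_two hF
  let il : SU 3 F q →* Coprod (SU 3 F q) (FreeGroup (Fin 1)) := Coprod.inl
  let t : Coprod (SU 3 F q) (FreeGroup (Fin 1)) := Coprod.inr (.of 0)
  let M := il.range ⊔ ((MulAut.conj t).toMonoidHom.comp il).range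
  let L := Coprod.lift (tl (F := F) (q := q) 1) (FreeGroup.lift ![g4 hF])
  have hM : M.map L = ⊤ := blk_top hF hq 2 _ fun i hi x => by
    interval_cases i
    · exact ⟨_, mem_sup_left ⟨up 2 x, rfl⟩, rfl⟩
    · exact ⟨_, mem_sup_left ⟨lo 2 x, rfl⟩, tl_lo 1 x⟩
    · exact ⟨_, mem_sup_right ⟨lo 2 x, rfl⟩, by simp [L, il, t, tl_lo, g4_1]⟩
  obtain ⟨w, w1, w2⟩ := hM.ge (mem_top (g4 hF))
  refine h.ext (tl 1) ![g4 hF] ((t⁻¹ * w :: [a, b].map fun x => t * il (up 2 x) * t⁻¹ * (il (lo 2 x))⁻¹) ++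
    [a, b].flatMap fun x => [a, b].map fun y => ⁅il (up 2 x), t * il (lo 2 y) * t⁻¹⁆) ?_ (blk_top hF hq 2 _ fun i hi x => ?_)
    fun J _ ψ ξ h => ?_
  · simp only [il, t, List.forall_mem_append, List.forall_mem_cons, List.forall_mem_flatMap, List.forall_mem_map, map_mul,
      map_inv, map_commutatorElement, Coprod.lift_apply_inl, Coprod.lift_apply_inr, mul_inv_eq_one, tl_up, tl_lo,
      commutatorElement_eq_one_iff_commute, FreeGroup.lift_apply_of, cons_val_zero, g4_0, g4_1, inv_mul_eq_one]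
    have k : ∀ x y, Commute (blk 2 0 x) (g4 hF * blk 2 1 y * (g4 hF)⁻¹) := fun x y =>
      g4_1 hF y ▸ blk_comm (m := 2) (i := 0) (j := 2) le_rfl le_rfl x y
    exact ⟨⟨w2.symm, g4_0 hF a, g4_0 hF b, by simp⟩, ⟨k _ _, k _ _, by simp⟩, ⟨k _ _, k _ _, by simp⟩, by simp⟩
  · have k : ∀ z, tl 1 z ∈ closure (Set.range (tl (F := F) (q := q) 1) ∪ Set.range ![g4 hF]) :=
      fun z => subset_closure (.inl ⟨z, rfl⟩)
    have k' : g4 hF ∈ closure (Set.range (tl (F := F) (q := q) 1) ∪ Set.range ![g4 hF]) := subset_closure (.inr ⟨0, rfl⟩)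
    interval_cases i
    exacts [k (up 2 x), tl_lo 1 x ▸ k (lo 2 x), g4_1 hF x ▸ tl_lo 1 x ▸ mul_mem (mul_mem k' (k _)) (inv_mem k')]
  simp only [il, t, List.forall_mem_append, List.forall_mem_cons, List.forall_mem_flatMap, List.forall_mem_map, map_mul,
    map_inv, map_commutatorElement, Coprod.lift_apply_inl, Coprod.lift_apply_inr, mul_inv_eq_one,
    commutatorElement_eq_one_iff_commute, FreeGroup.lift_apply_of, inv_mul_eq_one] at h
  obtain ⟨⟨e0, e1, e2, -⟩, ⟨e3, e4, -⟩, ⟨e5, e6, -⟩, -⟩ := h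
  let C : SU 3 F q →* J := (MulAut.conj (ξ 0)).toMonoidHom.comp ψ
  have u : C.comp (up 2) = ψ.comp (lo 2) := MonoidHom.eq_of_eqOn_dense hab (by rintro _ (rfl | rfl); exacts [e1, e2])
  have g2 : ∀ (f : SU 2 F q →* J) {z : J}, Commute (f a) z → Commute (f b) z → ∀ x, Commute (f x) z :=
    fun f z h1 h2 x => comm2 (hab.ge (mem_top x)) f (by simp [h1, h2])
  obtain ⟨Φ, hΦ⟩ := univ' hF hq 1 (fun i => [ψ.comp (up 2), ψ.comp (lo 2), C.comp (lo 2)].getD i 1)
    (fun i hi => by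
      obtain rfl | rfl : i = 0 ∨ i = 1 := by omega
      exacts [⟨ψ, rfl, rfl⟩, ⟨C, u, rfl⟩]) fun i j h h' x y => by
      obtain ⟨rfl, rfl⟩ : i = 0 ∧ j = 2 := by omega
      exact g2 (ψ.comp (up 2)) (g2 (C.comp (lo 2)) e3.symm e4.symm y).symm (g2 (C.comp (lo 2)) e5.symm e6.symm y).symm x
  have p0 : ∀ x, Φ (blk 2 0 x) = ψ (up 2 x) := DFunLike.congr_fun (hΦ 0 (by omega))
  have p1 : ∀ x, Φ (blk 2 1 x) = ψ (lo 2 x) := DFunLike.congr_fun (hΦ 1 (by omega))
  have p2 : ∀ x, Φ (blk 2 2 x) = C (lo 2 x) := DFunLike.congr_fun (hΦ 2 (by omega))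
  have v0 : Φ.comp (tl 1) = ψ := blk_ext hF hq 1 _ _ fun i hi => MonoidHom.ext fun x => by
    interval_cases i
    exacts [p0 x, (congrArg Φ (tl_lo 1 x)).trans (p1 x)]
  have v1 : (Φ.comp (MulAut.conj (g4 hF)).toMonoidHom).comp (tl 1) = C := blk_ext hF hq 1 _ _ fun i hi =>
    MonoidHom.ext fun x => by
      interval_cases i
      · exact (congrArg Φ (g4_0 hF x)).trans ((p1 x).trans (DFunLike.congr_fun u x).symm)
      · exact (congrArg Φ ((congrArg (fun z => g4 hF * z * (g4 hF)⁻¹) (tl_lo 1 x)).trans (g4_1 hF x))).trans (p2 x)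
  refine ⟨Φ, v0, fun i => ?_⟩
  obtain rfl : i = 0 := Subsingleton.elim _ _
  rw [e0]
  refine (congrArg Φ w2.symm).trans ((show M ≤ (Φ.comp L).eqLocus (Coprod.lift ψ (FreeGroup.lift ξ)) from
    sup_le ?_ ?_) w1) <;>
    rintro _ ⟨z, rfl⟩
  · exact DFunLike.congr_fun v0 z
  · change Φ _ = _
    simpa [L, il, t, C, -map_mul, map_mul (Coprod.lift _ _)] using DFunLike.congr_fun v1 z

include hF in
theorem cyc_center (hn : 2 ≤ n) : IsCyclic (center (SU n F q)) := by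
  have := cyc_center_sl (F := F) (n := n)
  refine isCyclic_of_injective (G' := center SL(n, F)) (((SU n F q).subtype.comp (center _).subtype).codRestrict _
    fun g => ?_) fun a b h => Subtype.ext (Subtype.ext (congrArg (fun x : center SL(n, F) => x.1) h))
  have h : suEquiv hF n g.1 ∈ center _ := mem_center_iff.2 fun x => by
    obtain ⟨x, rfl⟩ := (suEquiv hF n).surjective x
    rw [← map_mul, ← map_mul, mem_center_iff.1 g.2]
  rw [herm_center_eq hF (hermStd_nondeg hF n) (by simpa using hn) le_rfl] at h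
  obtain ⟨a, ha⟩ := h
  replace ha : ∀ v, g.1.1.1 *ᵥ v = a • v := ha
  exact mem_center_iff.2 fun x => Subtype.ext (matrix_eq_iff_mulVec.2 fun v => by
    change (x.1 * g.1.1.1) *ᵥ v = (g.1.1.1 * x.1) *ᵥ v
    rw [← mulVec_mulVec, ← mulVec_mulVec, ha, ha, mulVec_smul])

end CA.H29Su
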