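import Cfsg.Agent.Lib.Lin.H29Su
import Cfsg.Agent.Lib.Lin.Phan5
import Cfsg.Agent.Lib.Lin.SuTwo

/-! Bounded presentations of the special unitary groups from presentations of `SU₄(q)`. -/

set_option autoImplicit false
set_option linter.unusedSectionVars false

namespace CA.H29Su

open Matrix Cfsg CA.Phan CA.PhanA CA.CForm CA.Prs Subgroup Equiv Equiv.Perm Monoid CA.H22Embed
open scoped MatrixGroups commutatorElement

theorem stab3 {ι : Type*} [DecidableEq ι] [Fintype ι] (p : ι → Prop) [DecidablePred p] :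
    ∃ s : List (alternatingGroup ι), s.length ≤ 2 ∧ (∀ x ∈ s, ∀ a, ¬ p a → x.1 a = a) ∧
      ∀ σ : alternatingGroup ι, (∀ a, ¬ p a → σ.1 a = a) → σ ∈ closure {x | x ∈ s} := by
  obtain ⟨s, h1, h2⟩ := H29Pr.alt_gens (β := {x // p x})
  let f : alternatingGroup {x // p x} →* alternatingGroup ι :=
    (ofSubtype.comp (alternatingGroup _).subtype).codRestrict _ fun x => by
      simpa [mem_alternatingGroup] using mem_alternatingGroup.1 x.2
  refine ⟨s.map f, by simp only [List.length_map]; omega, fun x hx a ha => ?_, fun σ ha => ?_⟩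
  · obtain ⟨y, -, rfl⟩ := List.mem_map.1 hx
    exact ofSubtype_apply_of_not_mem _ ha
  have e1 : ∀ x, p (σ.1 x) ↔ p x := fun x => by
    rw [← not_iff_not]
    exact ⟨fun h => by rwa [σ.1.injective (ha _ h)] at h, fun h => by rwa [ha _ h]⟩
  have e2 : ofSubtype (σ.1.subtypePerm (p := p) e1) = σ.1 := ofSubtype_subtypePerm _ fun x hx =>
    by_contra fun e => hx (ha x e)
  have e3 : f ⟨σ.1.subtypePerm e1, by rw [mem_alternatingGroup, ← sign_ofSubtype, e2]; exact σ.2⟩ = σ := Subtype.ext e2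
  rw [← e3]
  refine (show closure {x | x ∈ s} ≤ (closure {x | x ∈ s.map f}).comap f from (closure_le _).2 fun x hx =>
    subset_closure (List.mem_map_of_mem hx)) (h2.ge (mem_top _))

theorem exk {t n : ℕ} (ht : t + 2 ≤ n) (v : Fin t → Fin n) (hv : Function.Injective v) :
    ∃ σ : alternatingGroup (Fin n), ∀ x, σ.1 (Fin.castLE (by omega) x) = v x := by
  obtain ⟨τ, e | e⟩ := H29Pr.ex_alt (a := ⟨t, by omega⟩) (b := ⟨t + 1, by omega⟩) (Fin.castLE (by omega : t ≤ n)) v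
    (Fin.castLE_injective _) hv (Fin.ne_of_val_ne (Nat.lt_succ_self t).ne)
  · exact ⟨τ, e⟩
  · exact ⟨τ, fun x => by
      rw [← e x, swap_apply_of_ne_of_ne] <;> exact Fin.ne_of_val_ne (by simp; omega)⟩

variable {F : Type*} [Field F] {q n d r : ℕ}

theorem blk3_val : ∀ (m i : ℕ) (x : SU 3 F q), i ≤ m → ∀ (a b : Fin 3) (k l : Fin (m + 3)), k.1 = i + a → l.1 = i + b →
    (blk3 m i x).1.1 k l = x.1.1 a b
  | 0, i, x, h, a, b, k, l, h1, h2 => by
    obtain rfl : k = a := Fin.ext (by omega)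
    obtain rfl : l = b := Fin.ext (by omega)
    rfl
  | m + 1, 0, x, h, a, b, k, l, h1, h2 => by
    obtain ⟨k, rfl⟩ := Fin.exists_succAbove_eq (x := k) (y := Fin.last _) (by simp [Fin.ext_iff]; omega)
    obtain ⟨l, rfl⟩ := Fin.exists_succAbove_eq (x := l) (y := Fin.last _) (by simp [Fin.ext_iff]; omega)
    exact (E_ss ..).trans (blk3_val m 0 x (by omega) a b k l (by simpa using h1) (by simpa using h2))
  | m + 1, i + 1, x, h, a, b, k, l, h1, h2 => by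
    obtain ⟨k, rfl⟩ := Fin.exists_succAbove_eq (x := k) (y := 0) (fun e => by subst e; simp at h1; omega)
    obtain ⟨l, rfl⟩ := Fin.exists_succAbove_eq (x := l) (y := 0) (fun e => by subst e; simp at h2; omega)
    exact (E_ss ..).trans (blk3_val m i x (by omega) a b k l (by simp at h1; omega) (by simp at h2; omega))

/-- the top left block -/
def tl4 : (m : ℕ) → (SU 4 F q →* SU (m + 4) F q)
  | 0 => MonoidHom.id _
  | m + 1 => (up (m + 4)).comp (tl4 m)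

theorem tl4_up : ∀ (m : ℕ) (x : SU 3 F q), tl4 m (up 3 x) = blk3 (m + 1) 0 x
  | 0, _ => rfl
  | m + 1, x => congrArg (up _) (tl4_up m x)

theorem tl4_lo : ∀ (m : ℕ) (x : SU 3 F q), tl4 m (lo 3 x) = blk3 (m + 1) 1 x
  | 0, _ => rfl
  | m + 1, x => (congrArg (up _) (tl4_lo m x)).trans (DFunLike.congr_fun (blk3_up (m + 1) 1 (by omega)) x).symm

theorem up3 (g : SU 3 F q) : (up 3 g).1.1 = !![g.1.1 0 0, g.1.1 0 1, g.1.1 0 2, 0; g.1.1 1 0, g.1.1 1 1, g.1.1 1 2, 0;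
    g.1.1 2 0, g.1.1 2 1, g.1.1 2 2, 0; 0, 0, 0, 1] := by
  ext i j; fin_cases i <;> fin_cases j <;> rfl

theorem lo3 (g : SU 3 F q) : (lo 3 g).1.1 = !![1, 0, 0, 0; 0, g.1.1 0 0, g.1.1 0 1, g.1.1 0 2;
    0, g.1.1 1 0, g.1.1 1 1, g.1.1 1 2; 0, g.1.1 2 0, g.1.1 2 1, g.1.1 2 2] := by
  ext i j; fin_cases i <;> fin_cases j <;> rfl

variable [Fintype F] (hF : Fintype.card F = q ^ 2)

theorem pm_blk3 {m j : ℕ} (hj : j ≤ m) (τ : alternatingGroup (Fin (m + 3)))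
    (h : ∀ (a : Fin 3) (k : Fin (m + 3)), k.1 = a → (τ.1 k).1 = j + a) (x : SU 3 F q) :
    pm _ τ * blk3 m 0 x * (pm _ τ)⁻¹ = blk3 m j x := Subtype.ext (H29Pr.pm_conj τ fun a b => by
  have k : ∀ a : Fin (m + 3), (∃ t : Fin 3, a.1 = t) ∨ (a.1 ≠ 0 ∧ a.1 ≠ 0 + 1 ∧ a.1 ≠ 0 + 2) ∧
      (τ.1 a).1 ≠ j ∧ (τ.1 a).1 ≠ j + 1 ∧ (τ.1 a).1 ≠ j + 2 := fun a => by
    by_cases h1 : a.1 < 3
    · exact .inl ⟨⟨a, h1⟩, rfl⟩
    have : ∀ t : Fin 3, (τ.1 a).1 ≠ j + t := fun t e => h1 (by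
      rw [τ.1.injective (Fin.ext (e.trans (h t ⟨t, by omega⟩ rfl).symm))]; exact t.2)
    exact .inr ⟨by omega, this 0, this 1, this 2⟩
  have o : (1 : Matrix (Fin (m + 3)) (Fin (m + 3)) F) a b = (1 : Matrix (Fin (m + 3)) (Fin (m + 3)) F) (τ.1 a) (τ.1 b) := by
    simp only [Matrix.one_apply, τ.1.injective.eq_iff]
  rcases k a with ⟨s, hs⟩ | ⟨h1, h2⟩
  · rcases k b with ⟨t, ht⟩ | ⟨h1, h2⟩
    · exact (blk3_val m 0 x (by omega) s t _ _ (by omega) (by omega)).trans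
        (blk3_val m j x hj s t _ _ (h s a hs) (h t b ht)).symm
    · exact (sub_eq_zero.1 (blk3_supp m 0 x (by omega) b a h1.1 h1.2.1 h1.2.2).2).trans
        (o.trans (sub_eq_zero.1 (blk3_supp m j x hj _ _ h2.1 h2.2.1 h2.2.2).2).symm)
  · exact (sub_eq_zero.1 (blk3_supp m 0 x (by omega) a b h1.1 h1.2.1 h1.2.2).1).trans
      (o.trans (sub_eq_zero.1 (blk3_supp m j x hj _ _ h2.1 h2.2.1 h2.2.2).1).symm))

/-- a 3-cycle -/
def c3 : SU 3 F q := ⟨⟨!![0, 0, 1; 1, 0, 0; 0, 1, 0], by simp [det_fin_three]⟩, (memU hF).2 (by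
    ext i j; fin_cases i <;> fin_cases j <;> simp [Matrix.mul_apply, Fin.sum_univ_three])⟩

/-- a signed transposition -/
def s3 : SU 3 F q := ⟨⟨!![-1, 0, 0; 0, 0, -1; 0, -1, 0], by simp [det_fin_three]⟩, (memU hF).2 (by
    ext i j; fin_cases i <;> fin_cases j <;> simp [Matrix.mul_apply, Fin.sum_univ_three])⟩

theorem c3_up (x : SU 2 F q) : lo 2 x = c3 hF * up 2 x * (c3 hF)⁻¹ :=
  eq_mul_inv_of_mul_eq (Subtype.ext (Subtype.ext (by rw [su_mul, su_mul, up_two, lo_two]; simp [c3])))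

theorem sw4 (y : SU 3 F q) : up 3 (c3 hF) * (lo 3 (c3 hF))⁻¹ * up 3 y * (up 3 (c3 hF) * (lo 3 (c3 hF))⁻¹)⁻¹ =
    lo 3 (s3 hF * y * (s3 hF)⁻¹) := by
  have e1 : (lo 3 (c3 hF))⁻¹ = lo 3 (c3 hF) * lo 3 (c3 hF) := inv_eq_of_mul_eq_one_left (Subtype.ext (Subtype.ext (by
    rw [su_mul, su_mul, lo3]; simp [c3]; ext i j; fin_cases i <;> fin_cases j <;> rfl)))
  have e2 : (s3 hF)⁻¹ = s3 hF := inv_eq_of_mul_eq_one_left (Subtype.ext (Subtype.ext (by
    rw [su_mul]; simp [s3, one_fin_three])))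
  rw [mul_inv_eq_iff_eq_mul, e1, e2, map_mul, map_mul]
  refine Subtype.ext (Subtype.ext ?_)
  simp only [su_mul, up3, lo3]
  simp [c3, s3]

theorem pm_c3 {m : ℕ} (c : alternatingGroup (Fin (m + 3))) (h : c.1 = swap 0 1 * swap 1 ⟨2, by omega⟩) :
    blk3 m 0 (c3 hF) = pm _ c := by
  refine su_ext fun a b => ?_
  have v : (pm (F := F) (q := q) _ c).1.1 a b = if a = c.1 b then 1 else 0 := by
    change (c.1⁻¹).toPEquiv.toMatrix a b = _
    simp [PEquiv.toMatrix_apply, Equiv.toPEquiv_apply, Equiv.symm_apply_eq]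
  have z : ∀ b : Fin (m + 3), ¬ b.1 < 3 → (swap 0 1 * swap 1 ⟨2, by omega⟩ : Perm (Fin (m + 3))) b = b := fun b hb => by
    have k0 : b ≠ 0 := fun e => by subst e; exact hb (by decide : 0 < 3)
    have k1 : b ≠ 1 := fun e => by subst e; exact hb (by decide : 1 < 3)
    have k2 : b ≠ ⟨2, by omega⟩ := fun e => by rw [e] at hb; exact hb (by decide : 2 < 3)
    rw [Perm.mul_apply, swap_apply_of_ne_of_ne k1 k2, swap_apply_of_ne_of_ne k0 k1]
  rw [v, h]
  by_cases ha : a.1 < 3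
  · by_cases hb : b.1 < 3
    · rw [blk3_val m 0 _ (by omega) ⟨a, ha⟩ ⟨b, hb⟩ _ _ (by simp) (by simp)]
      obtain ⟨a, _⟩ := a
      obtain ⟨b, _⟩ := b
      simp only at ha hb
      interval_cases a <;> interval_cases b <;> simp [c3, swap_apply_def, Fin.ext_iff]
    · rw [sub_eq_zero.1 (blk3_supp m 0 _ (by omega) b a (by omega) (by omega) (by omega)).2, z b hb, Matrix.one_apply]
  · rw [sub_eq_zero.1 (blk3_supp m 0 _ (by omega) a b (by omega) (by omega) (by omega)).1, Matrix.one_apply]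
    conv_rhs => rw [← z a ha]
    simp only [EmbeddingLike.apply_eq_iff_eq]

include hF in
theorem blk3_top : ∀ (m : ℕ) (M : Subgroup (SU (m + 3) F q)), (∀ i ≤ m, ∀ x, blk3 m i x ∈ M) → M = ⊤
  | 0, M, h => top_unique fun x _ => h 0 le_rfl x
  | m + 1, M, h => top_unique ((gen4 hF).ge.trans (sup_le
    (by rintro _ ⟨x, rfl⟩; exact (blk3_top m (M.comap (up _)) fun i hi x => by
          simpa [blk3_up m i hi] using h i (by omega) x).ge (mem_top x))
    (by rintro _ ⟨x, rfl⟩; exact (blk3_top m (M.comap (lo _)) fun i hi x => h (i + 1) (by omega) x).ge (mem_top x))))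

end CA.H29Su
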