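import Cfsg.Agent.Lib.Lin.H29Su2

/-! Bounded presentations of `SUₙ(q)`, `n ≥ 6`, from presentations of `SU₄(q)`. -/

set_option autoImplicit false
set_option linter.unusedSectionVars false

namespace CA.H29Su

open Matrix Cfsg CA.Phan CA.PhanA CA.CForm CA.Prs Subgroup Equiv Equiv.Perm Monoid CA.H22Embed
open scoped MatrixGroups commutatorElement

/-- the first indices -/
def e3 (m : ℕ) : Fin 3 → Fin (m + 6) := Fin.castLE (by omega)

theorem e3_inj (m : ℕ) : Function.Injective (e3 m) := Fin.castLE_injective _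

theorem ex3' {m : ℕ} (i j k : Fin (m + 6)) (h1 : i ≠ j) (h2 : j ≠ k) (h3 : i ≠ k) :
    ∃ σ : alternatingGroup (Fin (m + 6)), σ.1 (e3 m 0) = i ∧ σ.1 (e3 m 1) = j ∧ σ.1 (e3 m 2) = k := by
  obtain ⟨σ, h⟩ := exk (t := 3) (by omega) ![i, j, k] (H29Pr.inj3 h1 h2 h3)
  exact ⟨σ, h 0, h 1, h 2⟩

section UP

variable {F : Type*} [Field F] {q m : ℕ} [Fintype F] (hF : Fintype.card F = q ^ 2) {J : Type} [Group J]
  (ψ : SU 4 F q →* J) (α : alternatingGroup (Fin (m + 6)) →* J)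

/-- conjugated blocks -/
def Cj (σ : alternatingGroup (Fin (m + 6))) : SU 3 F q →* J := (MulAut.conj (α σ)).toMonoidHom.comp (ψ.comp (up 3))

theorem Cj_mul (σ τ : alternatingGroup (Fin (m + 6))) (y : SU 3 F q) :
    Cj ψ α (σ * τ) y = α σ * Cj ψ α τ y * (α σ)⁻¹ := by simp [Cj, mul_assoc]

theorem Cj_eq {σ σ' : alternatingGroup (Fin (m + 6))} {y : SU 3 F q} (h : Commute (α (σ'⁻¹ * σ)) (ψ (up 3 y))) :
    Cj ψ α σ y = Cj ψ α σ' y := by
  rw [← mul_inv_cancel_left σ' σ, Cj_mul]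
  congr 2
  exact mul_inv_eq_of_eq_mul h.eq

theorem univ6 (c ρ e u : alternatingGroup (Fin (m + 6))) (c0 : c.1 (e3 m 0) = e3 m 1) (c1 : c.1 (e3 m 1) = e3 m 2)
    (c2 : c.1 (e3 m 2) = e3 m 0) (c4 : ∀ k, ¬ k.1 < 3 → c.1 k = k) (hρ : ∀ t, (ρ.1 (e3 m t)).1 = 1 + t)
    (e0 : e.1 (e3 m 0) = e3 m 0) (e1 : e.1 (e3 m 1) = e3 m 1) (e2 : e.1 (e3 m 2) = ⟨3, by omega⟩)
    (hu : ∀ t, (u.1 (e3 m t)).1 = 3 + t) (r1 : ψ (up 3 (c3 hF)) = α c) (r2 : ∀ y, Cj ψ α ρ y = ψ (lo 3 y))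
    (r3 : ∀ s : alternatingGroup (Fin (m + 6)), (∀ t, s.1 (e3 m t) = e3 m t) → ∀ y, Commute (α s) (ψ (up 3 y)))
    (r4 : ∀ x, Commute (α e) (ψ (up 3 (up 2 x)))) (r5 : ∀ x y, Commute (ψ (up 3 x)) (Cj ψ α u y))
    (τ : ℕ → alternatingGroup (Fin (m + 6))) (hτ : ∀ i ≤ m + 3, ∀ t, ((τ i).1 (e3 m t)).1 = i + t) :
    ∃ Φ : SU (m + 6) F q →* J, ∀ i ≤ m + 3, Φ.comp (blk3 (m + 3) i) = Cj ψ α (τ i) := by
  have wd : ∀ σ σ' : alternatingGroup (Fin (m + 6)), (∀ t, σ.1 (e3 m t) = σ'.1 (e3 m t)) → ∀ y,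
      Cj ψ α σ y = Cj ψ α σ' y := fun σ σ' h y => Cj_eq ψ α (r3 _ (fun t => by simp [h]) y)
  have wd2 : ∀ σ σ' : alternatingGroup (Fin (m + 6)), σ.1 (e3 m 0) = σ'.1 (e3 m 0) → σ.1 (e3 m 1) = σ'.1 (e3 m 1) → ∀ x,
      Cj ψ α σ (up 2 x) = Cj ψ α σ' (up 2 x) := fun σ σ' h0 h1 x => Cj_eq ψ α (by
    have g0 : (σ'⁻¹ * σ).1 (e3 m 0) = e3 m 0 := by simp [h0]
    have g1 : (σ'⁻¹ * σ).1 (e3 m 1) = e3 m 1 := by simp [h1]
    generalize σ'⁻¹ * σ = g at g0 g1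
    by_cases g2 : g.1 (e3 m 2) = e3 m 2
    · exact r3 g (fun t => by fin_cases t; exacts [g0, g1, g2]) _
    have n : ∀ {s t : Fin 3}, s ≠ t → e3 m s ≠ e3 m t := fun h => (e3_inj m).ne h
    obtain ⟨k, hk⟩ := exk (t := 4) (n := m + 6) (by omega) ![e3 m 0, e3 m 1, e3 m 2, g.1 (e3 m 2)]
      (H29Pr.inj4 (n (by decide)) (n (by decide)) (g0 ▸ g.1.injective.ne (n (by decide))) (n (by decide))
        (g1 ▸ g.1.injective.ne (n (by decide))) (Ne.symm g2))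
    have k0 : k.1 (e3 m 0) = e3 m 0 := hk 0
    have k1 : k.1 (e3 m 1) = e3 m 1 := hk 1
    have k2 : k.1 (e3 m 2) = e3 m 2 := hk 2
    have k3 : k.1 ⟨3, by omega⟩ = g.1 (e3 m 2) := hk 3
    rw [← mul_inv_cancel_left (k * e) g, map_mul, map_mul]
    refine ((r3 k (fun t => by fin_cases t; exacts [k0, k1, k2]) _).mul_left (r4 x)).mul_left (r3 _ (fun t => ?_) _)
    change (k.1 * e.1)⁻¹ (g.1 _) = _
    rw [Perm.inv_eq_iff_eq, Perm.mul_apply]
    fin_cases t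
    exacts [g0.trans ((congrArg k.1 e0).trans k0).symm, g1.trans ((congrArg k.1 e1).trans k1).symm,
      ((congrArg k.1 e2).trans k3).symm])
  have Cl : ∀ σ x, Cj ψ α σ (lo 2 x) = Cj ψ α (σ * c) (up 2 x) := fun σ x => by simp [Cj, c3_up hF, r1, mul_assoc]
  have p0 : ρ.1 (e3 m 0) = e3 m 1 := Fin.ext (hρ 0)
  have p1 : ρ.1 (e3 m 1) = e3 m 2 := Fin.ext (hρ 1)
  have p2 : ρ.1 (e3 m 2) = ⟨3, by omega⟩ := Fin.ext (hρ 2)
  have sw : ∀ σ σ' : alternatingGroup (Fin (m + 6)), σ.1 (e3 m 0) = σ'.1 (e3 m 0) → σ.1 (e3 m 1) = σ'.1 (e3 m 2) →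
      σ.1 (e3 m 2) = σ'.1 (e3 m 1) → ∀ y, Cj ψ α σ y = Cj ψ α σ' (s3 hF * y * (s3 hF)⁻¹) := fun σ σ' h0 h1 h2 y => by
    have a1 : α (ρ * c * ρ⁻¹) = ψ (lo 3 (c3 hF)) := by rw [← r2, map_mul, map_mul, map_inv, ← r1]; rfl
    have a2 : Cj ψ α (c * (ρ * c * ρ⁻¹)⁻¹) y = Cj ψ α ρ (s3 hF * y * (s3 hF)⁻¹) := by
      rw [r2, ← sw4, map_mul ψ, map_inv ψ, map_mul ψ, map_mul ψ, map_inv ψ, ← a1, r1]
      simp [Cj, mul_assoc]
    have z : ∀ a b, (ρ * c * ρ⁻¹).1 b = a → (σ' * ρ⁻¹ * (c * (ρ * c * ρ⁻¹)⁻¹)).1 a = σ'.1 (ρ.1⁻¹ (c.1 b)) :=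
      fun a b h => by subst h; simp
    rw [← inv_mul_cancel_right σ' ρ, Cj_mul _ _ (σ' * ρ⁻¹), ← a2, ← Cj_mul]
    refine wd _ _ (fun t => ?_) y
    fin_cases t
    · refine h0.trans (Eq.trans ?_ (z _ (e3 m 0) ?_).symm)
      · rw [c0, ← p0]; simp
      · change ρ.1 (c.1 (ρ.1⁻¹ _)) = _
        rw [c4 _ fun h => ?_]
        · simp
        have := hρ ⟨_, h⟩
        rw [show e3 m ⟨_, h⟩ = ρ.1⁻¹ (e3 m 0) from rfl, show ρ.1 (ρ.1⁻¹ (e3 m 0)) = e3 m 0 by simp] at this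
        exact absurd this (by change 0 ≠ _; omega)
    · refine h1.trans (Eq.trans ?_ (z _ ⟨3, by omega⟩ ?_).symm)
      · rw [c4 _ (lt_irrefl 3), ← p2]; simp
      · rw [← p2]; simp [c2, p0]
    · refine h2.trans (Eq.trans ?_ (z _ (e3 m 1) ?_).symm)
      · rw [c1, ← p1]; simp
      · rw [← p0]; simp [c0, p1]
  have K3 : ∀ σ σ' : alternatingGroup (Fin (m + 6)), (∀ s t, σ.1 (e3 m s) ≠ σ'.1 (e3 m t)) → ∀ x y,
      Commute (Cj ψ α σ x) (Cj ψ α σ' y) := fun σ σ' h x y => by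
    have n : ∀ s t, e3 m s ≠ u.1 (e3 m t) := fun s t => Fin.ne_of_val_ne (by rw [hu]; exact (s.2.trans_le (by omega)).ne)
    have k : ∀ (g : alternatingGroup (Fin (m + 6))) x y, Commute (Cj ψ α g x) (Cj ψ α (g * u) y) := fun g x y => by
      rw [Cj_mul]; exact (r5 x y).map (MulAut.conj (α g))
    obtain ⟨g, e | e⟩ := H29Pr.ex_alt (a := u.1 (e3 m 1)) (b := u.1 (e3 m 2)) (Fin.append (e3 m) (u.1 ∘ e3 m))
      (Fin.append (σ.1 ∘ e3 m) (σ'.1 ∘ e3 m))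
      (Fin.append_injective_iff.2 ⟨e3_inj m, u.1.injective.comp (e3_inj m), n⟩)
      (Fin.append_injective_iff.2 ⟨σ.1.injective.comp (e3_inj m), σ'.1.injective.comp (e3_inj m), h⟩)
      (u.1.injective.ne ((e3_inj m).ne (by decide)))
    · have f := fun t => e (Fin.natAdd 3 t)
      simp only [Fin.append_right, Function.comp] at f
      rw [wd σ g fun t => by simpa using (e (Fin.castAdd 3 t)).symm, wd σ' (g * u) fun t => (f t).symm]
      exact k ..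
    · have f := fun t => e (Fin.natAdd 3 t)
      simp only [Fin.append_right, Function.comp] at f
      rw [wd σ g fun t => by
          simpa [swap_apply_of_ne_of_ne (n t 1) (n t 2)] using (e (Fin.castAdd 3 t)).symm,
        sw σ' (g * u) (by
          rw [← f, swap_apply_of_ne_of_ne (u.1.injective.ne ((e3_inj m).ne (by decide)))
            (u.1.injective.ne ((e3_inj m).ne (by decide)))]; rfl)
          (by rw [← f, swap_apply_left]; rfl) (by rw [← f, swap_apply_right]; rfl)]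
      exact k ..
  have K2 : ∀ (σ σ' : alternatingGroup (Fin (m + 6))) (k : Fin (m + 6)), σ.1 (e3 m 0) ≠ k → σ.1 (e3 m 1) ≠ k →
      (∀ t, σ.1 (e3 m 0) ≠ σ'.1 (e3 m t) ∧ σ.1 (e3 m 1) ≠ σ'.1 (e3 m t) ∧ k ≠ σ'.1 (e3 m t)) → ∀ x y,
      Commute (Cj ψ α σ (up 2 x)) (Cj ψ α σ' y) := fun σ σ' k h0 h1 h x y => by
    obtain ⟨g, g0, g1, g2⟩ := ex3' _ _ k (σ.1.injective.ne ((e3_inj m).ne (by decide : (0 : Fin 3) ≠ 1))) h1 h0
    rw [wd2 σ g g0.symm g1.symm]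
    refine K3 _ _ (fun s t => ?_) _ _
    fin_cases s
    exacts [g0 ▸ (h t).1, g1 ▸ (h t).2.1, g2 ▸ (h t).2.2]
  refine univ5 hF (m + 2) (fun i => Cj ψ α (τ i)) (fun i hi => ?_) (fun i j h h' x y => ⟨?_, ?_⟩) fun i j h h' =>
    K3 _ _ fun s t => Fin.ne_of_val_ne (by rw [hτ i (by omega), hτ j h']; omega)
  · obtain ⟨σ, hσ⟩ := exk (t := 4) (n := m + 6) (by omega) (fun t => ⟨i + t, by omega⟩) fun a b h => by
      simpa [Fin.ext_iff] using h
    refine ⟨(MulAut.conj (α σ)).toMonoidHom.comp ψ, MonoidHom.ext (wd σ _ fun t => Fin.ext ?_), MonoidHom.ext fun y => ?_⟩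
    · rw [hτ i (by omega)]; exact congrArg Fin.val (hσ t.castSucc)
    · refine Eq.trans ?_ (wd (σ * ρ) _ (fun t => Fin.ext ?_) y)
      · rw [Cj_mul, r2]; rfl
      · have := congrArg Fin.val (hσ t.succ)
        rw [hτ (i + 1) (by omega)]
        change (σ.1 (ρ.1 _)).1 = _
        rw [show ρ.1 (e3 m t) = Fin.castLE (by omega) t.succ from Fin.ext ((hρ t).trans (add_comm _ _)), this]
        simp; omega
  · have a := hτ i (by omega)
    have b := hτ j h'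
    refine K2 _ _ ⟨if j = i + 2 then (if i = 0 then 5 else 0) else i + 2, by split_ifs <;> omega⟩ ?_ ?_
      (fun t => ⟨?_, ?_, ?_⟩) x y <;> refine Fin.ne_of_val_ne ?_ <;> simp only [a, b] <;> (try split_ifs) <;> omega
  · have a := hτ i (by omega)
    have b := hτ j h'
    rw [Cl]
    refine (K2 _ _ ⟨if j = i + 2 then (if i = 0 then 5 else 0) else j, by split_ifs <;> omega⟩ ?_ ?_
      (fun t => ⟨?_, ?_, ?_⟩) x y).symm <;> refine Fin.ne_of_val_ne ?_ <;>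
      simp only [Subgroup.coe_mul, Perm.mul_apply, c0, c1, a, b] <;> (try split_ifs) <;> omega

end UP

variable {F : Type*} [Field F] {q n d r : ℕ} [Fintype F] (hF : Fintype.card F = q ^ 2)

include hF in
theorem bign (hn : 6 ≤ n) (h4 : Pres d r (SU 4 F q)) : Pres (d + 3) (r + 20) (SU n F q) := by
  obtain ⟨m, rfl⟩ : ∃ m, n = m + 6 := ⟨n - 6, by omega⟩
  obtain ⟨g, hg⟩ := (CA.AltP.three (n := m + 6) (by omega)).2
  let c : alternatingGroup (Fin (m + 6)) := ⟨swap 0 1 * swap 1 ⟨2, by omega⟩, by simp [Fin.ext_iff]⟩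
  have hc : blk3 (m + 3) 0 (c3 hF) = pm _ c := pm_c3 hF c rfl
  let e : alternatingGroup (Fin (m + 6)) := ⟨swap ⟨2, by omega⟩ ⟨3, by omega⟩ * swap ⟨3, by omega⟩ ⟨4, by omega⟩, by
    simp [Fin.ext_iff]⟩
  have e0 : e.1 (e3 m 0) = e3 m 0 := by simp [e, e3, swap_apply_def, Fin.ext_iff]
  have e1 : e.1 (e3 m 1) = e3 m 1 := by simp [e, e3, swap_apply_def, Fin.ext_iff]
  have e2 : e.1 (e3 m 2) = ⟨3, by omega⟩ := by simp [e, e3, swap_apply_def, Fin.ext_iff]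
  have ex : ∀ i ≤ m + 3, ∃ τ : alternatingGroup (Fin (m + 6)), ∀ t, (τ.1 (e3 m t)).1 = i + t := fun i hi => by
    obtain ⟨σ, hσ⟩ := exk (t := 3) (n := m + 6) (by omega) (fun t => ⟨i + t, by omega⟩) fun a b h => by
      simpa [Fin.ext_iff] using h
    exact ⟨σ, fun t => congrArg Fin.val (hσ t)⟩
  choose! τ hτ using ex
  have pb : ∀ {j : ℕ} (σ : alternatingGroup (Fin (m + 6))), j ≤ m + 3 → (∀ t, (σ.1 (e3 m t)).1 = j + t) → ∀ x,
      pm _ σ * blk3 (F := F) (q := q) (m + 3) 0 x * (pm _ σ)⁻¹ = blk3 (m + 3) j x := fun σ hj h =>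
    pm_blk3 hj σ fun a k hk => by rw [show k = e3 m a from Fin.ext hk, h]
  obtain ⟨s, s1, s2, s3⟩ := stab3 (fun k : Fin (m + 6) => ¬ k.1 < 3)
  obtain ⟨a, b, hab⟩ := su2_two hF
  obtain ⟨a', b', hab'⟩ := SuTwo.su3_two hF
  let il : SU 4 F q →* Coprod (SU 4 F q) (alternatingGroup (Fin (m + 6))) := Coprod.inl
  let ir : alternatingGroup (Fin (m + 6)) →* Coprod (SU 4 F q) (alternatingGroup (Fin (m + 6))) := Coprod.inr
  refine (H25Pr.pres_am h4 hg.fp (tl4 (m + 2)) (pm _) (((il (up 3 (c3 hF)) * (ir c)⁻¹ ::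
    [a', b'].map fun y => ir (τ 1) * il (up 3 y) * (ir (τ 1))⁻¹ * (il (lo 3 y))⁻¹) ++
    s.flatMap fun z => [a', b'].map fun y => ⁅il (up 3 y), ir z⁆) ++ (([a, b].map fun x => ⁅il (up 3 (up 2 x)), ir e⁆) ++
      [a', b'].flatMap fun x => [a', b'].map fun y => ⁅il (up 3 x), ir (τ 3) * il (up 3 y) * (ir (τ 3))⁻¹⁆)) ?_
      (MonoidHom.range_eq_top.1 (blk3_top hF (m + 3) _ fun i hi x => ?_)) fun J _ ψ α h => ?_).mono ?_
  · simp only [il, ir, List.forall_mem_append, List.forall_mem_cons, List.forall_mem_flatMap,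
      List.forall_mem_map, map_mul, map_inv,
      map_commutatorElement, Coprod.lift_apply_inl, Coprod.lift_apply_inr, mul_inv_eq_one, tl4_up, tl4_lo,
      commutatorElement_eq_one_iff_commute, pb _ (by omega) (hτ 1 (by omega)), pb _ (by omega) (hτ 3 (by omega))]
    have k : ∀ x, Commute (blk3 (F := F) (q := q) (m + 3) 0 (up 2 x)) (pm _ e) := fun x => by
      rw [blk3_comp_up _ _ _ (by omega)]
      refine (mul_inv_eq_iff_eq_mul.1 (pm_blk (i := 0) (j := 0) (by omega) (by omega) e (fun t k hk => ?_) x)).symm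
      fin_cases t
      · obtain rfl : k = e3 m 0 := Fin.ext hk
        exact congrArg Fin.val e0
      · obtain rfl : k = e3 m 1 := Fin.ext hk
        exact congrArg Fin.val e1
    have k' : ∀ x y, Commute (blk3 (F := F) (q := q) (m + 3) 0 x) (blk3 (m + 3) 3 y) := fun x y =>
      blk3_comm (by omega) (.inr le_rfl)
    refine ⟨⟨⟨hc, by simp⟩, fun y hy => ?_⟩, ⟨k a, k b, by simp⟩, ⟨k' _ _, k' _ _, by simp⟩, ⟨k' _ _, k' _ _, by simp⟩, by simp⟩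
    have := fun x => (mul_inv_eq_iff_eq_mul.1 (pb (j := 0) y (by omega) (fun t => by
      rw [s2 y hy _ (not_not.2 t.2)]; exact (zero_add _).symm) x)).symm
    exact ⟨this a', this b', by simp⟩
  · rw [← pb _ hi (hτ i hi), ← tl4_up]
    exact ⟨Coprod.inr (τ i) * Coprod.inl (up 3 x) * (Coprod.inr (τ i))⁻¹, by simp⟩
  swap
  · simp [List.length_flatMap] at s1 ⊢; omega
  simp only [il, ir, List.forall_mem_append, List.forall_mem_cons, List.forall_mem_flatMap,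
      List.forall_mem_map, map_mul, map_inv,
    map_commutatorElement, Coprod.lift_apply_inl, Coprod.lift_apply_inr, mul_inv_eq_one,
    commutatorElement_eq_one_iff_commute] at h
  obtain ⟨⟨⟨r1, r2, r2', -⟩, r3⟩, ⟨r4, r4', -⟩, ⟨r5, r6, -⟩, ⟨r7, r8, -⟩, -⟩ := h
  have g3 : ∀ (f : SU 3 F q →* J) {z : J}, Commute (f a') z → Commute (f b') z → ∀ x, Commute (f x) z :=
    fun f z h1 h2 x => comm2 (hab'.ge (mem_top x)) f (by simp [h1, h2])
  replace r2 : ∀ y, Cj ψ α (τ 1) y = ψ (lo 3 y) := DFunLike.congr_fun (show Cj ψ α (τ 1) = ψ.comp (lo 3) from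
    MonoidHom.eq_of_eqOn_dense hab' (by rintro _ (rfl | rfl); exacts [r2, r2']))
  replace r3 : ∀ σ : alternatingGroup (Fin (m + 6)), (∀ t, σ.1 (e3 m t) = e3 m t) → ∀ y,
      Commute (α σ) (ψ (up 3 y)) := fun σ h y => comm2 (s3 σ fun k hk => h ⟨k, not_not.1 hk⟩) α fun z hz =>
    (g3 (ψ.comp (up 3)) (r3 z hz).1 (r3 z hz).2.1 y).symm
  obtain ⟨Φ, hΦ⟩ := univ6 hF ψ α c (τ 1) e (τ 3) (by simp [c, e3, swap_apply_def, Fin.ext_iff])
    (by simp [c, e3, swap_apply_def, Fin.ext_iff]) (by simp [c, e3, swap_apply_def, Fin.ext_iff])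
    (fun b hb => by
      have k0 : b ≠ 0 := fun e => by subst e; exact hb (by decide : 0 < 3)
      have k1 : b ≠ 1 := fun e => by subst e; exact hb (by decide : 1 < 3)
      have k2 : b ≠ ⟨2, by omega⟩ := fun e => by rw [e] at hb; exact hb (by decide : 2 < 3)
      simp only [c, Perm.mul_apply]
      rw [swap_apply_of_ne_of_ne k1 k2, swap_apply_of_ne_of_ne k0 k1]) (hτ 1 (by omega)) e0 e1 e2 (hτ 3 (by omega)) r1 r2 r3
    (fun x => (comm2 (hab.ge (mem_top x)) (ψ.comp ((up 3).comp (up 2))) (by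
      rintro _ (rfl | rfl); exacts [r4, r4'])).symm)
    (fun x y => g3 (ψ.comp (up 3)) (g3 (Cj ψ α (τ 3)) r5.symm r6.symm y).symm (g3 (Cj ψ α (τ 3)) r7.symm r8.symm y).symm x)
    τ hτ
  replace hΦ : ∀ i ≤ m + 3, ∀ x, Φ (blk3 (m + 3) i x) = Cj ψ α (τ i) x := fun i hi => DFunLike.congr_fun (hΦ i hi)
  refine ⟨Φ, blk3_ext hF 1 _ _ fun i hi => MonoidHom.ext fun y => ?_,
    MonoidHom.eq_of_eqOn_top fun σ _ => (alt_top ((Φ.comp (pm _)).eqLocus α) fun i c' hc' => ?_).ge (mem_top σ)⟩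
  · interval_cases i
    · exact (congrArg Φ (tl4_up (m + 2) y)).trans ((hΦ 0 (by omega) y).trans (mul_inv_eq_of_eq_mul
        (r3 _ (fun t => Fin.ext ((hτ 0 (by omega) t).trans (zero_add _))) y).eq))
    · exact (congrArg Φ (tl4_lo (m + 2) y)).trans ((hΦ 1 (by omega) y).trans (r2 y))
  have hi : i.1 ≤ m + 3 := by omega
  obtain rfl : c' = τ i * c * (τ i)⁻¹ := Subtype.ext (by
    rw [hc', show i.castSucc.castSucc = (τ i).1 0 from Fin.ext (hτ i hi 0).symm,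
      show i.succ.castSucc = (τ i).1 1 from Fin.ext (hτ i hi 1).symm,
      show i.castSucc.succ = (τ i).1 1 from Fin.ext (hτ i hi 1).symm,
      show i.succ.succ = (τ i).1 ⟨2, by omega⟩ from Fin.ext (hτ i hi 2).symm, swap_apply_apply, swap_apply_apply]
    simp [c, mul_assoc])
  change Φ _ = _
  rw [map_mul (pm _), map_mul (pm _), map_inv (pm _), ← hc, pb _ hi (hτ i hi), hΦ i hi, map_mul, map_mul, map_inv, ← r1]
  rfl

end CA.H29Su
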