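import Cfsg.Agent.Lib.Lin.H2NB
import Cfsg.Agent.Lib.Odd.BG4x3

/-! Modules of Frobenius groups are free over the complement. -/

set_option autoImplicit false

namespace CA.H2Free
open Subgroup
open scoped commutatorElement
universe u

variable {k V A : Type*} [Field k] [AddCommGroup V] [Module k V] [Group A]

/-- `V` is a free module for `H`. -/
def Fr (ρ : Representation k A V) (H : Subgroup A) [Fintype H] : Prop :=
  ∃ W : Submodule k V, (∀ w : H → V, (∀ h, w h ∈ W) → ∑ h : H, ρ h (w h) = 0 → ∀ h, w h = 0) ∧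
    ∀ v, ∃ w : H → V, (∀ h, w h ∈ W) ∧ ∑ h : H, ρ h (w h) = v

variable (ρ : Representation k A V) {H Z : Subgroup A}

theorem fr_of_compl [Fintype H] {U₁ U₂ : Submodule k V} (h₁ : ∀ g, U₁ ≤ U₁.comap (ρ g))
    (h₂ : ∀ g, U₂ ≤ U₂.comap (ρ g)) (hc : IsCompl U₁ U₂) (f₁ : Fr (ρ.subrepresentation U₁ h₁) H)
    (f₂ : Fr (ρ.subrepresentation U₂ h₂) H) : Fr ρ H := by
  obtain ⟨W₁, i₁, s₁⟩ := f₁
  obtain ⟨W₂, i₂, s₂⟩ := f₂
  refine ⟨W₁.map U₁.subtype ⊔ W₂.map U₂.subtype, fun w hw h0 => ?_, fun v => ?_⟩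
  · have : ∀ h, ∃ a ∈ W₁, ∃ b ∈ W₂, (a : V) + b = w h := fun h => by
      obtain ⟨_, ⟨a, ha, rfl⟩, _, ⟨b, hb, rfl⟩, e⟩ := Submodule.mem_sup.1 (hw h)
      exact ⟨a, ha, b, hb, e⟩
    choose a ha b hb e using this
    have e1 : ((∑ h : H, ρ.subrepresentation U₁ h₁ h (a h) : U₁) : V) +
        ((∑ h : H, ρ.subrepresentation U₂ h₂ h (b h) : U₂) : V) = 0 := by
      rw [← h0, Submodule.coe_sum, Submodule.coe_sum, ← Finset.sum_add_distrib]
      exact Finset.sum_congr rfl fun h _ => by rw [← e, map_add]; rfl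
    have e2 := Submodule.disjoint_iff_add_eq_zero.1 hc.disjoint (Subtype.property _)
      (Subtype.property _) e1
    intro h
    rw [← e, i₁ a ha (Subtype.ext e2.1) h, i₂ b hb (Subtype.ext e2.2) h]
    simp
  · obtain ⟨a, ha, b, hb, rfl⟩ := Submodule.mem_sup.1 (hc.sup_eq_top.ge (Submodule.mem_top (x := v)))
    obtain ⟨x, hx, ex⟩ := s₁ ⟨a, ha⟩
    obtain ⟨y, hy, ey⟩ := s₂ ⟨b, hb⟩
    refine ⟨fun h => x h + y h, fun h => Submodule.add_mem_sup ⟨_, hx h, rfl⟩ ⟨_, hy h, rfl⟩, ?_⟩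
    have e1 := congrArg Subtype.val ex
    have e2 := congrArg Subtype.val ey
    rw [Submodule.coe_sum] at e1 e2
    simp only [map_add, Finset.sum_add_distrib]
    exact congrArg₂ _ e1 e2

/-- the double centralizer of the image of `Z` -/
def RR (Z : Subgroup A) : Subalgebra k (Module.End k V) :=
  Subalgebra.centralizer k (Subalgebra.centralizer k (Set.range fun z : Z => ρ z) : Set _)

theorem mem_RR {r : Module.End k V} :
    r ∈ RR ρ Z ↔ ∀ x, (∀ z : Z, ρ z * x = x * ρ z) → x * r = r * x := by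
  simp [RR, Subalgebra.mem_centralizer_iff, Set.mem_centralizer_iff]

theorem rho_mem (z : Z) : ρ z ∈ RR ρ Z := (mem_RR ρ).2 fun _ h => (h z).symm

theorem conj_mem {g : A} (hg : g ∈ normalizer (Z : Set A)) {r : Module.End k V} (hr : r ∈ RR ρ Z) :
    ρ g * r * ρ g⁻¹ ∈ RR ρ Z := by
  refine (mem_RR ρ).2 fun x hx => ?_
  have h1 := (mem_RR ρ).1 hr (ρ g⁻¹ * x * ρ g) fun z => by
    have h2 := hx ⟨g * z * g⁻¹, (mem_normalizer_iff.1 hg z).1 z.2⟩
    calc ρ z * (ρ g⁻¹ * x * ρ g) = ρ g⁻¹ * (ρ (g * z * g⁻¹) * x) * ρ g := by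
          simp only [← mul_assoc, ← map_mul]; congr 3; group
      _ = _ := by
          rw [h2]; simp only [mul_assoc, ← map_mul]; congr 3; group
  calc x * (ρ g * r * ρ g⁻¹) = ρ g * (ρ g⁻¹ * x * ρ g * r) * ρ g⁻¹ := by
        simp only [← mul_assoc, ← map_mul, mul_inv_cancel, map_one, one_mul]
    _ = _ := by
        rw [h1]; simp only [mul_assoc, ← map_mul, mul_inv_cancel, map_one, mul_one]

theorem core [FiniteDimensional k V] [Fintype H] [Fintype Z] (hn : H ≤ normalizer (Z : Set A))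
    (hc : ∀ z w : Z, ρ z * ρ w = ρ w * ρ z) (hs : ∑ z : Z, ρ z = 0)
    (hcard : (Fintype.card Z : k) ≠ 0)
    (hf : ∀ h ∈ H, h ≠ 1 → ∀ z ∈ Z, h * z * h⁻¹ = z → z = 1) : Fr ρ H := by
  classical
  letI : CommRing (RR ρ Z) :=
    { (inferInstance : Ring (RR ρ Z)) with
      mul_comm := fun a b => Subtype.ext ((mem_RR ρ).1 b.2 a fun z =>
        (mem_RR ρ).1 a.2 (ρ z) fun w => hc w z) }
  letI : MulSemiringAction H (RR ρ Z) :=
    { smul := fun g r => ⟨ρ g * r * ρ (g : A)⁻¹, conj_mem ρ (hn g.2) r.2⟩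
      one_smul := fun r => Subtype.ext (by
        change ρ ((1 : H) : A) * r * ρ ((1 : H) : A)⁻¹ = r
        simp)
      mul_smul := fun g h r => Subtype.ext (by
        change ρ ((g * h : H) : A) * r * ρ ((g * h : H) : A)⁻¹ =
          ρ g * (ρ h * r * ρ (h : A)⁻¹) * ρ (g : A)⁻¹
        simp [mul_assoc])
      smul_zero := fun g => Subtype.ext (by
        change ρ g * 0 * ρ (g : A)⁻¹ = 0
        simp)
      smul_add := fun g r s => Subtype.ext (by
        change ρ g * (r + s) * ρ (g : A)⁻¹ = ρ g * r * ρ (g : A)⁻¹ + ρ g * s * ρ (g : A)⁻¹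
        rw [mul_add, add_mul])
      smul_one := fun g => Subtype.ext (by
        change ρ g * 1 * ρ (g : A)⁻¹ = 1
        rw [mul_one, ← map_mul, mul_inv_cancel, map_one])
      smul_mul := fun g r s => Subtype.ext (by
        change ρ g * (r * s) * ρ (g : A)⁻¹ = ρ g * r * ρ (g : A)⁻¹ * (ρ g * s * ρ (g : A)⁻¹)
        simp only [mul_assoc]
        rw [← mul_assoc (ρ (g : A)⁻¹), ← map_mul, inv_mul_cancel, map_one, one_mul]) }
  have sm : ∀ (g : H) (r : RR ρ Z), ((g • r : RR ρ Z) : Module.End k V) = ρ g * r * ρ (g : A)⁻¹ :=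
    fun _ _ => rfl
  haveI : IsArtinianRing (RR ρ Z) := IsArtinianRing.of_finite k _
  obtain ⟨b, hb⟩ := CA.H2NB.nb_ring (R := RR ρ Z) (H := H) fun σ hσ m hm => by
    by_contra hcon
    push Not at hcon
    let y : Z → RR ρ Z := fun z => ⟨ρ z, rho_mem ρ z⟩
    have h1 : ∑ z : Z, y z⁻¹ * (σ • y z - y z) ∈ m :=
      m.sum_mem fun z _ => m.mul_mem_left _ (hcon _)
    let φ : Z → Z := fun z => z⁻¹ * ⟨σ * z * (σ : A)⁻¹, (mem_normalizer_iff.1 (hn σ.2) z).1 z.2⟩
    have hφ : Function.Bijective φ := Finite.injective_iff_bijective.1 fun z w e => by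
      have e' : (z : A)⁻¹ * (σ * z * (σ : A)⁻¹) = (w : A)⁻¹ * (σ * w * (σ : A)⁻¹) :=
        congrArg Subtype.val e
      have := hf σ σ.2 (fun e => hσ (Subtype.ext e)) (z * (w : A)⁻¹) (mul_mem z.2 (inv_mem w.2)) (by
        calc (σ : A) * ((z : A) * (w : A)⁻¹) * (σ : A)⁻¹
            = (z : A) * ((z : A)⁻¹ * (σ * z * (σ : A)⁻¹)) * ((σ : A) * w * (σ : A)⁻¹)⁻¹ := by group
          _ = _ := by rw [e']; group)
      exact Subtype.ext (mul_inv_eq_one.1 this)
    have h2 : ∑ z : Z, y z⁻¹ * (σ • y z - y z) = algebraMap k _ (-(Fintype.card Z : k)) := by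
      apply Subtype.ext
      have h3 : ∀ z : Z, ((y z⁻¹ * (σ • y z - y z) : RR ρ Z) : Module.End k V) = ρ (φ z) - 1 :=
        fun z => by
          change ρ (z : A)⁻¹ * (ρ σ * ρ z * ρ (σ : A)⁻¹ - ρ z) = ρ ((z : A)⁻¹ * (σ * z * (σ : A)⁻¹)) - 1
          rw [mul_sub, ← map_mul ρ (z : A)⁻¹ z, inv_mul_cancel, map_one, map_mul, map_mul, map_mul]
      rw [AddSubmonoidClass.coe_finsetSum, Finset.sum_congr rfl fun z _ => h3 z,
        Finset.sum_sub_distrib, hφ.sum_comp (fun z : Z => ρ z), hs]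
      simp
    rw [h2] at h1
    exact hm.ne_top (m.eq_top_of_isUnit_mem h1 ((neg_ne_zero.2 hcard).isUnit.map _))
  set M : Matrix H H (RR ρ Z) := Matrix.of fun s t : H => (s⁻¹ * t) • b with hM
  have cmp : ∀ (P Q : Matrix H H (RR ρ Z)), P * Q = 1 → ∀ (x : H → V) (κ : H),
      ∑ σ, (P κ σ : Module.End k V) (∑ τ, (Q σ τ : Module.End k V) (x τ)) = x κ := by
    intro P Q e x κ
    simp only [map_sum]
    rw [Finset.sum_comm, Finset.sum_eq_single κ]
    · have := congrArg (fun r : RR ρ Z => (r : Module.End k V) (x κ)) (congrFun (congrFun e κ) κ)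
      simpa [Matrix.mul_apply] using this
    · intro τ _ hτ
      have := congrArg (fun r : RR ρ Z => (r : Module.End k V) (x τ)) (congrFun (congrFun e κ) τ)
      simpa [Matrix.mul_apply, Matrix.one_apply_ne hτ.symm] using this
    · simp
  have inj : ∀ x : H → V, (∀ σ, ∑ τ, (M σ τ : Module.End k V) (x τ) = 0) → ∀ κ, x κ = 0 := by
    intro x hx κ
    rw [← cmp _ _ (M.nonsing_inv_mul hb) x κ]
    simp [hx]
  let U : Submodule k V := ⨅ h : H, LinearMap.eqLocus (ρ h) LinearMap.id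
  have hU : ∀ u, u ∈ U ↔ ∀ h : H, ρ h u = u := fun u => by simp [U]
  have key : ∀ u ∈ U, ∀ σ τ : H, (M σ τ : Module.End k V) u =
      ρ (σ : A)⁻¹ (ρ τ ((b : Module.End k V) u)) := fun u hu σ τ => by
    have := (hU u).1 hu (σ⁻¹ * τ)⁻¹
    rw [hM, Matrix.of_apply, sm, Module.End.mul_apply, Module.End.mul_apply, ← InvMemClass.coe_inv,
      this, Subgroup.coe_mul, map_mul]
    rfl
  refine ⟨U.map (b : Module.End k V), fun w hw h0 => ?_, fun v => ?_⟩
  · choose u hu e using hw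
    intro h
    rw [← e, inj u (fun σ => ?_) h, map_zero]
    rw [Finset.sum_congr rfl fun τ _ => key _ (hu τ) σ τ, ← map_sum]
    simp only [e]
    rw [h0, map_zero]
  · let x : H → V := fun τ => ∑ σ, (M⁻¹ τ σ : Module.End k V) (ρ (σ : A)⁻¹ v)
    have hx : ∀ σ, ∑ τ, (M σ τ : Module.End k V) (x τ) = ρ (σ : A)⁻¹ v := fun σ =>
      cmp _ _ (M.mul_nonsing_inv hb) (fun σ => ρ (σ : A)⁻¹ v) σ
    have hxU : ∀ τ, x τ ∈ U := fun τ => (hU _).2 fun g => by
      refine sub_eq_zero.1 (inj (fun τ => ρ g (x τ) - x τ) (fun σ => ?_) τ)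
      have h1 : ∀ τ, (M σ τ : Module.End k V) (ρ g (x τ)) =
          ρ g ((M (σ * g) τ : Module.End k V) (x τ)) := fun τ => by
        have : M σ τ = g • M (σ * g) τ := by
          simp only [hM, Matrix.of_apply, ← mul_smul]
          congr 1
          group
        rw [this, sm, Module.End.mul_apply, Module.End.mul_apply, ← Module.End.mul_apply (ρ _) (ρ g),
          ← map_mul, inv_mul_cancel, map_one, Module.End.one_apply]
      simp only [map_sub, Finset.sum_sub_distrib, h1]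
      rw [← map_sum, hx, hx, ← Module.End.mul_apply, ← map_mul]
      simp
    refine ⟨fun τ => (b : Module.End k V) (x τ), fun τ => ⟨_, hxU τ, rfl⟩, ?_⟩
    have := hx 1
    simpa [key _ (hxU _)] using this

open CA.BG in
theorem main_aux [Finite A] [Fintype H] {F : Subgroup A} [hF : F.Normal] (hs : Group.IsSolvable F)
    (hcard : (Nat.card F : k) ≠ 0) (hf : ∀ h ∈ H, h ≠ 1 → ∀ z ∈ F, h * z * h⁻¹ = z → z = 1)
    (n : ℕ) : ∀ {V : Type u} [AddCommGroup V] [Module k V] [FiniteDimensional k V]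
      (ρ : Representation k A V), Module.finrank k V < n →
      (∀ v, (∀ f ∈ F, ρ f v = v) → v = 0) → Fr ρ H := by
  classical
  induction n with
  | zero => intro V _ _ _ ρ h; exact absurd h (Nat.not_lt_zero _)
  | succ n ih =>
  intro V _ _ _ ρ hn hC
  by_cases h0 : F ≤ ρ.ker
  · have : ∀ v : V, v = 0 := fun v => hC v fun f hf => by rw [MonoidHom.mem_ker.1 (h0 hf)]; rfl
    exact ⟨⊥, fun w _ _ h => this _, fun v => ⟨0, fun h => zero_mem _, (this _).trans (this _).symm⟩⟩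
  obtain ⟨Z, hZF, ⟨hZn, hZ⟩, hmin⟩ := exists_minimal_le
    (P := fun Z : Subgroup A => Z.Normal ∧ ¬ Z ≤ ρ.ker) (H := F) ⟨hF, h0⟩
  haveI := Fintype.ofFinite Z
  have h1 : ⁅Z, Z⁆ ≤ ρ.ker := by
    by_contra h
    have h2 := der_lt_of_solv (CA.Coprime.isSolvable_of_le hZF) (fun e => hZ (e.le.trans bot_le))
    exact h2.ne (hmin _ ⟨inferInstance, h⟩ h2.le)
  have hc : (Fintype.card Z : k) ≠ 0 := by
    obtain ⟨d, hd⟩ := card_dvd_of_le hZF
    rw [hd, Nat.cast_mul] at hcard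
    rw [← Nat.card_eq_fintype_card]
    exact left_ne_zero_of_mul hcard
  set s : Module.End k V := ∑ z : Z, ρ z with hs'
  have s1 : ∀ z : Z, ρ z * s = s := fun z => by
    rw [hs', Finset.mul_sum]
    exact Fintype.sum_equiv (Equiv.mulLeft z) _ _ fun w => (map_mul ρ _ _).symm
  have s2 : ∀ g, ρ g * s = s * ρ g := fun g => by
    rw [hs', Finset.mul_sum, Finset.sum_mul]
    refine Fintype.sum_equiv (MulAut.conjNormal (H := Z) g).toEquiv _ _ fun w => ?_
    rw [← map_mul, ← map_mul]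
    congr 1
    change g * w = g * w * g⁻¹ * g
    group
  set e : Module.End k V := (Fintype.card Z : k)⁻¹ • s with he
  have e1 : IsIdempotentElem e := by
    have : s * s = (Fintype.card Z : k) • s := by
      conv_lhs => rw [hs', Finset.sum_mul]
      rw [Finset.sum_congr rfl fun z _ => s1 z, Finset.sum_const, Finset.card_univ,
        Nat.cast_smul_eq_nsmul]
    rw [IsIdempotentElem, he, smul_mul_smul_comm, this, smul_smul, mul_assoc, inv_mul_cancel₀ hc,
      mul_one]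
  have e2 : ∀ g v, ρ g (e v) = e (ρ g v) := fun g v => by
    rw [← Module.End.mul_apply, ← Module.End.mul_apply, he, mul_smul_comm, smul_mul_assoc, s2]
  have i0 : ∀ g, LinearMap.range e ≤ (LinearMap.range e).comap (ρ g) := by
    rintro g _ ⟨v, rfl⟩
    exact ⟨ρ g v, (e2 g v).symm⟩
  have i1 : ∀ g, LinearMap.ker e ≤ (LinearMap.ker e).comap (ρ g) := fun g v hv => by
    change e (ρ g v) = 0
    rw [← e2, LinearMap.mem_ker.1 hv, map_zero]
  refine fr_of_compl ρ i0 i1 (LinearMap.IsIdempotentElem.isCompl e1)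
    (ih _ ?_ fun v hv => Subtype.ext (hC v fun f hf => congrArg Subtype.val (hv f hf)))
    (core _ (Z := Z) (by rw [normalizer_eq_top]; exact le_top) (fun z w => ?_) ?_ hc
      fun h hh h1 z hz => hf h hh h1 z (hZF hz))
  · refine (Submodule.finrank_lt fun h => hZ fun z hz => ?_).trans_le (Nat.lt_succ_iff.1 hn)
    refine MonoidHom.mem_ker.2 (LinearMap.ext fun v => ?_)
    obtain ⟨w, rfl⟩ := h.ge (Submodule.mem_top (x := v))
    rw [← Module.End.mul_apply, he, mul_smul_comm, s1 ⟨z, hz⟩, Module.End.one_apply]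
  · have h2 := MonoidHom.mem_ker.1 (h1 (commutator_mem_commutator z.2 w.2))
    have h3 : ρ (z * w) = ρ (w * z) := by
      rw [show (z : A) * w = ⁅(z : A), (w : A)⁆ * (w * z) by rw [commutatorElement_def]; group,
        map_mul, h2, one_mul]
    rw [← map_mul, ← map_mul]
    exact LinearMap.ext fun v => Subtype.ext (LinearMap.congr_fun h3 v)
  · refine LinearMap.ext fun v => Subtype.ext ?_
    have h2 : s v = 0 := by
      have : (Fintype.card Z : k)⁻¹ • s v = 0 := LinearMap.mem_ker.1 v.2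
      exact (smul_eq_zero.1 this).resolve_left (inv_ne_zero hc)
    rw [LinearMap.sum_apply, Submodule.coe_sum]
    rw [hs', LinearMap.sum_apply] at h2
    exact h2

theorem Fr.isInternal [Fintype H] [DecidableEq A] (h : Fr ρ H) :
    ∃ W : Submodule k V, DirectSum.IsInternal (fun h : H => W.map (ρ (h : A))) := by
  classical
  obtain ⟨W, h1, h2⟩ := h
  refine ⟨W, (DirectSum.isInternal_submodule_iff_iSupIndep_and_iSup_eq_top _).2 ⟨?_, ?_⟩⟩
  · rw [iSupIndep_iff_finsetSum_eq_zero_imp_eq_zero]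
    intro s v hv h0 i hi
    choose w hw e using hv
    have := h1 (fun j => if h : j ∈ s then w j h else 0)
      (fun j => by split_ifs with h; exacts [hw j h, zero_mem _]) (by
        rw [← Finset.sum_subset (Finset.subset_univ s) fun j _ hj => by simp [hj]]
        exact (Finset.sum_congr rfl fun j hj => by simp [hj, e]).trans h0) i
    rw [dif_pos hi] at this
    rw [← e i hi, this, map_zero]
  · refine eq_top_iff.2 fun v _ => ?_
    obtain ⟨w, hw, rfl⟩ := h2 v
    exact Submodule.sum_mem _ fun j _ => Submodule.mem_iSup_of_mem j ⟨_, hw j, rfl⟩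

end CA.H2Free
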