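import Mathlib

/-! Normal basis generators for Galois actions on semilocal commutative rings. -/

set_option autoImplicit false

namespace CA.H2NB
open Pointwise

theorem nb_field {K S : Type*} [Field K] [Group S] [Fintype S] [DecidableEq S]
    [MulSemiringAction S K] [FaithfulSMul S K] :
    ∃ b : K, (Matrix.of fun s t : S => (s⁻¹ * t) • b).det ≠ 0 := by
  classical
  let E := FixedPoints.subfield S K
  let e := FixedPoints.toAlgAutMulEquiv S K
  let B := IsGalois.normalBasis E K
  refine ⟨B 1, fun h => ?_⟩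
  obtain ⟨d, hd, h1⟩ := Matrix.exists_vecMul_eq_zero_iff.2 h
  have h2 : ∀ x : K, ∑ s, d s * s⁻¹ • x = 0 := by
    let f : K →ₗ[E] K :=
      { toFun := fun x => ∑ s, d s * s⁻¹ • x
        map_add' := fun x y => by simp [mul_add, Finset.sum_add_distrib]
        map_smul' := fun c x => by
          simp only [RingHom.id_apply, Finset.smul_sum]
          refine Finset.sum_congr rfl fun s _ => ?_
          change d s * s⁻¹ • ((c : K) * x) = (c : K) * (d s * s⁻¹ • x)
          rw [smul_mul', c.2 s⁻¹]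
          ring }
    have : f = 0 := B.ext fun σ => by
      obtain ⟨t, rfl⟩ := e.surjective σ
      have h3 := congrFun h1 t
      rw [IsGalois.normalBasis_apply]
      simp only [Matrix.vecMul, dotProduct, Matrix.of_apply, mul_smul] at h3
      exact h3
    exact fun x => LinearMap.congr_fun this x
  have h3 := (linearIndependent_monoidHom K K).comp
    (fun s : S => MulDistribMulAction.toMonoidHom K s⁻¹) fun s t hst => by
      have : s⁻¹ = t⁻¹ := eq_of_smul_eq_smul (α := K) fun x => DFunLike.congr_fun hst x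
      exact inv_injective this
  refine hd (funext fun s => Fintype.linearIndependent_iff.1 h3 d (funext fun x => ?_) s)
  simpa using h2 x

variable {R H : Type*} [CommRing R] [Group H] [Fintype H] [DecidableEq H] [MulSemiringAction H R]

theorem nb_local (m : Ideal R) [m.IsMaximal] (hG : ∀ σ : H, σ ≠ 1 → ∃ r, σ • r - r ∉ m) :
    ∃ b : R, ∀ b' : R, b' - b ∈ m → (∀ u, u ∉ MulAction.stabilizer H m → u • b' ∈ m) →
      ∀ c : H → R, (∀ s ∈ MulAction.stabilizer H m, ∑ u, (s⁻¹ * u) • b' * c u ∈ m) → c 1 ∈ m := by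
  classical
  letI := Ideal.Quotient.field m
  set S := MulAction.stabilizer H m
  letI : MulSemiringAction S (R ⧸ m) :=
    MulSemiringAction.compHom _ (Ideal.Quotient.stabilizerHom m (m.under ℤ) H)
  have hs : ∀ (s : S) (r : R), s • Ideal.Quotient.mk m r = Ideal.Quotient.mk m ((s : H) • r) :=
    fun _ _ => rfl
  haveI : FaithfulSMul S (R ⧸ m) := ⟨fun {s t} h => by
    by_contra hne
    obtain ⟨r, hr⟩ := hG ((t⁻¹ * s : S) : H) fun e => hne (inv_mul_eq_one.1 (Subtype.ext e)).symm
    apply hr
    rw [← Ideal.Quotient.eq, ← hs, mul_smul, h, inv_smul_smul]⟩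
  obtain ⟨b, hb⟩ := nb_field (K := R ⧸ m) (S := S)
  obtain ⟨b, rfl⟩ := Ideal.Quotient.mk_surjective b
  refine ⟨b, fun b' h1 h2 c h3 => ?_⟩
  rw [← Ideal.Quotient.eq.2 h1] at hb
  have h4 := Matrix.eq_zero_of_mulVec_eq_zero hb (v := fun t : S => Ideal.Quotient.mk m (c t))
    (funext fun s => by
      have h5 := Ideal.Quotient.eq_zero_iff_mem.2 (h3 s s.2)
      rw [map_sum, ← Fintype.sum_subtype_add_sum_subtype (fun u => u ∈ S),
        Finset.sum_eq_zero (s := Finset.univ (α := {u // ¬ u ∈ S})) fun u _ => ?_, add_zero] at h5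
      · simpa [Matrix.mulVec, dotProduct, hs] using h5
      · refine Ideal.Quotient.eq_zero_iff_mem.2 (m.mul_mem_right _ (h2 _ fun e => u.2 ?_))
        simpa using S.mul_mem s.2 e)
  exact Ideal.Quotient.eq_zero_iff_mem.1 (congrFun h4 1)

theorem nb_ring [Finite (MaximalSpectrum R)]
    (hG : ∀ σ : H, σ ≠ 1 → ∀ m : Ideal R, m.IsMaximal → ∃ r, σ • r - r ∉ m) :
    ∃ b : R, IsUnit (Matrix.of fun s t : H => (s⁻¹ * t) • b).det := by
  classical
  choose f hf using fun m : MaximalSpectrum R =>
    nb_local (H := H) m.asIdeal fun σ h => hG σ h _ m.isMaximal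
  have hmax : ∀ (g : H) (m : Ideal R), m.IsMaximal → (g • m).IsMaximal := fun g m hm =>
    Ideal.map_isMaximal_of_equiv (MulSemiringAction.toRingEquiv H R g)
  let rep : Ideal R → Ideal R := fun m => (Quotient.mk (MulAction.orbitRel H (Ideal R)) m).out
  have rep1 : ∀ m, ∃ g : H, g • m = rep m := fun m =>
    Quotient.mk_out (s := MulAction.orbitRel H (Ideal R)) m
  have rep2 : ∀ (g : H) m, rep (g • m) = rep m := fun g m =>
    congrArg Quotient.out (Quotient.sound ⟨g, rfl⟩)
  obtain ⟨b, hb⟩ := Ideal.exists_forall_sub_mem_ideal (I := fun m : MaximalSpectrum R => m.asIdeal)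
    (fun m m' h => MaximalSpectrum.isCoprime_of_ne h)
    fun m => if rep m.asIdeal = m.asIdeal then f m else 0
  refine ⟨b, ?_⟩
  by_contra hn
  obtain ⟨m', hm', hd⟩ := exists_max_ideal_of_mem_nonunits hn
  letI := Ideal.Quotient.field m'
  have h1 := Ideal.Quotient.eq_zero_iff_mem.2 hd
  rw [RingHom.map_det] at h1
  obtain ⟨c, hc, h2⟩ := Matrix.exists_mulVec_eq_zero_iff.2 h1
  obtain ⟨τ, hτ⟩ := Function.ne_iff.1 hc
  choose c' hc' using fun t => Ideal.Quotient.mk_surjective (c t)
  obtain ⟨g, hg⟩ := rep1 m'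
  let m : MaximalSpectrum R := ⟨g • m', hmax g m' hm'⟩
  have hr : rep m.asIdeal = m.asIdeal := (rep2 g m').trans hg.symm
  have h3 := hf m b (by simpa [hr] using hb m) (fun u hu => by
      have h4 := hb ⟨u⁻¹ • m.asIdeal, hmax _ _ m.isMaximal⟩
      rw [if_neg, sub_zero] at h4
      · simpa using Ideal.mem_pointwise_smul_iff_inv_smul_mem.1 h4
      · intro e
        rw [rep2, hr] at e
        exact hu (by simpa using (MulAction.stabilizer H m.asIdeal).inv_mem e.symm))
    (fun u => g • c' (τ * u)) fun s hs => by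
      have h4 := congrFun h2 (τ * s * g)
      simp only [Matrix.mulVec, dotProduct, RingHom.mapMatrix_apply, Matrix.map_apply,
        Matrix.of_apply, ← hc', ← map_mul, ← map_sum, Pi.zero_apply] at h4
      have h5 := (Ideal.smul_mem_pointwise_smul_iff (a := g)).2
        (Ideal.Quotient.eq_zero_iff_mem.1 h4)
      rw [Finset.smul_sum, ← Equiv.sum_comp (Equiv.mulLeft τ)] at h5
      convert h5 using 2 with u
      rw [smul_mul', ← mul_smul]
      congr 2
      simp [mul_assoc]
  rw [mul_one] at h3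
  apply hτ
  rw [← hc']
  exact Ideal.Quotient.eq_zero_iff_mem.2 (Ideal.smul_mem_pointwise_smul_iff.1 h3)

end CA.H2NB
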