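import Cfsg.Agent.Lib.Lin.PSL2Four
import Cfsg.Agent.Lib.Odd.BGPi
import Cfsg.Agent.Lib.Grp.PGBasic

/-! Redundant Sylow subgroups of `SL₂(q)` and `PSL₂(q)`. -/

namespace CA.H7Red
open Subgroup
open scoped Pointwise

section general
variable {G : Type*} [Group G] [Finite G] {p : ℕ} [hp : Fact p.Prime]

/-- some element lies in a unique Sylow subgroup -/
def Uq (p : ℕ) (G : Type*) [Group G] : Prop :=
  ∃ (x : G) (P : Sylow p G), x ∈ P ∧ ∀ Q : Sylow p G, x ∈ Q → Q = P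

theorem red_iff : (∃ Q : Sylow p G, ∀ x : G, (∃ k : ℕ, orderOf x = p ^ k) →
    ∃ P : Sylow p G, P ≠ Q ∧ x ∈ P) ↔ ¬ Uq p G := by
  constructor
  · rintro ⟨Q, hQ⟩ ⟨x, P, hx, h⟩
    obtain ⟨g, rfl⟩ := MulAction.exists_smul_eq G P Q
    obtain ⟨k, hk⟩ := IsPGroup.iff_orderOf.1 P.isPGroup' ⟨x, hx⟩
    obtain ⟨R, h1, h2⟩ := hQ (g * x * g⁻¹) ⟨k, by
      rw [PSL2Struct.orderOf_conj, ← hk, orderOf_mk]⟩
    refine h1 ?_
    rw [← h (g⁻¹ • R) ?_, smul_inv_smul]
    change x ∈ MulAut.conj g⁻¹ • (R : Subgroup G)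
    rw [mem_pointwise_smul_iff_inv_smul_mem]
    have : g * x * g⁻¹ ∈ (R : Subgroup G) := h2
    simpa using this
  · intro h
    refine ⟨Classical.arbitrary _, fun x ⟨k, hk⟩ => ?_⟩
    obtain ⟨P, hP⟩ := (IsPGroup.of_card (G := zpowers x) (by rw [Nat.card_zpowers, hk])).exists_le_sylow
    by_contra hc
    push Not at hc
    refine h ⟨x, P, hP (mem_zpowers x), fun Q hQ => ?_⟩
    have h1 : Q = Classical.arbitrary _ := by by_contra e; exact hc Q e hQ
    have h2 : P = Classical.arbitrary _ := by by_contra e; exact hc P e (hP (mem_zpowers x))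
    rw [h1, h2]

theorem mem_of_map {H : Type*} [Group H] {f : G →* H} (hf : f.ker ≤ center G) {P Q : Sylow p G}
    {y : G} (hy : y ∈ Q) (h : f y ∈ (P : Subgroup G).map f) : y ∈ P := by
  obtain ⟨a, ha, e⟩ := h
  have h1 : a⁻¹ * y ∈ center G := hf (by simp [MonoidHom.mem_ker, e])
  have h2 : y ∈ normalizer (P : Set G) := by
    rw [show y = a * (a⁻¹ * y) by group]
    exact mul_mem (le_normalizer ha) (center_le_normalizer _ h1)
  have : y ∈ (Q : Subgroup G) ⊓ P := Q.isPGroup'.inf_normalizer_sylow P ▸ ⟨hy, h2⟩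
  exact this.2

theorem uq_iff {H : Type*} [Group H] {f : G →* H} (hs : Function.Surjective f)
    (hf : f.ker ≤ center G) : Uq p H ↔ Uq p G := by
  constructor
  · rintro ⟨x, P, hx, h⟩
    obtain ⟨P, rfl⟩ := Sylow.mapSurjective_surjective hs p P
    obtain ⟨x, hx, rfl⟩ := hx
    refine ⟨x, P, hx, fun Q hQ => Sylow.ext (P.is_maximal' Q.isPGroup' ?_)⟩
    have := h (Q.mapSurjective hs) ⟨x, hQ, rfl⟩
    intro y hy
    refine mem_of_map hf hy ?_
    rw [← Sylow.coe_mapSurjective hs, this]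
    exact ⟨y, hy, rfl⟩
  · rintro ⟨x, P, hx, h⟩
    refine ⟨f x, P.mapSurjective hs, ⟨x, hx, rfl⟩, fun Q hQ => ?_⟩
    obtain ⟨Q, rfl⟩ := Sylow.mapSurjective_surjective hs p Q
    rw [h Q (mem_of_map hf hx hQ)]

theorem uq_of_comm (hc : ∀ P : Sylow p G, IsMulCommutative (P : Subgroup G))
    (h : ∀ x : G, orderOf x = p → IsMulCommutative (centralizer {x})) : Uq p G := by
  obtain ⟨P⟩ : Nonempty (Sylow p G) := inferInstance
  by_cases h0 : (P : Subgroup G) = ⊥
  · refine ⟨1, P, one_mem _, fun Q _ => Sylow.ext (P.is_maximal' Q.isPGroup' (h0 ▸ bot_le))⟩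
  obtain ⟨x, -, -, hx⟩ := PGBasic.exists_mem_center_orderOf P.isPGroup' (M := ⊤) (fun e => h0 (by
    rw [eq_bot_iff]
    intro t ht
    have : (⟨t, ht⟩ : (P : Subgroup G)) ∈ (⊥ : Subgroup (P : Subgroup G)) := e ▸ mem_top _
    exact congrArg Subtype.val (mem_bot.1 this)))
  have h1 := PGBasic.isMulCommutative_iff.1 (h x ((orderOf_coe x).trans hx))
  have h2 : ∀ Q : Sylow p G, (x : G) ∈ Q → (Q : Subgroup G) ≤ centralizer {(x : G)} := fun Q hQ y hy =>
    mem_centralizer_singleton_iff.2 (PGBasic.isMulCommutative_iff.1 (hc Q) y hy x hQ)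
  refine ⟨x, P, x.2, fun Q hQ => Sylow.ext (P.is_maximal' Q.isPGroup' fun y hy => ?_)⟩
  have h3 : y ∈ normalizer (Q : Set G) :=
    centralizer_le_normalizer _ fun z hz => h1 z (h2 Q hQ hz) y (h2 P x.2 hy)
  have : y ∈ (P : Subgroup G) ⊓ Q := P.isPGroup'.inf_normalizer_sylow Q ▸ ⟨hy, h3⟩
  exact this.2

theorem eq_of_uq {x : G} {P : Sylow p G} (h : ∀ Q : Sylow p G, x ∈ Q → Q = P) {Q : Subgroup G}
    (h1 : IsPGroup p Q) (h2 : ¬ p ∣ Q.index) (hx : x ∈ Q) : Q = P := by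
  rw [← h (h1.toSylow h2) hx, IsPGroup.toSylow_coe]

end general

open Matrix CA.SL2Basic CA.Mat2 CA.SL2Torus CA.SL2Class CA.SL2Unip CA.PSL2Struct CA.PSL2Four
open scoped MatrixGroups
variable {F : Type*} [Field F] [Finite F]

theorem uq_a {p : ℕ} [hp : Fact p.Prime] (h : p ≠ 2 ∨ (2 : F) = 0) : Uq p SL(2, F) := by
  refine uq_of_comm (fun P => ?_) fun x hx => isMulCommutative_C ((NS_iff_ne x).2 ⟨?_, ?_⟩)
  · by_cases e : (p : F) = 0
    · have : CharP F p := (CharP.charP_iff_prime_eq_zero hp.out).2 e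
      obtain ⟨x, hx⟩ := exists_sylow_conj p P
      rw [hx]
      have : IsMulCommutative (U F) := PGBasic.isMulCommutative_iff.2 fun a ha b hb => U_comm ha hb
      infer_instance
    · have := isCyclic_of_isPGroup p (by
        rintro rfl
        exact e (by simpa using h)) e _ P.isPGroup'
      infer_instance
  · rintro rfl
    exact hp.out.one_lt.ne (by simpa using hx)
  · rintro rfl
    by_cases h2 : (2 : F) = 0
    · rw [neg_eq_self_of_two h2, orderOf_one] at hx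
      exact hp.out.one_lt.ne hx
    · rw [orderOf_neg_one h2] at hx
      exact h.elim (fun h => h hx.symm) h2

theorem uq_b (h2 : (2 : F) ≠ 0) : Uq 2 SL(2, F) ↔ ∃ k, Nat.card (C (w0 : SL(2, F))) = 2 ^ k := by
  have hc : ∀ g : SL(2, F), g.1.trace = 0 → Nat.card (C g) = Nat.card (C (w0 : SL(2, F))) :=
    fun g hg => card_C_conj ((SS_of_trace_zero h2 hg).isConj (hg.trans trace_w0.symm))
  constructor
  · rintro ⟨x, P, hx, h⟩
    obtain ⟨g, hg, hxg⟩ : ∃ g : SL(2, F), g.1.trace = 0 ∧ x ∈ C g := by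
      obtain ⟨g, hg, hP⟩ := exists_sylow_le_D h2 P
      by_cases e : x ∈ C g
      · exact ⟨g, hg, e⟩
      · have := (SS_of_trace_zero h2 hg).sq_of_mem_D (hP hx) e
        refine ⟨x, (mul_self_eq_neg_one_iff x ((NS_iff_ne x).2 ⟨?_, ?_⟩)).1 this, self_mem_C x⟩
        · rintro rfl; exact e (one_mem _)
        · rintro rfl; exact e (neg_one_mem_C g)
    have hs := SS_of_trace_zero h2 hg
    have hi : ¬ 2 ∣ (D g).index := (odd_index_D h2 hg).not_two_dvd_nat
    obtain ⟨Q, hQ, hxQ⟩ := BG.syl_superset (K := zpowers x) (H := D g) Nat.prime_two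
      ((BG.isPi_iff_isPGroup Nat.prime_two).2 (P.isPGroup'.to_le (zpowers_le.2 hx)))
      (zpowers_le.2 (C_le_D g hxg))
    have hQ2 := (BG.isPi_iff_isPGroup Nat.prime_two).1 hQ.pi
    have hQi : ¬ 2 ∣ Q.relIndex (D g) := fun e => hQ.idx 2 Nat.prime_two e rfl
    have hnd : ¬ 2 ∣ Q.index := by
      rw [← relIndex_mul_index hQ.le]
      exact fun e => ((Nat.Prime.dvd_mul Nat.prime_two).1 e).elim hQi hi
    have hxQ' : x ∈ Q := hxQ (mem_zpowers x)
    have hQP : Q = P := eq_of_uq h hQ2 hnd hxQ'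
    obtain ⟨w, hw, hwn⟩ : ∃ w ∈ Q, w ∉ C g := by
      by_contra e
      push Not at e
      obtain ⟨w, hw⟩ := hs.exists_inverter
      exact hQi ((relIndex_C_D hw hs.inv_ne).symm.dvd.trans (relIndex_dvd_of_le_left _ e))
    have hw' : w * g * w⁻¹ = g⁻¹ := (mem_D_iff.1 (hQ.le hw)).resolve_left fun e => hwn (mem_C_iff'.2 e)
    rw [← hc g hg]
    refine IsPGroup.iff_card.1 fun c => ?_
    have h3 : (c : SL(2, F)) • P = P := h _ (by
      change x ∈ MulAut.conj (c : SL(2, F)) • (P : Subgroup SL(2, F))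
      rw [mem_pointwise_smul_iff_inv_smul_mem]
      have := C_comm hs.ns c.2 hxg
      have hx' : x ∈ (P : Subgroup SL(2, F)) := hx
      simpa [mul_assoc, ← this] using hx')
    have h4 := (mem_normalizer_iff.1 (Sylow.smul_eq_iff_mem_normalizer.1 h3) w).1 (hQP ▸ hw)
    have h5 : (c : SL(2, F)) * c ∈ (P : Subgroup SL(2, F)) := by
      have := mul_mem h4 (inv_mem (hQP ▸ hw : w ∈ (P : Subgroup SL(2, F))))
      rwa [mul_assoc (c : SL(2, F)), mul_assoc (c : SL(2, F)),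
        inverter_inv hs.ns hw' (inv_mem c.2), inv_inv] at this
    obtain ⟨k, hk⟩ := P.isPGroup' ⟨_, h5⟩
    refine ⟨k + 1, Subtype.ext ?_⟩
    have := congrArg Subtype.val hk
    simpa [pow_succ', pow_mul, pow_two] using this
  · rintro ⟨k, hk⟩
    have hs := SS_of_trace_zero h2 (trace_w0 (F := F))
    obtain ⟨t, h1, h3, h4, -⟩ := hs.exists_gen
    have hD : Nat.card (D (w0 : SL(2, F))) = 2 ^ (k + 1) := by rw [hs.card_D, hk, pow_succ']
    let P := (IsPGroup.of_card hD).toSylow (odd_index_D h2 trace_w0).not_two_dvd_nat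
    refine ⟨t, P, C_le_D _ h3, fun Q hQ => (Sylow.ext (Q.is_maximal' P.isPGroup' ?_)).symm⟩
    have h5 : C (w0 : SL(2, F)) ≤ Q := h4 ▸ zpowers_le.2 hQ
    have h6 := PGBasic.card_mul_relIndex h5
    rw [Nat.card_congr (Sylow.equiv Q P).toEquiv, hk] at h6
    have h7 := h6.trans hD
    rw [pow_succ] at h7
    exact (PGBasic.le_normalizer_of_relIndex Q.isPGroup' h5
      (Nat.eq_of_mul_eq_mul_left (by positivity) h7)).trans hs.normalizer_C.le

theorem main {F : Type*} [Field F] [Fintype F] (p : ℕ) [Fact p.Prime] : ¬ Uq p SL(2, F) ↔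
    (p = 2 ∧ (¬ ∃ k : ℕ, Fintype.card F + 1 = 2 ^ k) ∧ (¬ ∃ k : ℕ, Fintype.card F = 2 ^ k) ∧
      ¬ ∃ k : ℕ, Fintype.card F = 2 ^ k + 1) := by
  rw [← Nat.card_eq_fintype_card]
  by_cases h2 : (2 : F) = 0
  · refine iff_of_false (not_not.2 (uq_a (Or.inr h2))) fun h => h.2.2.1 ?_
    have : CharP F 2 := (CharP.charP_iff_prime_eq_zero Nat.prime_two).2 h2
    obtain ⟨n, -, hn⟩ := exists_card_eq_pow (F := F) 2
    exact ⟨n, hn⟩
  by_cases hp : p = 2
  swap
  · exact iff_of_false (not_not.2 (uq_a (Or.inl hp))) fun h => hp h.1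
  subst hp
  rw [uq_b h2]
  obtain ⟨c1, c3⟩ := card_C_of_trace_zero (trace_w0 (F := F))
  have ho := Nat.odd_iff.1 (odd_card_of_two_ne_zero h2)
  have h1 : 1 < Nat.card F := Finite.one_lt_card
  have pw : ∀ k, 2 ^ k % 2 = 1 → 2 ^ k = 1 := fun k h => by
    cases k with
    | zero => rfl
    | succ k => rw [pow_succ] at h; omega
  have pw2 : ∀ k, 2 ^ k % 4 = 2 → 2 ^ k = 2 := fun k h => by
    cases k with
    | zero => omega
    | succ k =>
      have := pw k
      rw [pow_succ] at *; omega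
  constructor
  · intro h
    refine ⟨rfl, fun ⟨k, hk⟩ => h ?_, fun ⟨k, hk⟩ => ?_, fun ⟨k, hk⟩ => h ?_⟩
    · have := pw2 k
      exact ⟨k, by rw [c3 (by omega), hk]⟩
    · have := pw k; omega
    · by_cases e : Nat.card F % 4 = 1
      · exact ⟨k, by rw [c1 e]; omega⟩
      · have := pw2 k
        exact ⟨2, by rw [c3 (by omega)]; omega⟩
  · rintro ⟨-, a1, -, a3⟩ ⟨k, hk⟩
    by_cases e : Nat.card F % 4 = 1
    · exact a3 ⟨k, by rw [c1 e] at hk; omega⟩
    · exact a1 ⟨k, by rw [← hk, c3 (by omega)]⟩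

end CA.H7Red
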