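import Cfsg.Agent.Lib.Lin.LayCnt2

/-!
Weighted counts of layer data with prescribed determinant.
-/

set_option autoImplicit false

namespace CA.LayCnt
open Finset

/-- The number of layers of a given degree. -/
def cf (r q : ℕ) : ℕ → ℕ
  | 0 => 1
  | k + 1 => r * q ^ k

/-- Abstract layers: degrees, constant terms and their counts. -/
structure Lay {α F : Type*} [Field F] (one : α) (deg : α → ℕ) (P : α → Prop) (v : α → F)
    (r q : ℕ) : Prop where
  deg_one : deg one = 0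
  P_one : P one
  v_one : v one = 1
  eq_one : ∀ a, P a → deg a = 0 → a = one
  v_ne : ∀ a, P a → v a ≠ 0
  card_v : ∀ t : Finset F, (∀ x ∈ t, ∃ a, P a ∧ v a = x) → t.card ≤ r
  card_fib : ∀ (k : ℕ) (x : F) (t : Finset α), (∀ a ∈ t, P a ∧ deg a = k + 1 ∧ v a = x) →
    t.card ≤ q ^ k

/-- Weighted layer data. -/
def WD {α F : Type*} [Field F] (one : α) (deg : α → ℕ) (P : α → Prop) (v : α → F) (r n : ℕ)
    (x : F) (y : ℕ → α) (w : ℕ) : Prop :=
  LD one deg P n n y ∧ ∏ i ∈ range (n + 1), v (y i) ^ (i + 1) = x ∧ w ≤ r ∧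
    ∀ i, y i ≠ one → w ≤ i + 1

variable {α F : Type*} [Field F] {one : α} {deg : α → ℕ} {P : α → Prop} {v : α → F} {r q : ℕ}
  (L : Lay one deg P v r q) {n : ℕ} {x : F} {s : Finset (ℕ → α)} {wt : (ℕ → α) → ℕ}
include L

theorem Lay.card_le_mul {k b : ℕ} {t : Finset α} (h : ∀ a ∈ t, P a ∧ deg a = k + 1)
    (hb : ∀ u : Finset F, (∀ x ∈ u, ∃ a ∈ t, v a = x) → u.card ≤ b) : t.card ≤ b * q ^ k := by
  classical
  rw [mul_comm]
  exact (card_le_mul_card_image (f := v) _ _ fun x _ => L.card_fib k x _ fun a ha =>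
    ⟨(h a (mem_filter.1 ha).1).1, (h a (mem_filter.1 ha).1).2, (mem_filter.1 ha).2⟩).trans
    (Nat.mul_le_mul_left _ (hb _ fun x hx => mem_image.1 hx))

theorem Lay.card_le_cf : ∀ (k : ℕ) (t : Finset α), (∀ a ∈ t, P a ∧ deg a = k) → t.card ≤ cf r q k
  | 0, _, h => card_le_one.2 fun a ha b hb =>
    (L.eq_one a (h a ha).1 (h a ha).2).trans (L.eq_one b (h b hb).1 (h b hb).2).symm
  | _ + 1, _, h => L.card_le_mul h fun u hu => L.card_v u fun x hx =>
    (hu x hx).imp fun a ha => ⟨(h a ha.1).1, ha.2⟩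

open Classical in
theorem Lay.sum_wt_ne (hs : ∀ y ∈ s, WD one deg P v r n x y (wt y)) :
    ∑ y ∈ s with y 0 ≠ one, wt y ≤ ∑ k ∈ range n, q ^ k * lb (cf r q) n (n - (k + 1)) := by
  refine (sum_le_card_nsmul _ _ 1 fun y hy => (hs y (mem_filter.1 hy).1).2.2.2 0
    (mem_filter.1 hy).2).trans ?_
  have := card_le_sum_lb L.deg_one L.P_one L.card_le_cf (s.filter (· 0 ≠ one))
    (fun y hy => (hs y (mem_filter.1 hy).1).1) (fun k => Nat.casesOn k 0 (q ^ ·)) fun k z t ht => by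
      have h1 := fun a ha => hs _ (mem_filter.1 (ht a ha).2).1
      have h2 : ∀ a ∈ t, P a := fun a ha => by simpa using (h1 a ha).1.1 0
      rcases k with _ | k
      · rw [eq_empty_of_forall_notMem (s := t) fun a ha => (mem_filter.1 (ht a ha).2).2 (by
          simpa using L.eq_one a (h2 a ha) (ht a ha).1), card_empty]
        exact Nat.zero_le _
      refine L.card_fib k (x / ∏ i ∈ range n, v (z (i + 1)) ^ (i + 1 + 1)) t fun a ha =>
        ⟨h2 a ha, (ht a ha).1, eq_div_of_mul_eq (prod_ne_zero_iff.2 fun i _ => pow_ne_zero _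
          (L.v_ne _ (by simpa using (h1 a ha).1.1 (i + 1)))) ?_⟩
      simpa [prod_range_succ', mul_comm] using (h1 a ha).2.1
  simpa [sum_range_succ'] using this

open Classical in
theorem Lay.sum_wt_eq (hs : ∀ y ∈ s, WD one deg P v r n x y (wt y)) :
    ∑ y ∈ s with ¬y 0 ≠ one, wt y ≤ r * lb (cf r q) n n := by
  refine (sum_le_card_nsmul _ _ r fun y hy => (hs y (mem_filter.1 hy).1).2.2.1).trans ?_
  rw [smul_eq_mul, mul_comm]
  exact Nat.mul_le_mul_left _ (card_le_lb L.deg_one L.P_one L.card_le_cf _ _ _ fun y hy =>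
    ⟨(hs y (mem_filter.1 hy).1).1, not_not.1 (mem_filter.1 hy).2⟩)

open Classical in
theorem Lay.sum_wt_hom (hs : ∀ y ∈ s, WD one deg P v r n x y (wt y)) {i k : ℕ}
    (h : (i + 1) * (k + 1) = n) :
    ∑ y ∈ s with deg (y i) = k + 1, wt y ≤ min (i + 1) r ^ 2 * q ^ k := by
  have hi : i ∈ range (n + 1) := mem_range.2 (by nlinarith)
  have key : ∀ y ∈ s.filter fun y => deg (y i) = k + 1, ∀ j ≠ i, y j = one := fun y hy j hj => by
    obtain ⟨⟨h1, h2, h3⟩, -⟩ := hs y (mem_filter.1 hy).1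
    by_cases hn : n < j
    · exact h2 j hn
    rw [← add_sum_erase _ _ hi, (mem_filter.1 hy).2, h, add_eq_left, sum_eq_zero_iff] at h3
    exact L.eq_one _ (h1 j) (by simpa using h3 j (by simp; omega))
  refine (sum_le_card_nsmul _ _ (min (i + 1) r) fun y hy => ?_).trans ?_
  · obtain ⟨-, -, h1, h2⟩ := hs y (mem_filter.1 hy).1
    exact le_min (h2 i fun H => by simpa [H, L.deg_one] using (mem_filter.1 hy).2) h1
  rw [smul_eq_mul, mul_comm, sq, mul_assoc, ← card_image_of_injOn (f := fun y => y i)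
    fun y hy z hz H => funext fun j => by
      by_cases hj : j = i
      exacts [hj ▸ H, (key y hy j hj).trans (key z hz j hj).symm]]
  refine Nat.mul_le_mul_left _ (L.card_le_mul (fun a ha => ?_) fun u hu => le_min ?_
    (L.card_v u fun x hx => ?_))
  · obtain ⟨y, hy, rfl⟩ := mem_image.1 ha
    exact ⟨(hs y (mem_filter.1 hy).1).1.1 i, (mem_filter.1 hy).2⟩
  · refine le_trans (Multiset.card_le_card ((Multiset.le_iff_subset u.nodup).2 fun z hz =>
      (Polynomial.mem_nthRoots i.succ_pos).2 ?_)) (Polynomial.card_nthRoots _ x)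
    obtain ⟨a, ha, rfl⟩ := hu z hz
    obtain ⟨y, hy, rfl⟩ := mem_image.1 ha
    rw [← (hs y (mem_filter.1 hy).1).2.1, prod_eq_single_of_mem i hi fun j _ hj => by
      rw [key y hy j hj, L.v_one, one_pow]]
  · obtain ⟨a, ha, rfl⟩ := hu x hx
    obtain ⟨y, hy, rfl⟩ := mem_image.1 ha
    exact ⟨_, (hs y (mem_filter.1 hy).1).1.1 i, rfl⟩

open Classical in
theorem Lay.sum_wt_small (hs : ∀ y ∈ s, WD one deg P v r n x y (wt y)) (h0 : n ≠ 0) (h4 : n ≤ 4) :
    ∑ y ∈ s with ¬y 0 ≠ one, wt y ≤ min n r ^ 2 + if n = 4 then 4 * q else 0 := by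
  obtain ⟨n, rfl⟩ := Nat.exists_eq_add_one_of_ne_zero h0
  have h1 := L.sum_wt_hom hs (i := n) (k := 0) (by simp)
  rw [pow_zero, mul_one] at h1
  have key : ∀ y ∈ s, ¬y 0 ≠ one → deg (y n) = 0 + 1 ∨ n = 3 ∧ deg (y 1) = 1 + 1 := fun y hy h => by
    have h3 := (hs y hy).1.2.2
    have h2 := L.deg_one
    rw [← not_not.1 h] at h2
    obtain rfl | rfl | rfl | rfl : n = 0 ∨ n = 1 ∨ n = 2 ∨ n = 3 := by omega
    all_goals simp [sum_range_succ] at h3 ⊢; omega
  split_ifs with h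
  · have h2 := L.sum_wt_hom hs (i := 1) (k := 1) h.symm
    refine le_trans (sum_le_sum_of_subset (t := (s.filter fun y => deg (y n) = 0 + 1) ∪
      s.filter fun y => deg (y 1) = 1 + 1) fun y hy => ?_) ?_
    · have := key y (mem_filter.1 hy).1 (mem_filter.1 hy).2
      simp only [mem_union, mem_filter, (mem_filter.1 hy).1, true_and]
      tauto
    · have := sum_union_inter (f := wt) (s₁ := s.filter fun y => deg (y n) = 0 + 1)
        (s₂ := s.filter fun y => deg (y 1) = 1 + 1)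
      have h3 : min (1 + 1) r ^ 2 * q ^ 1 ≤ 2 ^ 2 * q := by
        rw [pow_one]; gcongr; exact min_le_left _ _
      omega
  · exact le_trans (sum_le_sum_of_subset fun y hy => mem_filter.2 ⟨(mem_filter.1 hy).1,
      (key y (mem_filter.1 hy).1 (mem_filter.1 hy).2).resolve_right fun H => h (by omega)⟩) h1

omit L in
theorem sum_cf_le {y : ℝ} (h0 : 0 ≤ y) (h1 : q * y < 1) (N : ℕ) :
    ∑ k ∈ range N, cf r q k * y ^ k ≤ 1 + r * y * (1 - q * y)⁻¹ := by
  have h2 : 0 ≤ r * y * (1 - q * y)⁻¹ := mul_nonneg (by positivity) (inv_nonneg.2 (by linarith))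
  rcases N with _ | N
  · simp; linarith
  rw [sum_range_succ', add_comm]
  refine add_le_add (by simp [cf]) (le_trans (le_of_eq ?_) (mul_le_mul_of_nonneg_left
    (sum_geom_le (by positivity) h1 N) (by positivity)))
  rw [mul_sum]
  exact sum_congr rfl fun k _ => by simp only [cf]; push_cast; ring

omit L in
theorem sum_pow_mul_eq (hq : q ≠ 0) (a : ℕ → ℕ) (n : ℕ) :
    (q * ∑ k ∈ range n, q ^ k * a (n - (k + 1)) : ℕ) =
      (q : ℝ) ^ n * ∑ j ∈ range n, a j * (q : ℝ)⁻¹ ^ j := by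
  rw [← sum_range_reflect (fun j => a j * (q : ℝ)⁻¹ ^ j), mul_sum, mul_sum, Nat.cast_sum]
  refine sum_congr rfl fun k hk => ?_
  obtain ⟨l, rfl⟩ := Nat.exists_eq_add_of_lt (mem_range.1 hk)
  have : (q : ℝ) ≠ 0 := by positivity
  rw [show k + l + 1 - (k + 1) = l by omega, show k + l + 1 - 1 - k = l by omega]
  simp [pow_add]
  field_simp

theorem Lay.sum_wt_le (hs : ∀ y ∈ s, WD one deg P v r n x y (wt y)) :
    ∑ y ∈ s, wt y ≤ ∑ k ∈ range n, q ^ k * lb (cf r q) n (n - (k + 1)) + r * lb (cf r q) n n := by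
  classical
  rw [← sum_filter_add_sum_filter_not s (· 0 ≠ one)]
  exact add_le_add (L.sum_wt_ne hs) (L.sum_wt_eq hs)

theorem Lay.sum_wt_le' (hs : ∀ y ∈ s, WD one deg P v r n x y (wt y)) (h0 : n ≠ 0) (h4 : n ≤ 4) :
    ∑ y ∈ s, wt y ≤ ∑ k ∈ range n, q ^ k * lb (cf r q) n (n - (k + 1)) +
      (min n r ^ 2 + if n = 4 then 4 * q else 0) := by
  classical
  rw [← sum_filter_add_sum_filter_not s (· 0 ≠ one)]
  exact add_le_add (L.sum_wt_ne hs) (L.sum_wt_small hs h0 h4)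

theorem Lay.sum_wt_real (hs : ∀ y ∈ s, WD one deg P v r n x y (wt y)) (hq : q ≠ 0) :
    (q * ∑ y ∈ s, wt y : ℕ) ≤ (q : ℝ) ^ n * (∑ j ∈ range n, lb (cf r q) n j * (q : ℝ)⁻¹ ^ j +
      r * q * (lb (cf r q) n n * (q : ℝ)⁻¹ ^ n)) := by
  refine (Nat.cast_le.2 (Nat.mul_le_mul_left q (L.sum_wt_le hs))).trans (le_of_eq ?_)
  rw [mul_add, Nat.cast_add, sum_pow_mul_eq hq, mul_add]
  have : (q : ℝ) ≠ 0 := by positivity
  simp
  field_simp

omit L in
theorem le_sum_lb {c : ℕ → ℕ} (h : c 0 = 1) {z : ℝ} (hz : 0 ≤ z) {E N n : ℕ} (hE : E ≤ n)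
    (hN : N ≤ n) : ∑ j ∈ range N, lb c E j * z ^ j ≤ ∑ j ∈ range n, lb c n j * z ^ j :=
  (sum_le_sum fun j _ => mul_le_mul_of_nonneg_right (Nat.cast_le.2 (lb_mono h j hE))
    (by positivity)).trans (sum_le_sum_of_subset_of_nonneg (range_subset_range.2 hN)
      fun _ _ _ => by positivity)

omit L in
theorem sum_lb_sl (hr : r ≠ 0) (E N : ℕ) :
    ∑ j ∈ range N, lb (cf r (r + 1)) E j * ((r + 1 : ℕ) : ℝ)⁻¹ ^ j ≤ (r + 1) / r := by
  have h0 : (0 : ℝ) < r := by positivity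
  set z := ((r + 1 : ℕ) : ℝ)⁻¹ with hz
  have h1 : (r + 1 : ℕ) * z = 1 := mul_inv_cancel₀ (by positivity)
  have h2 : 0 < z := by positivity
  have h3 : ∀ i, 0 < 1 - z ^ (i + 1) := fun i => sub_pos.2 (pow_lt_one₀ h2.le
    (inv_lt_one_of_one_lt₀ (by push_cast; linarith)) i.succ_ne_zero)
  have h4 : ∀ i, (r + 1 : ℕ) * z ^ (i + 2) = z ^ (i + 1) := fun i => by
    rw [pow_succ' z (i + 1), ← mul_assoc, h1, one_mul]
  refine (sum_lb_le h2.le (fun i => (1 - z ^ (i + 2)) / (1 - z ^ (i + 1))) (fun i N => ?_) E N).trans ?_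
  · simp only [pow_mul]
    refine (sum_cf_le (by positivity) (by linarith [h3 i, h4 i]) N).trans (le_of_eq ?_)
    have := h4 i
    rw [this, eq_div_iff (h3 i).ne', add_mul, mul_assoc, inv_mul_cancel₀ (h3 i).ne']
    push_cast at this
    linarith
  have h5 : ∀ E, ∏ i ∈ range E, (1 - z ^ (i + 2)) / (1 - z ^ (i + 1)) =
      (1 - z ^ (E + 1)) / (1 - z ^ (0 + 1)) := fun E => by
    induction E with
    | zero => rw [prod_range_zero, div_self (h3 0).ne']
    | succ E ih => rw [prod_range_succ, ih, mul_comm, div_mul_div_cancel₀ (h3 E).ne']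
  rw [h5, div_le_div_iff₀ (h3 0) h0]
  push_cast at h1
  rw [zero_add, pow_one]
  nlinarith [mul_pos h0 (pow_pos h2 (E + 1))]

omit L in
theorem lb_stable {c : ℕ → ℕ} (h : c 0 = 1) {E E' n : ℕ} (hn : n ≤ E + 1) (hE : E ≤ E') :
    lb c E' n = lb c E n := by
  induction E', hE using Nat.le_induction with
  | base => rfl
  | succ E' _ ih => simp [lb, Nat.div_eq_of_lt (show n < E' + 2 by omega), h, ih]

omit L in
theorem lb_vals {c : ℕ → ℕ} (h : c 0 = 1) (E : ℕ) : lb c E 0 = 1 ∧ lb c E 1 = 0 ∧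
    lb c (E + 1) 2 = c 1 ∧ lb c (E + 2) 3 = c 1 ∧ lb c (E + 3) 4 = c 1 + c 2 ∧
    lb c (E + 4) 5 = c 1 + c 1 * c 1 := by
  rw [lb_stable h (E := 0) (by simp) E.zero_le, lb_stable h (E := 0) (by simp) E.zero_le,
    lb_stable h (E := 1) le_rfl le_add_self, lb_stable h (E := 2) le_rfl le_add_self,
    lb_stable h (E := 3) le_rfl le_add_self, lb_stable h (E := 4) le_rfl le_add_self]
  simp [lb, sum_range_succ, h, add_comm]

theorem Lay.sum_wt_sl (hq : q = r + 1) (hr : r ≠ 0) (hs : ∀ y ∈ s, WD one deg P v r n x y (wt y)) :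
    (n = 1 → ∑ y ∈ s, wt y ≤ 1) ∧ (n = 2 → ∑ y ∈ s, wt y ≤ q + min 2 r ^ 2) ∧
      (3 ≤ n → ∑ y ∈ s, wt y ≤ q ^ (n - 1) + 3 * q ^ (n - 2)) := by
  classical
  subst hq
  have V := lb_vals (c := cf r (r + 1)) rfl
  refine ⟨?_, ?_, fun h => ?_⟩
  · rintro rfl
    rw [← sum_filter_add_sum_filter_not s (· 0 ≠ one), filter_false_of_mem (s := s)
      (p := fun y => ¬y 0 ≠ one) fun y hy h => by
        have := (hs y hy).1.2.2
        simp only [sum_range_succ, not_not.1 h, L.deg_one, sum_range_zero] at this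
        omega]
    simpa [V] using L.sum_wt_ne hs
  · rintro rfl
    simpa [V, sum_range_succ] using L.sum_wt_le' hs (by simp) (by simp)
  obtain ⟨r, rfl⟩ := Nat.exists_eq_add_one_of_ne_zero hr
  obtain rfl | rfl | rfl | h : n = 3 ∨ n = 4 ∨ n = 5 ∨ 6 ≤ n := by omega
  · refine (L.sum_wt_le' hs (by simp) (by simp)).trans ?_
    have : min 3 (r + 1) ^ 2 ≤ 2 * r + 5 := by
      rcases le_total r 1 with h | h
      · interval_cases r <;> simp
      · rcases h.eq_or_lt with rfl | h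
        · simp
        · exact (Nat.pow_le_pow_left (min_le_left _ _) 2).trans (by norm_num; omega)
    simp [sum_range_succ, V, cf]
    omega
  · refine (L.sum_wt_le' hs (by simp) (by simp)).trans ?_
    have := Nat.pow_le_pow_left (min_le_right 4 (r + 1)) 2
    simp [sum_range_succ, V, cf]
    nlinarith
  · refine (L.sum_wt_le hs).trans ?_
    simp [sum_range_succ, V, cf]
    nlinarith [Nat.zero_le (r ^ 3), Nat.zero_le (r ^ 2)]
  have h1 := L.sum_wt_real hs (by simp)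
  have h2 := sum_lb_sl hr n (n + 1)
  have h3 := le_sum_lb (c := cf (r + 1) (r + 1 + 1)) rfl (z := ((r + 1 + 1 : ℕ) : ℝ)⁻¹)
    (by positivity) (show 4 ≤ n by omega) h
  obtain ⟨n, rfl⟩ := Nat.exists_eq_add_of_le' (show 2 ≤ n by omega)
  rw [sum_range_succ] at h2
  generalize ∑ j ∈ range (n + 2), (_ : ℝ) = S at h1 h2 h3
  generalize (lb _ (n + 2) _ : ℝ) * _ = u at h1 h2
  simp only [sum_range_succ, V, cf, sum_range_zero] at h3
  refine Nat.le_of_mul_le_mul_left (Nat.cast_le.1 (h1.trans ?_)) (Nat.succ_pos _)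
  push_cast at h2 h3 ⊢
  have h0 : (0 : ℝ) ≤ r := by positivity
  rw [show ∀ q : ℝ, q * (q ^ (n + 1) + 3 * q ^ n) = q ^ n * (q ^ 2 + 3 * q) from fun q => by ring,
    pow_add, mul_assoc]
  gcongr
  rw [le_div_iff₀ (by positivity)] at h2
  field_simp at h3
  refine le_of_mul_le_mul_left ?_ (show (0 : ℝ) < (r + 1 + 1) ^ 3 by positivity)
  have h4 := mul_le_mul_of_nonneg_left h2 (show (0 : ℝ) ≤ (r + 1 + 1) ^ 6 by positivity)
  have h5 := mul_le_mul_of_nonneg_left h3 (show (0 : ℝ) ≤ r ^ 2 + 3 * r + 1 by positivity)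
  nlinarith [pow_nonneg h0 2, pow_nonneg h0 3, pow_nonneg h0 4]

omit L in
theorem sum_lb_su (hq : 2 ≤ q) (E N : ℕ) {z : ℝ} (hz : z = (q : ℝ)⁻¹) :
    ∑ j ∈ range N, lb (cf (q + 1) q) E j * z ^ j ≤
      (∏ i ∈ range E, (1 + z ^ 2 * z ^ i)) * ∏ i ∈ range E, (1 - z * z ^ i)⁻¹ := by
  have h0 : (2 : ℝ) ≤ q := by exact_mod_cast hq
  have h1 : q * z = 1 := hz ▸ mul_inv_cancel₀ (by positivity)
  have h2 : 0 < z := by rw [hz]; positivity
  have h3 : ∀ i, 0 < 1 - z * z ^ i := fun i => sub_pos.2 (pow_succ' z i ▸ pow_lt_one₀ h2.le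
    (by nlinarith) i.succ_ne_zero)
  have h4 : ∀ i, q * z ^ (i + 2) = z * z ^ i := fun i => by
    rw [pow_succ' z (i + 1), ← mul_assoc, h1, one_mul, pow_succ']
  rw [← prod_mul_distrib]
  refine sum_lb_le h2.le _ (fun i N => ?_) E N
  simp only [pow_mul]
  refine (sum_cf_le (by positivity) (by linarith [h3 i, h4 i]) N).trans (le_of_eq ?_)
  have := h4 i
  rw [this, eq_mul_inv_iff_mul_eq₀ (h3 i).ne', add_mul, mul_assoc, inv_mul_cancel₀ (h3 i).ne',
    ← pow_add, add_comm 2]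
  push_cast
  linarith

theorem Lay.sum_wt_su (hr : r = q + 1) (hq : 2 ≤ q) (hn : 2 ≤ n)
    (hs : ∀ y ∈ s, WD one deg P v r n x y (wt y)) : 100 * ∑ y ∈ s, wt y ≤ 826 * q ^ (n - 1) := by
  subst hr
  have V := lb_vals (c := cf (q + 1) q) rfl
  obtain rfl | rfl | h : n = 2 ∨ n = 3 ∨ 4 ≤ n := by omega
  · have := Nat.pow_le_pow_left (min_le_left 2 (q + 1)) 2
    have h := L.sum_wt_le' hs (by simp) (by simp)
    simp [sum_range_succ, V] at h ⊢
    omega
  · have := Nat.pow_le_pow_left (min_le_left 3 (q + 1)) 2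
    have h := L.sum_wt_le' hs (by simp) (by simp)
    simp [sum_range_succ, V, cf] at h ⊢
    nlinarith
  by_cases h' : q = 2 ∧ n < 13
  · obtain ⟨rfl, h'⟩ := h'
    exact (Nat.mul_le_mul_left _ (L.sum_wt_le hs)).trans ((by decide +kernel : ∀ n < 13, 100 *
      (∑ k ∈ range n, 2 ^ k * lb (cf 3 2) n (n - (k + 1)) + 3 * lb (cf 3 2) n n) ≤
        826 * 2 ^ (n - 1)) n h')
  have h1 := L.sum_wt_real hs (by omega)
  suffices ∑ j ∈ range n, lb (cf (q + 1) q) n j * (q : ℝ)⁻¹ ^ j +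
      (q + 1 : ℕ) * q * (lb (cf (q + 1) q) n n * (q : ℝ)⁻¹ ^ n) ≤ 8.26 by
    obtain ⟨n, rfl⟩ := Nat.exists_eq_add_of_le' (show 1 ≤ n by omega)
    refine Nat.le_of_mul_le_mul_left (Nat.cast_le (α := ℝ).1 ?_) (show 0 < q by omega)
    have := mul_le_mul_of_nonneg_left this (show (0 : ℝ) ≤ q ^ (n + 1) by positivity)
    push_cast at h1 this ⊢
    rw [pow_succ] at h1 this
    linarith
  rcases hq.eq_or_lt with rfl | hq
  · have h2 := (sum_lb_su le_rfl n (n + 1) rfl).trans (mul_le_mul (prod_one_add_le (A := 1.59)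
      (by norm_num) (by norm_num) (by norm_num) (by norm_num) 5 (by norm_num [prod_range_succ]) n)
      (prod_one_sub_inv_le (A := 3.465) (by norm_num) (by norm_num) (by norm_num) (by norm_num)
        (by norm_num) 5 (by norm_num [prod_range_succ]) n)
      (prod_nonneg fun i _ => inv_nonneg.2 (by
        nlinarith [pow_le_one₀ (n := i) (show (0 : ℝ) ≤ ((2 : ℕ) : ℝ)⁻¹ by norm_num) (by norm_num)]))
      (by norm_num))
    have h3 := le_sum_lb (c := cf (2 + 1) 2) rfl (z := ((2 : ℕ) : ℝ)⁻¹) (by positivity)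
      (show 11 ≤ n by omega) (show 13 ≤ n by omega)
    rw [sum_range_succ] at h2
    have h4 := sum_pow_mul_eq two_ne_zero (lb (cf (2 + 1) 2) 11) 13
    rw [show 2 * ∑ k ∈ range 13, 2 ^ k * lb (cf (2 + 1) 2) 11 (13 - (k + 1)) = 40724 by
      decide +kernel] at h4
    push_cast at h2 h3 h4 ⊢
    linarith
  have h0 : (3 : ℝ) ≤ q := by exact_mod_cast hq
  obtain ⟨t, h5, h6⟩ : ∃ t : ℝ, 1 ≤ t ∧ q = 3 * t ^ 2 :=
    ⟨√(q / 3), Real.one_le_sqrt.2 (by linarith), by rw [Real.sq_sqrt (by positivity)]; ring⟩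
  have h7 : ∀ j, lb (cf (q + 1) q) n j * (q : ℝ)⁻¹ ^ j * t ^ j ≤
      lb (cf (3 + 1) 3) n j * ((3 : ℕ) : ℝ)⁻¹ ^ j := fun j => by
    have := lb_le_of_le (c := cf (q + 1) q) (c' := cf (3 + 1) 3) h5 (fun k => by
      rcases k with _ | k <;> simp only [cf] <;> push_cast
      · simp
      · rw [h6, mul_pow, ← pow_mul, mul_add 2, pow_add, mul_one]
        nlinarith [show 0 ≤ t ^ (2 * k) * 3 ^ k by positivity, mul_le_mul_of_nonneg_left
          (one_le_pow₀ (n := 2) h5) (show 0 ≤ t ^ (2 * k) * 3 ^ k by positivity)]) n j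
    refine (mul_le_mul_of_nonneg_right (mul_le_mul_of_nonneg_right this (by positivity))
      (by positivity)).trans (le_of_eq ?_)
    rw [h6]; simp [mul_pow]; field_simp; ring
  have h2 := (sum_lb_su (q := 3) (by norm_num) n (n + 1) rfl).trans (mul_le_mul (prod_one_add_le
    (A := 1.175) (by norm_num) (by norm_num) (by norm_num) (by norm_num) 2
      (by norm_num [prod_range_succ]) n)
    (prod_one_sub_inv_le (A := 25 / 14) (by norm_num) (by norm_num) (by norm_num) (by norm_num)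
      (by norm_num) 3 (by norm_num [prod_range_succ]) n)
    (prod_nonneg fun i _ => inv_nonneg.2 (by
      nlinarith [pow_le_one₀ (n := i) (show (0 : ℝ) ≤ ((3 : ℕ) : ℝ)⁻¹ by norm_num) (by norm_num)]))
    (by norm_num))
  have h3 := le_sum_lb (c := cf (3 + 1) 3) rfl (z := ((3 : ℕ) : ℝ)⁻¹) (by positivity)
    (show 2 ≤ n by omega) h
  rw [sum_range_succ] at h2
  have h4 : 1.59 ≤ ∑ j ∈ range 4, lb (cf (3 + 1) 3) 2 j * ((3 : ℕ) : ℝ)⁻¹ ^ j := by
    norm_num [lb, cf, sum_range_succ]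
  have h8 := sum_le_sum (s := range n) fun j _ => (le_mul_of_one_le_right (by positivity)
    (one_le_pow₀ h5)).trans (h7 j)
  have h9 := (mul_le_mul_of_nonneg_left (pow_le_pow_right₀ h5 h) (by positivity)).trans (h7 n)
  have h10 : ((q + 1 : ℕ) : ℝ) * q ≤ 12 * t ^ 4 := by
    push_cast; rw [h6]; nlinarith [one_le_pow₀ (n := 2) h5]
  have := mul_le_mul_of_nonneg_right h10
    (show 0 ≤ lb (cf (q + 1) q) n n * (q : ℝ)⁻¹ ^ n by positivity)
  linarith

end CA.LayCnt
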