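import Cfsg.Agent.Lib.Lin.Rcf3

/-! Gauss decompositions up to similarity: Schur complements, Sourour steps. -/

set_option autoImplicit false

namespace CA.Lev

open Module Submodule CA.Rcf Polynomial

variable {K : Type*} [Field K] {V : Type*} [AddCommGroup V] [Module K V]

section Avoid
variable {D S₁ S₂ S₃ S₄ : Submodule K V}

theorem two_mem {S : Submodule K V} {w u : V} {s t : K} (h1 : w + s • u ∈ S) (h2 : w + t • u ∈ S)
    (h : s ≠ t) : u ∈ S := by
  have := S.sub_mem h1 h2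
  rw [add_sub_add_left_eq_sub, ← sub_smul] at this
  exact (S.smul_mem_iff (sub_ne_zero.2 h)).1 this

theorem line_notMem {S : Submodule K V} {w u : V} (hw : w ∉ S) (hu : u ∈ S) (t : K) : w + t • u ∉ S :=
  fun h => hw ((S.add_mem_iff_left (S.smul_mem t hu)).1 h)

theorem avoid2 (h1 : ¬ D ≤ S₁) (h2 : ¬ D ≤ S₂) : ∃ v ∈ D, v ∉ S₁ ∧ v ∉ S₂ := by
  obtain ⟨u, hu, hu1⟩ := SetLike.not_le_iff_exists.1 h1
  obtain ⟨w, hw, hw2⟩ := SetLike.not_le_iff_exists.1 h2
  by_cases h : u ∈ S₂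
  swap; · exact ⟨u, hu, hu1, h⟩
  by_contra! H
  have H' : ∀ t : K, w + t • u ∈ S₁ := fun t => by
    by_contra h'; exact line_notMem hw2 h t (H _ (D.add_mem hw (D.smul_mem t hu)) h')
  exact hu1 (two_mem (H' 0) (H' 1) zero_ne_one)

theorem avoid3 {a : K} (a0 : a ≠ 0) (a1 : a ≠ 1) (h1 : ¬ D ≤ S₁) (h2 : ¬ D ≤ S₂) (h3 : ¬ D ≤ S₃) :
    ∃ v ∈ D, v ∉ S₁ ∧ v ∉ S₂ ∧ v ∉ S₃ := by
  obtain ⟨u, hu, hu1, hu2⟩ := avoid2 h1 h2
  obtain ⟨w, hw, hw3⟩ := SetLike.not_le_iff_exists.1 h3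
  by_cases h : u ∈ S₃
  swap; · exact ⟨u, hu, hu1, hu2, h⟩
  by_contra! H
  have H' : ∀ t : K, w + t • u ∈ S₁ ∨ w + t • u ∈ S₂ := fun t => by
    by_contra! h'; exact line_notMem hw3 h t (H _ (D.add_mem hw (D.smul_mem t hu)) h'.1 h'.2)
  rcases H' 0 with p | p <;> rcases H' 1 with q | q <;> rcases H' a with r | r <;>
    first | exact hu1 (two_mem p q zero_ne_one) | exact hu2 (two_mem p q zero_ne_one)
          | exact hu1 (two_mem r p a0) | exact hu2 (two_mem r p a0)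
          | exact hu1 (two_mem r q a1) | exact hu2 (two_mem r q a1)

/-- the field has at least four elements -/
def Four (K : Type*) [Field K] : Prop := ∃ a b : K, a ≠ 0 ∧ a ≠ 1 ∧ b ≠ 0 ∧ b ≠ 1 ∧ a ≠ b

theorem avoid4 (hK : Four K) (h1 : ¬ D ≤ S₁) (h2 : ¬ D ≤ S₂) (h3 : ¬ D ≤ S₃) (h4 : ¬ D ≤ S₄) :
    ∃ v ∈ D, v ∉ S₁ ∧ v ∉ S₂ ∧ v ∉ S₃ ∧ v ∉ S₄ := by
  obtain ⟨a, b, a0, a1, b0, b1, ab⟩ := hK
  obtain ⟨u, hu, hu1, hu2, hu3⟩ := avoid3 a0 a1 h1 h2 h3
  obtain ⟨w, hw, hw4⟩ := SetLike.not_le_iff_exists.1 h4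
  by_cases h : u ∈ S₄
  swap; · exact ⟨u, hu, hu1, hu2, hu3, h⟩
  by_contra! H
  have H' : ∀ t : K, ∃ i : Fin 3, w + t • u ∈ ![S₁, S₂, S₃] i := fun t => by
    by_contra! h'
    exact line_notMem hw4 h t (H _ (D.add_mem hw (D.smul_mem t hu)) (h' 0) (h' 1) (h' 2))
  choose f hf using H'
  obtain ⟨i, j, hij, e⟩ := Fintype.exists_ne_map_eq_of_card_lt (fun i : Fin 4 => f (![0, 1, a, b] i))
    (by simp)
  have hn : (![0, 1, a, b] i : K) ≠ ![0, 1, a, b] j := by
    fin_cases i <;> fin_cases j <;> simp_all [eq_comm]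
  have := two_mem (hf _) (e ▸ hf (![0, 1, a, b] j)) hn
  generalize f (![0, 1, a, b] i) = k at this
  fin_cases k <;> contradiction

theorem four_of_card (h : 4 ≤ Cardinal.mk K) : Four K := by
  obtain ⟨a, a0, a1⟩ := Cardinal.exists_ne_ne_of_three_le (le_trans (by norm_num) h) (0 : K) 1
  by_contra! H
  simp only [Four, not_exists, not_and, not_not] at H
  have : (Set.univ : Set K) ⊆ {0, 1, a} := fun b _ => by
    by_cases b0 : b = 0; · simp [b0]
    by_cases b1 : b = 1; · simp [b1]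
    simp [H b a b0 b1 a0 a1]
  have h2 := (Cardinal.mk_le_mk_of_subset this).trans
    (Cardinal.mk_insert_le.trans (add_le_add_left Cardinal.mk_insert_le 1))
  rw [Cardinal.mk_univ, Cardinal.mk_singleton] at h2
  exact absurd (h.trans h2) (by norm_num)

end Avoid

section Prod
variable {A W : Type*} [AddCommGroup A] [Module K A] [AddCommGroup W] [Module K W]

def low (α : End K A) (C : A →ₗ[K] W) (δ : End K W) : End K (A × W) :=
  (α ∘ₗ LinearMap.fst K A W).prod (C ∘ₗ LinearMap.fst K A W + δ ∘ₗ LinearMap.snd K A W)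

def up (α : End K A) (B : W →ₗ[K] A) (δ : End K W) : End K (A × W) :=
  (α ∘ₗ LinearMap.fst K A W + B ∘ₗ LinearMap.snd K A W).prod (δ ∘ₗ LinearMap.snd K A W)

@[simp] theorem low_apply (α : End K A) (C : A →ₗ[K] W) (δ : End K W) (x : A × W) :
    low α C δ x = (α x.1, C x.1 + δ x.2) := rfl

@[simp] theorem up_apply (α : End K A) (B : W →ₗ[K] A) (δ : End K W) (x : A × W) :
    up α B δ x = (α x.1 + B x.2, δ x.2) := rfl

variable [FiniteDimensional K A] [FiniteDimensional K W]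

theorem sylvester {α : End K A} {δ : End K W} {f g : K[X]} (hfg : IsCoprime f g) (hf : aeval α f = 0)
    (hg : aeval δ g = 0) (C : A →ₗ[K] W) : ∃ Y : A →ₗ[K] W, ∀ a, Y (α a) - δ (Y a) = C a := by
  let S : End K (A →ₗ[K] W) := LinearMap.lcomp K W α - LinearMap.llcomp K A W W δ
  have : Function.Injective S := by
    refine (injective_iff_map_eq_zero S).2 fun Y hY => LinearMap.ext fun a => ?_
    have h1 : ∀ a, Y (α a) = δ (Y a) := fun a => sub_eq_zero.1 (LinearMap.congr_fun hY a)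
    obtain ⟨u, v, huv⟩ := hfg
    have h2 := aeval_apply_of_comm Y h1 (u * f) a
    have h3 : aeval δ (u * f + v * g) (Y a) = Y a := by rw [huv]; simp
    rw [map_add, map_mul _ v, hg, mul_zero, add_zero, ← h2, map_mul, hf] at h3
    simpa using h3.symm
  obtain ⟨Y, hY⟩ := LinearMap.injective_iff_surjective.1 this C
  exact ⟨Y, fun a => LinearMap.congr_fun hY a⟩

theorem sim_low {α : End K A} {δ : End K W} {f g : K[X]} (hfg : IsCoprime f g) (hf : aeval α f = 0)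
    (hg : aeval δ g = 0) (C : A →ₗ[K] W) : Sim (α.prodMap δ) (low α C δ) := by
  obtain ⟨Y, hY⟩ := sylvester hfg hf hg C
  refine ⟨LinearEquiv.ofLinearMap (low 1 Y 1) (low 1 (-Y) 1) (by ext <;> simp) (by ext <;> simp), fun v => ?_⟩
  simp [← hY, ← add_assoc]

theorem sim_up {α : End K A} {δ : End K W} {f g : K[X]} (hfg : IsCoprime f g) (hf : aeval α f = 0)
    (hg : aeval δ g = 0) (B : W →ₗ[K] A) : Sim (α.prodMap δ) (up α B δ) := by
  obtain ⟨Y, hY⟩ := sylvester hfg.symm hg hf B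
  refine ⟨LinearEquiv.ofLinearMap (up 1 Y 1) (up 1 (-Y) 1) (by ext <;> simp) (by ext <;> simp), fun v => ?_⟩
  simp [← hY]

theorem det_unip {c : End K A} (h : IsNilpotent (c - 1)) : LinearMap.det c = 1 := by
  simpa using det_of_isNilpotent (c := c) (a := 1) (by simpa using h)

theorem det_low (C : A →ₗ[K] W) : LinearMap.det (low 1 C 1) = 1 :=
  det_unip ⟨2, by ext <;> simp [sq]⟩

theorem det_up (B : W →ₗ[K] A) (δ : End K W) : LinearMap.det (up 1 B δ) = LinearMap.det δ := by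
  rw [show up 1 B δ = (LinearMap.prodMap 1 δ : End K (A × W)) * up 1 B 1 by ext <;> simp, map_mul,
    det_unip (c := up 1 B 1) ⟨2, by ext <;> simp [sq]⟩, LinearMap.det_prodMap]
  simp

end Prod

section Schur
variable {g ρ : End K V}

/-- Schur complement of `g` with respect to an idempotent `ρ` with `ρ g ρ = ρ`. -/
def schur (h : ρ * g * ρ = ρ) : End K (LinearMap.ker ρ) :=
  (g - g * ρ * g).restrict fun w _ => by
    have := LinearMap.congr_fun h (g w)
    simp only [End.mul_apply] at this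
    simp [this]

theorem schur_apply (h : ρ * g * ρ = ρ) (w : LinearMap.ker ρ) :
    (schur h w : V) = g w - g (ρ (g w)) := rfl

variable [FiniteDimensional K V]

omit [FiniteDimensional K V] in
theorem exists_gauss (hρ : ρ * ρ = ρ) (h : ρ * g * ρ = ρ) :
    ∃ (E : (LinearMap.range ρ × LinearMap.ker ρ) ≃ₗ[K] V) (C : LinearMap.range ρ →ₗ[K] LinearMap.ker ρ)
      (B : LinearMap.ker ρ →ₗ[K] LinearMap.range ρ), g = E.conj (low 1 C 1 * up 1 B (schur h)) := by
  have h1 : ∀ v, ρ (ρ v) = ρ v := LinearMap.congr_fun hρ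
  have h2 : ∀ v, ρ (g (ρ v)) = ρ v := LinearMap.congr_fun h
  refine ⟨prodEquivOfIsCompl _ _ (LinearMap.IsIdempotentElem.isCompl hρ),
    ((g - 1) ∘ₗ (LinearMap.range ρ).subtype).codRestrict _ ?_,
    (ρ ∘ₗ g ∘ₗ (LinearMap.ker ρ).subtype).codRestrict _ fun w => ⟨_, rfl⟩, ?_⟩
  · rintro ⟨_, v, rfl⟩; simp [h1, h2]
  · refine LinearMap.ext fun v => ?_
    obtain ⟨⟨a, w⟩, rfl⟩ := (prodEquivOfIsCompl _ _ (LinearMap.IsIdempotentElem.isCompl hρ)).surjective v
    rw [LinearEquiv.conj_apply_apply, LinearEquiv.symm_apply_apply]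
    change _ = (a : V) + ρ (g w) + ((g - 1) ((a : V) + ρ (g w)) + (g w - g (ρ (g w))))
    simp
    abel

theorem det_schur (hρ : ρ * ρ = ρ) (h : ρ * g * ρ = ρ) : LinearMap.det (schur h) = LinearMap.det g := by
  obtain ⟨E, C, B, e⟩ := exists_gauss hρ h
  have := congrArg LinearMap.det e
  rw [this, ← (sim_conj E _).det_eq, map_mul, det_low, det_up, one_mul]

theorem block (hρ : ρ * ρ = ρ) (h : ρ * g * ρ = ρ) {α : End K (LinearMap.range ρ)}
    {δ δ' : End K (LinearMap.ker ρ)} (hδ : schur h * δ' = δ) {p q : K[X]} (hpq : IsCoprime p q)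
    (hp : aeval α p = 0) (hq : aeval δ q = 0) (hq' : aeval δ' q = 0) :
    ∃ a a' : End K V, g * a' = a ∧ Sim (α.prodMap δ) a ∧ Sim (α.prodMap δ') a' := by
  obtain ⟨E, C, B, e⟩ := exists_gauss hρ h
  refine ⟨E.conj (low α (C ∘ₗ α) δ), E.conj (up α (-(B ∘ₗ δ')) δ'), ?_,
    (sim_low hpq hp hq _).trans (sim_conj E _), (sim_up hpq hp hq' _).trans (sim_conj E _)⟩
  rw [e, End.mul_eq_comp, ← LinearEquiv.conj_comp]
  congr 1
  ext <;> simp [← hδ]

theorem finrank_range_add_ker (ρ : End K V) :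
    finrank K (LinearMap.range ρ) + finrank K (LinearMap.ker ρ) = finrank K V :=
  LinearMap.finrank_range_add_finrank_ker ρ

end Schur

section Step
variable [FiniteDimensional K V] {g : End K V}

/-- non-scalar -/
def NS (g : End K V) : Prop := ∀ c : K, ∃ v, g v ≠ c • v

/-- rank at least two -/
def R2 (h : End K V) : Prop := ∀ u, ∃ w, h w ∉ K ∙ u

omit [FiniteDimensional K V] in
theorem rho_sq {e : V} {φ : Dual K V} (h : φ e = 1) : φ.smulRight e * φ.smulRight e = φ.smulRight e := by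
  ext v; simp [h]

omit [FiniteDimensional K V] in
theorem rho_g {e : V} {φ : Dual K V} (h : φ (g e) = 1) :
    φ.smulRight e * g * φ.smulRight e = φ.smulRight e := by
  ext v; simp [h]

omit [FiniteDimensional K V] in
theorem mem_ker_rho {e : V} {φ : Dual K V} (h : φ e = 1) {v : V} :
    v ∈ LinearMap.ker (φ.smulRight e) ↔ φ v = 0 := by
  have : e ≠ 0 := fun h0 => by simp [h0] at h
  simp [this]

omit [FiniteDimensional K V] in
theorem finrank_range_rho {e : V} {φ : Dual K V} (h : φ e = 1) :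
    finrank K (LinearMap.range (φ.smulRight e)) = 1 := by
  have : e ≠ 0 := fun h0 => by simp [h0] at h
  rw [← finrank_span_singleton (K := K) this]
  congr 2 <;> refine le_antisymm ?_ ?_ <;> first
    | (rintro _ ⟨v, rfl⟩; exact mem_span_singleton.2 ⟨_, rfl⟩)
    | exact (span_singleton_le_iff_mem _ _).2 ⟨e, by simp [h]⟩

theorem finrank_ker_rho {e : V} {φ : Dual K V} (h : φ e = 1) :
    finrank K (LinearMap.ker (φ.smulRight e)) + 1 = finrank K V := by
  rw [← finrank_range_add_ker (φ.smulRight e), finrank_range_rho h, add_comm]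

theorem exists_noneig (h : NS g) : ∃ S₁ S₂ : Submodule K V, ¬ ⊤ ≤ S₁ ∧ ¬ ⊤ ≤ S₂ ∧
    ∀ e, e ∉ S₁ → e ∉ S₂ → ∀ c : K, g e ≠ c • e := by
  by_cases h0 : ∃ (c : K) (v : V), v ≠ 0 ∧ g v = c • v
  · obtain ⟨c, v, v0, hv⟩ := h0
    refine ⟨LinearMap.ker (g - c • 1), LinearMap.range (g - c • 1), fun h1 => ?_, fun h1 => ?_,
      fun e h1 h2 c' hc => ?_⟩
    · obtain ⟨w, hw⟩ := h c
      exact hw (sub_eq_zero.1 (h1 mem_top : w ∈ LinearMap.ker (g - c • 1)))
    · exact v0 (LinearMap.injective_iff_surjective.2 (LinearMap.range_eq_top.1 (top_unique h1))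
        (by simp [hv]))
    · by_cases e' : c' = c
      · exact h1 (by simp [hc, e'])
      · exact h2 ⟨(c' - c)⁻¹ • e, by
          simp [hc, ← sub_smul, smul_smul, sub_ne_zero.2 e']⟩
  · obtain ⟨w, hw⟩ := h 0
    have : ¬ ⊤ ≤ (⊥ : Submodule K V) := fun h1 => hw (by simp [(mem_bot K).1 (h1 (mem_top (x := w)))])
    exact ⟨⊥, ⊥, this, this, fun e h1 _ c hc => h0 ⟨c, e, h1, hc⟩⟩

omit [FiniteDimensional K V] in
theorem ann_not_le {u : V} {U : Submodule K V} (h : ¬ U ≤ K ∙ u) :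
    ¬ (K ∙ u).dualAnnihilator ≤ U.dualAnnihilator := fun h' =>
  h (Subspace.dualAnnihilator_le_dualAnnihilator_iff.1 h')

omit [FiniteDimensional K V] in
theorem mem_ann {u : V} {φ : Dual K V} : φ ∈ (K ∙ u).dualAnnihilator ↔ φ u = 0 := by
  rw [mem_dualAnnihilator]
  exact ⟨fun h => h u (mem_span_singleton_self u), fun h w hw => by
    obtain ⟨c, rfl⟩ := mem_span_singleton.1 hw; simp [h]⟩

omit [FiniteDimensional K V] in
theorem notMem_of_noneig {e : V} (he : ∀ c : K, g e ≠ c • e) : e ∉ K ∙ (g e - e) := fun h => by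
  obtain ⟨c, hc⟩ := mem_span_singleton.1 h
  by_cases c0 : c = 0
  · rw [c0, zero_smul] at hc; exact he 0 (by simp [← hc])
  · exact he (c⁻¹ + 1) (by rw [add_smul, one_smul, ← sub_eq_iff_eq_add, eq_inv_smul_iff₀ c0, hc])

theorem bad_line (hg : Function.Surjective g) (hn : 3 ≤ finrank K V) {e : V} (he : ∀ c : K, g e ≠ c • e) :
    ∃ S : Submodule K (Dual K V), ¬ (K ∙ (g e - e)).dualAnnihilator ≤ S ∧ ∀ φ ∉ S, φ e ≠ 0 →
      φ (g e - e) = 0 → ∀ c : K, ¬ ∀ w, φ w = 0 → g w - c • w ∈ K ∙ g e := by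
  have h2 : ∀ ψ : Dual K V, ¬ (K ∙ (g e - e)).dualAnnihilator ≤ K ∙ ψ := fun ψ h => by
    have h1 := Subspace.finrank_add_finrank_dualAnnihilator_eq (K ∙ (g e - e))
    have h3 := finrank_mono h
    have h4 := finrank_span_le_card (R := K) {ψ}
    have h5 := finrank_span_le_card (R := K) {g e - e}
    simp only [Set.toFinset_singleton, Finset.card_singleton] at h4 h5
    omega
  by_cases h : ∃ c : K, g (g e - e) - c • (g e - e) ∈ K ∙ g e
  swap
  · exact ⟨_, h2 0, fun φ _ _ h1 c hc => h ⟨c, hc _ h1⟩⟩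
  obtain ⟨c₀, hc₀⟩ := h
  have e0 : e ≠ 0 := fun h => he 0 (by simp [h])
  have key : ∀ c : K, c • e ∈ K ∙ g e → c = 0 := fun c hc => by
    obtain ⟨t, ht⟩ := mem_span_singleton.1 hc
    by_cases t0 : t = 0
    · rw [t0, zero_smul] at ht; exact (smul_eq_zero.1 ht.symm).resolve_right e0
    · exact absurd ((eq_inv_smul_iff₀ t0).2 ht) (smul_smul t⁻¹ c e ▸ he _)
  have hZ : (K ∙ g e).comap (g - c₀ • 1) < ⊤ := lt_top_iff_ne_top.2 fun hZ => by
    have h1 : ∀ w, g w - c₀ • w ∈ K ∙ g e := fun w => (hZ ▸ mem_top : w ∈ (K ∙ g e).comap (g - c₀ • 1))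
    have h3 : c₀ = 0 := key _ (by simpa using sub_mem (mem_span_singleton_self _) (h1 e))
    obtain ⟨w, hw⟩ := hg e
    exact one_ne_zero (key 1 (by simpa [h3, hw] using h1 w))
  obtain ⟨ψ, ψ0, hψ⟩ := exists_le_ker_of_lt_top _ hZ
  refine ⟨_, h2 ψ, fun φ h0 h1 h3 c hc => h0 ?_⟩
  obtain rfl : c = c₀ := by
    have := sub_mem hc₀ (hc _ h3)
    rw [sub_sub_sub_cancel_left, ← sub_smul, smul_sub] at this
    refine sub_eq_zero.1 (key _ ?_)
    simpa using sub_mem (smul_mem _ (c - c₀) (mem_span_singleton_self _)) this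
  have h4 : ∀ v, ψ v * φ e = φ v * ψ e := fun v => by
    have := hψ (hc (φ e • v - φ v • e) (by simp [mul_comm]))
    simpa [sub_eq_zero, mul_comm] using this
  have h5 : ψ e ≠ 0 := fun h => ψ0 (by ext v; simpa [h, h1] using h4 v)
  exact mem_span_singleton.2 ⟨φ e / ψ e, by ext v; simp; field_simp; linear_combination h4 v⟩

omit [FiniteDimensional K V] in
theorem ns_schur {e : V} {φ : Dual K V} (h1 : φ e = 1) (h2 : φ (g e) = 1) {c : K}
    (h : ¬ ∀ w, φ w = 0 → g w - c • w ∈ K ∙ g e) : ∃ v, schur (rho_g h2) v ≠ c • v := by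
  by_contra! H
  refine h fun w hw => mem_span_singleton.2 ⟨φ (g w), ?_⟩
  have := congrArg Subtype.val (H ⟨w, (mem_ker_rho h1).2 hw⟩)
  simp only [schur_apply, LinearMap.smulRight_apply, map_smul, SetLike.val_smul] at this
  rw [← this, sub_sub_cancel]

omit [FiniteDimensional K V] in
theorem normalize {e : V} {φ : Dual K V} (h1 : φ e ≠ 0) (h2 : φ (g e - e) = 0) :
    ((φ e)⁻¹ • φ) e = 1 ∧ ((φ e)⁻¹ • φ) (g e) = 1 := by
  rw [map_sub, sub_eq_zero] at h2
  simp [h1, h2]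

theorem sourour_step (hg : Function.Surjective g) (h : NS g) : ∃ (e : V) (φ : Dual K V) (_ : φ e = 1)
    (h2 : φ (g e) = 1), 3 ≤ finrank K V → NS (schur (rho_g h2)) := by
  obtain ⟨S₁, S₂, h1, h2, h3⟩ := exists_noneig h
  obtain ⟨e, -, h4, h5⟩ := avoid2 h1 h2
  have he := h3 e h4 h5
  have h6 := ann_not_le (U := K ∙ e) (by rw [span_singleton_le_iff_mem]; exact notMem_of_noneig he)
  by_cases hn : 3 ≤ finrank K V
  · obtain ⟨S, h7, h8⟩ := bad_line hg hn he
    obtain ⟨φ, p1, p2, p3⟩ := avoid2 h6 h7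
    rw [mem_ann] at p1 p2
    obtain ⟨q1, q2⟩ := normalize p2 p1
    exact ⟨e, _, q1, q2, fun _ c => ns_schur q1 q2 fun H =>
      h8 φ p3 p2 p1 c fun w hw => H w (by simp [hw])⟩
  · obtain ⟨φ, p1, p2⟩ := SetLike.not_le_iff_exists.1 h6
    rw [mem_ann] at p1 p2
    obtain ⟨q1, q2⟩ := normalize p2 p1
    exact ⟨e, _, q1, q2, fun h => absurd h hn⟩

end Step

end CA.Lev
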