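import Cfsg.Agent.Lib.Lin.Lev

/-! Lev's theorem: products of two regular unipotent classes. -/

set_option autoImplicit false

namespace CA.Lev

open Module Submodule CA.Rcf

universe u
variable {K : Type*} [Field K] {V : Type u} [AddCommGroup V] [Module K V] [FiniteDimensional K V]
  {g : End K V}

omit [FiniteDimensional K V] in
theorem finrank_line_le (u : V) : finrank K (K ∙ u) ≤ 1 := by
  simpa using finrank_span_le_card (R := K) {u}

theorem R2.two_le {h : End K V} (hr : R2 h) : 2 ≤ finrank K (LinearMap.range h) := by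
  by_contra! H
  obtain ⟨u, hu⟩ := (finrank_le_one_iff_isPrincipal _).1 (Nat.lt_succ_iff.1 H)
  obtain ⟨w, hw⟩ := hr u
  exact hw (hu ▸ LinearMap.mem_range_self h w)

theorem range_le_three (hn : finrank K V = 3) (hd : LinearMap.det g = 1) {e : V}
    (he : ∀ c : K, g e ≠ c • e) {a : K} (ha : g (g e - e) - (g e - e) = a • g e) :
    LinearMap.range (g - 1) ≤ (K ∙ (g e - e)) ⊔ K ∙ e := by
  obtain ⟨w, hw⟩ := exists_of_finrank_lt ((K ∙ (g e - e)) ⊔ K ∙ e) (by
    have := finrank_add_le_finrank_add_finrank (K ∙ (g e - e)) (K ∙ e)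
    have := finrank_line_le (K := K) (g e - e)
    have := finrank_line_le (K := K) e
    omega)
  have li : LinearIndependent K ![w, e, g e - e] := by
    rw [linearIndependent_finSucc]
    refine ⟨?_, ?_⟩
    · change LinearIndependent K ![e, g e - e]
      rw [linearIndependent_fin2]
      exact ⟨fun h => he 1 (by simpa [sub_eq_zero] using h), fun t ht =>
        notMem_of_noneig he (mem_span_singleton.2 ⟨t, ht⟩)⟩
    · change w ∉ span K (Set.range ![e, g e - e])
      rw [Matrix.range_cons_cons_empty, span_insert, sup_comm]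
      simpa using hw 1 one_ne_zero
  let b := basisOfLinearIndependentOfCardEqFinrank li (by simp [hn])
  have b0 : b 0 = w := by simp [b]
  have b1 : b 1 = e := by simp [b]
  have b2 : b 2 = g e - e := by simp [b]
  have g1 : g (b 1) = b 1 + b 2 := by simp [b1, b2]
  have g2 : g (b 2) = a • b 1 + (1 + a) • b 2 := by
    rw [b1, b2]; linear_combination (norm := module) ha
  rw [← LinearMap.det_toMatrix b, Matrix.det_fin_three] at hd
  simp only [LinearMap.toMatrix_apply, g1, g2, map_add, map_smul, Basis.repr_self] at hd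
  simp at hd
  have h0 : b.repr (g (b 0)) 0 = 1 := by linear_combination hd
  have m1 : b 1 ∈ (K ∙ (g e - e)) ⊔ K ∙ e := b1 ▸ mem_sup_right (mem_span_singleton_self _)
  have m2 : b 2 ∈ (K ∙ (g e - e)) ⊔ K ∙ e := b2 ▸ mem_sup_left (mem_span_singleton_self _)
  rw [LinearMap.range_eq_map, ← b.span_eq, map_span_le]
  rintro _ ⟨i, rfl⟩
  rw [LinearMap.sub_apply, End.one_apply]
  fin_cases i
  · have := b.sum_repr (g (b 0))
    rw [Fin.sum_univ_three, h0, one_smul] at this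
    change g (b 0) - b 0 ∈ _
    rw [← this, add_assoc, add_sub_cancel_left]
    exact add_mem (smul_mem _ _ m1) (smul_mem _ _ m2)
  · change g (b 1) - b 1 ∈ _
    rwa [g1, add_sub_cancel_left]
  · change g (b 2) - b 2 ∈ _
    rw [g2]; exact sub_mem (add_mem (smul_mem _ _ m1) (smul_mem _ _ m2)) m2

omit [FiniteDimensional K V] in
theorem r2_schur {e : V} {φ : Dual K V} (h1 : φ e = 1) (h2 : φ (g e) = 1)
    (h3 : 3 ≤ finrank K ↥(LinearMap.range (g - 1) ⊔ K ∙ e))
    (h4 : 4 ≤ finrank K ↥(LinearMap.range (g - 1) ⊔ K ∙ e) ∨ ∃ z, φ z ≠ 0 ∧ g z - z ∈ K ∙ g e) :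
    R2 (schur (rho_g h2) - 1) := fun u => by
  by_contra! H
  have m1 : g e ∈ (K ∙ (u : V)) ⊔ K ∙ g e := mem_sup_right (mem_span_singleton_self _)
  have key : ∀ v, g v - v - φ v • (g e - e) ∈ (K ∙ (u : V)) ⊔ K ∙ g e := fun v => by
    obtain ⟨t, ht⟩ := mem_span_singleton.1 (H ⟨v - φ v • e, (mem_ker_rho h1).2 (by simp [h1])⟩)
    have := congrArg Subtype.val ht
    simp only [SetLike.val_smul, LinearMap.sub_apply, End.one_apply, AddSubgroupClass.coe_sub,
      schur_apply, LinearMap.smulRight_apply, map_smul, map_sub] at this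
    have e1 : g v - v - φ v • (g e - e) = t • (u : V) + (φ (g v) - φ v • φ (g e)) • g e := by
      rw [this]; module
    rw [e1]; exact add_mem (smul_mem _ _ (mem_sup_left (mem_span_singleton_self _))) (smul_mem _ _ m1)
  have d2 : finrank K ↥((K ∙ (u : V)) ⊔ K ∙ g e) ≤ 2 := by
    have := finrank_add_le_finrank_add_finrank (K ∙ (u : V)) (K ∙ g e)
    have := finrank_line_le (K := K) (u : V)
    have := finrank_line_le (K := K) (g e)
    omega
  have le : ∀ U : Submodule K V, (K ∙ (u : V)) ⊔ K ∙ g e ≤ U → e ∈ U →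
      LinearMap.range (g - 1) ⊔ K ∙ e ≤ U := fun U p q =>
    sup_le (by
      rintro _ ⟨v, rfl⟩
      simpa using add_mem (p (key v)) (smul_mem _ (φ v) (sub_mem (p m1) q)))
      ((span_singleton_le_iff_mem _ _).2 q)
  rcases h4 with h4 | ⟨z, z0, hz⟩
  · have := finrank_mono (le (((K ∙ (u : V)) ⊔ K ∙ g e) ⊔ K ∙ e) le_sup_left
      (mem_sup_right (mem_span_singleton_self _)))
    have := finrank_add_le_finrank_add_finrank ((K ∙ (u : V)) ⊔ K ∙ g e) (K ∙ e)
    have := finrank_line_le (K := K) e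
    omega
  · have h5 := sub_mem (mem_sup_right hz) (key z)
    rw [sub_sub_cancel, smul_mem_iff _ z0] at h5
    have := finrank_mono (le _ le_rfl (by simpa using sub_mem m1 h5))
    omega

theorem lev_step (hK : Four K) (hd : LinearMap.det g = 1) (hs : NS g) (hr : R2 (g - 1)) {x : V}
    (x0 : x ≠ 0) {y : Dual K V} (y0 : y ≠ 0) : ∃ (e : V) (φ : Dual K V) (_ : φ e = 1)
      (h2 : φ (g e) = 1), y e ≠ 0 ∧ φ x ≠ 0 ∧ g e - e ≠ 0 ∧ (∃ w, φ (g w - w) ≠ 0) ∧
      (3 ≤ finrank K V → NS (schur (rho_g h2)) ∧ R2 (schur (rho_g h2) - 1)) := by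
  have hg : Function.Surjective g := LinearMap.range_eq_top.1 (LinearMap.range_eq_top.2
    ((End.isUnit_iff g).1 (LinearMap.isUnit_iff_isUnit_det g |>.2 (hd ▸ isUnit_one))).2)
  have p1 : ¬ ⊤ ≤ LinearMap.ker y := fun h => y0 (LinearMap.ker_eq_top.1 (top_unique h))
  have p2 : ¬ ⊤ ≤ (K ∙ x).comap (g - 1) := fun h => (hr x).elim fun w hw => hw (h mem_top)
  obtain ⟨e, e1, e2, he, e3⟩ : ∃ e, y e ≠ 0 ∧ g e - e ∉ K ∙ x ∧ (∀ c : K, g e ≠ c • e) ∧
      (Function.Surjective (g - 1 : End K V) ∨ e ∉ LinearMap.range (g - 1)) := by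
    by_cases h : Function.Surjective (g - 1 : End K V)
    · obtain ⟨S₁, S₂, h1, h2, h3⟩ := exists_noneig hs
      obtain ⟨e, -, q1, q2, q3, q4⟩ := avoid4 hK p1 p2 h1 h2
      exact ⟨e, q1, q2, h3 e q3 q4, .inl h⟩
    · have p3 : ¬ ⊤ ≤ LinearMap.range (g - 1) := fun h' => h (LinearMap.range_eq_top.1 (top_unique h'))
      obtain ⟨e, -, q1, q2, q3, -⟩ := avoid4 hK p1 p2 p3 p3
      refine ⟨e, q1, q2, fun c hc => ?_, .inr q3⟩
      by_cases c1 : c = 1
      · exact q2 (by simp [hc, c1])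
      · exact q3 ⟨(c - 1)⁻¹ • e, by
          rw [map_smul, inv_smul_eq_iff₀ (sub_ne_zero.2 c1)]; simp [hc, sub_smul]⟩
  have e0 : g e - e ≠ 0 := fun h => e2 (h ▸ zero_mem _)
  have f1 := ann_not_le (U := K ∙ e) (by rw [span_singleton_le_iff_mem]; exact notMem_of_noneig he)
  have f2 := ann_not_le (U := K ∙ x) (u := g e - e) (by
    rw [span_singleton_le_iff_mem]
    intro h
    obtain ⟨t, rfl⟩ := mem_span_singleton.1 h
    exact e2 (mem_span_singleton.2 ⟨t⁻¹, inv_smul_smul₀ (left_ne_zero_of_smul x0) _⟩))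
  have f3 := ann_not_le (U := LinearMap.range (g - 1)) (u := g e - e) fun h =>
    (hr (g e - e)).elim fun w hw => hw (h ⟨w, rfl⟩)
  suffices H : ∃ S₃ S₄ : Submodule K (Dual K V), ¬ (K ∙ (g e - e)).dualAnnihilator ≤ S₃ ∧
      ¬ (K ∙ (g e - e)).dualAnnihilator ≤ S₄ ∧ ∀ φ ∉ S₃, φ ∉ S₄ → ∀ (_ : φ e = 1) (h2 : φ (g e) = 1),
        (∃ w, φ (g w - w) ≠ 0) ∧
        (3 ≤ finrank K V → NS (schur (rho_g h2)) ∧ R2 (schur (rho_g h2) - 1)) by
    obtain ⟨S₃, S₄, f3, f4, H⟩ := H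
    obtain ⟨φ, q0, q1, q2, q3, q4⟩ := avoid4 hK f1 f2 f3 f4
    rw [mem_ann] at q0 q1 q2
    obtain ⟨r1, r2⟩ := normalize q1 q0
    exact ⟨e, _, r1, r2, e1, by simp [q1, q2], e0, H _ (by rwa [smul_mem_iff _ (inv_ne_zero q1)])
      (by rwa [smul_mem_iff _ (inv_ne_zero q1)]) r1 r2⟩
  have F3 : ∀ φ ∉ (LinearMap.range (g - 1)).dualAnnihilator, ∃ w, φ (g w - w) ≠ 0 := fun φ h => by
    by_contra! H
    exact h ((mem_dualAnnihilator _).2 (by rintro _ ⟨w, rfl⟩; exact H w))
  by_cases hn : 3 ≤ finrank K V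
  swap
  · exact ⟨_, _, f3, f3, fun φ h _ _ _ => ⟨F3 φ h, fun h => absurd h hn⟩⟩
  obtain ⟨S, s1, s2⟩ := bad_line hg hn he
  have s3 : ∀ φ ∉ S, ∀ (_ : φ e = 1) (h2 : φ (g e) = 1), NS (schur (rho_g h2)) := fun φ h h1 h2 c =>
    ns_schur h1 h2 (s2 φ h (h1 ▸ one_ne_zero) (by simp [h1, h2]) c)
  have hY : ∀ k, k ≤ finrank K V → (e ∉ LinearMap.range (g - 1) →
      k ≤ finrank K (LinearMap.range (g - 1)) + 1) →
      k ≤ finrank K ↥(LinearMap.range (g - 1) ⊔ K ∙ e) := fun k h1 h2 => by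
    rcases e3 with h | h
    · rwa [LinearMap.range_eq_top.2 h, top_sup_eq, finrank_top]
    · exact (h2 h).trans (finrank_lt_finrank_of_lt (left_lt_sup.2
        (by rwa [span_singleton_le_iff_mem])))
  have h3 := hY 3 hn fun _ => Nat.succ_le_succ hr.two_le
  obtain ⟨S', t1, t2⟩ : ∃ S' : Submodule K (Dual K V), ¬ (K ∙ (g e - e)).dualAnnihilator ≤ S' ∧
      ∀ φ ∉ S', ∀ (_ : φ e = 1) (h2 : φ (g e) = 1), R2 (schur (rho_g h2) - 1) := by
    by_cases hZ : (K ∙ g e).comap (g - 1) ≤ K ∙ (g e - e)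
    swap
    · refine ⟨_, ann_not_le hZ, fun φ h h1 h2 => r2_schur h1 h2 h3 (.inr ?_)⟩
      by_contra! H
      exact h ((mem_dualAnnihilator _).2 fun z hz => by_contra fun h' => H z h' hz)
    refine ⟨_, f1, fun φ _ h1 h2 => r2_schur h1 h2 h3 (.inl ?_)⟩
    have hk : LinearMap.ker (g - 1) ≤ K ∙ (g e - e) := fun z hz => hZ (by
      rw [mem_comap, LinearMap.mem_ker.1 hz]; exact zero_mem _)
    have k1 := (finrank_mono hk).trans (finrank_line_le _)
    have k2 := LinearMap.finrank_range_add_finrank_ker (g - 1)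
    rcases hn.eq_or_lt with h4 | h4
    swap; · exact hY 4 h4 fun _ => by omega
    exfalso
    rcases e3 with h | h
    · obtain ⟨z, hz⟩ := h (g e)
      obtain ⟨t, rfl⟩ := mem_span_singleton.1 (hZ (show z ∈ _ from hz ▸ mem_span_singleton_self _))
      have t0 : t ≠ 0 := fun h0 => he 0 (by simpa [h0] using hz.symm)
      have := finrank_mono (range_le_three h4.symm hd he (a := t⁻¹) (by
        rw [eq_inv_smul_iff₀ t0]; simpa using hz))
      rw [LinearMap.range_eq_top.2 h, finrank_top] at this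
      have := finrank_add_le_finrank_add_finrank (K ∙ (g e - e)) (K ∙ e)
      have := finrank_line_le (K := K) (g e - e)
      have := finrank_line_le (K := K) e
      omega
    · obtain ⟨z, hz, z0⟩ := (LinearMap.ker (g - 1)).exists_mem_ne_zero_of_ne_bot fun h0 =>
        h (LinearMap.injective_iff_surjective.1 (LinearMap.ker_eq_bot.1 h0) e)
      obtain ⟨t, rfl⟩ := mem_span_singleton.1 (hk hz)
      rw [smul_mem_iff _ (left_ne_zero_of_smul z0)] at hz
      obtain ⟨w, hw⟩ := hr (g e - e)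
      obtain ⟨_, p, _, q, hpq⟩ := mem_sup.1 (range_le_three h4.symm hd he (a := 0)
        (by simpa using hz) ⟨w, rfl⟩)
      obtain ⟨s, rfl⟩ := mem_span_singleton.1 p
      obtain ⟨s', rfl⟩ := mem_span_singleton.1 q
      by_cases s0 : s' = 0
      · exact hw (by rw [← hpq, s0, zero_smul, add_zero]; exact p)
      · exact h ((smul_mem_iff _ s0).1 ⟨w - s • e, by rw [map_sub, ← hpq]; simp⟩)
  rcases e3 with h | h
  · refine ⟨S, S', s1, t1, fun φ q1 q2 h1 h2 => ⟨?_, fun _ => ⟨s3 φ q1 h1 h2, t2 φ q2 h1 h2⟩⟩⟩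
    obtain ⟨w, hw⟩ := h e
    exact ⟨w, by rw [show g w - w = e from hw, h1]; exact one_ne_zero⟩
  by_cases hc : ∃ c : K, c ≠ 1 ∧ g (g e - e) - c • (g e - e) ∈ K ∙ g e
  · obtain ⟨c, c1, hc⟩ := hc
    obtain ⟨t, ht⟩ := mem_span_singleton.1 hc
    obtain rfl : t = 0 := by_contra fun t0 => h ((smul_mem_iff _ t0).1
      ⟨g e - e - (c - 1 + t) • e, by
        simp only [LinearMap.sub_apply, End.one_apply, map_sub, map_smul] at ht ⊢
        linear_combination (norm := module) -ht⟩)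
    refine ⟨_, S, f3, s1, fun φ q1 q2 h1 h2 => ⟨F3 φ q1, fun _ => ⟨s3 φ q2 h1 h2,
      r2_schur h1 h2 h3 (.inr ⟨(c - 1) • e - (g e - e), by simp [h1, h2, sub_ne_zero.2 c1], ?_⟩)⟩⟩⟩
    have : g ((c - 1) • e - (g e - e)) - ((c - 1) • e - (g e - e)) = 0 := by
      simp only [map_sub, map_smul] at ht ⊢
      linear_combination (norm := module) ht
    rw [this]; exact zero_mem _
  refine ⟨_, S', f3, t1, fun φ q1 q2 h1 h2 => ⟨F3 φ q1, fun _ => ⟨fun c => ?_, t2 φ q2 h1 h2⟩⟩⟩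
  by_cases c1 : c = 1
  · obtain ⟨w, hw⟩ := t2 φ q2 h1 h2 0
    exact ⟨w, fun h' => hw (by simp [h', c1])⟩
  · exact ns_schur h1 h2 fun H => hc ⟨c, c1, H _ (by simp [h1, h2])⟩

theorem eq_one_of_finrank_one (hn : finrank K V = 1) (hd : LinearMap.det g = 1) : g = 1 := by
  obtain ⟨c, rfl, -⟩ := LinearMap.existsUnique_eq_smul_id_of_finrank_eq_one hn g
  rw [LinearMap.det_smul, hn, LinearMap.det_id, pow_one, mul_one] at hd
  rw [hd, one_smul]; rfl

theorem lev (hK : Four K) : ∀ (n : ℕ) {V : Type u} [AddCommGroup V] [Module K V] [FiniteDimensional K V]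
    {g : End K V}, finrank K V = n + 1 → LinearMap.det g = 1 → (1 ≤ n → NS g ∧ R2 (g - 1)) →
    ∀ {x : V}, x ≠ 0 → ∀ {y : Dual K V}, y ≠ 0 → ∃ L U : End K V, g = L * U ∧ (L - 1) ^ (n + 1) = 0 ∧
      (U - 1) ^ (n + 1) = 0 ∧ ((L - 1) ^ n) x ≠ 0 ∧ ∃ w, y (((U - 1) ^ n) w) ≠ 0
  | 0, V, _, _, _, g, hn, hd, _, x, x0, y, y0 => by
    refine ⟨1, 1, by simpa using eq_one_of_finrank_one hn hd, by simp, by simp, by simpa, ?_⟩
    by_contra! H
    exact y0 (LinearMap.ext H)
  | n + 1, V, _, _, _, g, hn, hd, h, x, x0, y, y0 => by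
    obtain ⟨hs, hr⟩ := h (by omega)
    obtain ⟨e, φ, h1, h2, q1, q2, q3, ⟨w₀, q4⟩, q5⟩ := lev_step hK hd hs hr x0 y0
    set W := LinearMap.ker (φ.smulRight e)
    let π : V →ₗ[K] W := (1 - φ.smulRight e).codRestrict W fun v => (mem_ker_rho h1).2 (by simp [h1])
    have hπ : ∀ v, (π v : V) = v - φ v • e := fun _ => rfl
    have hW : ∀ w : W, φ w = 0 := fun w => (mem_ker_rho h1).1 w.2
    have hπW : ∀ w : W, π w = w := fun w => Subtype.ext (by simp [hπ, hW])
    have hπe : π e = 0 := Subtype.ext (by simp [hπ, h1])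
    obtain ⟨L, U, e1, e2, e3, e4, w, e5⟩ := lev hK n (g := schur (rho_g h2))
      (by have := finrank_ker_rho h1; omega) ((det_schur (rho_sq h1) _).trans hd)
      (fun h => q5 (by omega)) (x := π (g e)) (fun h => q3 (by simpa [hπ, h2] using congrArg Subtype.val h))
      (y := φ ∘ₗ g ∘ₗ W.subtype) (fun h => q4 (by
        have := LinearMap.congr_fun h (π w₀)
        simpa [hπ, h2] using this))
    let L' : End K V := φ.smulRight (g e) + W.subtype ∘ₗ L ∘ₗ π
    let U' : End K V := (φ ∘ₗ g).smulRight e + W.subtype ∘ₗ U ∘ₗ π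
    have l1 : ∀ (k : ℕ) v, ((L' - 1) ^ (k + 1)) v = ((L - 1) ^ k) (φ v • π (g e) + (L - 1) (π v)) := by
      intro k v
      induction k with
      | zero => simp [L', hπ, h2]; module
      | succ k ih => rw [pow_succ', End.mul_apply, ih, pow_succ', End.mul_apply]; simp [L', hW, hπW]
    have u1 : ∀ (k : ℕ) v, ((U' - 1) ^ (k + 1)) v =
        φ (g (((U - 1) ^ k) (π v))) • e + ((U - 1) ^ (k + 1)) (π v) := by
      intro k v
      induction k with
      | zero => simp [U', hπ, h2]; module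
      | succ k ih =>
        rw [pow_succ', End.mul_apply, ih, pow_succ' (U - 1) (k + 1), End.mul_apply]
        simp [U', hπW, hπe, h2]; module
    refine ⟨L', U', LinearMap.ext fun v => ?_, LinearMap.ext fun v => ?_, LinearMap.ext fun v => ?_,
      ?_, w, ?_⟩
    · have := congrArg Subtype.val (LinearMap.congr_fun e1 (π v))
      simp only [schur_apply, End.mul_apply, hπ, map_sub, map_smul, LinearMap.smulRight_apply, h2] at this
      simp [L', U', hW, hπW, hπe, h1, ← this]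
    · rw [l1, e2]; rfl
    · rw [u1, pow_succ (U - 1) (n + 1), e3]; simp
    · rw [l1, map_add, ← End.mul_apply, ← pow_succ, e2]; simpa [q2] using e4
    · rw [u1, e3, hπW]; simpa [q1] using e5

end CA.Lev
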