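import Cfsg.Agent.Lib.Lin.Lev2

/-! Regular unipotent factorisations and commutator data. -/

set_option autoImplicit false

namespace CA.Lev

open Module Submodule CA.Rcf Polynomial

universe u
variable {K : Type*} [Field K] {V : Type u} [AddCommGroup V] [Module K V] [FiniteDimensional K V]
  {W : Type*} [AddCommGroup W] [Module K W] [FiniteDimensional K W] {g : End K V}

/-- regular unipotent -/
def Reg (A : End K V) : Prop := (A - 1) ^ finrank K V = 0 ∧ (A - 1) ^ (finrank K V - 1) ≠ 0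

theorem Reg.jt {A : End K V} (h : Reg A) : jt A = {finrank K V} := by
  have hn : IsNilpotent (A - 1) := ⟨_, h.1⟩
  have h2 := h.2
  rw [Ne, sub_one_pow_eq_zero_iff' hn] at h2
  push Not at h2
  obtain ⟨a, ha, h2⟩ := h2
  obtain ⟨m, hm⟩ := Multiset.exists_cons_of_mem ha
  have h3 := sum_jt A
  rw [hm, Multiset.sum_cons] at h3
  obtain rfl : m = 0 := Multiset.eq_zero_of_forall_notMem fun b hb => by
    have := pos_of_mem_jt (A := A) (hm ▸ Multiset.mem_cons_of_mem hb)
    have := Multiset.single_le_sum (fun _ _ => Nat.zero_le _) b hb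
    omega
  rw [hm, ← h3]; simp

theorem Reg.sim {A : End K V} {B : End K W} (h : Reg A) (h' : Reg B) (e : finrank K V = finrank K W) :
    Sim A B := (sim_iff_jt ⟨_, h.1⟩ ⟨_, h'.1⟩).2 (by rw [h.jt, h'.jt, e])

omit [FiniteDimensional K V] [FiniteDimensional K W] in
theorem Reg.of_sim {A : End K V} {B : End K W} (h : Reg A) (s : Sim A B) : Reg B :=
  ⟨(s.sub_one_pow _).eq_zero_iff.1 (s.finrank_eq ▸ h.1),
    fun e => h.2 ((s.sub_one_pow _).eq_zero_iff.2 (s.finrank_eq ▸ e))⟩

omit [FiniteDimensional K V] in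
theorem Reg.of_mul {A B c : End K V} (h : Reg A) (hc : IsUnit c) (h1 : Commute c (A - 1))
    (h2 : B - 1 = c * (A - 1)) : Reg B := by
  constructor
  · rw [h2, h1.mul_pow, h.1, mul_zero]
  · rw [h2, h1.mul_pow, Ne, (hc.pow _).mul_right_eq_zero]; exact h.2

omit [FiniteDimensional K V] in
theorem Reg.inv {A B : End K V} (h : Reg A) (h1 : A * B = 1) (h2 : B * A = 1) : Reg B :=
  h.of_mul (c := -B) (IsUnit.neg ⟨⟨B, A, h2, h1⟩, rfl⟩)
    ((Commute.sub_right (h2.trans h1.symm) (Commute.one_right _)).neg_left)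
    (by rw [neg_mul, mul_sub, h2]; simp)

theorem Reg.sim_cyc {A : End K V} (h : Reg A) : Sim A (cyc ((X - 1) ^ finrank K V)) :=
  sim_cyc_of_edivs (by rw [edivs_eq_map_jt ⟨_, h.1⟩, h.jt]; rfl)

theorem ns_toLin' {ι : Type*} [Fintype ι] [DecidableEq ι] {A : Matrix ι ι K}
    (h : ¬ ∃ c : K, A = c • (1 : Matrix ι ι K)) : NS (Matrix.toLin' A) := fun c => by
  by_contra! H
  exact h ⟨c, Matrix.toLin'.injective (LinearMap.ext fun v => by simpa using H v)⟩

theorem exists_reg (hn : 1 ≤ finrank K V) : ∃ u : V ≃ₗ[K] V, Reg (u : End K V) := by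
  obtain ⟨u, h1, h2⟩ := exists_unip (F := K) (V := V) (μ := {finrank K V}) (by simpa) (by simp)
  exact ⟨u, sub_one_pow_finrank h1, by rw [Ne, sub_one_pow_eq_zero_iff' h1, h2]; simp; omega⟩

theorem two_reg (hK : Four K) (hn : 3 ≤ finrank K V) (hd : LinearMap.det g = 1) (hs : NS g) :
    ∃ L U : End K V, g = L * U ∧ Reg L ∧ Reg U := by
  by_cases hr : R2 (g - 1)
  · have : Nontrivial V := Module.nontrivial_of_finrank_pos (R := K) (by omega)
    obtain ⟨x, x0⟩ := exists_ne (0 : V)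
    obtain ⟨y, hy⟩ := Module.Projective.exists_dual_ne_zero K x0
    obtain ⟨L, U, h1, h2, h3, h4, w, h5⟩ := lev hK (finrank K V - 1) (by omega) hd (fun _ => ⟨hs, hr⟩) x0
      (y := y) fun h => hy (by simp [h])
    rw [Nat.sub_add_cancel (by omega)] at h2 h3
    exact ⟨L, U, h1, ⟨h2, fun h => h4 (by simp [h])⟩, h3, fun h => h5 (by simp [h])⟩
  simp only [R2, not_forall, not_exists, not_not] at hr
  obtain ⟨v, hv⟩ := hr
  obtain ⟨w, hw⟩ := hs 1
  have v0 : v ≠ 0 := fun h => hw (by simpa [h, sub_eq_zero] using hv w)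
  have hr : LinearMap.range (g - 1) = K ∙ v := by
    refine eq_of_le_of_finrank_le (by rintro _ ⟨x, rfl⟩; exact hv x) ?_
    rw [finrank_span_singleton v0, Nat.one_le_iff_ne_zero, Ne, finrank_eq_zero]
    exact fun h => hw (by simpa [sub_eq_zero] using LinearMap.congr_fun (LinearMap.range_eq_bot.1 h) w)
  let ψ : Dual K V := LinearEquiv.coord K V v v0 ∘ₗ (g - 1).codRestrict _ hv
  have hψ : ∀ x, g x = x + ψ x • v := fun x => by
    rw [← sub_eq_iff_eq_add']
    exact (LinearEquiv.coord_apply_smul K V v v0 ⟨_, hv x⟩).symm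
  have h0 : ψ v = 0 := by
    rw [show g = LinearMap.transvection ψ v from LinearMap.ext hψ, LinearMap.transvection.det] at hd
    simpa using hd
  obtain ⟨u, hu⟩ := exists_reg (K := K) (V := V) (by omega)
  set N : End K V := (u : End K V) - 1 with hN
  obtain ⟨k, hk⟩ : ∃ k, finrank K V = k + 3 := ⟨_, (Nat.sub_add_cancel hn).symm⟩
  have N0 : N ^ (k + 3) = 0 := hk ▸ hu.1
  have s : Sim (1 + N ^ (k + 2)) g := by
    refine sim_of_sq_eq_zero ?_ ?_ rfl ?_
    · rw [add_sub_cancel_left, ← pow_mul, show (k + 2) * 2 = k + 3 + (k + 1) by ring, pow_add, N0, zero_mul]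
    · ext x; simp [sq, hψ, h0]
    · have := LinearMap.finrank_range_add_finrank_ker (g - 1)
      rw [add_sub_cancel_left, finrank_ker_sub_one_pow ⟨_, hu.1⟩, hu.jt, hr, finrank_span_singleton v0] at *
      simp; omega
  obtain ⟨e, rfl⟩ := s.eq_conj
  refine ⟨e.conj (u.symm : End K V), e.conj (u * (1 + N ^ (k + 2))), ?_,
    (hu.inv (by ext; simp) (by ext; simp)).of_sim (sim_conj e _),
    (hu.of_mul (c := 1 + N ^ (k + 1)) ?_ ?_ ?_).of_sim (sim_conj e _)⟩
  · rw [End.mul_eq_comp, ← LinearEquiv.conj_comp]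
    congr 1; ext; simp
  · exact IsNilpotent.isUnit_one_add ((IsNilpotent.pow_succ k ⟨_, N0⟩))
  · exact (Commute.one_left _).add_left ((Commute.refl N).pow_left _)
  · rw [show (u : End K V) = 1 + N by simp [hN], add_sub_cancel_left]
    have : N * N ^ (k + 2) = 0 := by rw [← pow_succ', N0]
    rw [add_mul, add_mul, mul_add, mul_add, this, ← pow_succ]
    simp only [one_mul, mul_one]; abel

end CA.Lev
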