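import Cfsg.Agent.Lib.Lin.Lev3

/-! Commutator data `g a' = a` with `a ∼ a'`. -/

set_option autoImplicit false

namespace CA.Lev

open Module Submodule CA.Rcf Polynomial

universe u
variable {K : Type*} [Field K] {V : Type u} [AddCommGroup V] [Module K V]
  {W : Type*} [AddCommGroup W] [Module K W] {g a : End K V}

/-- `g = a a'⁻¹` with `a'` similar to `a` -/
def CD (g a : End K V) : Prop := ∃ a' : End K V, g * a' = a ∧ Sim a a'

/-- the centraliser has all determinants -/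
def Flex (a : End K V) : Prop :=
  ∀ c : K, c ≠ 0 → ∃ z : V ≃ₗ[K] V, (∀ v, z (a v) = a (z v)) ∧ LinearMap.det (z : End K V) = c

theorem cd_one (a : End K V) : CD 1 a := ⟨a, one_mul a, Sim.refl a⟩

theorem CD.of_sim {g' : End K W} (h : CD g a) (s : Sim g g') : ∃ a', CD g' a' ∧ Sim a a' := by
  obtain ⟨e, rfl⟩ := s.eq_conj
  obtain ⟨b, h1, h2⟩ := h
  exact ⟨e.conj a, ⟨e.conj b, by rw [← h1, End.mul_eq_comp, ← LinearEquiv.conj_comp]; rfl,
    ((sim_conj e a).symm.trans h2).trans (sim_conj e b)⟩, sim_conj e a⟩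

theorem CD.prod {g' a' : End K W} (h : CD g a) (h' : CD g' a') :
    CD (g.prodMap g' : End K (V × W)) (a.prodMap a') := by
  obtain ⟨b, h1, h2⟩ := h
  obtain ⟨b', h1', h2'⟩ := h'
  exact ⟨b.prodMap b', by rw [← h1, ← h1']; rfl, h2.prodMap h2'⟩

theorem sim_smul {b : End K W} (s : Sim a b) (c : K) : Sim (c • a) (c • b) :=
  s.imp fun e he v => by simp [he]

theorem CD.smul (h : CD g a) (c : K) : CD g (c • a) := by
  obtain ⟨b, h1, h2⟩ := h
  exact ⟨c • b, by rw [mul_smul_comm, h1], sim_smul h2 c⟩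

theorem aeval_of_sim {b : End K W} (s : Sim a b) {f : K[X]} (h : aeval a f = 0) : aeval b f = 0 :=
  (s.aeval f).eq_zero_iff.1 h

theorem aeval_prod {b : End K W} {p q : K[X]} (hp : aeval a p = 0) (hq : aeval b q = 0) :
    aeval (a.prodMap b : End K (V × W)) (p * q) = 0 := by
  rw [aeval_prodMap, map_mul, map_mul, hp, hq, zero_mul, mul_zero]; ext <;> simp

theorem aeval_smul_one (c : K) : aeval (c • (1 : End K V)) (X - C c) = 0 := by
  simp [Algebra.algebraMap_eq_smul_one]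

theorem aeval_unip {k : ℕ} (h : (a - 1) ^ k = 0) : aeval a ((X - C (1 : K)) ^ k) = 0 := by simpa using h

theorem coprime_lin {b c : K} (h : b ≠ c) : IsCoprime (X - C b) (X - C c) :=
  isCoprime_X_sub_C_of_isUnit_sub (sub_ne_zero.2 h).isUnit

theorem Flex.of_sim {b : End K W} (h : Flex a) (s : Sim a b) : Flex b := fun c hc => by
  obtain ⟨e, he⟩ := s
  obtain ⟨z, h1, h2⟩ := h c hc
  refine ⟨e.symm.trans (z.trans e), fun v => ?_, h2 ▸ (Sim.det_eq ⟨e, fun v => by simp⟩).symm⟩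
  obtain ⟨v, rfl⟩ := e.surjective v
  simp [← he, h1]

variable [FiniteDimensional K V] [FiniteDimensional K W]

theorem det_prod (a : End K V) (b : End K W) :
    LinearMap.det (a.prodMap b : End K (V × W)) = LinearMap.det a * LinearMap.det b :=
  LinearMap.det_prodMap a b

theorem Flex.prod (h : Flex a) (b : End K W) : Flex (a.prodMap b : End K (V × W)) := fun c hc => by
  obtain ⟨z, h1, h2⟩ := h c hc
  refine ⟨z.prodCongr (LinearEquiv.refl K W), fun v => by simp [h1], ?_⟩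
  rw [show (z.prodCongr (LinearEquiv.refl K W) : End K (V × W)) =
    (z : End K V).prodMap (1 : End K W) from rfl, det_prod, h2]; simp

theorem flex_smul_one (hn : finrank K V ≠ 0) (b : K) : Flex (b • (1 : End K V)) := fun c hc => by
  let B := finBasis K V
  let i : Fin (finrank K V) := ⟨0, Nat.pos_of_ne_zero hn⟩
  refine ⟨B.equiv (B.unitsSMul (Function.update 1 i (Units.mk0 c hc))) (Equiv.refl _),
    fun v => by simp, ?_⟩
  rw [← LinearMap.det_toMatrix B, show LinearMap.toMatrix B B _ =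
    Matrix.diagonal (Function.update 1 i c) from ?_]
  · simp [Finset.prod_update_of_mem]
  · ext j k
    by_cases h : k = i <;>
      simp [LinearMap.toMatrix_apply, Basis.unitsSMul_apply, h, Matrix.diagonal_apply, Finsupp.single_apply,
        Function.update_apply, eq_comm] <;> grind

theorem surj_of_det (hd : LinearMap.det g ≠ 0) : Function.Surjective g :=
  ((End.isUnit_iff g).1 ((LinearMap.isUnit_iff_isUnit_det g).2 (isUnit_iff_ne_zero.2 hd))).2

theorem cd_block {ρ : End K V} (hρ : ρ * ρ = ρ) (h : ρ * g * ρ = ρ) {α : End K (LinearMap.range ρ)}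
    {δ : End K (LinearMap.ker ρ)} (hδ : CD (schur h) δ) {p q : K[X]} (hpq : IsCoprime p q)
    (hp : aeval α p = 0) (hq : aeval δ q = 0) : ∃ a, CD g a ∧ Sim (α.prodMap δ) a := by
  obtain ⟨δ', h1, h2⟩ := hδ
  obtain ⟨a, a', h3, h4, h5⟩ := block hρ h h1 hpq hp hq (aeval_of_sim h2 hq)
  exact ⟨a, ⟨a', h3, (h4.symm.trans ((Sim.refl α).prodMap h2)).trans h5⟩, h4⟩

/-- one Sourour step with eigenvalue `c` -/
theorem cd_step {e : V} {φ : Dual K V} (h1 : φ e = 1) (h2 : φ (g e) = 1)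
    {δ : End K (LinearMap.ker (φ.smulRight e))} (hδ : CD (schur (rho_g h2)) δ) {q : K[X]} {c : K}
    (hc : IsCoprime (X - C c) q) (hq : aeval δ q = 0) : ∃ a, CD g a ∧ aeval a ((X - C c) * q) = 0 ∧
      LinearMap.det a = c * LinearMap.det δ ∧ Flex a := by
  obtain ⟨a, p1, p2⟩ := cd_block (rho_sq h1) _ hδ hc (aeval_smul_one c) hq
  refine ⟨a, p1, aeval_of_sim p2 (aeval_prod (aeval_smul_one c) hq), ?_,
    ((flex_smul_one (by rw [finrank_range_rho h1]; simp) c).prod δ).of_sim p2⟩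
  rw [← p2.det_eq, det_prod, LinearMap.det_smul, finrank_range_rho h1]; simp

omit [FiniteDimensional K V] in
theorem eq_one_of_le_one [FiniteDimensional K V] (hn : finrank K V ≤ 1) (hd : LinearMap.det g = 1) :
    g = 1 := by
  rcases hn.eq_or_lt with h | h
  · exact eq_one_of_finrank_one h hd
  · have := (finrank_zero_iff (R := K) (M := V)).1 (by omega)
    exact LinearMap.ext fun _ => Subsingleton.elim _ _

theorem cd_of_sq {c : K} (c0 : c ≠ 0) (c1 : c ≠ 1) (h : (g - 1) ^ 2 = 0) :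
    ∃ u, CD g u ∧ IsNilpotent (u - 1) := by
  refine ⟨1 + c • (g - 1), ⟨1 + (c - 1) • (g - 1), ?_, sim_of_sq_eq_zero ?_ ?_ rfl ?_⟩, 2, ?_⟩
  · obtain ⟨N, rfl⟩ : ∃ N, g = 1 + N := ⟨g - 1, by simp⟩
    rw [add_sub_cancel_left, sq] at *
    simp [mul_add, add_mul, mul_sub, h, sub_smul]
  · simp [_root_.smul_pow, h]
  · simp [_root_.smul_pow, h]
  · rw [add_sub_cancel_left, add_sub_cancel_left, LinearMap.ker_smul _ _ c0,
      LinearMap.ker_smul _ _ (sub_ne_zero.2 c1)]
  · simp [_root_.smul_pow, h]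

theorem cd_of_reg {L U : End K V} (h : g = L * U) (hL : Reg L) (hU : Reg U) :
    ∃ u, CD g u ∧ IsNilpotent (u - 1) := by
  obtain ⟨U', rfl⟩ := (LinearMap.isUnit_iff_isUnit_det U).2 (det_unip ⟨_, hU.1⟩ ▸ isUnit_one)
  exact ⟨L, ⟨↑U'⁻¹, by simp [h], hL.sim (hU.inv U'.mul_inv U'.inv_mul) rfl⟩, _, hL.1⟩

theorem cd_two {c : K} (c0 : c ≠ 0) (c1 : c ≠ 1) (hn : finrank K V = 2) (hd : LinearMap.det g = 1)
    (hs : NS g) : ∃ u, CD g u ∧ IsNilpotent (u - 1) := by
  by_cases h : (g - 1) ^ 2 = 0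
  · exact cd_of_sq c0 c1 h
  obtain ⟨e, φ, h1, h2, -⟩ := sourour_step (surj_of_det (hd ▸ one_ne_zero)) hs
  obtain ⟨E, C, B, e1⟩ := exists_gauss (rho_sq h1) (rho_g h2)
  rw [eq_one_of_finrank_one (g := schur _) (by have := finrank_ker_rho h1; omega)
    ((det_schur (rho_sq h1) _).trans hd), End.mul_eq_comp, LinearEquiv.conj_comp] at e1
  have l2 : (E.conj (low 1 C 1) - 1) ^ 2 = 0 :=
    ((sim_conj E _).sub_one_pow 2).eq_zero_iff.1 (by ext <;> simp [sq])
  have u2 : (E.conj (up 1 B 1) - 1) ^ 2 = 0 :=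
    ((sim_conj E _).sub_one_pow 2).eq_zero_iff.1 (by ext <;> simp [sq])
  refine cd_of_reg e1 ⟨hn ▸ l2, fun h' => h ?_⟩ ⟨hn ▸ u2, fun h' => h ?_⟩ <;>
    rw [hn, pow_one, sub_eq_zero] at h' <;> rw [e1, h']
  · exact u2
  · exact l2

theorem cd_unip (hK : Four K) (hd : LinearMap.det g = 1) (hs : 2 ≤ finrank K V → NS g) :
    ∃ u, CD g u ∧ IsNilpotent (u - 1) := by
  rcases (show finrank K V ≤ 1 ∨ finrank K V = 2 ∨ 3 ≤ finrank K V by omega) with h | h | h
  · exact ⟨1, by rw [eq_one_of_le_one h hd]; exact cd_one 1, by simp⟩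
  · obtain ⟨c, -, c0, c1, -⟩ := hK
    exact cd_two c0 c1 h hd (hs h.ge)
  · obtain ⟨L, U, h1, h2, h3⟩ := two_reg hK h hd (hs (by omega))
    exact cd_of_reg h1 h2 h3

/-- commutator data for a commutator in `SL` -/
def Top (g : End K V) : Prop := ∃ a, CD g a ∧ LinearMap.det a = 1 ∧ Flex a

omit [FiniteDimensional K V] [FiniteDimensional K W] in
theorem Top.of_sim {g' : End K W} (h : Top g) (s : Sim g g') : Top g' := by
  obtain ⟨a, h1, h2, h3⟩ := h
  obtain ⟨a', h4, h5⟩ := h1.of_sim s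
  exact ⟨a', h4, h5.det_eq ▸ h2, h3.of_sim h5⟩

theorem Top.comm {n : ℕ} {g : Matrix.SpecialLinearGroup (Fin n) K} (h : Top (Matrix.toLin' g.1)) :
    ∃ a b : Matrix.SpecialLinearGroup (Fin n) K, g = a * b * a⁻¹ * b⁻¹ := by
  obtain ⟨a, ⟨a', h1, h2⟩, h3, h4⟩ := h
  let A : Matrix.SpecialLinearGroup (Fin n) K := ⟨LinearMap.toMatrix' a, by rwa [LinearMap.det_toMatrix']⟩
  let A' : Matrix.SpecialLinearGroup (Fin n) K :=
    ⟨LinearMap.toMatrix' a', by rwa [LinearMap.det_toMatrix', ← h2.det_eq]⟩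
  obtain ⟨b, hb⟩ := isConj_iff.1 (isConj_SL (g := A) (h := A') (by simpa [A, A'] using h2)
    (by simpa [A] using! h4))
  have : g * A' = A := Subtype.ext (Matrix.toLin'.injective (by
    change Matrix.toLin' (g.1 * LinearMap.toMatrix' a') = Matrix.toLin' (LinearMap.toMatrix' a)
    rw [Matrix.toLin'_mul, Matrix.toLin'_toMatrix', Matrix.toLin'_toMatrix', ← h1]; rfl))
  exact ⟨A, b, by rw [eq_mul_inv_of_mul_eq this, ← hb]; group⟩

theorem top_four {l : K} (l0 : l ≠ 0) (l2 : l * l ≠ 1) (hK : Four K) (hn : 2 ≤ finrank K V)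
    (hd : LinearMap.det g = 1) (hs : NS g) : Top g := by
  have l1 : l ≠ 1 := fun h => l2 (by rw [h, mul_one])
  have l3 : l ≠ l⁻¹ := fun h => l2 (by nth_rw 2 [h]; exact mul_inv_cancel₀ l0)
  obtain ⟨e, φ, h1, h2, h3⟩ := sourour_step (surj_of_det (hd ▸ one_ne_zero)) hs
  have d1 := (det_schur (rho_sq h1) (rho_g h2)).trans hd
  have f1 := finrank_ker_rho h1
  rcases hn.eq_or_lt with hn | hn
  · obtain ⟨a, p1, -, p2, p3⟩ := cd_step h1 h2 (δ := l⁻¹ • 1)
      (by rw [eq_one_of_finrank_one (by omega) d1]; exact cd_one _) (coprime_lin l3) (aeval_smul_one _)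
    refine ⟨a, p1, ?_, p3⟩
    rw [p2, LinearMap.det_smul, show finrank K _ = 1 by omega]; simp [l0]
  obtain ⟨e', φ', h1', h2', h3'⟩ := sourour_step (surj_of_det (d1 ▸ one_ne_zero)) (h3 hn)
  have f2 := finrank_ker_rho h1'
  obtain ⟨u, u1, k, u2⟩ := cd_unip hK ((det_schur (rho_sq h1') (rho_g h2')).trans d1)
    fun h => h3' (by omega)
  obtain ⟨b, q1, q2, q3, -⟩ := cd_step h1' h2' u1 (coprime_lin (inv_ne_one.2 l1)).pow_right (aeval_unip u2)
  obtain ⟨a, p1, -, p2, p3⟩ := cd_step h1 h2 q1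
    ((coprime_lin l3).mul_right (coprime_lin l1).pow_right) q2
  exact ⟨a, p1, by rw [p2, q3, det_unip ⟨k, u2⟩]; simp [l0], p3⟩

theorem charpoly_smul_comp (A : End K V) (c : K) :
    (c • A).charpoly.comp (C c * X) = C c ^ finrank K V * A.charpoly := by
  let B := finBasis K V
  rw [← LinearMap.charpoly_toMatrix _ B, ← LinearMap.charpoly_toMatrix _ B, map_smul, Matrix.charpoly,
    Matrix.charpoly, ← coe_compRingHom_apply, RingHom.map_det]
  have := Matrix.det_smul (LinearMap.toMatrix B B A).charmatrix (C c)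
  rw [Fintype.card_fin] at this
  rw [← this]
  congr 1
  ext1 i j
  by_cases h : i = j <;> simp [h, mul_sub]

theorem top_scalar [Finite K] (hn : finrank K V ≠ 0) {c : K} (hc : c ^ finrank K V = 1) :
    Top (c • (1 : End K V)) := by
  have c0 : c ≠ 0 := fun h => by simp [h, hn] at hc
  have hm : (X ^ finrank K V + C ((-1) ^ finrank K V) : K[X]).Monic := monic_X_pow_add_C _ hn
  obtain ⟨A, h1, h2⟩ := exists_ss_equiv (V := V) hm natDegree_X_pow_add_C
    (by rw [coeff_add, coeff_C_zero, coeff_X_pow, if_neg hn.symm]; simp)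
  obtain ⟨p, hp⟩ := CharP.exists K
  have := Fact.mk (CharP.char_is_prime K p)
  have := Fintype.ofFinite K
  have h3 : IsSS (c⁻¹ • (A : End K V)) := by
    have := isSS_of_pow_eq_one (g := (LinearEquiv.smulOfNeZero K V c⁻¹ (inv_ne_zero c0)) * A)
      (n := (Fintype.card K - 1) * orderOf A) ?_ ?_
    · exact this
    · rw [Nat.cast_mul, Nat.cast_sub Fintype.card_pos, FiniteField.cast_card_eq_zero]
      refine mul_ne_zero (by simp) ?_
      rw [Ne, CharP.cast_eq_zero_iff K p]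
      exact (Nat.Prime.coprime_iff_not_dvd Fact.out).1 ((isSS_iff_coprime p A).1 h1).symm
    · refine LinearEquiv.toLinearMap_injective ?_
      rw [coe_pow']
      change (c⁻¹ • (A : End K V)) ^ _ = 1
      rw [_root_.smul_pow, pow_mul, FiniteField.pow_card_sub_one_eq_one _ (inv_ne_zero c0), one_pow, one_smul,
        ← coe_pow', mul_comm, pow_mul, pow_orderOf_eq_one, one_pow]; rfl
  refine ⟨A, ⟨c⁻¹ • (A : End K V), by simp [smul_smul, c0], sim_of_charpoly_eq h1 h3 ?_⟩, ?_,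
    fun b hb => h1.exists_commute_det hn hb⟩
  · have e := congrArg (fun f => f.comp (C c * X)) (charpoly_smul_comp (A : End K V) c⁻¹)
    simp only [comp_assoc, mul_comp, C_comp, X_comp, ← mul_assoc, ← C_mul, inv_mul_cancel₀ c0, C_1,
      one_mul, comp_X, h2, add_comp, pow_comp, mul_pow, ← C_pow, inv_pow, hc, inv_one] at e
    rw [e, h2]
  · have := coeff_zero_charpoly (A : End K V)
    rw [h2] at this
    simp only [coeff_add, coeff_X_pow, hn.symm, if_false, coeff_C_zero, zero_add] at this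
    exact (mul_left_cancel₀ (pow_ne_zero _ (neg_ne_zero.2 one_ne_zero)) (by rw [← this, mul_one])).symm

end CA.Lev
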