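import Cfsg.Agent.Lib.Lin.Lev4
import Cfsg.Agent.Lib.Lin.SLTv

/-! Companion matrices and explicit similarity representatives in dimensions at most four. -/

set_option autoImplicit false

namespace CA.Lev

open Module CA.Rcf Polynomial Matrix CA.SLTv

universe u
variable {K : Type*} [Field K] {V : Type u} [AddCommGroup V] [Module K V] [FiniteDimensional K V]

/-- companion matrix -/
noncomputable def comp (f : K[X]) (n : ℕ) : Matrix (Fin n) (Fin n) K :=
  ofCols fun k => if k + 1 < n then e n K (k + 1) else fun i => -f.coeff i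

theorem comp_pow_e (f : K[X]) {n k : ℕ} (hk : k < n) : comp f n ^ k *ᵥ e n K 0 = e n K k := by
  induction k with
  | zero => simp
  | succ k ih => rw [pow_succ', ← mulVec_mulVec, ih (by omega), comp, ofCols_e _ (by omega), if_pos hk]

theorem aeval_comp {f : K[X]} (hf : f.Monic) {n : ℕ} (hn : f.natDegree = n) : aeval (comp f n) f = 0 := by
  rcases Nat.eq_zero_or_pos n with rfl | h0
  · exact Subsingleton.elim _ _
  have h : aeval (comp f n) f *ᵥ e n K 0 = 0 := by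
    obtain ⟨m, rfl⟩ : ∃ m, n = m + 1 := ⟨n - 1, by omega⟩
    rw [aeval_eq_sum_range, hn, Finset.sum_range_succ, ← hn, hf.coeff_natDegree, hn, one_smul,
      add_mulVec, pow_succ' (comp f _), ← mulVec_mulVec, comp_pow_e _ (by omega),
      show comp f (m + 1) *ᵥ e _ K m = fun i : Fin (m + 1) => -f.coeff i by
        rw [comp, ofCols_e _ (by omega), if_neg (by omega)], eq_sum_e fun i : Fin (m + 1) => -f.coeff i, sum_mulVec,
      Finset.sum_range, ← Finset.sum_add_distrib]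
    exact Finset.sum_eq_zero fun i _ => by
      rw [smul_mulVec, comp_pow_e f i.2]; simp
  refine matrix_ext fun k hk => ?_
  have c : Commute (aeval (comp f n) f) (comp f n ^ k) := by
    rw [← aeval_X_pow (R := K), Commute, SemiconjBy, ← map_mul, ← map_mul, mul_comm]
  rw [← comp_pow_e f hk, mulVec_mulVec, c.eq, ← mulVec_mulVec, h]
  simp

theorem sim_comp {f : K[X]} (hf : f.Monic) {n : ℕ} (hn : f.natDegree = n) :
    Sim (cyc f) (toLin' (comp f n)) := by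
  refine sim_cyc_of_cyclic hf.ne_zero (by rw [aeval_toLin', aeval_comp hf hn, map_zero]) (by simp [hn])
    (e n K 0) fun w => ⟨∑ i : Fin n, C (w i) * X ^ (i : ℕ), ?_⟩
  rw [aeval_toLin', toLin'_apply, map_sum, sum_mulVec]
  conv_rhs => rw [eq_sum_e w]
  exact Finset.sum_congr rfl fun i _ => by
    rw [map_mul, aeval_C, aeval_X_pow, ← Algebra.smul_def, smul_mulVec, comp_pow_e _ i.2]

theorem sim_fromBlocks {m n : ℕ} (A : Matrix (Fin m) (Fin m) K) (B : Matrix (Fin n) (Fin n) K) :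
    Sim ((toLin' A).prodMap (toLin' B) : End K (_ × _))
      (toLin' (reindex finSumFinEquiv finSumFinEquiv (fromBlocks A 0 0 B))) := by
  refine Sim.trans ⟨(LinearEquiv.sumArrowLequivProdArrow _ _ K K).symm, fun v => ?_⟩
    (sim_reindex _ _).symm
  ext (i | i) <;> simp [fromBlocks_mulVec, Function.comp_def] <;> rfl

theorem split (g : End K V) (hn : 1 ≤ finrank K V) : ∃ (k m : ℕ) (f : K[X]) (B : End K (Fin m → K)),
    1 ≤ k ∧ k + m = finrank K V ∧ Sim g ((toLin' (comp f k)).prodMap B : End K (_ × _)) ∧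
    (∀ d ∈ edivs g, k ≤ d.natDegree) ∧ (∀ d ∈ edivs B, d ∈ edivs g) ∧ ∃ d ∈ edivs g, d.natDegree = k := by
  classical
  obtain ⟨f, hf, h1⟩ := (edivs g).toFinset.exists_min_image natDegree
    (Multiset.toFinset_nonempty.2 (mt (edivs_eq_zero_iff g).1 (by omega)))
  rw [Multiset.mem_toFinset] at hf
  obtain ⟨m, hm⟩ := Multiset.exists_cons_of_mem hf
  have h2 := sum_natDegree_edivs g
  rw [hm, Multiset.map_cons, Multiset.sum_cons] at h2
  have h3 : ∀ d ∈ m, d ∈ edivs g := fun d hd => hm ▸ Multiset.mem_cons_of_mem hd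
  obtain ⟨B, hB⟩ := exists_edivs_eq (V := Fin (m.map natDegree).sum → K)
    (fun d hd => isPrim_of_mem_edivs (h3 d hd)) (by simp)
  have p := isPrim_of_mem_edivs hf
  refine ⟨_, _, f, B, p.natDegree_pos, h2, sim_iff_edivs.2 ?_,
    fun d hd => h1 d (Multiset.mem_toFinset.2 hd), fun d hd => h3 d (hB ▸ hd), f, hf, rfl⟩
  rw [edivs_prodMap, edivs_eq_of_sim_cyc p (sim_comp p.monic rfl).symm, hB, hm, Multiset.singleton_add]

omit [FiniteDimensional K V] in
theorem sim_prod_zero (g : End K V) (B : End K (Fin 0 → K)) : Sim (g.prodMap B : End K (_ × _)) g :=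
  ⟨LinearEquiv.prodUnique, fun _ => rfl⟩

theorem enum1 (g : End K V) (hn : finrank K V = 1) : ∃ a, Sim g (toLin' !![a]) := by
  obtain ⟨k, m, f, B, h1, h2, h3, -⟩ := split g hn.ge
  obtain ⟨rfl, rfl⟩ : k = 1 ∧ m = 0 := by omega
  refine ⟨-f.coeff 0, (h3.trans (sim_prod_zero _ _)).trans ?_⟩
  rw [show comp f 1 = !![-f.coeff 0] by ext i j; fin_cases i; fin_cases j; rfl]
  exact Sim.refl _

theorem comp2 (f : K[X]) : comp f 2 = !![0, -f.coeff 0; 1, -f.coeff 1] := by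
  ext i j; fin_cases i <;> fin_cases j <;> rfl

theorem enum2 (g : End K V) (hn : finrank K V = 2) : ∃ a b, Sim g (toLin' !![0, a; 1, b]) ∨
    ((∃ d ∈ edivs g, d.natDegree = 1) ∧ Sim g (toLin' !![a, 0; 0, b])) := by
  obtain ⟨k, m, f, B, h1, h2, h3, -, -, h4⟩ := split g (by omega)
  obtain ⟨rfl, rfl⟩ | ⟨rfl, rfl⟩ : (k = 2 ∧ m = 0) ∨ (k = 1 ∧ m = 1) := by omega
  · exact ⟨_, _, .inl (comp2 f ▸ h3.trans (sim_prod_zero _ _))⟩
  · obtain ⟨b, hb⟩ := enum1 B (by simp)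
    refine ⟨-f.coeff 0, b, .inr ⟨h4, ((h3.trans ((Sim.refl _).prodMap hb)).trans
      (sim_fromBlocks _ _)).trans ?_⟩⟩
    rw [show reindex finSumFinEquiv finSumFinEquiv (fromBlocks (comp f 1) 0 0 !![b]) =
      !![-f.coeff 0, 0; 0, b] by ext i j; fin_cases i <;> fin_cases j <;> rfl]
    exact Sim.refl _

theorem enum3 (g : End K V) (hn : finrank K V = 3) : ∃ a b c,
    Sim g (toLin' !![0, 0, a; 1, 0, b; 0, 1, c]) ∨ Sim g (toLin' !![a, 0, 0; 0, 0, b; 0, 1, c]) ∨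
      Sim g (toLin' !![a, 0, 0; 0, b, 0; 0, 0, c]) := by
  obtain ⟨k, m, f, B, h1, h2, h3, h4, h5, -⟩ := split g (by omega)
  obtain ⟨rfl, rfl⟩ | ⟨rfl, rfl⟩ | ⟨rfl, rfl⟩ : (k = 3 ∧ m = 0) ∨ (k = 1 ∧ m = 2) ∨ (k = 2 ∧ m = 1) := by
    omega
  · refine ⟨-f.coeff 0, -f.coeff 1, -f.coeff 2, .inl ((h3.trans (sim_prod_zero _ _)).trans ?_)⟩
    rw [show comp f 3 = !![0, 0, -f.coeff 0; 1, 0, -f.coeff 1; 0, 1, -f.coeff 2] by
      ext i j; fin_cases i <;> fin_cases j <;> rfl]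
    exact Sim.refl _
  · obtain ⟨b, c, hb | ⟨-, hb⟩⟩ := enum2 B (by simp)
    · refine ⟨-f.coeff 0, b, c, .inr (.inl (((h3.trans ((Sim.refl _).prodMap hb)).trans
        (sim_fromBlocks _ _)).trans ?_))⟩
      rw [show reindex finSumFinEquiv finSumFinEquiv (fromBlocks (comp f 1) 0 0 !![0, b; 1, c]) =
        !![-f.coeff 0, 0, 0; 0, 0, b; 0, 1, c] by ext i j; fin_cases i <;> fin_cases j <;> rfl]
      exact Sim.refl _
    · refine ⟨-f.coeff 0, b, c, .inr (.inr (((h3.trans ((Sim.refl _).prodMap hb)).trans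
        (sim_fromBlocks _ _)).trans ?_))⟩
      rw [show reindex finSumFinEquiv finSumFinEquiv (fromBlocks (comp f 1) 0 0 !![b, 0; 0, c]) =
        !![-f.coeff 0, 0, 0; 0, b, 0; 0, 0, c] by ext i j; fin_cases i <;> fin_cases j <;> rfl]
      exact Sim.refl _
  · obtain ⟨k, m, -, -, p1, p2, -, -, -, d, p3, p4⟩ := split B (by simp)
    have := h4 d (h5 d p3)
    simp at p2; omega

theorem enum4 (g : End K V) (hn : finrank K V = 4) :
    (∃ a b c d, Sim g (toLin' !![0, 0, 0, a; 1, 0, 0, b; 0, 1, 0, c; 0, 0, 1, d]) ∨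
      Sim g (toLin' !![0, a, 0, 0; 1, b, 0, 0; 0, 0, 0, c; 0, 0, 1, d])) ∨
    ∃ (a : K) (B : End K (Fin 3 → K)), Sim g ((toLin' !![a]).prodMap B : End K (_ × _)) := by
  obtain ⟨k, m, f, B, h1, h2, h3, h4, h5, -⟩ := split g (by omega)
  obtain ⟨rfl, rfl⟩ | ⟨rfl, rfl⟩ | ⟨rfl, rfl⟩ | ⟨rfl, rfl⟩ :
    (k = 4 ∧ m = 0) ∨ (k = 1 ∧ m = 3) ∨ (k = 2 ∧ m = 2) ∨ (k = 3 ∧ m = 1) := by omega
  · refine .inl ⟨-f.coeff 0, -f.coeff 1, -f.coeff 2, -f.coeff 3,
      .inl ((h3.trans (sim_prod_zero _ _)).trans ?_)⟩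
    rw [show comp f 4 = !![0, 0, 0, -f.coeff 0; 1, 0, 0, -f.coeff 1; 0, 1, 0, -f.coeff 2;
      0, 0, 1, -f.coeff 3] by ext i j; fin_cases i <;> fin_cases j <;> rfl]
    exact Sim.refl _
  · refine .inr ⟨-f.coeff 0, B, ?_⟩
    rwa [show comp f 1 = !![-f.coeff 0] by ext i j; fin_cases i; fin_cases j; rfl] at h3
  · obtain ⟨b, c, hb | ⟨⟨d, p1, p2⟩, -⟩⟩ := enum2 B (by simp)
    · refine .inl ⟨-f.coeff 0, -f.coeff 1, b, c, .inr (((h3.trans ((Sim.refl _).prodMap hb)).trans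
        (sim_fromBlocks _ _)).trans ?_)⟩
      rw [show reindex finSumFinEquiv finSumFinEquiv (fromBlocks (comp f 2) 0 0 !![0, b; 1, c]) =
        !![0, -f.coeff 0, 0, 0; 1, -f.coeff 1, 0, 0; 0, 0, 0, b; 0, 0, 1, c] by
          ext i j; fin_cases i <;> fin_cases j <;> rfl]
      exact Sim.refl _
    · have := h4 d (h5 d p1)
      omega
  · obtain ⟨k, m, -, -, p1, p2, -, -, -, d, p3, p4⟩ := split B (by simp)
    have := h4 d (h5 d p3)
    simp at p2; omega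

theorem cd_matrix {n : ℕ} {M a b c : Matrix (Fin n) (Fin n) K} (h1 : b * c = 1) (h2 : M * b * a = a * b) :
    CD (toLin' M) (toLin' a) := by
  refine ⟨toLin' (b * a * c), ?_, isConj_matrix_iff.1 ⟨⟨b, c, h1, mul_eq_one_comm.1 h1⟩, ?_⟩⟩
  · rw [End.mul_eq_comp, ← toLin'_mul, ← Matrix.mul_assoc, ← Matrix.mul_assoc, h2, Matrix.mul_assoc, h1,
      Matrix.mul_one]
  · change b * a = b * a * c * b
    rw [Matrix.mul_assoc _ c, mul_eq_one_comm.1 h1, Matrix.mul_one]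

omit [FiniteDimensional K V] in
theorem unip_of_matrix {n k : ℕ} {g : End K V} {M a b c : Matrix (Fin n) (Fin n) K} (s : Sim g (toLin' M))
    (h1 : b * c = 1) (h2 : M * b * a = a * b) (h3 : (a - 1) ^ k = 0) :
    ∃ u, CD g u ∧ IsNilpotent (u - 1) := by
  obtain ⟨u, p1, p2⟩ := (cd_matrix h1 h2).of_sim s.symm
  exact ⟨u, p1, p2.isNilpotent ⟨k, (toLin'_sub_one_pow a k).2 h3⟩⟩

end CA.Lev
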