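import Cfsg.Agent.Lib.Lin.MaxF6
import Cfsg.Agent.Lib.Lin.MaxF7

/-!
Overgroups of the special monomial group of an orthonormal frame over a prime field: elements
fixing a frame vector.
-/

set_option autoImplicit false
set_option linter.unusedSectionVars false

namespace CA.CForm

open Module CA.MaxF Pi Equiv Finset

namespace Form
variable {F : Type*} [Field F] [Fintype F] {ι : Type*} [Fintype ι] [DecidableEq ι]

local notation:75 g:76 " ⊳ " v:75 => (Subtype.val g) v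
local notation "𝐞" i:max => (Pi.single i 1 : ι → F)

/-- `X` is a proper overgroup of the special monomial group of the standard frame. -/
structure Fe (f : Form (Kind.orth F) (ι → F)) (X : Subgroup f.Isom) (c : F) : Prop where
  c_ne : c ≠ 0
  two : (2 : F) ≠ 0
  prime : (Fintype.card F).Prime
  big : 11 ≤ Fintype.card ι
  B_eq : ∀ u v, f.B u v = 2 * c * (u ⬝ᵥ v)
  flip_mem : ∀ i j, i ≠ j → ∃ g ∈ X, ∀ u, g ⊳ u = u - (2 * u i) • 𝐞 i - (2 * u j) • 𝐞 j
  perm_mem : ∀ σ : Perm ι, Perm.sign σ = 1 → ∃ g ∈ X, ∀ u, g ⊳ u = u ∘ σ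
  det : X ≤ f.SIsom
  not_le : ¬f.Eich ≤ X

/-- monomial isometries -/
def Mon (f : Form (Kind.orth F) (ι → F)) : Subgroup f.Isom where
  carrier := {g | ∀ i, ∃ (j : ι) (a : F), g ⊳ 𝐞 i = a • 𝐞 j}
  one_mem' i := ⟨i, 1, (one_smul ..).symm⟩
  mul_mem' {a b} ha hb i := by
    obtain ⟨j, c, h⟩ := hb i
    obtain ⟨k, d, h'⟩ := ha j
    exact ⟨k, c * d, by rw [isom_mul_apply, h, map_smul, h', smul_smul]⟩
  inv_mem' {g} hg j := by
    choose s a h using hg
    have a0 : ∀ i, a i ≠ 0 := fun i e => by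
      have := h i
      rw [e, zero_smul, LinearEquiv.map_eq_zero_iff] at this
      simpa using congrFun this i
    have : Function.Injective s := fun i j e => by
      by_contra hij
      have : g ⊳ (a j • 𝐞 i - a i • 𝐞 j) = 0 := by
        rw [map_sub, map_smul, map_smul, h, h, e]; module
      rw [LinearEquiv.map_eq_zero_iff] at this
      exact a0 j (by simpa [hij] using congrFun this i)
    obtain ⟨i, rfl⟩ := Finite.injective_iff_surjective.1 this j
    refine ⟨i, (a i)⁻¹, ?_⟩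
    rw [eq_inv_smul_iff₀ (a0 i), ← map_smul, ← h, isom_inv_apply_apply]

/-- extension by zero -/
def xt (i : ι) : ({j // j ≠ i} → F) →ₗ[F] (ι → F) where
  toFun w j := if h : j = i then 0 else w ⟨j, h⟩
  map_add' _ _ := funext fun j => by by_cases h : j = i <;> simp [h]
  map_smul' _ _ := funext fun j => by by_cases h : j = i <;> simp [h]

theorem xt_self (i : ι) (w : {j // j ≠ i} → F) : xt i w i = 0 := dif_pos rfl

theorem xt_val {i : ι} (w : {j // j ≠ i} → F) (j : {j // j ≠ i}) : xt i w j = w j := dif_neg j.2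

theorem xt_res {i : ι} {v : ι → F} (h : v i = 0) : xt i (fun j => v j) = v := funext fun j => by
  by_cases e : j = i <;> simp [xt, e, h]

theorem xt_single {i : ι} (j : {j // j ≠ i}) : xt i (single j 1) = 𝐞 j.1 := funext fun k => by
  by_cases h : k = i
  · simp [xt, h, j.2.symm]
  · simp [xt, h, single_apply, Subtype.ext_iff]

theorem xt_dot {i : ι} (u v : {j // j ≠ i} → F) : xt i u ⬝ᵥ xt i v = u ⬝ᵥ v := by
  rw [dotProduct, Fintype.sum_eq_add_sum_subtype_ne _ i, xt_self, zero_mul, zero_add]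
  simp only [xt_val]; rfl

theorem exists_notMem_of_lt {s : Finset ι} (h : s.card < Fintype.card ι) : ∃ k, k ∉ s := by
  by_contra! H
  have := card_le_card (fun k _ => H k : univ ⊆ s)
  rw [card_univ] at this; omega

variable {f : Form (Kind.orth F) (ι → F)} {X : Subgroup f.Isom} {c : F} {g : f.Isom}

namespace Fe
variable (h : f.Fe X c)
include h

theorem Q_eq (u : ι → F) : f.Q u = c * (u ⬝ᵥ u) :=
  mul_left_cancel₀ h.two (by rw [← orth_B_self, h.B_eq, mul_assoc])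

theorem B_zero {u v : ι → F} : f.B u v = 0 ↔ u ⬝ᵥ v = 0 := by simp [h.B_eq, h.two, h.c_ne]

theorem nondeg : f.Nondeg := fun x hx => funext fun i => by simpa [h.B_zero] using hx (𝐞 i)

theorem dot_map (g : f.Isom) (u v : ι → F) : (g ⊳ u) ⬝ᵥ (g ⊳ v) = u ⬝ᵥ v :=
  mul_left_cancel₀ (mul_ne_zero h.two h.c_ne) (by rw [← h.B_eq, ← h.B_eq, B_coe_map])

theorem out (s : Finset ι) (hs : s.card ≤ 10) : ∃ k, k ∉ s :=
  exists_notMem_of_lt (by have := h.big; omega)

theorem move (i j : ι) : ∃ s ∈ X, s ∈ f.Mon ∧ s ⊳ 𝐞 j = 𝐞 i ∧ ∀ u, (s ⊳ u) i = u j := by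
  obtain ⟨k, hk⟩ := h.out {i, j} (card_le_two.trans (by omega))
  obtain ⟨l, hl⟩ := h.out {k, i, j} (card_le_three.trans (by omega))
  simp only [mem_insert, mem_singleton, not_or] at hk hl
  obtain ⟨σ, h1, h2⟩ : ∃ σ : Perm ι, Perm.sign σ = 1 ∧ σ i = j := by
    by_cases e : i = j
    · exact ⟨1, by simp, e⟩
    · exact ⟨swap i j * swap k l, by simp [e, Ne.symm hl.1],
        by simp [swap_apply_of_ne_of_ne (Ne.symm hk.1) (Ne.symm hl.2.1)]⟩
  obtain ⟨s, hs, e⟩ := h.perm_mem σ h1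
  exact ⟨s, hs, fun m => ⟨σ.symm m, 1, by rw [e, single_comp, one_smul]⟩,
    by rw [e, single_comp, ← h2, σ.symm_apply_apply], fun u => by rw [e, ← h2]; rfl⟩

theorem not_lev (i : ι) :
    ¬∀ x w : ι → F, x i = 0 → w i = 0 → f.Q x = 0 → f.B x w = 0 → f.Lev X x w := fun H => by
  have H' : ∀ j (x w : ι → F), x j = 0 → w j = 0 → f.Q x = 0 → f.B x w = 0 → f.Lev X x w :=
    fun j x w h1 h2 h3 h4 => by
      obtain ⟨s, hs, -, -, e⟩ := h.move i j
      simpa using (H (s ⊳ x) (s ⊳ w) (by rw [e, h1]) (by rw [e, h2]) (by rw [Q_coe_map, h3])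
        (by rw [B_coe_map, h4])).map (X.inv_mem hs)
  obtain ⟨a, ha⟩ := h.out {i} (by simp)
  obtain ⟨b, hb⟩ := h.out {a, i} (card_le_two.trans (by omega))
  obtain ⟨d, hd⟩ := h.out {b, a, i} (card_le_three.trans (by omega))
  obtain ⟨j, hj⟩ := h.out {d, b, a, i} (card_le_four.trans (by omega))
  simp only [mem_insert, mem_singleton, not_or] at ha hb hd hj
  obtain ⟨s, t, e⟩ := exists_two_sq h.two (-1 : F)
  set x : ι → F := s • 𝐞 a + t • 𝐞 b + 𝐞 d with hx
  have xi : x i = 0 := by simp [hx, Ne.symm ha, Ne.symm hb.2, Ne.symm hd.2.2]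
  have xj : x j = 0 := by simp [hx, hj.1, hj.2.1, hj.2.2.1]
  have xd : x d = 1 := by simp [hx, hd.1, hd.2.1]
  have xx : x ⬝ᵥ x = 0 := by
    simp [hx, hd.1, hd.2.1, hb.1, Ne.symm hd.1, Ne.symm hd.2.1, Ne.symm hb.1]
    linear_combination e
  have qx : f.Q x = 0 := by rw [h.Q_eq, xx, mul_zero]
  obtain ⟨g, hg, eg⟩ := h.flip_mem d j (Ne.symm hj.1)
  refine h.not_le (h.nondeg.Eich_le_of_Qgrp' (.inl (by have := h.big; simp; omega)) qx
    (f.Qgrp_le fun w _ hc => Lev.eichler_mem ?_ hc) hg ?_)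
  · have h1 := h.B_zero.1 hc.B_pw
    simpa using (H' i x (w - w i • 𝐞 i) xi (by simp) qx (h.B_zero.2 (by simp [h1, xi]))).add
      (H' j x (w i • 𝐞 i) xj (by simp [hj.2.2.2]) qx (by simp [h.B_zero, xi]))
  · rw [Ne, h.B_zero]
    simpa [eg, xx, xd, xj] using h.two

theorem mon_of_fix (hg : g ∈ X) {i : ι} {a : F} (e : g ⊳ 𝐞 i = a • 𝐞 i) : g ∈ f.Mon := by
  have h2 := h.two
  have hc := h.c_ne
  let f' := f.comap (xt i)
  have hB : ∀ u v, f'.B u v = 2 * c * (u ⬝ᵥ v) := fun u v => by rw [comap_B, h.B_eq, xt_dot]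
  have hQ : ∀ u, f'.Q u = c * (u ⬝ᵥ u) := fun u => by rw [comap_Q, h.Q_eq, xt_dot]
  let Y : Subgroup f'.Isom :=
    { carrier := {g' | ∃ g ∈ X, ∀ v, g ⊳ xt i v = xt i (g' ⊳ v)}
      one_mem' := ⟨1, one_mem _, fun _ => rfl⟩
      mul_mem' := fun ⟨a, ha, e⟩ ⟨b, hb, e'⟩ =>
        ⟨a * b, mul_mem ha hb, fun v => by rw [isom_mul_apply, e', e, isom_mul_apply]⟩
      inv_mem' := fun {a} ⟨b, hb, e⟩ => ⟨b⁻¹, inv_mem hb, fun v => by
        conv_lhs => rw [← f'.isom_apply_inv_apply a v, ← e, isom_inv_apply_apply]⟩ }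
  refine (frame_refl (Y := Y) hc h2 h.prime (by have := h.big; simp; omega) hB (fun j => ?_)
    (fun σ hσ => ?_)).elim (fun H => ?_) fun H => ?_
  rotate_left 2
  · have a0 : a ≠ 0 := by
      rintro rfl
      rw [zero_smul, LinearEquiv.map_eq_zero_iff] at e
      simpa using congrFun e i
    have k0 : ∀ v, (g ⊳ xt i v) i = 0 := fun v => by
      have := h.dot_map g (𝐞 i) (xt i v)
      simpa [e, xt_self, a0] using this
    let φ : ({j // j ≠ i} → F) →ₗ[F] ({j // j ≠ i} → F) :=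
      LinearMap.funLeft F F Subtype.val ∘ₗ g.1.toLinearMap ∘ₗ xt i
    have k1 : ∀ v, xt i (φ v) = g ⊳ xt i v := fun v => xt_res (k0 v)
    have k2 : Function.Injective φ := (injective_iff_map_eq_zero _).2 fun v hv => funext fun j => by
      have := k1 v
      rw [hv, map_zero, eq_comm, LinearEquiv.map_eq_zero_iff] at this
      simpa [xt_val] using congrFun this j
    let g' : f'.Isom := ⟨.ofInjectiveEndo φ k2, f'.orth_mem_Isom.2 fun x =>
      (congrArg f.Q (k1 x)).trans (f.Q_coe_map ..)⟩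
    intro j
    by_cases hj : j = i
    · exact ⟨i, a, hj ▸ e⟩
    obtain ⟨k, hk⟩ := H g' ⟨g, hg, fun v => (k1 v).symm⟩ ⟨j, hj⟩
    obtain ⟨b, hb⟩ := Submodule.mem_span_singleton.1 (hk _ (Submodule.mem_span_singleton_self _))
    refine ⟨k, b, ?_⟩
    rw [← xt_single, ← map_smul, hb]
    exact (congrArg g.1 (xt_single ⟨j, hj⟩).symm).trans (k1 _).symm
  · refine (h.not_lev i fun x w h1 h3 h4 h5 => ?_).elim
    have c1 := f.orth_eichlerCond h4 (w := (2 : F)⁻¹ • w) (by simp [h5])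
    have c2 : f'.EichlerCond (fun j => x j) (fun j => ((2 : F)⁻¹ • w) j) (f.Q ((2 : F)⁻¹ • w)) := by
      have := f'.orth_eichlerCond (x := fun j => x j) (w := fun j => ((2 : F)⁻¹ • w) j)
        (by rw [comap_Q, xt_res h1, h4]) (by rw [comap_B, xt_res h1, xt_res (by simp [h3]), c1.B_pw])
      rwa [comap_Q, xt_res (by simp [h3])] at this
    obtain ⟨s, hs, e⟩ := H (f'.eichler_mem_Eich _ _ _ c2)
    have e1 : ∀ v, v i = 0 → s ⊳ v = f.eichler _ _ _ c1 ⊳ v := fun v hv => by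
      conv_lhs => rw [← xt_res hv, e]
      rw [eichler_apply, eichler_apply, map_sub, map_add, map_smul, map_smul, comap_B, comap_B,
        xt_res h1, xt_res hv, xt_res (v := (2 : F)⁻¹ • w) (by simp [h3])]
    have e2 : ∀ v, (f.eichler _ _ _ c1 ⊳ v) i = v i := fun v => by simp [eichler_apply, h1, h3]
    have e3 : f.eichler _ _ _ c1 ⊳ 𝐞 i = 𝐞 i := by
      simp [eichler_apply, h.B_eq, h1, h3]
    have e4 : s ⊳ 𝐞 i = (s ⊳ 𝐞 i) i • 𝐞 i := funext fun j => by
      by_cases hj : j = i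
      · simp [hj]
      have := h.dot_map s (𝐞 i) ((f.eichler _ _ _ c1)⁻¹ ⊳ 𝐞 j)
      have k : ((f.eichler _ _ _ c1)⁻¹ ⊳ 𝐞 j) i = 0 := by
        rw [← e2 ((f.eichler _ _ _ c1)⁻¹ ⊳ 𝐞 j), isom_apply_inv_apply]; simp [Ne.symm hj]
      rw [e1 _ k, isom_apply_inv_apply, single_dotProduct, k] at this
      simpa [hj] using this
    have e5 := h.dot_map s (𝐞 i) (𝐞 i)
    generalize (s ⊳ 𝐞 i) i = b at e4
    rw [e4] at e5
    simp only [smul_dotProduct, dotProduct_smul, single_dotProduct, single_eq_same, smul_eq_mul,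
      mul_one] at e5
    have e6 : s * s = f.eichler _ _ _ c1 * f.eichler _ _ _ c1 := f.isom_ext fun v => by
      have : v = (v - v i • 𝐞 i) + v i • 𝐞 i := by simp
      rw [this, map_add, map_add, map_smul, map_smul, isom_mul_apply, isom_mul_apply, isom_mul_apply,
        isom_mul_apply, e1 (v - _) (by simp), e1 _ (by rw [e2]; simp), e3, e3, e4, map_smul, e4,
        smul_smul b, e5, one_smul]
    have := ((show f.Lev X x ((2 : F)⁻¹ • w + (2 : F)⁻¹ • w) from
      ⟨_, _, f.eichler_mul c1 c1 ▸ e6 ▸ mul_mem hs hs⟩))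
    rwa [← two_smul F, smul_inv_smul₀ h2] at this
  · obtain ⟨s, hs, e⟩ := h.flip_mem i j j.2.symm
    refine ⟨s, hs, fun v => ?_⟩
    rw [e, refl_apply, hQ, hB, map_sub, map_smul, xt_single, xt_self, xt_val]
    simp only [single_dotProduct, single_eq_same, mul_one, one_mul, mul_zero, zero_smul, sub_zero]
    congr 2
    field_simp
  · obtain ⟨s, hs, e⟩ := h.perm_mem (Perm.ofSubtype σ) (by rw [Perm.sign_ofSubtype, hσ])
    refine ⟨⟨LinearEquiv.funCongrLeft F F σ, f'.orth_mem_Isom.2 fun x => by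
      rw [hQ, hQ]
      exact congrArg _ (comp_equiv_dotProduct_comp_equiv x x σ)⟩, ⟨s, hs, fun v => ?_⟩, fun _ => rfl⟩
    rw [e]
    ext j
    by_cases hj : j = i
    · rw [Function.comp, Perm.ofSubtype_apply_of_not_mem σ (by simpa using hj), hj, xt_self, xt_self]
    · rw [Function.comp, Perm.ofSubtype_apply_of_mem σ hj, xt_val]
      exact (xt_val (i := i) (v ∘ σ) ⟨j, hj⟩).symm

theorem mon_of_ev (hg : g ∈ X) {i j : ι} {a : F} (e : g ⊳ 𝐞 i = a • 𝐞 j) : g ∈ f.Mon := by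
  obtain ⟨s, hs, hm, e', -⟩ := h.move i j
  exact (Subgroup.mul_mem_cancel_left _ hm).1 (h.mon_of_fix (mul_mem hs hg) (i := i) (a := a)
    (by rw [isom_mul_apply, e, map_smul, e']))

end Fe
end Form
end CA.CForm
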