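import Cfsg.Agent.Lib.Lin.MaxH3

/-!
Maximality of the stabiliser of an orthogonal frame over a prime field in dimension at least 11.
-/

set_option autoImplicit false
set_option linter.unusedSectionVars false

namespace CA.CForm

open Module CA.MaxF Pi Equiv Finset

namespace Form
variable {F : Type*} [Field F] [Fintype F] {ι : Type*} [Fintype ι] [DecidableEq ι]

section
local notation:75 g:76 " ⊳ " v:75 => (Subtype.val g) v
local notation "𝐞" i:max => (Pi.single i 1 : ι → F)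

variable {f : Form (Kind.orth F) (ι → F)} {X : Subgroup f.Isom} {c : F} {g : f.Isom}

/-- The product of the reflections in the orthogonal long vectors `w`, `v` lies in `X`. -/
def CC (X : Subgroup f.Isom) (w v : ι → F) : Prop :=
  v ⬝ᵥ v = 2 ∧ v ⬝ᵥ w = 0 ∧ ∃ t ∈ X, ∀ u, t ⊳ u = u - (v ⬝ᵥ u) • v - (w ⬝ᵥ u) • w

namespace Fe
variable (h : f.Fe X c)
include h

theorem claimA (hg : g ∈ X) (ng : g ∉ f.Mon) {a b : ι} (ab : a ≠ b) : ∃ (ε : F) (m r : ι),
    ε * ε = 1 ∧ ∀ j, j ∉ ({m, r} : Finset ι) → (g ⊳ 𝐞 a) j + ε * (g ⊳ 𝐞 b) j = 0 := by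
  have two := h.two
  obtain ⟨s₀, hs₀, e₀⟩ := h.flip_mem a b ab
  obtain ⟨m₁, n₁⟩ : ∃ m, (g ⊳ 𝐞 a) m ≠ 0 := by
    by_contra! H
    simpa [show g ⊳ 𝐞 a = 0 from funext H] using h.unit g a
  obtain ⟨m₂, hm⟩ : ∃ m, (g ⊳ 𝐞 a) m₁ * (g ⊳ 𝐞 b) m - (g ⊳ 𝐞 a) m * (g ⊳ 𝐞 b) m₁ ≠ 0 := by
    by_contra! H
    have : (g ⊳ 𝐞 a) m₁ • g ⊳ 𝐞 b = (g ⊳ 𝐞 b) m₁ • g ⊳ 𝐞 a := funext fun m => by
      simp only [Pi.smul_apply, smul_eq_mul]; linear_combination H m
    exact n₁ (by simpa [h.dot_map, ab.symm] using congrArg ((g ⊳ 𝐞 b) ⬝ᵥ ·) this)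
  have dih : ∀ k l, k ≠ l → m₁ ∉ ({k, l} : Finset ι) → m₂ ∉ ({k, l} : Finset ι) →
      (∃ s, Fl s k l ∧ ∃ u ∈ KK X (g ⊳ 𝐞 a) (g ⊳ 𝐞 b) {k, l}, g * s₀ * g⁻¹ = u * s * u⁻¹) ∨
      ∃ (ε : F) (m r : ι), ε * ε = 1 ∧ ∀ j, j ∉ ({m, r} : Finset ι) → j ∉ ({k, l} : Finset ι) →
        (g ⊳ 𝐞 a) j + ε * (g ⊳ 𝐞 b) j = 0 := fun k l kl h1 h2 => by
    obtain ⟨s, hs, e⟩ := h.flip_mem k l kl
    refine (CA.H12Tn.dihedral (KK X (g ⊳ 𝐞 a) (g ⊳ 𝐞 b) {k, l}) (x := g * s₀ * g⁻¹) (y := s)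
      ⟨mul_mem (mul_mem hg hs₀) (inv_mem hg), fun v => ⟨-(2 * ((g ⊳ 𝐞 a) ⬝ᵥ v)),
        -(2 * ((g ⊳ 𝐞 b) ⬝ᵥ v)), fun j _ => ?_⟩⟩ ⟨hs, fun v => ⟨0, 0, fun j hj => ?_⟩⟩ ?_
      (Fl.mul_self e kl)).imp (fun H => ⟨s, e, H⟩) fun ⟨z, hz, z1, zz, zh, zs, _⟩ =>
        h.even_case hg ng hs₀ ab e₀ hm kl e h1 h2 hz z1 zz zh zs
    · rw [h.conj_flip g e₀]; simp; ring
    · simp only [mem_insert, mem_singleton, not_or] at hj
      simp [e, hj.1, hj.2]
    · rw [conj_mul, Fl.mul_self e₀ ab, mul_one, mul_inv_cancel]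
  have ev : ∀ T : Finset ι, T.card ≤ 6 → m₁ ∈ T → m₂ ∈ T → ∃ k l, k ∉ T ∧ l ∉ T ∧
      ∃ (ε : F) (m r : ι), ε * ε = 1 ∧ ∀ j, j ∉ ({m, r} : Finset ι) → j ∉ ({k, l} : Finset ι) →
        (g ⊳ 𝐞 a) j + ε * (g ⊳ 𝐞 b) j = 0 := fun T hT h1 h2 => by
    obtain ⟨k, hk⟩ := h.out T (by omega)
    have c1 := card_insert_le k T
    obtain ⟨l, hl⟩ := h.out (insert k T) (by omega)
    have c2 := card_insert_le l (insert k T)
    obtain ⟨k', hk'⟩ := h.out (insert l (insert k T)) (by omega)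
    have c3 := card_insert_le k' (insert l (insert k T))
    obtain ⟨l', hl'⟩ := h.out (insert k' (insert l (insert k T))) (by omega)
    simp only [mem_insert, not_or] at hl hk' hl'
    have o : ∀ {m k l}, m ∈ T → k ∉ T → l ∉ T → m ∉ ({k, l} : Finset ι) := fun h1 h2 h3 => by
      simp only [mem_insert, mem_singleton, not_or]
      exact ⟨fun e => h2 (e ▸ h1), fun e => h3 (e ▸ h1)⟩
    rcases dih k l (Ne.symm hl.1) (o h1 hk hl.2) (o h2 hk hl.2) with ⟨s, e, u, hu, eu⟩ | H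
    swap
    · exact ⟨k, l, hk, hl.2, H⟩
    rcases dih k' l' (Ne.symm hl'.1) (o h1 hk'.2.2 hl'.2.2.2) (o h2 hk'.2.2 hl'.2.2.2) with
      ⟨s', e', u', hu', eu'⟩ | H
    swap
    · exact ⟨k', l', hk'.2.2, hl'.2.2.2, H⟩
    exact (h.odd_case hg ng hs₀ ab e₀ hm (Ne.symm hl'.1) e e'
      (by simp [hk'.1, hk'.2.1, hl'.2.1, hl'.2.2.1])
      (notMem_union.2 ⟨o h1 hk hl.2, o h1 hk'.2.2 hl'.2.2.2⟩)
      (notMem_union.2 ⟨o h2 hk hl.2, o h2 hk'.2.2 hl'.2.2.2⟩) hu hu' eu eu').elim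
  obtain ⟨k, l, -, -, ε, m, r, hε, e⟩ := ev {m₁, m₂} (card_le_two.trans (by omega)) (by simp)
    (by simp)
  have c1 := card_insert_le m₁ (insert m₂ ({m, r, k, l} : Finset ι))
  have c2 := card_insert_le m₂ ({m, r, k, l} : Finset ι)
  have c3 := card_le_four (a := m) (b := r) (c := k) (d := l)
  obtain ⟨k', l', h1, h2, ε', m', r', hε', e'⟩ := ev (insert m₁ (insert m₂ {m, r, k, l}))
    (by omega) (by simp) (by simp)
  simp only [mem_insert, mem_singleton, not_or] at h1 h2 e e'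
  rcases mul_self_eq_mul_self_iff.1 (hε.trans hε'.symm) with rfl | rfl
  · refine ⟨ε, m', r', hε, fun j hj => ?_⟩
    by_cases j1 : j = k'
    · exact j1 ▸ e k' ⟨h1.2.2.1, h1.2.2.2.1⟩ h1.2.2.2.2
    by_cases j2 : j = l'
    · exact j2 ▸ e l' ⟨h2.2.2.1, h2.2.2.2.1⟩ h2.2.2.2.2
    exact e' j (by simpa using hj) ⟨j1, j2⟩
  · refine (ng (h.mon_of_nine hg (p := a) (T := {m, r, k, l} ∪ {m', r', k', l'}) ?_
      fun j hj => mul_left_cancel₀ two ?_)).elim
    · have := card_union_le ({m, r, k, l} : Finset ι) {m', r', k', l'}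
      have := card_le_four (a := m') (b := r') (c := k') (d := l')
      omega
    · simp only [mem_union, mem_insert, mem_singleton, not_or] at hj
      linear_combination e j ⟨hj.1.1, hj.1.2.1⟩ hj.1.2.2 + e' j ⟨hj.2.1, hj.2.2.1⟩ hj.2.2.2

theorem cc_map {w v : ι → F} (hv : CC X w v) {s : f.Isom} (hs : s ∈ X) {ε : F} (hε : ε * ε = 1)
    (e : s ⊳ w = ε • w) : CC X w (s ⊳ v) := by
  obtain ⟨h1, h2, t, ht, h3⟩ := hv
  have h4 := h.dot_map s v w
  rw [e, dotProduct_smul, h2, smul_eq_mul] at h4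
  refine ⟨by rw [h.dot_map, h1], by linear_combination ε * h4 - (s ⊳ v) ⬝ᵥ w * hε, s * t * s⁻¹,
    mul_mem (mul_mem hs ht) (inv_mem hs), fun u => ?_⟩
  rw [isom_mul_apply, isom_mul_apply, h3, map_sub, map_sub, map_smul, map_smul,
    isom_apply_inv_apply, ← h.dot_inv, ← h.dot_inv, e, smul_dotProduct, smul_smul, smul_eq_mul,
    mul_right_comm, hε, one_mul]

theorem cc_or {w v : ι → F} {i j : ι} (hw : ∀ m, m ∉ ({i, j} : Finset ι) → w m = 0)
    (hv : CC X w v) :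
    (∃ T : Finset ι, T.card ≤ 4 ∧ ∀ m, m ∉ T → v m = 0) ∨ ∀ m m', v m ^ 2 = v m' ^ 2 := by
  obtain ⟨h1, h2, t, ht, h3⟩ := hv
  by_cases hm : t ∈ f.Mon
  · exact .inl (Mon.supp hm (z := v) (z' := w) one_ne_zero (h1 ▸ h.two) h2 fun m =>
      ⟨_, by rw [h3, dotProduct_single, mul_one, one_mul]⟩)
  refine .inr fun m m' => ?_
  by_cases e : m = m'
  · rw [e]
  obtain ⟨ε, i', j', hε, H⟩ := h.claimA ht hm e
  obtain ⟨k, hk⟩ := h.out ({m, m'} ∪ {i, j} ∪ {i', j'}) (by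
    have := card_union_le ({m, m'} ∪ {i, j}) ({i', j'} : Finset ι)
    have := card_union_le {m, m'} ({i, j} : Finset ι)
    have := card_le_two (a := m) (b := m')
    have := card_le_two (a := i) (b := j)
    have := card_le_two (a := i') (b := j')
    omega)
  simp only [mem_union, not_or] at hk
  have k1 := H k hk.2
  have k2 := hw k hk.1.2
  have k3 : v k ≠ 0 := fun k3 => hm (h.mon_of_fix ht (i := k) (a := 1) (by simp [h3, k2, k3]))
  have k4 := hk.1.1
  simp only [mem_insert, mem_singleton, not_or] at k4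
  simp only [h3, Pi.sub_apply, Pi.smul_apply, k2, single_eq_of_ne k4.1, single_eq_of_ne k4.2,
    dotProduct_single, smul_eq_mul] at k1
  have k5 : v m = -ε * v m' := mul_right_cancel₀ k3 (by linear_combination -k1)
  rw [k5]
  linear_combination v m' ^ 2 * hε

theorem le_mon : X ≤ f.Mon := fun g hg => by
  by_contra ng
  have two := h.two
  have big := h.big
  obtain ⟨a, b, ab⟩ := Fintype.exists_pair_of_one_lt_card (show 1 < Fintype.card ι by omega)
  obtain ⟨ε, i, j, hε, e⟩ := h.claimA hg ng ab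
  obtain ⟨s₀, hs₀, e₀⟩ := h.flip_mem a b ab
  have d1 := h.unit g a
  have d2 := h.unit g b
  have d3 : (g ⊳ 𝐞 a) ⬝ᵥ (g ⊳ 𝐞 b) = 0 := by simp [h.dot_map, ab]
  have e1 := h.conj_flip g e₀
  have ny := fun T hT => mt (h.mon_of_nine hg (p := a) (T := T) hT) ng
  generalize g ⊳ 𝐞 a = y at *
  generalize g ⊳ 𝐞 b = y' at *
  have d4 : y' ⬝ᵥ y = 0 := (dotProduct_comm ..).trans d3
  have hw : ∀ m, m ∉ ({i, j} : Finset ι) → (y + ε • y') m = 0 := e
  have c0 : (y - ε • y') ⬝ᵥ (y - ε • y') = 2 := by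
    simp [d1, d2, d3, d4]; linear_combination hε
  have c1 : (y - ε • y') ⬝ᵥ (y + ε • y') = 0 := by
    simp [d1, d2, d3, d4]; linear_combination -hε
  have c2 : (y + ε • y') ⬝ᵥ (y + ε • y') = 2 := by
    simp [d1, d2, d3, d4]; linear_combination hε
  have c3 : ∀ u, (g * s₀ * g⁻¹) ⊳ u =
      u - ((y - ε • y') ⬝ᵥ u) • (y - ε • y') - ((y + ε • y') ⬝ᵥ u) • (y + ε • y') := fun u => by
    rw [e1]
    simp only [sub_dotProduct, add_dotProduct, smul_dotProduct, smul_eq_mul]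
    match_scalars
    · ring
    · ring
    · linear_combination 2 * (y' ⬝ᵥ u) * hε
  have hh := mul_mem (mul_mem hg hs₀) (inv_mem hg)
  have c4 : CC X (y + ε • y') (y - ε • y') := ⟨c0, c1, _, hh, c3⟩
  have c5 : ∀ m, (y + ε • y') m + (y - ε • y') m = 2 * y m := fun m => by simp; ring
  generalize y + ε • y' = w at *
  generalize y - ε • y' = v at *
  have cij := card_le_two (a := i) (b := j)
  rcases h.cc_or hw c4 with ⟨T, h1, h2⟩ | hv
  · refine ny ({i, j} ∪ T) ((card_union_le ..).trans (by omega)) fun m hm => ?_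
    rw [mem_union, not_or] at hm
    exact mul_left_cancel₀ two (by rw [← c5, hw m hm.1, h2 m hm.2]; simp)
  have v0 : ∀ m, v m ≠ 0 := fun m hm => two (by
    have : v = 0 := funext fun m' => pow_eq_zero_iff two_ne_zero |>.1 (by rw [hv m' m, hm]; simp)
    rw [← c0, this]; simp)
  have key : ∀ n : ℕ, 0 < n → n ≤ 3 → n * (4 * v a ^ 2) = 1 ∨ n * (4 * v a ^ 2) = 2 :=
    fun n n0 n3 => by
    obtain ⟨A, hA, cA⟩ := exists_subset_card_eq (s := ({i, j} : Finset ι)ᶜ) (n := 2 * n)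
      (by rw [card_compl]; omega)
    obtain ⟨s, hs, es⟩ := h.flip n A cA
    have k1 := h.cc_map c4 hs (mul_one 1) (by
      rw [es]; ext m
      by_cases hm : m ∈ A <;> simp [rs, hm]
      exact .inr (hw m (mem_compl.1 (hA hm))))
    have k2 := h.cc_map k1 hh (ε := -1) (by simp) (by rw [c3, c1, c2]; module)
    have k3 : w ⬝ᵥ (s ⊳ v) = 0 := (dotProduct_comm ..).trans k1.2.1
    have k4 : v ⬝ᵥ (s ⊳ v) = 2 - n * (4 * v a ^ 2) := by
      rw [es, dotProduct_sub, dotProduct_smul, dot_rs, c0, sum_congr rfl fun m _ => hv m a,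
        sum_const, cA]
      simp; ring
    rw [c3, k3, k4, es] at k2
    rcases h.cc_or hw k2 with ⟨T, h1, h2⟩ | H
    · obtain ⟨m, hm⟩ := h.out (A ∪ T) ((card_union_le ..).trans (by omega))
      rw [mem_union, not_or] at hm
      have := h2 m hm.2
      simp only [Pi.sub_apply, Pi.smul_apply, rs, hm.1, if_false, smul_eq_mul] at this
      exact .inl (mul_right_cancel₀ (v0 m) (by linear_combination this))
    · obtain ⟨m, hm⟩ := h.out A (by omega)
      obtain ⟨m', hm'⟩ := card_pos.1 (show 0 < A.card by omega)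
      have := H m m'
      simp only [Pi.sub_apply, Pi.smul_apply, rs, hm, hm', if_false, if_true, smul_eq_mul] at this
      exact .inr (mul_right_cancel₀ (mul_ne_zero two (mul_ne_zero two (pow_ne_zero 2 (v0 m))))
        (by linear_combination this - (n * (4 * v a ^ 2) - 3) ^ 2 * hv m m'))
  have k1 := key 1 (by omega) (by omega)
  have k2 := key 2 (by omega) (by omega)
  have k3 := key 3 (by omega) (by omega)
  generalize 4 * v a ^ 2 = x at k1 k2 k3
  push_cast at k1 k2 k3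
  rcases k1 with k1 | k1 <;> rcases k3 with k3 | k3
  · exact two (by linear_combination k3 - 3 * k1)
  · exact one_ne_zero (by linear_combination k3 - 3 * k1 : (1 : F) = 0)
  · rcases k2 with k2 | k2
    · exact two (by linear_combination k3 - k1 - k2)
    · exact two (by linear_combination k2 - 2 * k1)
  · exact mul_ne_zero two two (by linear_combination k3 - 3 * k1)

end Fe

theorem frame_std' {c : F} (hc : c ≠ 0) (h2 : (2 : F) ≠ 0) (hp : (Fintype.card F).Prime)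
    (h11 : 11 ≤ Fintype.card ι) (hB : ∀ u v, f.B u v = 2 * c * (u ⬝ᵥ v))
    (hX : ∀ g ∈ f.Eich, f.PermD (fun i => F ∙ 𝐞 i) g → g ∈ X) (hX' : X ≤ f.Eich) :
    (∀ g ∈ X, f.PermD (fun i => F ∙ 𝐞 i) g) ∨ f.Eich ≤ X := by
  have hQ : ∀ u, f.Q u = c * (u ⬝ᵥ u) := fun u =>
    mul_left_cancel₀ h2 (by rw [← orth_B_self, hB, mul_assoc])
  have hf : f.Nondeg := fun x hx => funext fun i => by simpa [hB, h2, hc] using hx (𝐞 i)
  have hE := hf.commutator_eq_Eich (good_of_two_ne_zero _ h2) (by simp; omega)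
  have pm : ∀ g ∈ f.Mon, f.PermD (fun i => F ∙ 𝐞 i) g := fun g hg i => by
    obtain ⟨j, a, e⟩ := hg i
    refine ⟨j, fun v hv => ?_⟩
    obtain ⟨b, rfl⟩ := Submodule.mem_span_singleton.1 hv
    exact Submodule.mem_span_singleton.2 ⟨b * a, by rw [map_smul, e, smul_smul]⟩
  have rf : ∀ i v, f.refl (𝐞 i) ⊳ v = v - (2 * v i) • 𝐞 i := fun i v => by
    rw [refl_apply, hQ, hB]
    congr 2
    simp
    field_simp
  let ψ : Perm ι →* f.Isom :=
    { toFun σ := ⟨LinearEquiv.funCongrLeft F F σ⁻¹, (f.orth_mem_Isom).2 fun x => by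
        rw [hQ, hQ]
        exact congrArg _ (comp_equiv_dotProduct_comp_equiv x x σ⁻¹)⟩
      map_one' := rfl
      map_mul' _ _ := rfl }
  refine or_iff_not_imp_right.2 fun H g hg => pm g (Fe.le_mon ⟨hc, h2, hp, h11, hB, fun i j ij => ?_,
    fun σ hσ => ⟨ψ σ⁻¹, hX _ (hE ▸ map_comm ψ ?_) (pm _ fun j => ⟨σ.symm j, 1,
      (single_comp j (1 : F) σ).trans (one_smul ..).symm⟩), fun _ => rfl⟩,
    hX'.trans f.Eich_le_SIsom, H⟩ hg)
  · have e : ∀ u, f.reflProd [𝐞 i, 𝐞 j] ⊳ u = u - (2 * u i) • 𝐞 i - (2 * u j) • 𝐞 j := fun u => by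
      simp only [reflProd_cons, reflProd_nil, mul_one, isom_mul_apply, rf]
      simp [ij]
      module
    refine ⟨_, hX _ (hE ▸ hf.reflProd_mem_commutator (by simp [hQ, hc]) (by simp)
      (by simp [hQ])) (pm _ fun k => ⟨k, if k = i ∨ k = j then -1 else 1, ?_⟩), e⟩
    rw [e]
    by_cases k1 : k = i
    · simp [k1, ij.symm]; module
    by_cases k2 : k = j
    · simp [k2, ij]; module
    simp [k1, k2, Ne.symm k1, Ne.symm k2]
  · rw [alternatingGroup.commutator_perm_eq (by simp; omega)]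
    exact inv_mem (Perm.mem_alternatingGroup.2 hσ)
end

theorem ODec.frame_max' {V : Type*} [AddCommGroup V] [Module F V] [FiniteDimensional F V]
    {f : Form (Kind.orth F) V} {D : ι → Submodule F V} (h : f.ODec D) {X : Subgroup f.Isom}
    (hX : ∀ g ∈ f.Eich, f.PermD D g → g ∈ X) (hX' : X ≤ f.Eich) (h1 : ∀ i, finrank F (D i) = 1)
    (h2 : (2 : F) ≠ 0) (hp : (Fintype.card F).Prime) (h7 : 11 ≤ Fintype.card ι)
    (hV : Fintype.card ι = finrank F V) : (∀ g ∈ X, f.PermD D g) ∨ f.Eich ≤ X := by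
  obtain ⟨i₀⟩ : Nonempty ι := Fintype.card_pos_iff.1 (by omega)
  obtain ⟨v, hv0, hv⟩ := finrank_eq_one_iff'.1 (h1 i₀)
  choose e he using h.equiv i₀
  let b : ι → V := fun i => e i v
  have hb : ∀ i, D i = F ∙ b i := fun i => (Submodule.eq_of_le_of_finrank_eq
    ((Submodule.span_singleton_le_iff_mem _ _).2 (e i v).2) (by
      rw [h1, finrank_span_singleton (by simpa [b] using hv0)])).symm
  have hQ : ∀ i, f.Q (b i) = f.Q v := fun i => (he i).Q_eq v
  have hc : f.Q v ≠ 0 := fun c => hv0 (h.nondeg_restrict i₀ v fun w => by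
    obtain ⟨a, rfl⟩ := hv w
    simp [orth_B_self, c])
  have hO : ∀ i j, f.B (b i) (b j) = if i = j then 2 * f.Q v else 0 := fun i j => by
    split_ifs with c
    · rw [c, orth_B_self, hQ]
    · exact h.orth i j c (e j v).2 _ (e i v).2
  let B := basisOfTopLeSpanOfCardEqFinrank b (by
    rw [← h.top]
    exact iSup_le fun i => hb i ▸ Submodule.span_mono (by simp)) hV
  let J := B.equivFun.symm
  have hJ : ∀ u, J u = ∑ i, u i • b i := fun u => by simp [J, B]
  have J1 : ∀ i, J (single i 1) = b i := fun i => by simp [hJ, single_apply]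
  have hP : (f.comap J.toLinearMap).Pres f J := ⟨fun _ _ => rfl, fun _ => rfl⟩
  have hf : (f.comap J.toLinearMap).Nondeg := h.nondeg.comap_equiv J
  have E := h.nondeg.commutator_eq_Eich (good_of_two_ne_zero _ h2) (by omega)
  have E' := hf.commutator_eq_Eich (good_of_two_ne_zero _ h2) (by simp; omega)
  have key : ∀ g, (f.comap J.toLinearMap).PermD (fun i => F ∙ single i 1) g ↔
      f.PermD D (isomCongr J hP g) := fun g => forall_congr' fun i => exists_congr fun j => by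
    have : ∀ i v, v ∈ F ∙ (single i 1 : ι → F) ↔ J v ∈ D i := fun i v => by
      rw [hb, ← J1, Submodule.mem_span_singleton, Submodule.mem_span_singleton]
      exact exists_congr fun a => by rw [← map_smul, J.injective.eq_iff]
    simp only [this, isomCongr_apply]
    exact ⟨fun H v hv => H _ (by simpa using hv), fun H v hv => by simpa using H _ hv⟩
  rcases frame_std' (f := f.comap J.toLinearMap) (X := X.comap (isomCongr J hP).toMonoidHom) hc h2 hp
    h7 (fun u w => by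
      simp [hJ, B_sum_left, hO, dotProduct, mul_sum, mul_comm, mul_left_comm, mul_assoc])
    (fun g hg H => hX _ (E ▸ map_comm _ (E' ▸ hg)) ((key g).1 H))
    (fun g hg => (isomCongr J hP).symm_apply_apply g ▸
      E' ▸ map_comm (isomCongr J hP).symm.toMonoidHom (E ▸ hX' hg)) with H | H
  · refine .inl fun g hg => ?_
    simpa using (key _).1 (H ((isomCongr J hP).symm g) (by simpa using hg))
  · refine .inr fun g hg => ?_
    exact (isomCongr J hP).apply_symm_apply g ▸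
      H (E' ▸ map_comm (isomCongr J hP).symm.toMonoidHom (E ▸ hg))

end Form
end CA.CForm

namespace CA.MaxGL

open CA.CForm CA.CForm.Form CA.AschFG CA.AschO1 CA.AschProp Cfsg Cfsg.Geo Module

theorem orth_max_frame' {ι : Type} [Fintype ι] [DecidableEq ι] {F : Type*} [Field F] [Fintype F]
    {φ : Form (Kind.orth F) (ι → F)} (hφ : φ.Nondeg) (h2 : (2 : F) ≠ 0)
    (hp : (Fintype.card F).Prime) (h7 : 11 ≤ Fintype.card ι) {t : ℕ}
    {D : Fin t → Submodule F (ι → F)} (hD : IsOrthogonalMDecomposition φ.Q 1 D) :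
    IsMaximalIn (omegaGL φ.Q) (decompositionStabilizer D ⊓ omegaGL φ.Q) := by
  obtain ⟨h1, h3⟩ := orthDecomp_iff.1 hD
  have h4 := decomp_card h1.decomp
  rw [omega_eq hφ (by omega)]
  exact max_of (not_le_orth hφ (by omega) h1.decomp (.inl h2)) fun X a b =>
    ((odec hφ h1 h3).frame_max' (fun g hg e => a ⟨(mem_comap_decomp h1.decomp).2 e, hg⟩) b
      h1.decomp.finrank_eq h2 hp (by simp; omega) (by simp [h4])).imp_left
        fun h g hg => (mem_comap_decomp h1.decomp).2 (h g hg)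

end CA.MaxGL
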