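import Cfsg.Agent.Lib.Lin.MaxF6

/-!
Overgroups of the monomial group of an orthonormal frame in dimension five: growth.
-/

set_option autoImplicit false
set_option linter.unusedSectionVars false

namespace CA.CForm

open Module CA.MaxF Pi Equiv Finset

namespace Form
variable {F : Type*} [Field F] [Fintype F] {ι : Type*} [Fintype ι] [DecidableEq ι]

local notation:75 g:76 " ⊳ " v:75 => (g : (ι → F) ≃ₗ[F] (ι → F)) v
local notation "𝐞" i:max => (Pi.single i 1 : ι → F)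

/-- `Y` is a proper overgroup of the monomial group of the standard frame. -/
structure Fr5 (f : Form (Kind.orth F) (ι → F)) (Y : Subgroup f.Isom) (c : F) : Prop where
  c_ne : c ≠ 0
  two : (2 : F) ≠ 0
  prime : (Fintype.card F).Prime
  seven : Fintype.card ι = 5
  B_eq : ∀ u v, f.B u v = 2 * c * (u ⬝ᵥ v)
  refl_mem : ∀ i, f.refl (𝐞 i) ∈ Y
  perm_mem : ∀ σ : Perm ι, Perm.sign σ = 1 → ∃ g ∈ Y, ∀ u, g ⊳ u = u ∘ σ
  not_le : ¬f.Eich ≤ Y

variable {f : Form (Kind.orth F) (ι → F)} {Y : Subgroup f.Isom} {c : F} {u v w x y z : ι → F}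

namespace Fr5
variable (h : f.Fr5 Y c)
include h

theorem Q_eq (u : ι → F) : f.Q u = c * (u ⬝ᵥ u) :=
  mul_left_cancel₀ h.two (by rw [← orth_B_self, h.B_eq, mul_assoc])

theorem B_zero : f.B u v = 0 ↔ u ⬝ᵥ v = 0 := by simp [h.B_eq, h.two, h.c_ne]

theorem Q_zero : f.Q u = 0 ↔ u ⬝ᵥ u = 0 := by simp [h.Q_eq, h.c_ne]

theorem nondeg : f.Nondeg := fun x hx => funext fun i => by simpa [h.B_zero] using hx (𝐞 i)

theorem refl_eq (hu : u ⬝ᵥ u = 1) (v : ι → F) : f.refl u ⊳ v = v - (2 * (u ⬝ᵥ v)) • u := by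
  have := h.c_ne
  rw [refl_apply, h.Q_eq, h.B_eq, hu]
  congr 2
  field_simp

theorem dot_map (g : f.Isom) (u v : ι → F) : (g ⊳ u) ⬝ᵥ (g ⊳ v) = u ⬝ᵥ v :=
  mul_left_cancel₀ (mul_ne_zero h.two h.c_ne) (by rw [← h.B_eq, ← h.B_eq, B_coe_map])

theorem map (hu : f.DD Y u) {g : f.Isom} (hg : g ∈ Y) : f.DD Y (g ⊳ u) :=
  ⟨by rw [h.dot_map, hu.1], f.conj_refl g u ▸ mul_mem (mul_mem hg hu.2) (inv_mem hg)⟩

theorem unit (i : ι) : f.DD Y (𝐞 i) := ⟨by simp, h.refl_mem i⟩

theorem refl (hu : f.DD Y u) (hv : f.DD Y v) : f.DD Y (v - (2 * (u ⬝ᵥ v)) • u) :=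
  h.refl_eq hu.1 v ▸ h.map hv hu.2

theorem flip (I : Finset ι) : ∃ g ∈ Y, ∀ u, g ⊳ u = u - (2 : F) • rs I u := by
  induction I using Finset.induction_on with
  | empty => exact ⟨1, one_mem _, fun u => by ext i; simp [rs]⟩
  | insert a I ha ih =>
    obtain ⟨g, hg, e⟩ := ih
    refine ⟨_, mul_mem (h.refl_mem a) hg, fun u => ?_⟩
    rw [isom_mul_apply, h.refl_eq (by simp), e]
    ext i
    by_cases hi : i = a <;> simp [rs, hi, ha]

theorem exists_two {s : Finset ι} (hs : s.card ≤ 3) : ∃ l l', l ≠ l' ∧ l ∉ s ∧ l' ∉ s := by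
  obtain ⟨l, hl, l', hl', e⟩ := one_lt_card.1
    (show 1 < sᶜ.card by rw [card_compl]; have := h.seven; omega)
  exact ⟨l, l', e, mem_compl.1 hl, mem_compl.1 hl'⟩

theorem perm {s : Finset ι} (hs : s.card ≤ 3) (hu : ∀ i, i ∉ s → u i = 0) (σ : Perm ι) :
    ∃ g ∈ Y, g ⊳ u = u ∘ σ := by
  rcases Int.units_eq_one_or (Perm.sign σ) with e | e
  · obtain ⟨g, hg, H⟩ := h.perm_mem σ e
    exact ⟨g, hg, H u⟩
  · obtain ⟨l, l', h1, h2, h3⟩ := h.exists_two hs
    obtain ⟨g, hg, H⟩ := h.perm_mem (swap l l' * σ) (by simp [e, h1])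
    refine ⟨g, hg, (H u).trans (funext fun i => ?_)⟩
    simp only [Function.comp, Perm.mul_apply, swap_apply_def]
    split_ifs with h4 h5 <;> simp [*]

theorem perm' {s : Finset ι} (hs : s.card ≤ 3) (hu : ∀ i, i ∉ s → u i = 0) (hD : f.DD Y u)
    (σ : Perm ι) : f.DD Y (u ∘ σ) := by
  obtain ⟨g, hg, e⟩ := h.perm hs hu σ
  exact e ▸ h.map hD hg

theorem lev_of (hw : f.DD Y w) (hw' : f.DD Y (w + y)) (hy : f.Q y = 0) (hB : y ⬝ᵥ w = 0) :
    w ∈ levS Y hy := by
  have hc := h.c_ne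
  have hQ : f.Q w = c := by rw [h.Q_eq, hw.1, mul_one]
  have h1 := f.orth_eichlerCond (f.Q_smul_of_Q hy c⁻¹) (w := w) (by simp [h.B_zero, hB])
  have h2 : f.Lev Y (c⁻¹ • y) w := ⟨_, h1, by
    rw [f.eichler_eq_refl_mul h1 (hQ ▸ hc), hQ, smul_inv_smul₀ hc]
    exact mul_mem hw.2 hw'.2⟩
  have := Submodule.smul_mem _ c ((h2.smul_left hy (inv_ne_zero hc)).mem_levS h.prime hy)
  rwa [Kind.orth_σ, smul_inv_smul₀ hc] at this

theorem add_smul {hy : f.Q y = 0} (hl : w ∈ levS Y hy) (hw : f.DD Y w) (a : F) :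
    f.DD Y (w + a • y) := by
  obtain ⟨d, hd, hm⟩ := hl (-a / (2 * c))
  have := h.map hw hm
  rw [f.eichler_apply_of_B _ _ _ _ (lev_of_mem_levS hl).B_eq] at this
  convert this using 1
  have := h.c_ne
  have := h.two
  rw [sub_eq_add_neg, ← neg_smul, h.B_eq, smul_dotProduct, hw.1]
  congr 2
  simp
  field_simp

theorem lev_refl {hy : f.Q y = 0} (hl : w ∈ levS Y hy) (hv : f.DD Y v) (h1 : v ⬝ᵥ y = 0)
    (h2 : v ⬝ᵥ w ≠ 0) : v ∈ levS Y hy := by
  have := sub_mem hl (map_mem_levS hl hv.2 (f.refl_apply_of_B (h.B_zero.2 h1)))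
  rwa [h.refl_eq hv.1, sub_sub_cancel, Submodule.smul_mem_iff _ (mul_ne_zero h.two h2)] at this

theorem core (hu : f.DD Y u) {I : Finset ι} (hy : f.Q (rs I u) = 0) {l : ι} (hl : l ∉ I)
    (h0 : u l ≠ 0) : 𝐞 l ∈ levS Y hy := by
  obtain ⟨g, hg, e⟩ := h.flip I
  have h1 : rs I u ⬝ᵥ u = 0 := by rw [dotProduct_comm, dot_rs, ← rs_dot, ← h.Q_zero, hy]
  have h2 := h.lev_of (w := g ⊳ u) (y := (2 : F) • rs I u) (h.map hu hg) (by simpa [e] using hu)
    (f.Q_smul_of_Q hy 2) (by simp [e, h1, h.Q_zero.1 hy])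
  have h3 := ((lev_of_mem_levS h2).smul_left hy h.two).mem_levS h.prime hy
  exact h.lev_refl h3 (h.unit l) (by simp [rs, hl]) (by simp [e, rs, hl, h0, h.two])

theorem grow {i j k l : ι} (ij : i ≠ j) (ik : i ≠ k) (jk : j ≠ k) (il : i ≠ l) (jl : j ≠ l)
    (kl : k ≠ l) {a b d : F} (hd : d ≠ 0) (hy : f.Q (single i a + single j b + single k d) = 0)
    (hl : 𝐞 l ∈ levS Y hy) : False := by
  obtain ⟨m, -, hm⟩ := exists_mem_notMem_of_card_lt_card (s := {i, j, k, l}) (t := univ)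
    (card_le_four.trans_lt (by rw [card_univ, h.seven]; omega))
  simp only [mem_insert, mem_singleton, not_or] at hm
  obtain ⟨mi, mj, mk, ml⟩ := hm
  have ji := ij.symm
  have ki := ik.symm
  have kj := jk.symm
  have im := Ne.symm mi
  have jm := Ne.symm mj
  have km := Ne.symm mk
  have lm := Ne.symm ml
  have li := il.symm
  have lj := jl.symm
  have lk := kl.symm
  have e := h.Q_zero.1 hy
  have E1 : (𝐞 l + (1 : F) • (single i a + single j b + single k d)) ∘ ⇑(swap i j * swap k m) =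
      𝐞 l + (single j a + single i b + single m d) := by
    clear hl hy e
    simp only [one_smul, add_comp, single_comp]
    simp [swap_apply_of_ne_of_ne, Perm.mul_def, *]
  have E2 : 𝐞 l + (single j a + single i b + single m d) - (2 * (𝐞 j ⬝ᵥ (𝐞 l + (single j a +
      single i b + single m d)))) • 𝐞 j = single i b - single j a + single m d + 𝐞 l := by
    clear hl hy e E1
    ext x
    simp [*]
    simp only [single_apply]
    split_ifs <;> ring
  have E3 : (single i b - single j a + single m d + 𝐞 l) ⬝ᵥ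
      (single i a + single j b + single k d) = 0 := by
    clear hl hy e E1 E2
    simp [*, mul_comm]
  have E4 : ∀ v, (single i a + single j b + single k d) ⬝ᵥ v = a * v i + b * v j + d * v k := by
    simp
  rw [E4] at e
  simp [ij, ik, jk, ji, ki, kj] at e
  have h1 := h.add_smul hl (h.unit l) 1
  obtain ⟨g, hg, eg⟩ := h.perm_mem (swap i j * swap k m) (by simp [ij, km])
  have h4 := h.refl (h.unit j) (eg _ ▸ h.map h1 hg)
  rw [E1, E2] at h4
  have h5 := h.lev_refl hl h4 E3 (by simp [li, lj, lm])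
  have hm' : 𝐞 m ∈ levS Y hy := h.lev_refl h5 (h.unit m) (by simp [mi, mj, mk])
    (by simp [mi, mj, ml, hd])
  have h3 : ∀ x, i ≠ x → j ≠ x → k ≠ x → 𝐞 x ∈ levS Y hy := fun x ix jx kx => by
    by_cases xl : x = l
    · rwa [xl]
    by_cases xm : x = m
    · rwa [xm]
    have := card_le_univ ({x, m, l, i, j, k} : Finset ι)
    rw [h.seven, card_insert_of_notMem (by simp [xm, xl, ix.symm, jx.symm, kx.symm]),
      card_insert_of_notMem (by simp [ml, mi, mj, mk]), card_insert_of_notMem (by simp [li, lj, lk]),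
      card_insert_of_notMem (by simp [ij, ik]), card_pair jk] at this
    omega
  have h6 := sub_mem (sub_mem h5 hl) (Submodule.smul_mem _ d hm')
  rw [← single_smul, smul_eq_mul, mul_one, add_sub_cancel_right, add_sub_cancel_right] at h6
  refine h.not_le (h.nondeg.Eich_le_of_Qgrp' (.inl ?_) hy (Qgrp_le_of_levS (hx := hy) fun v hv => ?_)
    (h.refl_mem k) ?_)
  · have := h.seven
    simp; omega
  · have h7 := sum_mem (S := levS Y hy) (t := {i, j, k}ᶜ) (f := fun x => v x • 𝐞 x) fun x hx => by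
      simp only [mem_compl, mem_insert, mem_singleton, not_or] at hx
      exact Submodule.smul_mem _ _ (h3 x (Ne.symm hx.1) (Ne.symm hx.2.1) (Ne.symm hx.2.2))
    rw [h.B_zero, E4] at hv
    convert add_mem h7 (add_mem (Submodule.smul_mem _ (v k / d) (self_mem_levS hy))
      (Submodule.smul_mem _ ((a * v j - b * v i) / d ^ 2) h6)) using 1
    ext x
    simp only [Pi.add_apply, Finset.sum_apply, Pi.smul_apply, single_apply, Pi.sub_apply, smul_eq_mul,
      mul_ite, mul_one, mul_zero, sum_ite_eq, mem_compl, mem_insert, mem_singleton]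
    by_cases xi : x = i
    · subst xi; simp [ij, ik]; field_simp; linear_combination v x * e - a * hv
    by_cases xj : x = j
    · subst xj; simp [ji, jk]; field_simp; linear_combination v x * e - b * hv
    by_cases xk : x = k
    · subst xk; simp [ki, kj, hd]
    simp [xi, xj, xk]
  · rw [B_refl, f.B_self_of_Q hy]
    simp [h.Q_eq, h.B_eq, h.c_ne, h.two, ki, kj, hd]

theorem small {I : Finset ι} (hI : I.card ≤ 3) (h1 : ∀ i, i ∉ I → y i = 0) {k l : ι} (hk : y k ≠ 0)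
    (hl : l ∉ I) (hy : f.Q y = 0) (hm : 𝐞 l ∈ levS Y hy) : False := by
  obtain ⟨J, h2, h3, h4⟩ := exists_subsuperset_card_eq (n := 3) (t := univ.erase l)
    (fun x hx => mem_erase.2 ⟨fun e => hl (e ▸ hx), mem_univ _⟩) hI
    (by have := h.seven; simp; omega)
  have kJ : k ∈ J := h2 (by_contra fun c => hk (h1 k c))
  obtain ⟨i, j, ij, e⟩ := card_eq_two.1 (show (J.erase k).card = 2 by simp [kJ, h4])
  have hi : i ∈ J.erase k := by simp [e]
  have hj : j ∈ J.erase k := by simp [e]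
  rw [mem_erase] at hi hj
  obtain e' : y = single i (y i) + single j (y j) + single k (y k) := funext fun x => by
    by_cases xi : x = i
    · simp [xi, ij, hi.1]
    by_cases xj : x = j
    · simp [xj, ij.symm, hj.1]
    by_cases xk : x = k
    · simp [xk, hi.1.symm, hj.1.symm]
    have : x ∉ J.erase k := by simp [e, xi, xj]
    simp [xi, xj, xk, h1 x fun c => this (mem_erase.2 ⟨xk, h2 c⟩)]
  refine h.grow ij hi.1 hj.1 (mem_erase.1 (h3 hi.2)).1 (mem_erase.1 (h3 hj.2)).1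
    (mem_erase.1 (h3 kJ)).1 hk (e' ▸ hy) ?_
  convert hm using 2
  exact e'.symm

theorem small' (hu : f.DD Y u) {I : Finset ι} (hI : I.card ≤ 3) {k : ι} (hk : k ∈ I) (h0 : u k ≠ 0)
    (hs : ∑ i ∈ I, u i ^ 2 = 0) : False := by
  obtain ⟨l, hl, h1⟩ := exists_out (u := u) (I := I) (by simp [hs, hu.1])
  have hy : f.Q (rs I u) = 0 := by rw [h.Q_zero, rs_dot, hs]
  exact h.small hI (fun i hi => by simp [rs, hi]) (k := k) (by simp [rs, hk, h0]) hl hy
    (h.core hu hy hl h1)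

theorem four : (4 : F) ≠ 0 := fun e => mul_ne_zero h.two h.two (by linear_combination e)

theorem full {i j : ι} (ij : i ≠ j) (hz : z ⬝ᵥ z ≠ 0) (hi : z i = 0) (hj : z j = 0)
    (H : (∃ x ∈ Submodule.span F {𝐞 i, 𝐞 j, z}, ∃ w ∈ Submodule.span F {𝐞 i, 𝐞 j, z},
      x ≠ 0 ∧ f.Q x = 0 ∧ w ∉ F ∙ x ∧ f.Lev Y x w) ∨ ∃ a b : F, a ≠ 0 ∧ b ≠ 0 ∧
        ¬Gd (4 * a ^ 2) ∧ f.DD Y (a • 𝐞 i + b • 𝐞 j + z)) :
    f.Base Y (Submodule.span F {𝐞 i, 𝐞 j, z}) ∧ ∀ a b d : F, a ^ 2 + b ^ 2 + d ^ 2 * (z ⬝ᵥ z) = 1 →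
      f.DD Y (a • 𝐞 i + b • 𝐞 j + d • z) := by
  have hc := h.c_ne
  obtain ⟨h1, h2⟩ := h.nondeg.full_three h.prime h.two (u := 𝐞 i) (v := 𝐞 j) (z := z)
    (by simp [h.Q_zero]) (by simp [h.Q_zero]) (by simpa [h.Q_zero]) (by simp [h.B_zero, ij])
    (by simp [h.B_zero, hi]) (by simp [h.B_zero, hj]) (h.refl_mem i) (h.refl_mem j)
    (H.imp_right fun ⟨a, b, ha, hb, h1, h2⟩ => ⟨a, b, ha, hb, h1, by simp [h.Q_eq],
      by rw [h.Q_eq, h.Q_eq, h2.1]; simp, h2.2⟩)
  refine ⟨h1, fun a b d e => ?_⟩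
  have : (a • 𝐞 i + b • 𝐞 j + d • z) ⬝ᵥ (a • 𝐞 i + b • 𝐞 j + d • z) = 1 := by
    simp [ij, ij.symm, hi, hj]
    linear_combination e
  exact ⟨this, h2 _ (Submodule.mem_span_triple.2 ⟨a, b, d, rfl⟩)
    (by rw [h.Q_eq, h.Q_eq, this]; simp)⟩

theorem plane (h3 : (3 : F) ≠ 0) (h5 : (5 : F) ≠ 0) {i j : ι} (ij : i ≠ j) {a b : F} (ha : a ≠ 0)
    (hb : b ≠ 0) (hG : ¬Gd (4 * a ^ 2)) (hD : f.DD Y (a • 𝐞 i + b • 𝐞 j)) : False := by
  obtain ⟨k, l, kl, hk, hl⟩ := h.exists_two (s := {i, j}) (card_le_two.trans (by omega))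
  simp only [mem_insert, mem_singleton, not_or] at hk hl
  obtain ⟨ki, kj⟩ := hk
  obtain ⟨li, lj⟩ := hl
  have ji := ij.symm
  have ik := Ne.symm ki
  have jk := Ne.symm kj
  have il := Ne.symm li
  have jl := Ne.symm lj
  have lk := kl.symm
  have h2 := h.two
  have h4 := h.four
  have e1 : 1 - 2 * a ^ 2 ≠ 0 := fun e => hG (.inr (.inl (by linear_combination -2 * e)))
  have h6 := h.perm' (s := {i, j}) (card_le_two.trans (by omega))
    (fun x hx => by simp at hx; simp [hx]) hD (swap j k * swap i j)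
  have E1 : (a • 𝐞 i + b • 𝐞 j) ∘ ⇑(swap j k * swap i j) = a • 𝐞 j + b • 𝐞 k := by
    simp only [add_comp, smul_comp, single_comp]
    simp [swap_apply_of_ne_of_ne, Perm.mul_def, ik, ij, ki, kj]
  have h7 := h.refl (E1 ▸ h6) hD
  have E2 : a • 𝐞 i + b • 𝐞 j - (2 * ((a • 𝐞 j + b • 𝐞 k) ⬝ᵥ (a • 𝐞 i + b • 𝐞 j))) •
      (a • 𝐞 j + b • 𝐞 k) = a • 𝐞 i + (b * (1 - 2 * a ^ 2)) • 𝐞 j + (-2 * a * b ^ 2) • 𝐞 k := by
    simp only [add_dotProduct, smul_dotProduct, single_dotProduct, Pi.add_apply, Pi.smul_apply,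
      single_apply, ji, ki, kj, if_true, if_false, smul_eq_mul]
    module
  have hd : -2 * a * b ^ 2 ≠ 0 := by simp [h2, ha, hb]
  obtain ⟨h8, h9⟩ := h.full ij (z := (-2 * a * b ^ 2) • 𝐞 k) (by simp [h2, ha, hb])
    (by simp [ik]) (by simp [jk]) (.inr ⟨a, _, ha, mul_ne_zero hb e1, hG, E2 ▸ h7⟩)
  have := charP_of_card_eq_prime (R := F) (hp := ⟨h.prime⟩) rfl
  have := NeZero.mk h.prime.ne_zero
  obtain ⟨α, β, e⟩ := CharP.sq_add_sq F (Fintype.card F) (-1)
  generalize (α : F) = α at e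
  generalize (β : F) = β at e
  rw [Int.cast_neg, Int.cast_one] at e
  have hy : f.Q (single i α + single j β + single k 1) = 0 := by
    simp [h.Q_zero, ij, ik, jk, ji, ki, kj]
    linear_combination e
  have m1 : ∀ a' b' d', a' • 𝐞 i + b' • 𝐞 j + d' • (-2 * a * b ^ 2) • 𝐞 k ∈
      Submodule.span F {𝐞 i, 𝐞 j, (-2 * a * b ^ 2) • 𝐞 k} := fun a b d =>
    Submodule.mem_span_triple.2 ⟨a, b, d, rfl⟩
  have h10 := h8.mem_levS (w := β • 𝐞 i - α • 𝐞 j) (by
      have := m1 α β (-2 * a * b ^ 2)⁻¹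
      rw [inv_smul_smul₀ hd] at this
      simpa only [← single_smul, smul_eq_mul, mul_one] using this) hy
    (by convert m1 β (-α) 0 using 1; module) (h.B_zero.2 (by simp [ij, ji, ki, kj, mul_comm]))
  have h11 := h.perm' (s := {i, j, k}) card_le_three
    (fun x hx => by simp at hx; simp [hx])
    (h9 (3 / 4 * β) (-(3 / 4 * α)) (5 / 4 / (-2 * a * b ^ 2)) (by
      simp
      field_simp
      linear_combination 9 * e)) (swap k l)
  have E3 : ((3 / 4 * β) • 𝐞 i + -(3 / 4 * α) • 𝐞 j + (5 / 4 / (-2 * a * b ^ 2)) •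
      (-2 * a * b ^ 2) • 𝐞 k) ∘ ⇑(swap k l) = (3 / 4 : F) • (β • 𝐞 i - α • 𝐞 j) + (5 / 4 : F) • 𝐞 l := by
    simp only [add_comp, smul_comp, single_comp, smul_smul, div_mul_cancel₀ _ hd]
    simp [swap_apply_of_ne_of_ne, ik, il, jk, jl]
    module
  rw [E3] at h11
  have h12 := h.lev_refl h10 h11 (by simp [ij, ji, ik, jk, il, jl, kl]; ring) (by
    simp [ij, ji, li, lj]
    intro c
    exact div_ne_zero h3 h4 (by linear_combination -c + 3 / 4 * e))
  have h13 := sub_mem h12 (Submodule.smul_mem _ (3 / 4 : F) h10)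
  rw [add_sub_cancel_left, Submodule.smul_mem_iff _ (div_ne_zero h5 h4)] at h13
  exact h.grow ij ik jk il jl kl one_ne_zero hy h13

theorem plane' (h3 : (3 : F) ≠ 0) (h5 : (5 : F) ≠ 0) (h7 : (7 : F) ≠ 0) {i j : ι} (ij : i ≠ j)
    (H : ∀ a b d : F, a ^ 2 + b ^ 2 + d ^ 2 * (z ⬝ᵥ z) = 1 →
      f.DD Y (a • 𝐞 i + b • 𝐞 j + d • z)) : False := by
  have h2 := h.two
  have h4 := h.four
  have h1 := H (3 / 5) (4 / 5) 0 (by field_simp; ring)
  rw [zero_smul, add_zero] at h1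
  have e : 4 * (3 / 5 : F) ^ 2 + 4 * (4 / 5) ^ 2 = 4 := by field_simp; ring
  have e' : 4 * (3 / 5 : F) ^ 2 ≠ 2 := fun e => by
    field_simp at e
    exact mul_ne_zero h2 h7 (by linear_combination -e)
  by_cases c1 : Gd (4 * (3 / 5 : F) ^ 2)
  · refine h.plane h3 h5 ij.symm (div_ne_zero h4 h5) (div_ne_zero h3 h5) (fun c2 => ?_)
      (by rwa [add_comm])
    generalize 4 * (3 / 5 : F) ^ 2 = s at *
    generalize 4 * (4 / 5 : F) ^ 2 = t at *
    obtain rfl : t = 4 - s := by linear_combination e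
    rcases c1 with c1 | c1 | c1 <;> rcases c2 with c2 | c2 | c2
    · exact h2 (by linear_combination c1 + c2)
    · exact one_ne_zero (by linear_combination c1 + c2 : (1 : F) = 0)
    · exact one_ne_zero (by linear_combination c2 - (s - 4) * c1 : (1 : F) = 0)
    · exact e' c1
    · exact e' c1
    · exact e' c1
    · exact one_ne_zero (by linear_combination c1 + s * c2 : (1 : F) = 0)
    · exact e' (by linear_combination -c2)
    · exact e' (mul_left_cancel₀ h2 (by linear_combination c1 - c2))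
  · exact h.plane h3 h5 ij (div_ne_zero h3 h5) (div_ne_zero h4 h5) c1 h1

theorem typeA7 (h7 : (7 : F) = 0) {hy : f.Q y = 0} {i j k : ι} (hi : y i = 0) (hj : y j ≠ 0)
    (hk : y k ≠ 0) (jk : y j ^ 2 ≠ y k ^ 2) (hl : 𝐞 i ∈ levS Y hy) : False := by
  have ji : j ≠ i := fun e => hj (e ▸ hi)
  have ki : k ≠ i := fun e => hk (e ▸ hi)
  have jk' : j ≠ k := fun e => jk (e ▸ rfl)
  have h1 := pow_of_char h.prime (n := 7) (by norm_num) h7 hj
  have h2 := pow_of_char h.prime (n := 7) (by norm_num) h7 hk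
  have h3 : y j ^ 4 + y j ^ 2 * y k ^ 2 + y k ^ 4 = 0 :=
    mul_left_cancel₀ (sub_ne_zero.2 jk) (by linear_combination h1 - h2)
  refine h.small' (h.add_smul hl (h.unit i) (y j * y k)) (I := {i, j, k}) card_le_three (k := i)
    (by simp) (by simp [hi]) ?_
  rw [sum_insert (by simp [ji.symm, ki.symm]), sum_pair jk']
  simp [hi, ji, ki]
  linear_combination y j ^ 2 * h3 - h1

theorem typeA {hy : f.Q y = 0} {i j : ι} (hi : y i = 0) (hj : y j ≠ 0) (hl : 𝐞 i ∈ levS Y hy) :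
    False := by
  have ji : j ≠ i := fun e => hj (e ▸ hi)
  have h0 := h.Q_zero.1 hy
  have h2 := h.two
  obtain ⟨k, hk, hk0⟩ := exists_out (u := y) (I := {j}) (by simp [h0, hj])
  rw [mem_singleton] at hk
  have ki : k ≠ i := fun e => hk0 (e ▸ hi)
  by_cases h3 : (3 : F) = 0
  · have h1 := pow_of_char h.prime (n := 3) (by norm_num) h3 hj
    have h2 := pow_of_char h.prime (n := 3) (by norm_num) h3 hk0
    refine h.small' (h.add_smul hl (h.unit i) 1) (I := {i, j, k}) card_le_three (k := i)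
      (by simp) (by simp [hi]) ?_
    rw [sum_insert (by simp [ji.symm, ki.symm]), sum_pair (Ne.symm hk)]
    simp [hi, ji, ki]
    linear_combination h1 + h2 + h3
  by_cases h5 : (5 : F) = 0
  · refine h.small' (h.add_smul hl (h.unit i) (2 / y j)) (I := {i, j})
      (card_le_two.trans (by omega)) (k := i) (by simp) (by simp [hi]) ?_
    rw [sum_pair ji.symm]
    simp [hi, ji, hj]
    linear_combination h5
  by_cases h7 : (7 : F) = 0
  · by_cases H : ∀ l, y l ≠ 0 → y j ^ 2 = y l ^ 2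
    swap
    · push Not at H
      obtain ⟨l, h1, h4⟩ := H
      exact h.typeA7 h7 hi hj h1 h4 hl
    obtain ⟨l, hl', hl0⟩ := exists_out (u := y) (I := {j, k}) (by
      rw [sum_pair (Ne.symm hk), ← H k hk0, h0, ← two_mul]
      exact mul_ne_zero h2 (pow_ne_zero _ hj))
    simp only [mem_insert, mem_singleton, not_or] at hl'
    have li : l ≠ i := fun e => hl0 (e ▸ hi)
    have h4 := h.refl (h.add_smul hl (h.unit i) (2 / y j)) (h.unit j)
    generalize e : 𝐞 j - (_ : F) • _ = u at h4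
    have ui : u i = -4 := by simp [← e, hi, ji, ji.symm, hj]; norm_num
    have um : ∀ m, m ≠ i → m ≠ j → y m ≠ 0 → u m ^ 2 = 1 := fun m mi mj hm => by
      have : u m * y j = -8 * y m := by
        simp [← e, ji, hj, mi, mj]
        field_simp
        ring
      refine mul_right_cancel₀ (pow_ne_zero 2 hj) ?_
      rw [← mul_pow, this]
      linear_combination -64 * H m hm + 9 * y j ^ 2 * h7
    have u0 : ∀ m, u m ^ 2 = 1 → u m ≠ 0 := fun m hm c => by simp [c] at hm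
    have hy' : f.Q (rs {k}ᶜ u) = 0 := by simp [h.Q_zero, rs_compl, um k ki hk hk0, h4.1]
    refine h.typeA7 h7 (i := k) (j := i) (k := l) (by simp [rs]) ?_ ?_ ?_
      (h.core h4 hy' (by simp) (u0 k (um k ki hk hk0)))
    · simpa [rs, ki.symm, ui] using h.four
    · simpa [rs, hl'.2] using u0 l (um l li hl'.1 hl0)
    · simp only [rs, mem_compl, mem_singleton, ki.symm, hl'.2, ui, um l li hl'.1 hl0,
        not_false_eq_true, if_true]
      exact fun c => one_ne_zero (by linear_combination c - 2 * h7 : (1 : F) = 0)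
  refine h.plane' h3 h5 h7 ji.symm (h.full ji.symm (z := y - y j • 𝐞 j) ?_ (by simp [hi, ji.symm])
    (by simp) (.inl ⟨y, Submodule.mem_span_triple.2 ⟨0, y j, 1, by module⟩, 𝐞 i,
      Submodule.subset_span (by simp), fun e => hj (by simp [e]), hy, fun c => ?_,
      lev_of_mem_levS hl⟩)).2
  · simp [h0, hj]
  · obtain ⟨a, e⟩ := Submodule.mem_span_singleton.1 c
    simpa [hi] using congrFun e i

theorem ok (hu : f.DD Y u) {i j : ι} (ji : j ≠ i) (hj : u j ≠ 0) : Ok (4 * u i ^ 2) := by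
  have h2 := h.two
  have h4 := h.four
  have h1 : u i ^ 2 ≠ 1 := fun e => by
    have hy : f.Q (rs {i}ᶜ u) = 0 := by simp [h.Q_zero, rs_compl, hu.1, e]
    exact h.typeA (i := i) (j := j) (by simp [rs]) (by simp [rs, ji, hj])
      (h.core hu hy (by simp) fun c => by simp [c] at e)
  refine ⟨fun e => h1 (mul_left_cancel₀ h4 (by rw [e, mul_one])), ?_⟩
  by_contra! H
  obtain ⟨hi, hG⟩ := H
  replace hi : u i ≠ 0 := fun e => hi (by simp [e])
  have h3 : (3 : F) ≠ 0 := fun h3 => h1 (pow_of_char h.prime (n := 3) (by norm_num) h3 hi)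
  have h5 : (5 : F) ≠ 0 := fun h5 => hG (.inl (mul_left_cancel₀ (sub_ne_zero.2 h1) (by
    linear_combination 4 * pow_of_char h.prime (n := 5) (by norm_num) h5 hi -
      (u i ^ 2 - 1) * h5)))
  have h7 : (7 : F) ≠ 0 := fun h7 => by
    have : (4 * u i ^ 2 - 1) * (4 * u i ^ 2 - 2) = 0 := mul_left_cancel₀ (sub_ne_zero.2 h1) (by
      linear_combination 16 * pow_of_char h.prime (n := 7) (by norm_num) h7 hi -
        (4 * u i ^ 4 - 2 * u i ^ 2 - 2) * h7)
    exact hG ((mul_eq_zero.1 this).imp sub_eq_zero.1 fun e => .inl (sub_eq_zero.1 e))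
  have e : u = u i • 𝐞 i + u j • 𝐞 j + rs {i, j}ᶜ u := funext fun x => by
    by_cases xi : x = i
    · simp [rs, xi, ji.symm]
    by_cases xj : x = j
    · simp [rs, xj, ji]
    simp [rs, xi, xj]
  by_cases hz : rs {i, j}ᶜ u ⬝ᵥ rs {i, j}ᶜ u = 0
  · by_cases h0 : rs {i, j}ᶜ u = 0
    · rw [h0, add_zero] at e
      exact h.plane h3 h5 ji.symm hi hj hG (e ▸ hu)
    · obtain ⟨k, hk⟩ := Function.ne_iff.1 h0
      exact h.typeA (i := i) (by simp [rs]) hk (h.core hu (h.Q_zero.2 hz) (by simp) hi)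
  · exact h.plane' h3 h5 h7 ji.symm (h.full ji.symm hz (by simp [rs]) (by simp [rs])
      (.inr ⟨_, _, hi, hj, hG, e ▸ hu⟩)).2

end Fr5
end Form
end CA.CForm
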