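import Mathlib
import Cfsg.Prelude.Def_GeometricClasses
import Cfsg.Agent.Lib.Lin.AschFG7
import Cfsg.Agent.Lib.Lin.AschSL
import Cfsg.Agent.Lib.Lin.SLnGen
import Cfsg.Agent.Lib.Lin.CFormSpU

/-! Transvection calculus in matrix groups; overgroups of classical groups in `SL`. -/

set_option autoImplicit false
set_option linter.unusedSectionVars false

namespace CA.MaxTv

open Cfsg Cfsg.Geo Matrix CA.AschBase CA.AschForm CA.AschTForm CA.AschProp CA.AschDesc
  CA.AschFG CA.AschFG4 CA.AschFG5 CA.CForm Module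
open scoped MatrixGroups

variable {ι : Type} [Fintype ι] [DecidableEq ι] {F : Type*} [Field F] {k : Kind F}
variable {X : Subgroup (GL ι F)}

theorem isMaximalIn_of {G : Type*} [Group G] {K M : Subgroup G} (h1 : ¬ K ≤ M)
    (h2 : ∀ X, M ⊓ K ≤ X → X ≤ K → X ≤ M ∨ K ≤ X) : IsMaximalIn K (M ⊓ K) :=
  ⟨lt_of_le_of_ne inf_le_right fun h => h1 (h ▸ inf_le_left), fun X a b =>
    (h2 X a b).imp (fun h => le_antisymm (le_inf h b) a) (le_antisymm b)⟩

theorem exists_between {G : Type*} [Group G] {K M N : Subgroup G} (h1 : M ⊓ K ≤ N) (h2 : ¬ K ≤ N)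
    {x : G} (hx : x ∈ N) (hxK : x ∈ K) (hxM : x ∉ M) : ∃ Y, M ⊓ K < Y ∧ Y < K :=
  ⟨N ⊓ K, lt_of_le_of_ne (le_inf h1 inf_le_right) fun h => hxM (h.ge ⟨hx, hxK⟩).1,
    lt_of_le_of_ne inf_le_right fun h => h2 (h ▸ inf_le_left)⟩

/-- Some element of `X` acts as the map `T`. -/
def Act (X : Subgroup (GL ι F)) (T : (ι → F) → ι → F) : Prop :=
  ∃ g ∈ X, ∀ x, (g : Matrix ι ι F) *ᵥ x = T x

theorem act_self {g : GL ι F} (hg : g ∈ X) : Act X fun x => (g : Matrix ι ι F) *ᵥ x :=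
  ⟨g, hg, fun _ => rfl⟩

theorem act_id : Act X fun x => x := ⟨1, X.one_mem, fun x => by simp⟩

namespace Act

variable {S T : (ι → F) → ι → F}

theorem congr (h : Act X S) (e : ∀ x, S x = T x) : Act X T := funext e ▸ h

theorem mono {Y : Subgroup (GL ι F)} (h : Act X S) (e : X ≤ Y) : Act Y S :=
  h.imp fun _ h => ⟨e h.1, h.2⟩

theorem mul (h : Act X S) (h' : Act X T) : Act X fun x => S (T x) := by
  obtain ⟨g, hg, h⟩ := h
  obtain ⟨g', hg', h'⟩ := h'
  exact ⟨g * g', X.mul_mem hg hg', fun x => by rw [Units.val_mul, ← mulVec_mulVec, h, h']⟩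

theorem inv (h : Act X T) (e : ∀ x, S (T x) = x) : Act X S := by
  obtain ⟨g, hg, h⟩ := h
  exact ⟨g⁻¹, X.inv_mem hg, fun x => by rw [← e (_ *ᵥ x), ← h, mulVec_inv_mulVec]⟩

theorem mem (h : Act X T) {g : GL ι F} (e : ∀ x, (g : Matrix ι ι F) *ᵥ x = T x) : g ∈ X := by
  obtain ⟨g', hg, h⟩ := h
  rwa [show g = g' from Units.ext (ext_mulVec fun x => (e x).trans (h x).symm)]

end Act

/-- `X` contains the map `x ↦ x + φ x • v`. -/
def Tv (X : Subgroup (GL ι F)) (v : ι → F) (φ : Dual F (ι → F)) : Prop :=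
  Act X fun x => x + φ x • v

theorem tv_zero (v : ι → F) : Tv X v 0 := act_id.congr fun x => by simp

theorem tv_zero' (φ : Dual F (ι → F)) : Tv X 0 φ := act_id.congr fun x => by simp

theorem tv_smul {v : ι → F} {φ : Dual F (ι → F)} {c : F} : Tv X (c • v) φ ↔ Tv X v (c • φ) := by
  unfold Tv
  simp only [smul_smul, LinearMap.smul_apply, smul_eq_mul, mul_comm]

theorem tv_of_diff {S T : (ι → F) → ι → F} (hS : Act X S) (hT : Act X T) {a : ι → F} (ha : T a = a)
    {χ : Dual F (ι → F)} (h : ∀ x, S x = T x + χ x • a) : Tv X a χ := by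
  obtain ⟨g, hg, h1⟩ := hT
  refine ((act_self (X.inv_mem hg)).mul hS).congr fun x => ?_
  have h2 : S x = (g : Matrix ι ι F) *ᵥ (x + χ x • a) := by rw [mulVec_add, mulVec_smul, h1, h1, ha, h]
  rw [h2, inv_mulVec_mulVec]

namespace Tv

variable {u v w : ι → F} {φ ψ : Dual F (ι → F)}

theorem mono {Y : Subgroup (GL ι F)} (h : Tv X v φ) (e : X ≤ Y) : Tv Y v φ := Act.mono h e

theorem add_right (h : Tv X v φ) (h' : Tv X v ψ) (h0 : φ v = 0) : Tv X v (φ + ψ) :=
  (Act.mul h h').congr fun x => by simp [h0]; module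

theorem add_left (h : Tv X v φ) (h' : Tv X w φ) (h0 : φ w = 0) : Tv X (v + w) φ :=
  (Act.mul h h').congr fun x => by simp [h0]; module

theorem neg_right (h : Tv X v φ) (h0 : φ v = 0) : Tv X v (-φ) :=
  Act.inv h fun x => by simp [h0]

theorem neg_left (h : Tv X v φ) (h0 : φ v = 0) : Tv X (-v) φ :=
  Act.inv h fun x => by simp [h0]

theorem sub_right (h : Tv X v φ) (h' : Tv X v ψ) (h0 : φ v = 0) (h1 : ψ v = 0) : Tv X v (φ - ψ) :=
  sub_eq_add_neg φ ψ ▸ h.add_right (h'.neg_right h1) h0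

theorem sub_left (h : Tv X v φ) (h' : Tv X w φ) (h0 : φ w = 0) : Tv X (v - w) φ :=
  sub_eq_add_neg v w ▸ h.add_left (h'.neg_left h0) (by simp [h0])

theorem conj (h : Tv X v φ) {S : (ι → F) → ι → F} (hS : Act X S) (e : ∀ x, ψ (S x) = φ x) :
    Tv X (S v) ψ := by
  obtain ⟨g, hg, h1⟩ := hS
  refine (((act_self hg).mul h).mul (act_self (X.inv_mem hg))).congr fun x => ?_
  rw [mulVec_add, mulVec_smul, mulVec_inv_mulVec, ← e, ← h1, mulVec_inv_mulVec, h1]

theorem conj' (h : Tv X v φ) {g : GL ι F} (hg : g ∈ X) :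
    Tv X ((g : Matrix ι ι F) *ᵥ v) (φ ∘ₗ ((g⁻¹ : GL ι F) : Matrix ι ι F).mulVecLin) :=
  h.conj (act_self hg) fun x => by simp only [LinearMap.comp_apply, mulVecLin_apply, inv_mulVec_mulVec]

/-- The commutator relation. -/
theorem comm (h : Tv X v φ) (h' : Tv X u ψ) (h1 : ψ u = 0) (h2 : ψ v = 0) :
    Tv X v (φ u • ψ) := by
  have h3 := (h'.conj (ψ := ψ) h fun x => by simp [h2]).sub_left h' h1
  rwa [add_sub_cancel_left, tv_smul] at h3

end Tv

theorem tv_SL {v : ι → F} {φ : Dual F (ι → F)} (h : φ v = 0) : Tv (specialLinear ι F) v φ := by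
  have h1 : ∀ x, φ x = (fun i => φ (Pi.single i 1)) ⬝ᵥ x := fun x => by
    rw [LinearMap.pi_apply_eq_sum_univ]
    simp only [dotProduct, smul_eq_mul, mul_comm]
    refine Finset.sum_congr rfl fun i _ => ?_
    congr 2; ext j; simp [Pi.single_apply, eq_comm]
  have h2 : (1 + vecMulVec v fun i => φ (Pi.single i 1)).det = 1 := by
    rw [vecMulVec_eq Unit, det_one_add_replicateCol_mul_replicateRow, ← h1, h, add_zero]
  obtain ⟨g, hg⟩ := exists_gl' (by rw [h2]; exact one_ne_zero :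
    (1 + vecMulVec v fun i => φ (Pi.single i 1)).det ≠ 0)
  refine ⟨g, mem_SL.2 (hg ▸ h2), fun x => ?_⟩
  rw [hg, add_mulVec, one_mulVec, vecMulVec_mulVec, ← h1]; simp

theorem SL_le_of_tv (h : ∀ i j, i ≠ j → ∀ c : F, Tv X (Pi.single i c) (LinearMap.proj j)) :
    specialLinear ι F ≤ X := by
  intro g hg
  have := CA.SLnGen.eq_top_of_transvection (H := X.comap Matrix.SpecialLinearGroup.toGL)
    fun i j hij c => (h i j hij c).mem fun x => by
      change (1 + single i j c) *ᵥ x = _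
      ext l
      simp [add_mulVec, single_mulVec, Function.update_apply, Pi.single_apply, mul_comm]
  have h2 : (⟨g, mem_SL.1 hg⟩ : SpecialLinearGroup ι F) ∈
    X.comap Matrix.SpecialLinearGroup.toGL := this ▸ trivial
  have h3 : Matrix.SpecialLinearGroup.toGL (⟨g, mem_SL.1 hg⟩ : SpecialLinearGroup ι F) = g :=
    Units.ext rfl
  exact h3 ▸ Subgroup.mem_comap.1 h2

theorem exists_dual {W : Submodule F (ι → F)} {v : ι → F} (h : v ∉ W) (c : F) :
    ∃ φ : Dual F (ι → F), (∀ w ∈ W, φ w = 0) ∧ φ v = c := by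
  obtain ⟨φ, h1, h2⟩ := W.exists_dual_map_eq_bot_of_notMem h inferInstance
  refine ⟨(c / φ v) • φ, fun w hw => ?_, by simp [h1]⟩
  have : φ w = 0 := (Submodule.mem_bot F).1 (h2 ▸ Submodule.mem_map_of_mem hw)
  simp [this]

/-- The centres of full groups of transvections. -/
def full (X : Subgroup (GL ι F)) : Submodule F (ι → F) where
  carrier := {v | ∀ φ : Dual F (ι → F), φ v = 0 → Tv X v φ}
  zero_mem' φ _ := tv_zero' φ
  smul_mem' c v hv φ h := tv_smul.2 (hv _ (by simpa using h))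
  add_mem' {v w} hv hw φ h := by
    by_cases h1 : v ∈ F ∙ w
    · obtain ⟨c, rfl⟩ := Submodule.mem_span_singleton.1 h1
      rw [show c • w + w = (c + 1) • w by module] at h ⊢
      exact tv_smul.2 (hw _ (by simpa using h))
    obtain ⟨ψ, h2, h3⟩ := exists_dual h1 1
    have h4 := h2 w (Submodule.mem_span_singleton_self w)
    have := (hv (φ + φ w • ψ) (by simpa [h3] using h)).conj (ψ := φ) (hw ψ h4)
      fun x => by simp [mul_comm]
    simpa [h3] using this

theorem mem_full {v : ι → F} : v ∈ full X ↔ ∀ φ : Dual F (ι → F), φ v = 0 → Tv X v φ := Iff.rfl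

theorem full_inv {g : GL ι F} (hg : g ∈ X) {v : ι → F} (hv : v ∈ full X) :
    (g : Matrix ι ι F) *ᵥ v ∈ full X := fun φ h =>
  (hv (φ ∘ₗ (g : Matrix ι ι F).mulVecLin) h).conj (act_self hg) fun _ => rfl

theorem SL_le_of_full_top (h : full X = ⊤) : specialLinear ι F ≤ X :=
  SL_le_of_tv fun i j hij c => (h ▸ Submodule.mem_top : Pi.single i c ∈ full X) _ (by simp [hij.symm])

theorem SL_le_of_full (hI : Irr X) {v : ι → F} (hv0 : v ≠ 0) (hv : v ∈ full X) :
    specialLinear ι F ≤ X :=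
  SL_le_of_full_top ((hI _ fun _ hg _ => full_inv hg).resolve_left fun h => hv0 (by simpa [h] using hv))

theorem tv_stab {W : Submodule F (ι → F)} {v : ι → F} {φ : Dual F (ι → F)} (h : φ v = 0)
    (hW : ∀ w ∈ W, φ w • v ∈ W) : Tv (subspaceStabilizer W ⊓ specialLinear ι F) v φ := by
  obtain ⟨g, hg, h1⟩ := tv_SL h
  refine ⟨g, ⟨(mem_subspaceStabilizer_iff _ _).2 fun x => ?_, hg⟩, h1⟩
  rw [h1]
  refine ⟨fun hx => W.add_mem hx (hW x hx), fun hx => ?_⟩
  have := W.sub_mem hx (hW _ hx)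
  simpa [h] using this

theorem max_stab {W : Submodule F (ι → F)} (h0 : W ≠ ⊥) (h1 : W ≠ ⊤) :
    IsMaximalIn (specialLinear ι F) (subspaceStabilizer W ⊓ specialLinear ι F) := by
  refine isMaximalIn_of (fun hle => ?_) fun X hX _ => ?_
  · obtain ⟨w, hw, hw0⟩ := W.exists_mem_ne_zero_of_ne_bot h0
    obtain ⟨v, hv⟩ : ∃ v, v ∉ W := by simpa [Submodule.eq_top_iff'] using h1
    obtain ⟨φ, a1, a2⟩ := exists_dual (W := F ∙ v) (v := w) (fun h => by
      obtain ⟨c, rfl⟩ := Submodule.mem_span_singleton.1 h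
      exact hv ((W.smul_mem_iff (by rintro rfl; simp at hw0)).1 hw)) 1
    obtain ⟨g, hg, a3⟩ := tv_SL (a1 v (Submodule.mem_span_singleton_self v))
    have := mulVec_mem_of_stab (hle hg) hw
    simp only [a3, a2, one_smul] at this
    exact hv ((W.add_mem_iff_right hw).1 this)
  have h2 : W ≤ full X := fun w hw φ h => (tv_stab h fun _ _ => W.smul_mem _ hw).mono hX
  rcases h2.eq_or_lt with h3 | h3
  · exact .inl (le_subspaceStabilizer fun g hg v hv => h3 ▸ full_inv hg (h3 ▸ hv))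
  obtain ⟨v, hv, hvW⟩ := SetLike.exists_of_lt h3
  refine .inr (SL_le_of_full_top (eq_top_iff.2 fun u _ => ?_))
  by_cases h4 : v ∈ W ⊔ F ∙ u
  · obtain ⟨w, hw, _, hz, rfl⟩ := Submodule.mem_sup.1 h4
    obtain ⟨c, rfl⟩ := Submodule.mem_span_singleton.1 hz
    exact ((full X).smul_mem_iff (by rintro rfl; simp [hw] at hvW)).1
      (((full X).add_mem_iff_right (h2 hw)).1 hv)
  obtain ⟨φ, a1, a2⟩ := exists_dual h4 1
  obtain ⟨g, hg, a3⟩ := tv_stab (W := W) (a1 u (Submodule.mem_sup_right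
    (Submodule.mem_span_singleton_self u))) fun w hw => by simp [a1 w (Submodule.mem_sup_left hw)]
  have := full_inv (hX hg) hv
  simp only [a3, a2, one_smul] at this
  exact ((full X).add_mem_iff_right hv).1 this

/-! ### Overgroups of the classical groups -/

/-- Every subspace of dimension at least three contains singular vectors. -/
def Sing {V : Type*} [AddCommGroup V] [Module F V] (φ : Form k V) : Prop :=
  ∀ W : Submodule F V, 3 ≤ finrank F W → ∃ v ∈ W, v ≠ 0 ∧ φ.Q v = 0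

section Sing

variable {V : Type*} [AddCommGroup V] [Module F V]

theorem sing_orth [Finite F] (φ : Form (Kind.orth F) V) : Sing φ :=
  fun _ h => φ.exists_singular_of_three_le h

theorem sing_herm [Finite F] {s : F →+* F} {hs : ∀ a, s (s a) = a} (hne : s ≠ RingHom.id F)
    (φ : Form (Kind.herm s hs) V) : Sing φ := fun _ h => φ.herm_exists_singular hne (by omega)

theorem sing_symp (φ : Form (Kind.symp F) V) : Sing φ := fun W h => by
  obtain ⟨v, hv, h0⟩ := W.exists_mem_ne_zero_of_ne_bot (by rintro rfl; simp at h)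
  exact ⟨v, hv, h0, φ.symp_Q v⟩

variable [FiniteDimensional F V]

theorem Sing.exists_notMem {φ : Form k V} (hs : Sing φ) (W U : Submodule F V)
    (h : finrank F U + 3 ≤ finrank F W) : ∃ x ∈ W, x ∉ U ∧ φ.Q x = 0 := by
  obtain ⟨C, hC⟩ := U.exists_isCompl
  have h1 := Submodule.finrank_add_eq_of_isCompl hC
  have h2 := Submodule.finrank_sup_add_finrank_inf_eq W C
  have h3 := Submodule.finrank_le (W ⊔ C)
  obtain ⟨x, hx, h0, hQ⟩ := hs (W ⊓ C) (by omega)
  exact ⟨x, hx.1, fun h => h0 (Submodule.disjoint_def.1 hC.disjoint x h hx.2), hQ⟩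

theorem Sing.exists_perp {φ : Form k V} (hs : Sing φ) (hφ : φ.Nondeg) (U : Submodule F V)
    (h : 2 * finrank F U + 3 ≤ finrank F V) : ∃ x ∈ φ.perp U, x ∉ U ∧ φ.Q x = 0 :=
  hs.exists_notMem _ _ (by have := hφ.finrank_perp U; omega)

theorem Sing.exists_hyp {φ : Form k V} (hs : Sing φ) (hφ : φ.Nondeg) (U : Submodule F V)
    (h : 2 * finrank F U + 3 ≤ finrank F V) : ∃ x ∈ φ.perp U, ∃ y ∈ φ.perp U, φ.IsHyp x y := by
  obtain ⟨x, h1, h2, h3⟩ := hs.exists_perp hφ U h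
  obtain ⟨y, h4, h5, h6⟩ := hφ.exists_partner_perp h3 h2 h1
  exact ⟨x, h1, y, h4, h3, h5, h6⟩

omit [FiniteDimensional F V] in
theorem finrank_span_le (s : Finset V) : finrank F (Submodule.span F (s : Set V)) ≤ s.card :=
  finrank_span_finset_le_card s

omit [FiniteDimensional F V] in
theorem finrank_pair_le (a b : V) : finrank F (Submodule.span F {a, b}) ≤ 2 := by
  classical
  have := (finrank_span_le (F := F) {a, b}).trans Finset.card_le_two
  rwa [Finset.coe_insert, Finset.coe_singleton] at this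

omit [FiniteDimensional F V] in
theorem finrank_three_le (a b c : V) : finrank F (Submodule.span F {a, b, c}) ≤ 3 := by
  classical
  have := (finrank_span_le (F := F) {a, b, c}).trans Finset.card_le_three
  rwa [Finset.coe_insert, Finset.coe_insert, Finset.coe_singleton] at this

omit [FiniteDimensional F V] in
theorem notMem_pair {a w u : V} {U : Submodule F V} (ha : a ∉ F ∙ w) (hu : u ∉ U) (haU : a ∈ U)
    (hwU : w ∈ U) : a ∉ Submodule.span F {u, w} := fun h => by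
  obtain ⟨s, t, rfl⟩ := Submodule.mem_span_pair.1 h
  by_cases hs : s = 0
  · exact ha (by rw [hs, zero_smul, zero_add]; exact Submodule.mem_span_singleton.2 ⟨t, rfl⟩)
  · exact hu ((U.smul_mem_iff hs).1 ((U.add_mem_iff_left (U.smul_mem t hwU)).1 haU))

end Sing

section Over

variable {φ : Form k (ι → F)}

theorem act_isom (e : φ.Isom) {G : Subgroup φ.Isom} (he : e ∈ G) :
    Act (G.map (toGL φ)) (e : (ι → F) ≃ₗ[F] (ι → F)) := ⟨_, ⟨e, he, rfl⟩, toGL_mulVec φ e⟩

theorem act_eich {a b : ι → F} {c : F} (h : φ.EichlerCond a b c) :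
    Act (EG φ) (φ.eichlerL a b c) := act_isom _ (φ.eichler_mem_Eich a b c h)

theorem tv_EG {x : ι → F} (hx : φ.Q x = 0) {c : F} (hc : k.π c = 0) : Tv (EG φ) x (c • φ.B x) := by
  have h1 : k.π (-(k.ε * c)) = 0 := by rcases k.ε_eq with h | h <;> simp [h, hc]
  refine (act_eich (φ.eichlerCond_zero hx h1)).congr fun v => ?_
  rw [Form.eichlerL_apply]
  rcases k.ε_eq with h | h <;> simp [h]

theorem tv_isom {v a : ι → F} (h : Tv X v (φ.B a)) {S : (ι → F) → ι → F} (hS : Act X S)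
    (e : ∀ x y, φ.B (S x) (S y) = φ.B x y) : Tv X (S v) (φ.B (S a)) := h.conj hS fun _ => e _ _

theorem eichlerL_B {a b : ι → F} {c : F} (h : φ.EichlerCond a b c) (x y : ι → F) :
    φ.B (φ.eichlerL a b c x) (φ.eichlerL a b c y) = φ.B x y := (φ.eichler a b c h).2.1 x y

theorem B_add (φ : Form k (ι → F)) (a b : ι → F) : φ.B (a + b) = φ.B a + φ.B b :=
  LinearMap.ext fun x => by simp
theorem B_sub (φ : Form k (ι → F)) (a b : ι → F) : φ.B (a - b) = φ.B a - φ.B b :=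
  LinearMap.ext fun x => by simp
theorem B_smul (φ : Form k (ι → F)) (c : F) (a : ι → F) : φ.B (c • a) = k.σ c • φ.B a :=
  LinearMap.ext fun x => by simp

variable (hφ : φ.Nondeg) (hX : EG φ ≤ X)
include hφ hX

theorem tv_step {w a u : ι → F} (h : Tv X w (φ.B a)) (haw : φ.B a w = 0) (hu : φ.Q u = 0)
    (huw : φ.B u w = 0) (hua : φ.B u a = 0) (ha : a ∉ Submodule.span F {u, w}) :
    Tv X w (φ.B u) := by
  obtain ⟨v, hv, h1⟩ := hφ.exists_perp_B_eq ha (-k.ε)
  rw [φ.mem_perp_span_pair] at hv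
  obtain ⟨c, hc⟩ := φ.exists_eichlerCond hu hv.1
  have h2 := tv_isom h ((act_eich hc).mono hX) (eichlerL_B hc)
  have h3 : φ.eichlerL u v c w = w := by simp [Form.eichlerL_apply, huw, φ.eq_zero_symm hv.2]
  have h4 : φ.eichlerL u v c a = a + u := by simp [Form.eichlerL_apply, hua, h1, k.εε]
  rw [h3, h4, B_add] at h2
  simpa using h2.sub_right h (by simp [haw, huw]) haw

variable (hs : Sing φ) (hn : 9 ≤ Fintype.card ι)
include hs hn

theorem full_of_tv {w a : ι → F} (h : Tv X w (φ.B a)) (haw : φ.B a w = 0) (ha : a ∉ F ∙ w) :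
    w ∈ full X := by
  have h1 : ∀ u, φ.Q u = 0 → φ.B u w = 0 → Tv X w (φ.B u) := fun u hu huw => by
    obtain ⟨u₀, a1, a2, a3⟩ := hs.exists_perp hφ (Submodule.span F {w, a, u})
      (by have := finrank_three_le (F := F) w a u; rw [finrank_fun]; omega)
    rw [φ.mem_perp_span] at a1
    have b1 := φ.eq_zero_symm (a1 w (by simp))
    refine tv_step hφ hX (tv_step hφ hX h haw a3 b1 (φ.eq_zero_symm (a1 a (by simp)))
      (notMem_pair ha a2 (Submodule.subset_span (by simp)) (Submodule.subset_span (by simp))))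
      b1 hu huw (a1 u (by simp)) fun h => a2 (Submodule.span_mono (by simp [Set.insert_subset_iff]) h)
  intro ψ hψ
  obtain ⟨b, rfl⟩ := hφ.exists_B_eq ψ
  obtain ⟨x, hx, y, hy, hxy⟩ := hs.exists_hyp hφ (Submodule.span F {w, b})
    (by have := finrank_pair_le (F := F) w b; rw [finrank_fun]; omega)
  rw [φ.mem_perp_span_pair] at hx hy
  obtain ⟨c, hc⟩ := φ.Q_mem b
  have a1 := φ.eq_zero_symm hx.1
  have a2 := φ.eq_zero_symm hy.1
  have a3 := h1 _ (hxy.Q_add_sub (φ.eq_zero_symm hx.2) (φ.eq_zero_symm hy.2) hc) (by simp [a1, a2, hψ])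
  have a4 := (a3.add_right (h1 _ (φ.Q_smul_of_Q hxy.Q_x (k.ε * c)) (by simp [a1]))
    (by simp [a1, a2, hψ])).sub_right (h1 y hxy.Q_y a2) (by simp [a1, a2, hψ]) a2
  rwa [← B_add, ← B_sub, sub_add_cancel, add_sub_cancel_left] at a4

theorem SL_le_of_tv_ne {w a : ι → F} (h : Tv X w (φ.B a)) (haw : φ.B a w = 0) (hw : w ≠ 0)
    (ha : a ∉ F ∙ w) : specialLinear ι F ≤ X := by
  obtain ⟨x, -, hx0, hx⟩ := hs ⊤ (by rw [finrank_top, finrank_fun]; omega)
  exact SL_le_of_full ((irr_EG hφ (by omega) hx hx0).mono hX) hw (full_of_tv hφ hX hs hn h haw ha)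

theorem SL_le_of_tv_self {w : ι → F} {c : F} (h : Tv X w (c • φ.B w)) (hw : φ.Q w = 0)
    (hw0 : w ≠ 0) (hc : k.ε * c + k.σ c ≠ 0) : specialLinear ι F ≤ X := by
  obtain ⟨y, hy⟩ := hφ.exists_isHyp hw hw0
  have hy0 : y ≠ 0 := by rintro rfl; simpa using hy.B_xy
  obtain ⟨g, hg, a, ha, h1⟩ := hφ.exists_Eich_smul (.inl (by rw [finrank_fun]; omega)) hw hw0 hy.Q_y hy0
  have h2 := h.conj (ψ := c • φ.B ((g : (ι → F) ≃ₗ[F] (ι → F)) w)) ((act_isom g hg).mono hX)
    fun x => by simp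
  rw [h1, tv_smul, B_smul, smul_smul, smul_smul] at h2
  set d := a * c * k.σ a with hd
  have hd' : k.ε * d + k.σ d ≠ 0 := by
    rw [show k.ε * d + k.σ d = a * k.σ a * (k.ε * c + k.σ c) by simp [hd, k.σσ]; ring]
    exact mul_ne_zero (mul_ne_zero ha (k.σ_eq_zero.not.2 ha)) hc
  have hc0 : c ≠ 0 := by rintro rfl; simp at hc
  have h3 := h.conj (ψ := φ.B (k.σ c • (w - k.σ d • y))) h2 fun x => by
    simp [k.σσ, hy.B_xy, hy.B_yy]
  have h4 : ∀ s t : F, s • w + t • y = 0 → s = 0 ∧ t = 0 := fun s t h => by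
    have a1 := congrArg (φ.B w) h
    have a2 := congrArg (φ.B y) h
    simp [hy.B_xy, hy.B_yy, hy.B_xx, hy.B_yx, k.ε_ne_zero] at a1 a2
    exact ⟨a2, a1⟩
  refine SL_le_of_tv_ne hφ hX hs hn h3 ?_ (fun h => ?_) fun h => ?_
  · simp [k.σσ, hy.B_xy, hy.B_yy, hy.B_xx, hy.B_yx]
  · exact one_ne_zero (h4 1 _ (by rwa [one_smul])).1
  · obtain ⟨s, hs⟩ := Submodule.mem_span_singleton.1 h
    simp only [LinearMap.smul_apply, hy.B_yx, smul_eq_mul] at hs
    obtain ⟨a1, a2⟩ := h4 (s - k.σ c) (s * (d * k.ε) + k.σ c * k.σ d) (by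
      rw [← sub_eq_zero.2 hs]; module)
    exact mul_ne_zero (k.σ_eq_zero.not.2 hc0) hd' (by linear_combination a2 - d * k.ε * a1)

theorem SL_le_of_not_isom {w : ι → F} {ψ : Dual F (ι → F)} (h : Tv X w ψ) (h0 : ψ w = 0)
    (h1 : ¬ ∀ x y, φ.B (x + ψ x • w) (y + ψ y • w) = φ.B x y) : specialLinear ι F ≤ X := by
  obtain ⟨a, rfl⟩ := hφ.exists_B_eq ψ
  have hw0 : w ≠ 0 := by rintro rfl; simp at h1
  by_cases ha : a ∈ F ∙ w
  swap
  · exact SL_le_of_tv_ne hφ hX hs hn h h0 hw0 ha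
  obtain ⟨d, rfl⟩ := Submodule.mem_span_singleton.1 ha
  have hd : d ≠ 0 := by rintro rfl; simp at h1
  have h2 : φ.B w w = 0 := by simpa [hd] using h0
  have h3 : k.ε * k.σ d + d ≠ 0 := fun h => h1 fun x y => by
    simp only [map_add, map_smul, Form.B_add_left, Form.B_smul_left, h2, smul_eq_mul, map_mul, k.σσ]
    rw [φ.symm w x]
    linear_combination (k.σ (φ.B w x) * φ.B w y) * h
  rw [B_smul] at h
  refine SL_le_of_tv_self hφ hX hs hn h ?_ hw0 (by rwa [k.σσ])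
  refine (mul_eq_zero.1 ((φ.B_self w).symm.trans h2)).resolve_left fun h4 => h3 ?_
  have := k.δπ d
  rw [h4] at this
  linear_combination -this

/-- The subgroup generated by the transvections of `X`. -/
def tvSet (X : Subgroup (GL ι F)) : Set (GL ι F) :=
  {g | g ∈ X ∧ ∃ (w : ι → F) (ψ : Dual F (ι → F)), ψ w = 0 ∧ ∀ x, (g : Matrix ι ι F) *ᵥ x = x + ψ x • w}

omit hφ hX hs hn in
theorem nrm_tvSet : Nrm X (Subgroup.closure (tvSet X)) := nrm_closure (by
  rintro g hg a ⟨ha, w, ψ, h0, h1⟩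
  refine Subgroup.subset_closure ⟨X.mul_mem (X.mul_mem hg ha) (X.inv_mem hg), (g : Matrix ι ι F) *ᵥ w,
    ψ ∘ₗ ((g⁻¹ : GL ι F) : Matrix ι ι F).mulVecLin, by simpa using h0, fun x => ?_⟩
  simp only [Units.val_mul, ← mulVec_mulVec, h1, mulVec_add, mulVec_smul, mulVec_inv_mulVec]
  rfl)

theorem over_of_gen [Finite F] (hgen : ∀ G : Subgroup φ.Isom,
    (∀ x c h, φ.eichler x 0 c h ∈ G) → φ.Eich ≤ G) :
    X ≤ similarityGroup (fn φ) ∨ specialLinear ι F ≤ X := by
  have : Nonempty ι := Fintype.card_pos_iff.1 (by omega)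
  refine or_iff_not_imp_right.2 fun h => ?_
  obtain ⟨x, -, hx0, hx⟩ := hs ⊤ (by rw [finrank_top, finrank_fun]; omega)
  have h1 : EG φ ≤ Subgroup.closure (tvSet X) := Subgroup.map_le_iff_le_comap.2 (hgen _ fun y c hc =>
    Subgroup.subset_closure ⟨hX ⟨_, φ.eichler_mem_Eich _ _ _ hc, rfl⟩, y, -(k.ε * c) • φ.B y,
      by simp [φ.B_self_of_Q hc.Q_p], fun v => by
        rw [toGL_mulVec, φ.eichler_zero_apply]; simp [sub_eq_add_neg]⟩)
  refine (sf_fn hφ).le_sim_of_nrm (top_unique (alg_EG hφ (by omega) hx hx0 ▸ alg_mono h1))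
    nrm_tvSet (fixes_closure ?_)
  rintro a ⟨ha, w, ψ, h0, h2⟩ u v
  by_contra h3
  refine h (SL_le_of_not_isom hφ hX hs hn ⟨a, ha, h2⟩ h0 fun h4 => h3 ?_)
  rw [h2, h2]; exact h4 v u

end Over

theorem over_symp [Finite F] {φ : Form (Kind.symp F) (ι → F)} (hφ : φ.Nondeg) (hX : EG φ ≤ X)
    (hn : 9 ≤ Fintype.card ι) : X ≤ similarityGroup (fn φ) ∨ specialLinear ι F ≤ X :=
  over_of_gen hφ hX (sing_symp φ) hn fun _ h => hφ.symp_eq_top_of_Tgrp h ▸ le_top

theorem over_herm [Fintype F] {q : ℕ} (hF : Fintype.card F = q ^ 2)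
    {φ : Form (hermKind hF) (ι → F)} (hφ : φ.Nondeg) (hX : EG φ ≤ X)
    (hn : 9 ≤ Fintype.card ι) : X ≤ similarityGroup (fn φ) ∨ specialLinear ι F ≤ X :=
  over_of_gen hφ hX (sing_herm (conj_ne_id hF) φ) hn fun _ h => φ.Eich_le_SIsom.trans
    (herm_SIsom_le_of_Tgrp hF hφ (by rw [finrank_fun]; omega) (by rw [finrank_fun]; omega) h)

theorem EG_le_SL (φ : Form k (ι → F)) : EG φ ≤ specialLinear ι F := by
  rintro _ ⟨e, he, rfl⟩
  exact mem_SL.2 (by rw [det_toGL, Form.mem_SIsom.1 (φ.Eich_le_SIsom he)]; rfl)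

section Orth

variable {φ φ' : Form (Kind.orth F) (ι → F)}

theorem orth_eichlerCond {a b : ι → F} (ha : φ.Q a = 0) (hb : φ.B a b = 0) :
    φ.EichlerCond a b (φ.Q b) := ⟨ha, hb, rfl⟩

theorem two_forms_aux [Finite F] (h2 : (2 : F) ≠ 0) (hφ : φ.Nondeg) (hφ' : φ'.Nondeg)
    (hX : EG φ ≤ X) (hX' : EG φ' ≤ X) (hn : 9 ≤ Fintype.card ι) (h : ¬ specialLinear ι F ≤ X)
    {a : ι → F} (ha0 : a ≠ 0) (ha : φ.Q a = 0) (ha' : φ'.Q a = 0) :
    ∃ l : F, ∀ b, φ.B a b = 0 → φ'.B b = l • φ.B b := by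
  have haa := φ.B_self_of_Q ha
  have haa' := φ'.B_self_of_Q ha'
  have key : ∀ χ : Dual F (ι → F), Tv X a χ → χ a = 0 → χ = 0 := fun χ h1 h3 => by
    by_contra h4
    refine h (SL_le_of_not_isom hφ hX (sing_orth φ) hn h1 h3 fun h5 => h4 ?_)
    obtain ⟨y, hy⟩ := hφ.exists_isHyp ha ha0
    have h6 := h5 y y
    simp only [map_add, map_smul, Form.B_add_left, Form.B_smul_left, haa, smul_eq_mul, hy.B_xy,
      hy.B_yx, Kind.orth_σ, Kind.orth_ε] at h6
    have h7 : χ y = 0 := (mul_eq_zero.1 (by linear_combination h6 : 2 * χ y = 0)).resolve_left h2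
    refine LinearMap.ext fun x => ?_
    have h8 := h5 x y
    simpa [h7, hy.B_xy] using h8
  by_cases h1 : φ'.B a ∈ F ∙ φ.B a
  · obtain ⟨l, hl⟩ := Submodule.mem_span_singleton.1 h1
    have hl' : ∀ x, φ'.B a x = l * φ.B a x := fun x => by rw [← hl]; rfl
    have h3 : ∀ b, φ.B a b = 0 → ∀ x, l * φ.B b x + l ^ 2 * φ.Q b * φ.B a x -
        (φ'.B b x + l * φ'.Q b * φ.B a x) = 0 := fun b hb x => by
      have := key (l • φ.B b + (l ^ 2 * φ.Q b) • φ.B a - (φ'.B b + (l * φ'.Q b) • φ.B a))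
        (tv_of_diff ((act_eich (orth_eichlerCond ha' (b := b) (by rw [hl', hb, mul_zero]))).mono hX')
          ((act_eich (orth_eichlerCond ha (b := l • b) (by simp [hb]))).mono hX)
          (by simp [Form.eichlerL_apply, haa, φ.eq_zero_symm hb]) fun x => by
            simp only [Form.eichlerL_apply, hl', φ.orth_Q_smul, Form.B_smul_left, Kind.orth_ε,
              Kind.orth_σ, LinearMap.sub_apply, LinearMap.add_apply, LinearMap.smul_apply, smul_eq_mul]
            module)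
        (by simp [haa, φ.eq_zero_symm hb, φ'.orth_symm a b, hl', hb])
      simpa using LinearMap.congr_fun this x
    refine ⟨l, fun b hb => LinearMap.ext fun x => ?_⟩
    have h4 := h3 b hb b
    rw [hb, φ.orth_B_self, φ'.orth_B_self] at h4
    have h5 : φ'.Q b = l * φ.Q b := mul_left_cancel₀ h2 (by linear_combination -h4)
    have h6 := h3 b hb x
    rw [h5] at h6
    simp only [LinearMap.smul_apply, smul_eq_mul]
    linear_combination -h6
  exfalso
  obtain ⟨a₁, ha₁⟩ := hφ'.exists_B_eq (φ.B a)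
  have h3 : a₁ ∉ F ∙ a := fun h => by
    obtain ⟨c, rfl⟩ := Submodule.mem_span_singleton.1 h
    rw [B_smul, Kind.orth_σ] at ha₁
    have hc : c ≠ 0 := by
      rintro rfl
      exact ha0 (hφ _ fun y => by rw [← ha₁]; simp)
    exact h1 (Submodule.mem_span_singleton.2 ⟨c⁻¹, by rw [← ha₁, inv_smul_smul₀ hc]⟩)
  obtain ⟨b', hb', h4⟩ := hφ'.exists_perp_B_eq' h3 1
  rw [φ'.mem_perp_span_singleton] at hb'
  rw [ha₁] at h4
  obtain ⟨b, hb, h5, -⟩ := (sing_orth φ').exists_perp hφ' (Submodule.span F {a, a₁})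
    (by have := finrank_pair_le (F := F) a a₁; rw [finrank_fun]; omega)
  rw [φ'.mem_perp_span_pair, ha₁] at hb
  have c1 := orth_eichlerCond ha hb.2
  have e1 := (act_eich c1).mono hX
  have e2 := (act_eich c1.neg).mono hX
  have e3 := (act_eich (orth_eichlerCond ha' hb')).mono hX'
  have e4 := (act_eich (orth_eichlerCond ha' (b := b + b') (by simp [hb.1, hb']))).mono hX'
  have h6 := key (φ'.B b + φ'.B b' b • φ.B a + (φ'.Q (b + b') - φ'.Q b' - φ.B b b' - φ.Q b) • φ'.B a)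
    (tv_of_diff ((e1.mul e3).mul e2) e4 (by
      simp [Form.eichlerL_apply, haa', φ'.eq_zero_symm hb.1, φ'.eq_zero_symm hb']) fun x => by
      simp only [Form.eichlerL_apply, map_add, map_sub, map_smul, map_neg, haa, haa', hb.1, hb.2, h4,
        φ'.eq_zero_symm hb', φ.eq_zero_symm hb.2, φ.orth_B_self b, Form.B_add_left, Form.B_neg_left,
        Kind.orth_ε, Kind.orth_σ, LinearMap.add_apply, LinearMap.smul_apply, smul_eq_mul]
      module) (by simp [haa, haa', φ'.eq_zero_symm hb.1])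
  rw [← ha₁] at h6
  refine h5 (Submodule.mem_span_pair.2 ⟨-(φ'.Q (b + b') - φ'.Q b' - φ'.B a₁ 0 - φ.B b b' - φ.Q b),
    -φ'.B b' b, hφ'.eq_of_B_eq fun y => ?_⟩)
  have := LinearMap.congr_fun h6 y
  simp only [LinearMap.add_apply, LinearMap.smul_apply, smul_eq_mul, LinearMap.zero_apply] at this
  simp only [Form.B_add_left, Form.B_smul_left, Kind.orth_σ, map_zero]
  linear_combination -this

theorem over_orth [Finite F] (h2 : (2 : F) ≠ 0) (hφ : φ.Nondeg) (hX : EG φ ≤ X)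
    (hn : 9 ≤ Fintype.card ι) : X ≤ similarityGroup (fn φ) ∨ specialLinear ι F ≤ X := by
  refine or_iff_not_imp_right.2 fun h g hg => ?_
  let φ' := φ.comap (glEquiv g).toLinearMap
  have hφ' : φ'.Nondeg := hφ.comap_equiv _
  have hB : ∀ x y, φ'.B x y = φ.B ((g : Matrix ι ι F) *ᵥ x) ((g : Matrix ι ι F) *ᵥ y) := fun _ _ => rfl
  have hX' : EG φ' ≤ X := Subgroup.map_le_iff_le_comap.2 (φ'.Eich_le fun x w c hc => by
    have h1 : φ.EichlerCond ((g : Matrix ι ι F) *ᵥ x) ((g : Matrix ι ι F) *ᵥ w) c := ⟨hc.1, hc.2, hc.3⟩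
    refine (((act_self (X.inv_mem hg)).mul ((act_eich h1).mono hX)).mul (act_self hg)).mem fun v => ?_
    rw [toGL_mulVec, φ'.eichler_apply, Form.eichlerL_apply, hB, hB]
    simp only [mulVec_sub, mulVec_add, mulVec_smul, inv_mulVec_mulVec])
  obtain ⟨T, -, hT, hmax⟩ := φ.exists_maximal_ts φ.ts_bot
  have h4 : 4 ≤ finrank F T := by
    by_contra h4
    obtain ⟨x, a1, a2, a3⟩ := (sing_orth φ).exists_perp hφ T (by rw [finrank_fun]; omega)
    exact a2 (hT.mem_of_maximal hmax a1 a3)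
  obtain ⟨a, haT, ha0, ha⟩ := sing_orth φ' T (by omega)
  obtain ⟨a', haT', ha0', ha'⟩ := (sing_orth φ').exists_notMem T (F ∙ a)
    (by rw [finrank_span_singleton ha0]; omega)
  obtain ⟨l, hl⟩ := two_forms_aux h2 hφ hφ' hX hX' hn h ha0 (hT.Q_eq a haT) ha
  obtain ⟨l', hl'⟩ := two_forms_aux h2 hφ hφ' hX hX' hn h (by rintro rfl; simp at ha0')
    (hT.Q_eq a' haT') ha'
  obtain rfl : l = l' := by
    have := (hl a (hT.B_eq _ haT _ haT)).symm.trans (hl' a (hT.B_eq _ haT' _ haT))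
    exact smul_left_injective F (fun h0 : φ.B a = 0 => ha0 (hφ _ fun y => by rw [h0]; rfl)) this
  obtain ⟨y, hy, hy'⟩ := hφ.exists_perp_B_eq' (W := F ∙ a') (u := a) (fun h => by
    obtain ⟨c, rfl⟩ := Submodule.mem_span_singleton.1 h
    exact ha0' (Submodule.mem_span_singleton.2 ⟨c⁻¹, inv_smul_smul₀ (by rintro rfl; simp at ha0) _⟩)) 1
  have h5 : ∀ b, φ'.B b = l • φ.B b := fun b => by
    have := hl (b - φ.B a b • y) (by simp [hy'])
    rw [B_sub, B_sub, B_smul, B_smul, hl' y (φ.mem_perp_span_singleton.1 hy)] at this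
    rw [← sub_add_cancel (φ'.B b) ((Kind.orth F).σ (φ.B a b) • l • φ.B y), this]; module
  have h6 : l ≠ 0 := by rintro rfl; exact ha0 (hφ' _ fun y => by rw [h5]; simp)
  exact ⟨Units.mk0 l h6, fun u v => by rw [fn_apply, ← hB, h5]; rfl⟩

end Orth

end CA.MaxTv
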