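import Cfsg.Agent.Lib.Lin.NM7

/-! The extraspecial normaliser in `SU₃(5)` lies in `3·M₁₀`. -/

set_option autoImplicit false
set_option maxRecDepth 100000

namespace CA.NM

open Matrix Cfsg Cfsg.Geo CA.CForm CA.SmallF Module

/-- a code -/
def cd25 (x : F25) : ℕ := x.re.val + 5 * x.im.val

/-- the characteristic function of an orbit of `3·M₁₀` -/
def mask10 : ℕ := 0x1400000000000000000000000002000000020000000000005000000000000400000000000000100000000200000002000400000000000000000000000400000000000000020200004000000000000000000002000100000000000000000000000000000000000000000100040000000000000000000000000000002000000000042002000200000000000000000000000000000000000000000000000000000100000001000000000000000000000000000000000000000100010000000000000000000000000000000800000001000400010800000000000000000000000000000000000000000000000000000000000000000202000000080200000000008000000000001000000000000400080000000002000000000000000000000000000000080010000010008000001400000000000000000000000002000000000000000000080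00000000000000000000000000000000000000000004000000000000000000800000200000000000000000008000000000020000000000040000010000000004820000002000000000000020000000000000000000000000000000000000000000000002000000000000000000400000000020000000000000000000100000010000000000102000000000000002410000000000000000000000000800000000000000000400000000000000000000000000000004000000000000000000000000000000000000000400000000000800000004000000000000000000000000000400000000000000000000000000000000000000000800000000000000000000000000000000800000000000000800000000000000000000000000000000000000000000800400000000000100000000000000000000000100000000000000000000000000000000000000000000400000000000000000080000000000080000000000000000100000002000000100000000080000000000482000000010004010001000000000000000000000000000000000000000000100000000000000000000000000000108000000004000001000000000000000000000000000000000000000000000000040000000000000000000000040000004000002000000000000000000400000000000000000000000000000000000000000020000000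000000000040000000000000040000000020000000006400000000000000000000000008000000000000000000004000000000000000000000000008000000000000000000000000000000000000000000000008000000000008004000000000000000000000000010000000000000000000000000000000000000000000000800000000000000000000000010000000000000000000000004000000000000000000000000000000000000000800000004000000000000020000000000000200000000000800000400000000000000000080000000000000000000000000000000000000000200000000000000000001000000000000000001020000000000000c800000000000002000000800000000000000000000000000000000000000001080000000000000000000000000000080000000002000200800200000000000000000000000000000000000000000000002000400000000000000000002000000000200000000008000000000800000000000200000000000040002000000000202000000000000000000000400000000000000000000a000000400000000000000000420010004000000000000000000000000000000000000000400000000000000000000000000000020002000000004000000002000000000000000000000000000000000000000000000000000020002000108000000000000000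00000000000000000000000010000000000000000000000000000000800200000000000200200000000000000000000000000000000000000000000000000000000000000000000080010080000000001004000000000000001000000000000400000080000000000010000000000000000000000000001400010000000080001010000000000000000000000000400000000000000000010000000200000100000000000000000020000000000000000000000000000000000000400000000000000000010000000000000000000000080000020000000320000000000000000000000008000000000000000008000000000000000000000000000000000080000000000000000000000000000000000000000080000000000000080000080000000000000000000000000000000000000001400000000400001000040000000001000000000000400000040000000000000010000000000000000000000000001010000000080000080400080000000000000000000020200000000000000000000000000120000000000000008000000800000000000200000000008000200000000000000a0000000000000000000000000002000000000000010002000000100000000400000000000000000000000000000000000000000400000000000000000000000000000000004000000000000000004000000000000000000000000000000000000000000000100000100000000000000000000000000000000004820002410000000000000000482000000006400000000000000000c8000000000000000000000000000000000003200000000000000000000000000000000000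

/-- 45 points -/
abbrev pr10 (x y z : F25) : Prop :=
  Nat.testBit mask10 (cd25 x + 25 * cd25 y + 625 * cd25 z) = true

/-- the stabiliser of the 45 points -/
def M10 : Submonoid (Matrix (Fin 3) (Fin 3) F25) := presM fun v => pr10 (v 0) (v 1) (v 2)

/-- cube roots of unity -/
def w25 (i : Fin 3) : F25 := ![1, ⟨2, 2⟩, ⟨2, 3⟩] i

/-- the extraspecial group -/
def r27 (x : Fin 3 × Fin 3 × Fin 3) : Matrix (Fin 3) (Fin 3) F25 :=
  of fun a b => if b = a + x.2.2 then w25 (x.1 + x.2.1 * a) else 0

/-- two generators of the quaternion group -/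
def i8 : Matrix (Fin 3) (Fin 3) F25 :=
  !![⟨0, 2⟩, ⟨0, 2⟩, ⟨0, 2⟩; ⟨0, 2⟩, ⟨3, 4⟩, ⟨2, 4⟩; ⟨0, 2⟩, ⟨2, 4⟩, ⟨3, 4⟩]

/-- two generators of the quaternion group -/
def j8 : Matrix (Fin 3) (Fin 3) F25 :=
  !![⟨0, 2⟩, ⟨3, 4⟩, ⟨3, 4⟩; ⟨2, 4⟩, ⟨3, 4⟩, ⟨2, 4⟩; ⟨2, 4⟩, ⟨2, 4⟩, ⟨3, 4⟩]

/-- an involution -/
def t10 : Matrix (Fin 3) (Fin 3) F25 := !![1, 2, 4; 2, 1, 4; 4, 4, 2]

theorem x10_mem : r27 (0, 0, 1) ∈ M10 := mem3 (by decide +kernel)
theorem z10_mem : r27 (0, 1, 0) ∈ M10 := mem3 (by decide +kernel)
theorem i10_mem : i8 ∈ M10 := mem3 (by decide +kernel)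
theorem j10_mem : j8 ∈ M10 := mem3 (by decide +kernel)
theorem t10_mem : t10 ∈ M10 := mem3 (by decide +kernel)

theorem r27_mul : ∀ x y, r27 x * r27 y =
    r27 (x.1 + y.1 + x.2.2 * y.2.1, x.2.1 + y.2.1, x.2.2 + y.2.2) := by decide +kernel

theorem r27_inj : ∀ x y, r27 x = r27 y → x = y := by decide +kernel

theorem r27_uni (x : Fin 3 × Fin 3 × Fin 3) : Uni s25 1 (r27 x) :=
  uni3 (by revert x; decide +kernel) (by revert x; decide +kernel)

theorem r27_mem (x : Fin 3 × Fin 3 × Fin 3) : r27 x ∈ M10 := by
  have h1 : r27 (1, 0, 0) ∈ M10 := by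
    rw [show r27 (1, 0, 0) = r27 (0, 0, 1) * r27 (0, 1, 0) * (r27 (0, 0, 1) * r27 (0, 0, 1)) *
      (r27 (0, 1, 0) * r27 (0, 1, 0)) by decide +kernel]
    exact M10.mul_mem (M10.mul_mem (M10.mul_mem x10_mem z10_mem) (M10.mul_mem x10_mem x10_mem))
      (M10.mul_mem z10_mem z10_mem)
  rw [show r27 x = r27 (1, 0, 0) ^ x.1.val * r27 (0, 1, 0) ^ x.2.1.val * r27 (0, 0, 1) ^ x.2.2.val by
    revert x; decide +kernel]
  exact M10.mul_mem (M10.mul_mem (M10.pow_mem h1 _) (M10.pow_mem z10_mem _)) (M10.pow_mem x10_mem _)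

/-- the extraspecial group -/
def M27 : Submonoid (Matrix (Fin 3) (Fin 3) F25) where
  carrier := Set.range r27
  mul_mem' := by
    rintro _ _ ⟨x, rfl⟩ ⟨y, rfl⟩
    exact ⟨_, (r27_mul x y).symm⟩
  one_mem' := ⟨(0, 0, 0), by decide +kernel⟩

/-- the quaternion group -/
def q8 (k : Fin 8) : Matrix (Fin 3) (Fin 3) F25 := ![1, i8,
  !![⟨4, 0⟩, ⟨0, 0⟩, ⟨0, 0⟩; ⟨0, 0⟩, ⟨0, 0⟩, ⟨4, 0⟩; ⟨0, 0⟩, ⟨4, 0⟩, ⟨0, 0⟩],
  !![⟨0, 3⟩, ⟨0, 3⟩, ⟨0, 3⟩; ⟨0, 3⟩, ⟨3, 1⟩, ⟨2, 1⟩; ⟨0, 3⟩, ⟨2, 1⟩, ⟨3, 1⟩], j8,
  !![⟨0, 2⟩, ⟨2, 4⟩, ⟨2, 4⟩; ⟨3, 4⟩, ⟨3, 4⟩, ⟨2, 4⟩; ⟨3, 4⟩, ⟨2, 4⟩, ⟨3, 4⟩],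
  !![⟨0, 3⟩, ⟨2, 1⟩, ⟨2, 1⟩; ⟨3, 1⟩, ⟨3, 1⟩, ⟨2, 1⟩; ⟨3, 1⟩, ⟨2, 1⟩, ⟨3, 1⟩],
  !![⟨0, 3⟩, ⟨3, 1⟩, ⟨3, 1⟩; ⟨2, 1⟩, ⟨3, 1⟩, ⟨2, 1⟩; ⟨2, 1⟩, ⟨2, 1⟩, ⟨3, 1⟩]] k

theorem q8_uni (k : Fin 8) : Uni s25 1 (q8 k) :=
  uni3 (by revert k; decide +kernel) (by revert k; decide +kernel)

theorem q8_mem (k : Fin 8) : q8 k ∈ M10 := by
  rw [show q8 k = j8 ^ (k.val / 4) * i8 ^ (k.val % 4) by revert k; decide +kernel]
  exact M10.mul_mem (M10.pow_mem j10_mem _) (M10.pow_mem i10_mem _)

theorem q8_norm : ∀ k y, ∃ z, q8 k * r27 y = r27 z * q8 k := by decide +kernel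

theorem q8_trans : ∀ x : Fin 3 × Fin 3 × Fin 3, x.2 = (0, 0) ∨ ∃ k, ∃ s : Fin 3,
    r27 (0, 0, s) * q8 k * r27 x = r27 (0, 1, 0) * (r27 (0, 0, s) * q8 k) := by decide +kernel

theorem diag_mem : ∀ a : F25, a * s25 a = 1 → ∀ b : F25, b * s25 b = 1 → ∀ c : F25, a * b * c = 1 →
    ∀ y, diagonal ![a, b, c] * r27 (0, 0, 1) = r27 y * diagonal ![a, b, c] →
      ∃ z, diagonal ![a, b, c] = r27 z := by decide +kernel

theorem norm10 {A : Matrix (Fin 3) (Fin 3) F25} (hA : Uni s25 1 A)
    (h : ∀ x, ∃ y, A * r27 x = r27 y * A) : A ∈ M10 := by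
  have hu : ∀ {B : Matrix (Fin 3) (Fin 3) F25}, Uni s25 1 B → IsUnit B := fun hB =>
    (isUnit_iff_isUnit_det _).2 (by rw [hB.2]; exact isUnit_one)
  obtain ⟨x, hx⟩ := h (0, 1, 0)
  obtain h0 | ⟨k, s, hk⟩ := q8_trans x
  · exfalso
    have h1 : r27 x = w25 x.1 • 1 := by
      clear hx
      revert x
      decide +kernel
    rw [h1, smul_mul_assoc, one_mul, ← Matrix.mul_one A, Matrix.mul_assoc, ← mul_smul_comm,
      (hu hA).mul_right_inj] at hx
    revert hx
    generalize x.1 = i
    revert i
    decide +kernel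
  have n1 := (r27_uni (0, 0, s)).mul (q8_uni k)
  have n2 := M10.mul_mem (r27_mem (0, 0, s)) (q8_mem k)
  have n3 : ∀ y, ∃ z, r27 (0, 0, s) * q8 k * r27 y = r27 z * (r27 (0, 0, s) * q8 k) := fun y => by
    obtain ⟨z, hz⟩ := q8_norm k y
    refine ⟨(z.1 + s * z.2.1, z.2.1, z.2.2), ?_⟩
    rw [Matrix.mul_assoc, hz, ← Matrix.mul_assoc, ← Matrix.mul_assoc, r27_mul, r27_mul]
    simp [add_comm]
  generalize r27 (0, 0, s) * q8 k = N at *
  have b1 := n1.mul hA
  have b2 : N * A * r27 (0, 1, 0) = r27 (0, 1, 0) * (N * A) := by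
    rw [Matrix.mul_assoc, hx, ← Matrix.mul_assoc, hk, Matrix.mul_assoc]
  obtain ⟨y, hy⟩ := h (0, 0, 1)
  obtain ⟨z, hz⟩ := n3 y
  have b3 : N * A * r27 (0, 0, 1) = r27 z * (N * A) := by
    rw [Matrix.mul_assoc, hy, ← Matrix.mul_assoc, hz, Matrix.mul_assoc]
  have b4 : N * A ∈ M10 := by
    generalize N * A = B at *
    have hd : r27 (0, 1, 0) = diagonal w25 := by decide +kernel
    have hw : ∀ i j, w25 i = w25 j → i = j := by decide +kernel
    have e : B = diagonal ![B 0 0, B 1 1, B 2 2] := by
      have e1 : ∀ i j, i ≠ j → B i j = 0 := fun i j hij => by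
        have := congrFun (congrFun b2 i) j
        rw [hd, mul_diagonal, diagonal_mul, mul_comm] at this
        by_contra hc
        exact hij (hw _ _ (mul_right_cancel₀ hc this)).symm
      ext1 i j
      fin_cases i <;> fin_cases j <;> simp [e1]
    generalize B 0 0 = a, B 1 1 = b, B 2 2 = c at e
    subst e
    have u0 := congrFun (congrFun b1.1 0) 0
    have u1 := congrFun (congrFun b1.1 1) 1
    have u2 := b1.2
    simp [mul_apply, Fin.sum_univ_three, Fin.prod_univ_three] at u0 u1 u2
    obtain ⟨w, hw⟩ := diag_mem a u0 b u1 c u2 z b3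
    rw [hw]
    exact r27_mem w
  obtain ⟨l, hl, h1⟩ := isOfFinOrder_iff_pow_eq_one.1 (isOfFinOrder_iff_isUnit.2 (hu n1))
  have : A = N ^ (l - 1) * (N * A) := by
    rw [← Matrix.mul_assoc, ← pow_succ, Nat.sub_add_cancel hl, h1, Matrix.one_mul]
  rw [this]
  exact M10.mul_mem (M10.pow_mem n2 _) b4

theorem newton3 {K : Type*} [CommRing K] (A : Matrix (Fin 3) (Fin 3) K) :
    6 * A.det = A.trace ^ 3 - 3 * A.trace * (A * A).trace + 2 * (A * A * A).trace := by
  simp only [det_fin_three, trace, diag_apply, mul_apply, Fin.sum_univ_three]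
  ring

variable {F : Type*} [Field F] [Fintype F]

theorem esp_le (m : Mdl 3 5 F F25 s25 1) {R : Subgroup (GL (Fin 3) F)}
    (h1 : IsSymplecticTypeGroup 3 R) (h2 : ActsAbsolutelyIrreducibly (matrixSet R))
    (h3 : FixesForm (matrixSet R) (hermForm 3 F 5)) (c1 : Nat.card R = 27)
    (c2 : Nat.card (Subgroup.center R) = 3) : R ≤ GG 3 F 5 := by
  intro x hx
  refine m.mem_GG.2 ⟨m.mem_GU.1 (h3 _ ⟨x, hx, rfl⟩), ?_⟩
  have p3 : ∀ y ∈ R, m.r y ^ 3 = 1 := fun y hy => by
    have := Monoid.pow_exponent_eq_one (⟨y, hy⟩ : R)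
    rw [h1.exponent_eq] at this
    rw [← map_pow, show y ^ 3 = 1 from congrArg Subtype.val this, map_one]
  have sc : ∀ z : R, z ∈ Subgroup.center R → ∃ c : F25, c ^ 3 = 1 ∧ m.r z = c • 1 := fun z hz => by
    obtain ⟨c, hc⟩ := h2.2 (z : GL (Fin 3) F) (by
      rintro _ ⟨s, hs, rfl⟩
      exact congrArg (fun t : R => ((t : GL (Fin 3) F) : Matrix (Fin 3) (Fin 3) F))
        (Subgroup.mem_center_iff.1 hz ⟨s, hs⟩).symm)
    have e : m.r z = m.e c • 1 := by rw [m.r_apply, hc, m.ρ_smul, map_one]
    refine ⟨_, ?_, e⟩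
    have := congrFun (congrFun (p3 _ z.2) 0) 0
    rw [e, smul_pow, one_pow] at this
    simpa using this
  by_cases hc : (⟨x, hx⟩ : R) ∈ Subgroup.center R
  · obtain ⟨c, c3, h⟩ := sc _ hc
    rw [show m.r x = c • 1 from h, det_smul, det_one, mul_one, Fintype.card_fin, c3]
  obtain ⟨y, hy⟩ := not_forall.1 (mt Subgroup.mem_center_iff.2 hc)
  have : Fact (Nat.Prime 3) := ⟨Nat.prime_three⟩
  have hq : Nat.card (R ⧸ Subgroup.center R) = 3 ^ 2 := by
    have := Subgroup.card_eq_card_quotient_mul_card_subgroup (Subgroup.center R)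
    rw [c1, c2] at this
    omega
  have hz : y * ⟨x, hx⟩ * y⁻¹ * (⟨x, hx⟩ : R)⁻¹ ∈ Subgroup.center R := by
    rw [← QuotientGroup.eq_one_iff]
    simp only [QuotientGroup.mk_mul, QuotientGroup.mk_inv]
    rw [(IsPGroup.isMulCommutative_of_card_eq_prime_sq hq).is_comm.comm (y : R ⧸ _)]
    simp
  obtain ⟨c, c3, h⟩ := sc _ hz
  have e1 : m.r y * m.r x * m.r (y : GL (Fin 3) F)⁻¹ = c • m.r x := by
    rw [← one_mul (m.r x), ← smul_mul_assoc, ← h, one_mul, ← map_mul, ← map_mul, ← map_mul]
    simp
  have c1 : c ≠ 1 := by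
    rintro rfl
    rw [one_smul, ← map_mul, ← map_mul] at e1
    exact hy (Subtype.ext (mul_inv_eq_iff_eq_mul.1 (m.r_inj e1)))
  have i1 : m.r (y : GL (Fin 3) F)⁻¹ * m.r y = 1 := by rw [← map_mul, inv_mul_cancel, map_one]
  have x3 := p3 x hx
  generalize m.r x = A, m.r y = B, m.r (y : GL (Fin 3) F)⁻¹ = C at *
  have t1 : A.trace = 0 := by
    have := congrArg trace e1
    rw [trace_mul_cycle, i1, Matrix.one_mul, trace_smul, smul_eq_mul] at this
    exact (mul_left_eq_self₀.1 this.symm).resolve_left c1
  have := newton3 A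
  rw [t1, ← pow_three', x3, trace_one] at this
  revert this
  generalize A.det = d
  generalize (A * A).trace = t
  simp only [zero_pow three_ne_zero, mul_zero, zero_mul, sub_zero, zero_add]
  revert d
  decide +kernel

theorem esp35 (hF : Fintype.card F = 5 ^ 2) {R : Subgroup (GL (Fin 3) F)}
    (h1 : IsSymplecticTypeGroup 3 R) (h2 : ActsAbsolutelyIrreducibly (matrixSet R))
    (h3 : FixesForm (matrixSet R) (hermForm 3 F 5)) (c1 : Nat.card R = 27)
    (c2 : Nat.card (Subgroup.center R) = 3) :
    ¬ IsMaximalIn (GG 3 F 5) (subgroupNormalizer R ⊓ GG 3 F 5) := by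
  obtain ⟨e⟩ := nonempty_F25 hF
  obtain ⟨m, -⟩ := exists_std (n := 3) hF e s25_eq
  choose f f1 f2 using fun x => m.lift (r27_uni x)
  have hf : ∀ x, f x ∈ subOf m.r M27 := fun x => ⟨x, (f2 x).symm⟩
  have key : ∀ g : GL (Fin 3) F, (∀ x ∈ subOf m.r M27, g * x * g⁻¹ ∈ subOf m.r M27) →
      ∀ x, ∃ y, m.r g * r27 x = r27 y * m.r g := fun g hg x => by
    obtain ⟨y, hy⟩ := hg _ (hf x)
    exact ⟨y, by rw [hy, ← f2, ← map_mul, ← map_mul, inv_mul_cancel_right]⟩
  obtain ⟨a, ha, ha'⟩ := m.lift (A := t10) (uni3 (by decide +kernel) (by decide +kernel))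
  obtain ⟨b, hb, hb'⟩ := m.lift (A := diagonal ![4, 4, 1])
    (uni3 (by decide +kernel) (by decide +kernel))
  refine not_max_sylow (k := 3) Nat.prime_three (R := R) (R₀ := subOf m.r M27) (M := subOf m.r M10)
    (esp_le m h1 h2 h3 c1 c2) ?_ c1 ?_ (by rw [card_GG35 hF]; norm_num)
    (fun g hg x hx => (Subgroup.mem_normalizer_iff.1 hg.1 x).1 hx)
    (fun g hg hn => norm10 (m.mem_GG.1 hg) (key g hn)) ha (mem_subOf.2 (ha' ▸ t10_mem))
    (fun hn => ?_) hb fun h => ?_
  · rintro g ⟨x, hx⟩
    exact m.mem_GG.2 (hx ▸ r27_uni x)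
  · rw [← Nat.card_congr (Equiv.ofBijective (fun x => (⟨f x, hf x⟩ : subOf m.r M27))
      ⟨fun x y h => r27_inj x y (by rw [← f2, ← f2]; exact congrArg (fun t => m.r t.1) h),
        fun ⟨g, x, hx⟩ => ⟨x, Subtype.ext (m.r_inj ((f2 x).trans hx))⟩⟩)]
    simp
  · have := key a hn (0, 0, 1)
    rw [ha'] at this
    revert this
    decide +kernel
  · rw [mem_subOf, hb'] at h
    exact absurd (h ![0, ⟨0, 1⟩, ⟨1, 3⟩] (by decide +kernel)) (by decide +kernel)

end CA.NM
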