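import Cfsg.Agent.Lib.Lin.PSL2Cl2

/-! The maximal subgroups of `PSL₂(q)`. -/

namespace CA.PSL2Cl3

open Matrix MulAction OnePoint CA.SL2Basic CA.Mat2 CA.SL2Torus CA.SL2Embed CA.SL2Class CA.SL2Unip
  CA.SL2Reps CA.PSL2Struct CA.PSL2Sub CA.PSL2Max CA.TriPres CA.PSL2Cl1 CA.PGL2Act
  CA.PGL2Dickson CA.PSL2Cl2 CA.PSL2Four
open scoped MatrixGroups

section grp
variable {G Γ : Type*} [Group G] [Group Γ]

theorem cov_iff {f : G →* Γ} (hf : Function.Injective f) {M : Subgroup G} :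
    IsCoatom M ↔ M.map f ⋖ f.range := by
  rw [← covBy_top_iff, MonoidHom.range_eq_map]
  refine ⟨fun h => ⟨(Subgroup.map_lt_map_iff_of_injective hf).2 h.1, fun Y h1 h2 => ?_⟩,
    fun h => ⟨(Subgroup.map_lt_map_iff_of_injective hf).1 h.1, fun Y h1 h2 =>
      h.2 ((Subgroup.map_lt_map_iff_of_injective hf).2 h1)
        ((Subgroup.map_lt_map_iff_of_injective hf).2 h2)⟩⟩
  rw [← Subgroup.map_comap_eq_self (H := Y) (h2.le.trans (Subgroup.map_le_range f ⊤)),
    Subgroup.map_lt_map_iff_of_injective hf] at h1 h2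
  exact h.2 h1 h2

theorem cov_cj {M T : Subgroup G} [hT : T.Normal] (h : M ⋖ T) (γ : G) : cj γ M ⋖ T := by
  have : cj γ T = T := Subgroup.Normal.map_conj_eq T γ
  rw [← this]
  exact (apply_covBy_apply_iff (MulAut.conj γ).mapSubgroup).2 h

theorem card_cj (γ : G) (M : Subgroup G) : Nat.card (cj γ M) = Nat.card M :=
  Subgroup.card_map_of_injective (MulAut.conj γ).injective

theorem sylow_case [Finite G] {M S : Subgroup G} (hM : IsCoatom M) {p k : ℕ} [Fact p.Prime]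
    (hp : Nat.card M = p ^ k) (hS : S.index ≠ 1) (hd : ¬ p ∣ S.index)
    (hc : Nat.card M < Nat.card S) : False := by
  obtain ⟨P, hP⟩ := (IsPGroup.of_card hp).exists_le_sylow
  obtain ⟨x, hx⟩ := exists_sylow_le P hd
  rcases hM.le_iff.1 (hP.trans hx) with h | h
  · refine hS ?_
    rw [← Subgroup.index_map_equiv S (MulAut.conj x)]
    exact Subgroup.index_eq_one.2 h
  · rw [← h, card_cj] at hc
    omega

theorem D_le_norm [Finite G] {x w : G} (h : w * x * w⁻¹ = x⁻¹) :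
    w ∈ Subgroup.normalizer (Subgroup.zpowers x : Set G) := by
  refine Subgroup.mem_normalizer_fintype ?_
  rintro _ ⟨n, rfl⟩
  exact ⟨-n, by simp only [← conj_zpow, h]; simp⟩

theorem norm_case [Finite G] {M R S : Subgroup G} (hM : IsCoatom M) {r : ℕ} [hr : Fact r.Prime]
    (hR : Subgroup.normalizer (R : Set G) = M) (c1 : Nat.card R = r) (hi : ¬ r * r ∣ Nat.card G)
    (c2 : Nat.card M = 2 * r) (hS : S ≠ ⊤) (hc : 2 * r < Nat.card S) {x w : G} (hx : x ∈ S)
    (hw : w ∈ S) (ox : orderOf x = r) (ow : orderOf w = 2) (hwx : w * x * w⁻¹ = x⁻¹)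
    (h2 : r ≠ 2) : False := by
  have key : ∀ R : Subgroup G, Nat.card R = r → ∃ P : Sylow r G, (P : Subgroup G) = R := fun R h =>
    ⟨(IsPGroup.of_card (h.trans (pow_one r).symm)).toSylow fun hd => hi (by
      rw [← R.card_mul_index, h]; exact mul_dvd_mul_left r hd), rfl⟩
  obtain ⟨P, rfl⟩ := key R c1
  obtain ⟨Q, hQ⟩ := key (Subgroup.zpowers x) (by rw [Nat.card_zpowers, ox])
  obtain ⟨y, rfl⟩ := exists_smul_eq G P Q
  have hN : cj y M = Subgroup.normalizer (Subgroup.zpowers x : Set G) := by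
    rw [← hR, ← hQ]
    exact Subgroup.map_equiv_normalizer_eq _ (MulAut.conj y)
  have hco : IsCoatom (cj y M) := ((MulAut.conj y).mapSubgroup.isCoatom_iff _).2 hM
  have d1 : r ∣ Nat.card (cj y M ⊓ S : Subgroup G) := ox ▸ Subgroup.orderOf_dvd_natCard _
    ⟨hN ▸ Subgroup.le_normalizer (Subgroup.mem_zpowers x), hx⟩
  have d2 : 2 ∣ Nat.card (cj y M ⊓ S : Subgroup G) := ow ▸ Subgroup.orderOf_dvd_natCard _
    ⟨hN ▸ D_le_norm hwx, hw⟩
  have d3 := Nat.le_of_dvd Nat.card_pos (Nat.Coprime.mul_dvd_of_dvd_of_dvd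
    ((Nat.coprime_primes Nat.prime_two hr.out).2 h2.symm) d2 d1)
  have e : cj y M ⊓ S = cj y M := Subgroup.eq_of_le_of_card_ge inf_le_left (by rw [card_cj]; omega)
  rcases hco.le_iff.1 (inf_eq_left.1 e) with h | h
  · exact hS h
  · rw [h, card_cj] at hc
    omega

/-- the Klein four group in `A₄` -/
def V0 : Subgroup (alternatingGroup (Fin 4)) where
  carrier := {v | v * v = 1}
  one_mem' := one_mul 1
  mul_mem' := by decide
  inv_mem' := by decide

theorem mem_V0 : ∀ v : alternatingGroup (Fin 4), v * v = 1 →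
    v = 1 ∨ v = a4 ∨ v = b4 * a4 * b4⁻¹ ∨ v = a4 * (b4 * a4 * b4⁻¹) := by decide

theorem cent_A4 : ∀ g : Equiv.Perm (Fin 4), g * a4.1 = a4.1 * g → g * b4.1 = b4.1 * g → g = 1 := by
  decide

end grp

variable {F : Type*} [Field F] [Finite F]

omit [Finite F] in
theorem sq_mem_LL (g : PGL(2, F)) : g * g ∈ LL F := by
  obtain ⟨g, rfl⟩ := ProjGenLinGroup.mk_surjective g
  exact mk_mem_LL (g := g * g) ⟨g.1.det, by simp⟩

instance LL_normal {F : Type*} [Field F] : (LL F).Normal := by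
  rw [LL, MonoidHom.range_comp, SLnCard.toGL_range]
  exact Subgroup.Normal.map inferInstance _ ProjGenLinGroup.mk_surjective

omit [Finite F] in
theorem tP_range : (tP F).range = LL F := SLnCard.toPGL_range_eq

omit [Finite F] in
theorem tP_inj : Function.Injective (tP F) := ProjectiveSpecialLinearGroup.toPGL_injective

omit [Finite F] in
theorem cov_L {M : Subgroup PSL(2, F)} : IsCoatom M ↔ M.map (tP F) ⋖ LL F :=
  tP_range (F := F) ▸ cov_iff tP_inj

omit [Finite F] in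
theorem exists_lift {Γ : Type*} [Group Γ] (ψ : Γ →* PGL(2, F)) (h : ∀ a, ψ a ∈ LL F) :
    ∃ φ : Γ →* PSL(2, F), ∀ a, tP F (φ a) = ψ a :=
  ⟨(eLL F).symm.toMonoidHom.comp (ψ.codRestrict _ h), fun a =>
    congrArg Subtype.val ((eLL F).apply_symm_apply ⟨ψ a, h a⟩)⟩

omit [Finite F] in
theorem A4_mem_LL (ψ : alternatingGroup (Fin 4) →* PGL(2, F)) (a) : ψ a ∈ LL F := by
  have : (⊤ : Subgroup (alternatingGroup (Fin 4))) ≤ (LL F).comap ψ := by
    have hb : ∀ b : alternatingGroup (Fin 4), b = b⁻¹ * b⁻¹ → b ∈ (LL F).comap ψ := fun b h => by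
      rw [Subgroup.mem_comap, h, map_mul]; exact sq_mem_LL _
    rw [← gen_A4, Subgroup.closure_le]
    rintro _ (rfl | rfl)
    · simpa using mul_mem (hb (a4 * b4) (by decide)) (inv_mem (hb b4 (by decide)))
    · exact hb b4 (by decide)
  exact this (Subgroup.mem_top a)

omit [Finite F] in
theorem A5_mem_LL (ψ : alternatingGroup (Fin 5) →* PGL(2, F)) (a) : ψ a ∈ LL F := by
  have : (⊤ : Subgroup (alternatingGroup (Fin 5))) ≤ (LL F).comap ψ := by
    have hb : ∀ b c : alternatingGroup (Fin 5), b = c * c → b ∈ (LL F).comap ψ := fun b c h => by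
      rw [Subgroup.mem_comap, h, map_mul]; exact sq_mem_LL _
    rw [← gen_A5, Subgroup.closure_le]
    rintro _ (rfl | rfl)
    · simpa using mul_mem (hb (a5 * b5) ((a5 * b5) ^ 3) (by decide +kernel))
        (inv_mem (hb b5 b5⁻¹ (by decide)))
    · exact hb b5 b5⁻¹ (by decide)
  exact this (Subgroup.mem_top a)

theorem eq_norm (h4 : 4 ≤ Nat.card F) {M T : Subgroup PGL(2, F)} (h : M ⋖ T) (hT : LL F ≤ T)
    {V : Subgroup PSL(2, F)} (h0 : V ≠ ⊥) (h1 : Nat.card V < 60)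
    (hM : M ≤ Subgroup.normalizer (V.map (tP F) : Set PGL(2, F))) :
    Subgroup.normalizer (V.map (tP F) : Set PGL(2, F)) ⊓ T = M := by
  refine (h.eq_or_eq (le_inf hM h.le) inf_le_right).resolve_right fun e => ?_
  have := ProjectiveSpecialLinearGroup.rank_two_simple h4
  have hn : V.Normal := ⟨fun v hv g => by
    have := (Subgroup.mem_normalizer_iff.1 ((hT.trans e.ge) (tP_range.le ⟨g, rfl⟩)).1 _).1
      (Subgroup.mem_map_of_mem (tP F) hv)
    rwa [← map_inv, ← map_mul, ← map_mul, Subgroup.mem_map_iff_mem tP_inj] at this⟩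
  rcases hn.eq_bot_or_eq_top with rfl | rfl
  · exact h0 rfl
  · rw [Subgroup.card_top] at h1
    have := card_PSL (F := F)
    by_cases h2 : (2 : F) = 0
    · have := cub_mono h4
      rw [dd_even h2] at *
      omega
    · have := Nat.odd_iff.1 (odd_card_of_two_ne_zero h2)
      have := cub_mono (r := 5) (s := Nat.card F) (by omega)
      rw [dd_odd h2] at *
      omega

theorem exists_t (h8 : Nat.card F % 8 = 1 ∨ Nat.card F % 8 = 7)
    {φ : alternatingGroup (Fin 4) →* PSL(2, F)} (hφ : Function.Injective φ) :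
    ∃ t : PSL(2, F), orderOf t = 4 ∧ t ∈ Subgroup.normalizer (V0.map φ : Set PSL(2, F)) := by
  have h2 : (2 : F) ≠ 0 := two_ne rfl (by omega)
  have hp : IsPair (φ a4) (φ (b4 * a4 * b4⁻¹)) :=
    ⟨by rw [Ne, map_eq_one_iff _ hφ]; decide, by rw [Ne, map_eq_one_iff _ hφ]; decide,
      hφ.ne (by decide), by rw [← map_mul, map_eq_one_iff _ hφ]; decide,
      by rw [← map_mul, map_eq_one_iff _ hφ]; decide,
      by rw [← map_mul, ← map_mul]; exact congrArg φ (by decide)⟩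
  obtain ⟨g, h0, hg, e, -⟩ := exists_of_involution h2 hp.a1 hp.aa
  obtain ⟨b1, b2⟩ := (isPair_iff hg h0).1 (e ▸ hp)
  obtain ⟨t, ht, ho⟩ := exists_orderOf_of_dvd hg (n := 4) (by
    rw [card_Tb_trace_zero h2 h0]
    have := card_Tb_w0 (F := F)
    omega)
  have t2 : t * t = φ a4 := eq_of_sq_eq_one (isCyclic_Tb hg) (mul_mem ht ht) (e ▸ self_mem_Tb g)
    (fun h => by
      have := Nat.le_of_dvd two_pos (orderOf_dvd_of_pow_eq_one (sq t ▸ h))
      omega) hp.a1 (by rw [← pow_orderOf_eq_one t, ho]; simp only [pow_succ, pow_zero]; group) hp.aa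
  have ta : t * φ a4 * t⁻¹ = φ a4 := by rw [← t2]; group
  have tb : t * φ (b4 * a4 * b4⁻¹) * t⁻¹ = φ (a4 * (b4 * a4 * b4⁻¹)) := by
    have := conj_of_mem_Db hg.ns b1 b2 (inv_mem ht)
    rw [map_mul φ a4, ← t2]
    generalize φ (b4 * a4 * b4⁻¹) = b at this ⊢
    rw [inv_inv] at this
    calc _ = t * (b * t⁻¹ * b⁻¹) * b := by group
      _ = _ := by rw [this]
  refine ⟨t, ho, Subgroup.mem_normalizer_fintype ?_⟩
  rintro _ ⟨v, hv, rfl⟩
  rcases mem_V0 v hv with rfl | rfl | rfl | rfl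
  · rw [map_one, mul_one, mul_inv_cancel]; exact one_mem _
  · exact ⟨a4, hv, ta.symm⟩
  · exact ⟨_, (by decide : (a4 * (b4 * a4 * b4⁻¹)) * (a4 * (b4 * a4 * b4⁻¹)) = 1), tb.symm⟩
  · refine ⟨a4 * (a4 * (b4 * a4 * b4⁻¹)), (by decide :
      (a4 * (a4 * (b4 * a4 * b4⁻¹))) * (a4 * (a4 * (b4 * a4 * b4⁻¹))) = 1), ?_⟩
    rw [map_mul φ a4, ← t2] at tb
    rw [map_mul φ a4 (a4 * _), map_mul φ a4, ← t2]
    generalize φ (b4 * a4 * b4⁻¹) = b at tb ⊢
    calc _ = t * t * (t * b * t⁻¹) := by rw [tb]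
      _ = _ := by group

theorem mem_of_mod8 (h8 : Nat.card F % 8 = 1 ∨ Nat.card F % 8 = 7) {M T : Subgroup PGL(2, F)}
    (h : M ⋖ T) (hT : LL F ≤ T) {φ : alternatingGroup (Fin 4) →* PSL(2, F)}
    (hφ : Function.Injective φ)
    (hM : ∀ m ∈ M, ∀ a, ∃ a', m * tP F (φ a) * m⁻¹ = tP F (φ a')) :
    ∃ t : PSL(2, F), orderOf t = 4 ∧ tP F t ∈ M := by
  obtain ⟨t, h1, h2⟩ := exists_t h8 hφ
  have := SLnCard.two_le_card F
  refine ⟨t, h1, (eq_norm (V := V0.map φ) (by omega) h hT ?_ ?_ fun m hm => ?_).le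
    ⟨Subgroup.le_normalizer_map _ ⟨t, h2, rfl⟩, hT (tP_range.le ⟨t, rfl⟩)⟩⟩
  · rw [Ne, Subgroup.map_eq_bot_iff_of_injective _ hφ]
    exact fun e => absurd (Subgroup.mem_bot.1 (e ▸ (by decide : a4 * a4 = 1) : a4 ∈ ⊥)) (by decide)
  · rw [Subgroup.card_map_of_injective hφ]
    have := Subgroup.card_le_card_group V0
    rw [card_A4] at this
    omega
  · refine Subgroup.mem_normalizer_fintype ?_
    rintro _ ⟨_, ⟨v, hv, rfl⟩, rfl⟩
    obtain ⟨a', e⟩ := hM m hm v
    refine ⟨_, ⟨a', ?_, rfl⟩, e.symm⟩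
    have hv' : v * v = 1 := hv
    have : tP F (φ (a' * a')) = 1 := by
      rw [map_mul, map_mul, ← e, conj_mul, ← map_mul, ← map_mul, hv']; simp
    rwa [map_eq_one_iff _ tP_inj, map_eq_one_iff _ hφ] at this

/-- a subgroup containing `A₄` with normal image and trivial centralizer, of exponent at most 4,
is not maximal over a non-prime field -/
theorem card_eq_prime (p : ℕ) [hp : Fact p.Prime] [CharP F p] (h5 : 5 ≤ p)
    {M T : Subgroup PGL(2, F)} [T.Normal] (h : M ⋖ T) (hT : T = LL F ∨ T = ⊤)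
    {φ : alternatingGroup (Fin 4) →* PSL(2, F)} (hφ : Function.Injective φ)
    (hM : ∀ m ∈ M, ∀ a, ∃ a', m * tP F (φ a) * m⁻¹ = tP F (φ a'))
    (hC : ∀ m ∈ M, (∀ a, m * tP F (φ a) = tP F (φ a) * m) → m = 1)
    (ho : ∀ m ∈ M, orderOf m ≤ 4) : Nat.card F = p := by
  have h2 : (2 : F) ≠ 0 := two_ne_zero_of_char p (by omega)
  have hL : LL F ≤ T := by rcases hT with rfl | rfl <;> simp
  have hq : p ≤ Nat.card F := by
    simpa using Nat.card_le_card_of_injective _ (ZMod.castHom (dvd_refl p) F).injective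
  let ι := ZMod.castHom (dvd_refl p) F
  obtain ⟨φ0, h0⟩ := exists_A4 (F := ZMod p) fun h => (two_ne_zero_of_char p (by omega) h).elim
  obtain ⟨δ, hδ⟩ := A4_conj h2 hφ (ψ := (pslMap ι).comp φ0) ((pslMap_injective ι).comp h0)
  let σ0 : PGL(2, F) →* PGL(2, F) := ProjGenLinGroup.map (frobenius F p)
  let σ : PGL(2, F) →* PGL(2, F) :=
    (MulAut.conj δ⁻¹).toMonoidHom.comp (σ0.comp (MulAut.conj δ).toMonoidHom)
  have hσ : ∀ g, σ g = δ⁻¹ * σ0 (δ * g * δ⁻¹) * δ := fun g => by simp [σ]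
  have f1 : ∀ a, σ (tP F (φ a)) = tP F (φ a) := fun a => by
    have : σ0 (tP F (pslMap ι (φ0 a))) = tP F (pslMap ι (φ0 a)) := by
      obtain ⟨s, hs⟩ := pr_surj (φ0 a)
      have e : tP F (pslMap ι (pr _ s)) = ProjGenLinGroup.map ι (SpecialLinearGroup.toPGL s) :=
        (map_toPGL ι s).symm
      rw [← hs, e, ← MonoidHom.comp_apply, ← ProjGenLinGroup.map_comp,
        Subsingleton.elim ((frobenius F p).comp ι) ι]
    rw [hσ, hδ, MonoidHom.comp_apply, this, ← MonoidHom.comp_apply (pslMap ι), ← hδ]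
    group
  have f2 : ∀ g ∈ T, σ g ∈ T := fun g hg => by
    rcases hT with rfl | rfl
    · rw [hσ]
      refine LL_normal.conj_mem' _ ?_ δ
      obtain ⟨s, hs⟩ := LL_normal.conj_mem g hg δ
      exact piS_le_LL (frobenius F p) ⟨s, congrArg σ0 hs⟩
    · trivial
  have hN := eq_norm (V := φ.range) (by omega) h hL (by
      rw [Ne, MonoidHom.range_eq_bot_iff]
      rintro rfl
      exact absurd (hφ (a₁ := a4) (a₂ := 1) rfl) (by decide))
    (by rw [← Nat.card_congr (MonoidHom.ofInjective hφ).toEquiv, card_A4]; omega) fun m hm => by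
      refine Subgroup.mem_normalizer_fintype ?_
      rintro _ ⟨_, ⟨v, rfl⟩, rfl⟩
      obtain ⟨a', e⟩ := hM m hm v
      exact ⟨_, ⟨a', rfl⟩, e.symm⟩
  have f3 : M ≤ σ.eqLocus (MonoidHom.id _) := fun m hm => by
    have hc : ∀ a, m⁻¹ * σ m * tP F (φ a) = tP F (φ a) * (m⁻¹ * σ m) := fun a => by
      obtain ⟨a', e⟩ := hM m hm a
      have := congrArg σ e
      rw [map_mul, map_mul, map_inv, f1, f1, ← e] at this
      calc _ = m⁻¹ * (σ m * tP F (φ a) * (σ m)⁻¹) * σ m := by group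
        _ = _ := by rw [this]; group
    have := hC _ (hN.le ⟨Subgroup.centralizer_le_normalizer _ (by
      rintro _ ⟨_, ⟨a, rfl⟩, rfl⟩
      exact (hc a).symm), T.mul_mem (T.inv_mem (h.le hm)) (f2 m (h.le hm))⟩) hc
    exact (inv_mul_eq_one.1 this).symm
  have hA : ∀ b : F, σ (δ⁻¹ * A 1 b * δ) = δ⁻¹ * A 1 (b ^ p) * δ := fun b => by
    rw [hσ, show δ * (δ⁻¹ * A 1 b * δ) * δ⁻¹ = A 1 b by group, map_A1, frobenius_def]
  have hAT : ∀ b : F, δ⁻¹ * A 1 b * δ ∈ T := fun b => hL (LL_normal.conj_mem' _ (A_mem_LL b) δ)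
  rcases h.eq_or_eq (le_inf f3 h.le) inf_le_right with e | e
  · have := ho _ (e.le ⟨(by simpa using hA 1 : σ _ = _), hAT 1⟩)
    have o : orderOf (δ⁻¹ * A 1 (1 : F) * δ) = p := by
      refine orderOf_eq_prime ?_ fun e1 => one_ne_zero (A_eq_one_iff.1 (by
        rwa [mul_assoc, inv_mul_eq_one, eq_comm, mul_eq_right] at e1)).2
      have := conj_pow (i := p) (a := δ⁻¹) (b := A 1 (1 : F))
      rw [inv_inv] at this
      rw [this, A_one_pow]
      simp [A_one]
    omega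
  · have hb : (⊥ : Subfield F) = ⊤ := eq_top_iff.2 fun b _ => by
      have : σ _ = _ := (e.ge (hAT b)).1
      rw [hA] at this
      exact (Subfield.mem_bot_iff_pow_eq_self F p).2 (A_inj (by simpa using this)).2
    rw [← Subfield.card_bot F p, hb]
    exact (Nat.card_congr Subfield.topEquiv.toEquiv).symm

end CA.PSL2Cl3
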