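import Cfsg.Agent.Lib.Lin.PSL2Cl4

/-! The maximal subgroups of `PGL₂(q)`. -/

namespace CA.PSL2Cl5

open Matrix MulAction OnePoint CA.SL2Basic CA.Mat2 CA.SL2Torus CA.SL2Embed CA.SL2Class CA.SL2Unip
  CA.SL2Reps CA.PSL2Struct CA.PSL2Sub CA.PSL2Max CA.TriPres CA.PSL2Cl1 CA.PGL2Act
  CA.PGL2Dickson CA.PSL2Cl2 CA.PSL2Four CA.PSL2Cl3 CA.PSL2Cl4
open scoped MatrixGroups

variable {F : Type*} [Field F] [Finite F]

omit [Finite F] in
theorem card_map_mk {L : Subgroup (GL (Fin 2) F)} (hL : Subgroup.center _ ≤ L) :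
    (Nat.card F - 1) * Nat.card (L.map ProjGenLinGroup.mk) = Nat.card L := by
  have e1 : L.map ProjGenLinGroup.mk = (ProjGenLinGroup.mk.comp L.subtype).range := by
    rw [MonoidHom.range_comp, Subgroup.range_subtype]
  have e2 : (ProjGenLinGroup.mk.comp L.subtype).ker = (Subgroup.center _).subgroupOf L := by
    rw [← MonoidHom.comap_ker, ProjGenLinGroup.ker_mk]; rfl
  rw [e1, ← Subgroup.index_ker, ← Subgroup.card_mul_index (ProjGenLinGroup.mk.comp L.subtype).ker,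
    e2, Nat.card_congr (Subgroup.subgroupOfEquivOfLe hL).toEquiv, SLnCard.card_center_GL,
    Nat.card_units]

theorem torus (h2 : (2 : F) ≠ 0) {r : PGL(2, F)} (h1 : r ≠ 1) {n : ℕ} (hn : (n : F) ≠ 0)
    (hr : r ^ n = 1) : ∃ T : Subgroup PGL(2, F), r ∈ T ∧ T < D r ∧
      (Nat.card T = Nat.card F - 1 ∨ Nat.card T = Nat.card F + 1) := by
  obtain ⟨g, rfl⟩ := ProjGenLinGroup.mk_surjective r
  have hN : NS g.1 := by
    by_contra h
    exact h1 (ProjGenLinGroup.mk_eq_one.2 ((mem_center_GL g).2 h))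
  have hd : g.1.det ≠ 0 := g.det_ne_zero
  have hP : ¬ Para g.1 := fun h => hn (cast_eq_zero_of_pow h hN hd (by
    rw [← map_pow, ProjGenLinGroup.mk_eq_one, mem_center_GL] at hr
    exact hr))
  have hc : Subgroup.center _ ≤ C g := Subgroup.center_le_centralizer _
  have hT := card_map_mk hc
  have hq := SLnCard.two_le_card F
  refine ⟨(C g).map ProjGenLinGroup.mk, ⟨g, self_mem_C g, rfl⟩, ?_, ?_⟩
  · have dl : (lin g.1 g.1.trace (-1)).det = g.1.det := by rw [det_lin]; ring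
    obtain ⟨P, hP⟩ := hN.exists_conj (B := lin g.1 g.1.trace (-1)) (hN.lin_iff.2 (by simp))
      (by rw [trace_lin]; ring) dl.symm
    refine SetLike.lt_iff_le_and_exists.2 ⟨?_, ProjGenLinGroup.mk P, Or.inr ?_, fun h => ?_⟩
    · rintro _ ⟨x, hx, rfl⟩
      exact Or.inl (by rw [← map_inv, ← map_mul, ← map_mul, mem_C_iff'.1 hx])
    · rw [eq_inv_iff_mul_eq_one, ← map_inv, ← map_mul, ← map_mul, ← map_mul,
        ProjGenLinGroup.mk_eq_one, mem_center_GL, not_NS_iff]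
      refine ⟨g.1.det, ?_⟩
      rw [Units.val_mul, Units.val_mul, Units.val_mul, hP, Units.mul_inv_cancel_right,
        lin_mul_self_comm, mul_lin_trace]
    · have : P ∈ C g := Subgroup.comap_map_eq_self (f := ProjGenLinGroup.mk)
        (ProjGenLinGroup.ker_mk.le.trans hc) ▸ h
      have e := congrArg Units.val (mem_C_iff.1 this)
      rw [Units.val_mul, Units.val_mul, hP, Units.mul_left_inj] at e
      have := (hN.lin_inj (e.trans (lin_zero_one _).symm)).2
      exact h2 (by linear_combination -this)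
  · rcases trichotomy g.1 with h | h | h
    · right
      rw [h.card_centralizer_GL, ← one_pow 2, Nat.sq_sub_sq, mul_comm (_ + 1), one_pow] at hT
      exact Nat.eq_of_mul_eq_mul_left (by omega) hT
    · left
      rw [h.card_centralizer_GL, sq] at hT
      exact Nat.eq_of_mul_eq_mul_left (by omega) hT
    · exact (hP h).elim

omit [Finite F] in
theorem D_ne_top (h2 : (2 : F) ≠ 0) {r : PGL(2, F)} (h1 : r ≠ 1) {n : ℕ} (hn : (n : F) ≠ 0)
    (hr : r ^ n = 1) : D r ≠ ⊤ := fun e => by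
  classical
  have hx : A 1 (2⁻¹ : F) ∈ D r := e ▸ Subgroup.mem_top _
  have e1 : A 1 (1 : F) = A 1 2⁻¹ * A 1 2⁻¹ := by
    rw [A_mul]; congr 1; · simp
    field_simp; simp; norm_num
  have hc : A 1 (1 : F) * r * (A 1 1)⁻¹ = r := by
    rw [e1]
    generalize A 1 (2⁻¹ : F) = x at hx
    rcases hx with h | h
    · calc _ = x * (x * r * x⁻¹) * x⁻¹ := by group
        _ = r := by rw [h, h]
    · calc _ = x * (x * r * x⁻¹) * x⁻¹ := by group
        _ = (x * r * x⁻¹)⁻¹ := by conv_lhs => rw [h]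
                                  group
        _ = r := by rw [h, inv_inv]
  rw [mul_inv_eq_iff_eq_mul] at hc
  have hi : r • (∞ : OnePoint F) = ∞ := by
    have := congrArg (· • (∞ : OnePoint F)) hc
    simp only [mul_smul, A_smul_infty] at this
    by_contra h
    obtain ⟨c, h⟩ := ne_infty_iff_exists.1 h
    rw [← h, A_smul_coe] at this
    simp at this
  obtain ⟨a, b, rfl⟩ := exists_A hi
  have := A_conj a b 1
  rw [← hc, mul_inv_cancel_right, mul_one] at this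
  obtain rfl : a = 1 := Units.ext (A_inj this).2.symm
  rw [A_one_pow, A_eq_one_iff, mul_eq_zero] at hr
  exact h1 (A_eq_one_iff.2 ⟨rfl, hr.2.resolve_left hn⟩)

theorem index_LL (h2 : (2 : F) ≠ 0) : (LL F).index = 2 := by
  have h1 := card_LL (odd_card_of_two_ne_zero h2)
  have h3 := (LL F).index_mul_card
  rw [SLnCard.card_PGL2, ← h1] at h3
  exact Nat.eq_of_mul_eq_mul_right Nat.card_pos h3

omit [Finite F] in
theorem map_comap_tP (M : Subgroup PGL(2, F)) : (M.comap (tP F)).map (tP F) = M ⊓ LL F := by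
  rw [Subgroup.map_comap_eq, tP_range, inf_comm]

theorem card_comap_tP (h2 : (2 : F) ≠ 0) {M : Subgroup PGL(2, F)} (h : ¬ M ≤ LL F) :
    2 * Nat.card (M.comap (tP F)) = Nat.card M := by
  have h1 := (LL F).relIndex_dvd_index_of_normal M
  rw [index_LL h2, Nat.dvd_prime Nat.prime_two, Subgroup.relIndex_eq_one] at h1
  have h3 : ((LL F).subgroupOf M).index = 2 := h1.resolve_left h
  rw [← Subgroup.card_map_of_injective tP_inj, map_comap_tP,
    ← ((LL F).subgroupOf M).index_mul_card, h3, ← Subgroup.inf_subgroupOf_right, inf_comm,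
    Nat.card_congr (Subgroup.subgroupOfEquivOfLe inf_le_right).toEquiv]

theorem not_le_LL (h2 : (2 : F) ≠ 0) {M : Subgroup PGL(2, F)} (hM : IsCoatom M)
    (hL : ¬ LL F ≤ M) : ¬ M ≤ LL F := fun h => by
  rcases hM.le_iff.1 h with e | e
  · have := index_LL h2
    rw [e, Subgroup.index_top] at this
    omega
  · exact hL e.le

theorem dih_PGL (h2 : (2 : F) ≠ 0) {M : Subgroup PGL(2, F)} (hM : IsCoatom M) {r : PGL(2, F)}
    (h1 : r ≠ 1) (hn : (orderOf r : F) ≠ 0) (hle : M ≤ D r) :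
    M = D r ∧ Subgroup.zpowers r < M ∧ (Nat.card M = 2 * orderOf r →
      orderOf r = Nat.card F - 1 ∨ orderOf r = Nat.card F + 1) := by
  have e := ((hM.le_iff.1 hle).resolve_left (D_ne_top h2 h1 hn (pow_orderOf_eq_one r))).symm
  obtain ⟨T, h3, h4, h5⟩ := torus h2 h1 hn (pow_orderOf_eq_one r)
  rw [← e] at h4
  refine ⟨e, (Subgroup.zpowers_le_of_mem h3).trans_lt h4, fun hc => ?_⟩
  obtain ⟨d1, d2⟩ := card_lt h4
  obtain ⟨k, hk⟩ := T.orderOf_dvd_natCard h3
  have := orderOf_pos r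
  have := Nat.card_pos (α := T)
  have : k = 1 := by
    rw [hc, hk] at d2
    have : k < 2 := by nlinarith
    rcases k with _ | _ | _ <;> omega
  rw [this, mul_one] at hk
  exact hk ▸ h5

theorem not_D8 (h5 : Nat.card F = 5) {M : Subgroup PGL(2, F)} (hM : IsCoatom M)
    (hL : ¬ M ≤ LL F) : Nat.card M ≠ 8 := fun h8 => by
  have h2 : (2 : F) ≠ 0 := two_ne h5 rfl
  have c := card_comap_tP h2 hL
  have : IsKleinFour (M.comap (tP F)) := isKleinFour_of (by omega) fun x hx => by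
    have h := (M.comap (tP F)).orderOf_dvd_natCard hx
    rw [show Nat.card (M.comap (tP F)) = 2 ^ 2 by omega, Nat.dvd_prime_pow Nat.prime_two] at h
    obtain ⟨k, hk, h⟩ := h
    have : k ≠ 2 := fun e => by have := mod8_of_four h2 (x := x) (by rw [h, e]; rfl); omega
    rw [← sq, ← orderOf_dvd_iff_pow_eq_one, h]
    exact pow_dvd_pow 2 (show k ≤ 1 by omega)
  have c2 := card_normalizer_of_conj h2 (M.comap (tP F)) fun W _ => conj_four (by omega) _ W
  have e := eq_norm (by omega) hM.covBy_top le_top (V := M.comap (tP F))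
    (fun e => by rw [e, Subgroup.card_bot] at c; omega) (by omega) (by
      rw [map_comap_tP]
      refine fun m hm => Subgroup.mem_normalizer_fintype fun x hx => ?_
      exact ⟨M.mul_mem (M.mul_mem hm hx.1) (M.inv_mem hm), LL_normal.conj_mem _ hx.2 m⟩)
  have := Subgroup.card_dvd_of_le ((Subgroup.le_normalizer_map (H := M.comap (tP F)) (tP F)).trans
    ((inf_top_eq _).ge.trans e.le))
  rw [Subgroup.card_map_of_injective tP_inj, c2, h8] at this
  omega

theorem S4_comap (h2 : (2 : F) ≠ 0) {M : Subgroup PGL(2, F)} (hL : ¬ M ≤ LL F)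
    (e : M ≃* Equiv.Perm (Fin 4)) {φ : alternatingGroup (Fin 4) →* PSL(2, F)}
    (hφ : Function.Injective φ) (h : ∀ a, tP F (φ a) = e.symm a) :
    Nonempty (M.comap (tP F) ≃* alternatingGroup (Fin 4)) := by
  have c := card_comap_tP h2 hL
  rw [Nat.card_congr e.toEquiv, card_S4] at c
  have : φ.range = M.comap (tP F) := Subgroup.eq_of_le_of_card_ge (by
    rintro _ ⟨a, rfl⟩
    rw [Subgroup.mem_comap, h]
    exact Subtype.property _) (by rw [card_range hφ, card_A4]; omega)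
  exact ⟨(MulEquiv.subgroupCongr this.symm).trans (MonoidHom.ofInjective hφ).symm⟩

theorem pgl_odd [DecidableEq F] (h2 : (2 : F) ≠ 0) {M : Subgroup PGL(2, F)}
    (hM : IsCoatom M) (hL : ¬ LL F ≤ M) :
    (∃ x : OnePoint F, M = stabilizer PGL(2, F) x) ∨
    (∃ r, (Nat.card F ≠ 5 ∧ orderOf r = Nat.card F - 1 ∨ orderOf r = Nat.card F + 1) ∧
      (orderOf r : F) ≠ 0 ∧ M = D r ∧ Nonempty (M ≃* DihedralGroup (orderOf r))) ∨
    ((Nat.card F).Prime ∧ (Nat.card F % 8 = 3 ∨ Nat.card F % 8 = 5) ∧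
      Nonempty (M ≃* Equiv.Perm (Fin 4)) ∧
      Nonempty (M.comap (tP F) ≃* alternatingGroup (Fin 4))) ∨
    ∃ (K : Type) (_ : Field K) (_ : Fintype K) (ι : K →+* F) (γ : PGL(2, F)) (m : ℕ),
      m.Prime ∧ Odd m ∧ Nat.card F = Nat.card K ^ m ∧ cj γ M = (ProjGenLinGroup.map ι).range := by
  have h := hM.covBy_top
  have hL' := not_le_LL h2 hM hL
  have hcj : ∀ γ, ¬ cj γ M ≤ LL F := fun γ h => hL' fun m hm => by
    simpa [mul_assoc] using LL_normal.conj_mem' _ (h ⟨m, hm, rfl⟩) γ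
  rcases dicksonPGL M with ⟨x, hx⟩ | ⟨h1, h3⟩ | ⟨n, h1, h3, ⟨e⟩⟩ | ⟨h1, ⟨e⟩⟩ |
    ⟨h1, ⟨e⟩⟩ | ⟨h1, ⟨e⟩⟩ | ⟨K, _, _, ι, γ, h1, h3 | ⟨h3, h4⟩⟩
  · exact .inl ⟨x, (borel_case h le_top hx).trans (inf_top_eq _)⟩
  · obtain ⟨r, rfl⟩ := (Subgroup.isCyclic_iff_exists_zpowers_eq_top M).1 h1
    rw [Nat.card_zpowers] at h3
    refine ((dih_PGL h2 hM (r := r) ?_ h3 ?_).2.1.ne rfl).elim
    · rintro rfl
      exact hL' (by simp)
    · exact Subgroup.zpowers_le_of_mem (C_le_D r (self_mem_C r))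
  · obtain ⟨r, -, rfl, hr⟩ := exists_r e
    have c := Nat.card_congr e.toEquiv
    rw [DihedralGroup.nat_card] at c
    obtain ⟨a, -, b⟩ := dih_PGL h2 hM (r := r) (by rintro rfl; simp at h1) h3 hr
    refine .inr (.inl ⟨r, (b c).imp_left fun b => ⟨fun h => ?_, b⟩, h3, a, ⟨e⟩⟩)
    exact not_D8 h hM hL' (by omega)
  · exact (hL' fun m hm => by
      simpa using A4_mem_LL (M.subtype.comp e.symm.toMonoidHom) (e ⟨m, hm⟩)).elim
  · obtain ⟨p, hp⟩ := CharP.exists F
    have := Fact.mk (CharP.char_is_prime F p)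
    obtain ⟨a, b, φ, hφ, c⟩ := S4_case p h1 h (Or.inr rfl) e
    obtain ⟨e'⟩ := S4_comap h2 hL' e hφ c
    refine .inr (.inr (.inl ⟨a ▸ this.out, ?_, ⟨e⟩, ⟨e'⟩⟩))
    have := Nat.odd_iff.1 (odd_card_of_two_ne_zero h2)
    by_contra h8
    obtain ⟨t, ht, hm⟩ := b (by omega)
    have := orderOf_le_of_equiv e' orderOf_A4_le hm
    omega
  · exact (hL' fun m hm => by
      simpa using A5_mem_LL (M.subtype.comp e.symm.toMonoidHom) (e ⟨m, hm⟩)).elim
  · obtain ⟨m, a, b⟩ := cov_PGL_top ι (h3 ▸ cov_cj h γ)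
    refine .inr (.inr (.inr ⟨K, _, ‹_›, ι, γ, m, a, a.odd_of_ne_two ?_, b.symm, h3⟩))
    rintro rfl
    exact hcj γ (h3 ▸ map_le_LL ι (m := 1) b)
  · exact (hcj γ (h4 ▸ piS_le_LL ι)).elim

theorem pgl_list (ho : Odd (Nat.card F)) {M : Subgroup PGL(2, F)}
    (hM : IsCoatom M) (hL : ¬ LL F ≤ M) :
    Nat.card M = Nat.card F * (Nat.card F - 1) ∨
    (Nat.card F ≠ 5 ∧ Nonempty (M ≃* DihedralGroup (Nat.card F - 1))) ∨
    Nonempty (M ≃* DihedralGroup (Nat.card F + 1)) ∨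
    ((Nat.card F).Prime ∧ (Nat.card F % 8 = 3 ∨ Nat.card F % 8 = 5) ∧
      Nonempty (M ≃* Equiv.Perm (Fin 4))) ∨
    (∃ (K : Type) (_ : Field K) (_ : Fintype K) (r : ℕ), r.Prime ∧ Odd r ∧
      Nat.card F = Nat.card K ^ r ∧ Nonempty (M ≃* PGL(2, K))) := by
  classical
  rw [Nat.odd_iff] at ho
  rcases pgl_odd (two_ne rfl ho) hM hL with ⟨x, rfl⟩ | ⟨r, ⟨a, b⟩ | b, -, -, e⟩ |
    ⟨a, b, c, -⟩ | ⟨K, _, _, ι, γ, m, a, b, c, d⟩
  · have := card_borel le_top x
    rw [inf_top_eq, Subgroup.card_top, SLnCard.card_PGL2] at this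
    exact .inl (mul_succ_eq this)
  · exact .inr (.inl ⟨a, b ▸ e⟩)
  · exact .inr (.inr (.inl (b ▸ e)))
  · exact .inr (.inr (.inr (.inl ⟨a, b, c⟩)))
  · exact .inr (.inr (.inr (.inr ⟨K, _, ‹_›, m, a, b, c,
      ⟨(eCj γ _).trans ((MulEquiv.subgroupCongr d).trans (ePGL ι).symm)⟩⟩)))

theorem isCoatom_Db' (h2 : (2 : F) ≠ 0) {g : SL(2, F)} (hs : SS g)
    (h : 13 ≤ Nat.card F ∨ Nat.card F = 5 ∧ Nat.card (Tb g) = 3) : IsCoatom (Db g) := by
  have hT := card_Tb_cases hs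
  rw [dd_odd h2] at hT
  rcases h with h | ⟨h5, hT⟩
  · refine isCoatom_Db hs (by omega) (by omega) (fun _ => by omega) fun r m h3 hm hr => ?_
    have h5 : r ^ 2 ≤ Nat.card F := hr ▸ Nat.pow_le_pow_right (by omega) hm
    have h6 : 2 * r + 5 ≤ Nat.card F := by
      rcases Nat.eq_or_lt_of_le h3 with rfl | h4
      · omega
      · nlinarith
    omega
  have hG := card_odd h2
  rw [h5] at hG
  refine ⟨Db_ne_top hs (by omega), fun H hH => ?_⟩
  rcases overgroup_Db hs (by omega) hH.le with h | h | ⟨hn, ⟨e⟩⟩ | ⟨hn, ⟨e⟩⟩ | ⟨hn, ⟨e⟩⟩ |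
    ⟨r, m, h1, h2, h4, -⟩
  · exact (hH.ne' h).elim
  · exact h
  · exfalso
    obtain ⟨t, ht, ho⟩ := exists_orderOf_of_dvd hs dvd_rfl
    obtain ⟨w, hw, hw'⟩ := exists_mem_Db hs
    have h4 := conj_of_mem_Db hs.ns hw hw' ht
    have key : ∀ x y : alternatingGroup (Fin 4), y * x * y⁻¹ = x⁻¹ → x ^ 2 = 1 := by decide +kernel
    have h6 := key (e ⟨t, hH.le (Tb_le_Db g ht)⟩) (e ⟨w, hH.le hw⟩) (by
      rw [← map_inv, ← map_inv, ← map_mul, ← map_mul]; congr 1; exact Subtype.ext h4)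
    rw [← map_pow, EmbeddingLike.map_eq_one_iff] at h6
    have := Nat.le_of_dvd two_pos (orderOf_dvd_of_pow_eq_one (x := t) (congrArg Subtype.val h6))
    omega
  · have := H.card_subgroup_dvd_card
    rw [Nat.card_congr e.toEquiv, card_S4] at this
    omega
  · apply Subgroup.eq_top_of_le_card
    rw [Nat.card_congr e.toEquiv, card_A5]; omega
  · have h5 : r ^ 2 ≤ Nat.card F := h4 ▸ Nat.pow_le_pow_right (by omega) h2
    nlinarith

theorem inf_cov (h4 : 4 ≤ Nat.card F) (h7 : Nat.card F ≠ 7) (h9 : Nat.card F ≠ 9)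
    (h11 : Nat.card F ≠ 11)
    (h40 : (Nat.card F).Prime → Nat.card F % 40 ∉ ({11, 19, 21, 29} : Finset ℕ))
    {M : Subgroup PGL(2, F)} (hM : IsCoatom M) (hL : ¬ LL F ≤ M) : M ⊓ LL F ⋖ LL F := by
  classical
  by_cases h2 : (2 : F) = 0
  · rw [LL_eq_top h2, inf_top_eq]
    exact hM.covBy_top
  have ho := Nat.odd_iff.1 (odd_card_of_two_ne_zero h2)
  have c := card_comap_tP h2 (not_le_LL h2 hM hL)
  rcases pgl_odd h2 hM hL with ⟨x, rfl⟩ | ⟨r, a, b, d, ⟨e⟩⟩ |
    ⟨a, b, -, ⟨e⟩⟩ | ⟨K, _, _, ι, γ, m, a, b, d, e⟩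
  · exact borel_cov x
  · rw [← map_comap_tP, ← cov_L]
    rw [Nat.card_congr e.toEquiv, DihedralGroup.nat_card] at c
    obtain ⟨t, ht⟩ := tP_range.ge (sq_mem_LL r)
    have t1 : t ≠ 1 := by
      rintro rfl
      have := Nat.le_of_dvd two_pos (orderOf_dvd_of_pow_eq_one (sq r ▸ ht.symm.trans (map_one _)))
      omega
    obtain ⟨g, hg, rfl⟩ := exists_ss_of_pow t1 b (tP_inj (by
      rw [map_pow, ht, ← sq, ← pow_mul, mul_comm, pow_mul, pow_orderOf_eq_one, one_pow, map_one]))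
    have hle : M.comap (tP F) ≤ Db g := fun x hx => by
      rw [← D_eq_Db hg (self_mem_Tb g) t1]
      rw [Subgroup.mem_comap, d] at hx
      refine hx.imp (fun h => tP_inj ?_) fun h => tP_inj ?_
      · rw [map_mul, map_mul, map_inv, ht, ← conj_mul, h]
      · rw [map_mul, map_mul, map_inv, map_inv, ht, ← conj_mul, h, _root_.mul_inv_rev]
    have h1 := Subgroup.card_dvd_of_le hle
    have hT := card_Tb_cases hg
    rw [dd_odd h2] at hT
    have hD := card_Db hg
    have h3 : Nat.card (M.comap (tP F)) = Nat.card (Db g) := by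
      have := Nat.le_of_dvd Nat.card_pos h1
      by_contra hne
      obtain ⟨k, hk⟩ := h1
      rcases k with _ | _ | k
      · omega
      · omega
      · have : 2 * Nat.card (M.comap (tP F)) ≤ Nat.card (Db g) := by nlinarith
        omega
    rw [Subgroup.eq_of_le_of_card_ge hle h3.ge]
    exact isCoatom_Db' h2 hg (by omega)
  · rw [← map_comap_tP, ← cov_L]
    have := h40 a
    simp only [Finset.mem_insert, Finset.mem_singleton] at this
    exact isCoatom_A4 a (by omega) b (by omega) e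
  · have hK : Odd (Nat.card K) :=
      odd_card_of_two_ne_zero fun h => h2 (by rw [← map_ofNat ι 2, h, map_zero])
    have c1 := card_piS ι hK
    have e1 : (piS ι).range = cj γ ((M.comap (tP F)).map (tP F)) := by
      refine Subgroup.eq_of_le_of_card_ge ?_ ?_
      · rw [map_comap_tP, cj, Subgroup.map_inf _ _ _ (MulAut.conj γ).injective]
        exact le_inf ((piS_le ι).trans e.ge)
          ((piS_le_LL ι).trans (Subgroup.Normal.map_conj_eq (LL F) γ).ge)
      · rw [← card_map_range ι, ← e, card_cj, ← c] at c1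
        rw [card_cj, Subgroup.card_map_of_injective tP_inj]
        omega
    rw [← map_comap_tP, ← cov_L]
    exact isCoatom_PSL_odd a (by rintro rfl; exact absurd b (by decide)) d hK
      ((Subgroup.equivMapOfInjective _ _ tP_inj).trans ((eCj γ _).trans
        ((MulEquiv.subgroupCongr e1.symm).trans (ePSL ι).symm)))

end CA.PSL2Cl5
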