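import Cfsg.Agent.Lib.Lin.CFormStd
import Cfsg.Prelude.Def_PhanSystems

/-! Block embeddings of special unitary groups for the standard Hermitian form. -/

set_option autoImplicit false

namespace CA.Phan

open Matrix Cfsg

variable {F : Type*} [Field F] {q n : ℕ}

/-- The matrix `g` placed on the coordinates different from `m`. -/
def E (m : Fin (n + 1)) (g : Matrix (Fin n) (Fin n) F) : Matrix (Fin (n + 1)) (Fin (n + 1)) F :=
  Matrix.of fun i j => m.insertNth (α := fun _ => F) (m.insertNth (α := fun _ => F) 1 0 j)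
    (fun a => m.insertNth (α := fun _ => F) 0 (g a) j) i

@[simp] theorem E_mm (m : Fin (n + 1)) (g : Matrix (Fin n) (Fin n) F) : E m g m m = 1 := by simp [E]
@[simp] theorem E_ms (m : Fin (n + 1)) (g : Matrix (Fin n) (Fin n) F) (b : Fin n) :
    E m g m (m.succAbove b) = 0 := by simp [E]
@[simp] theorem E_sm (m : Fin (n + 1)) (g : Matrix (Fin n) (Fin n) F) (a : Fin n) :
    E m g (m.succAbove a) m = 0 := by simp [E]
@[simp] theorem E_ss (m : Fin (n + 1)) (g : Matrix (Fin n) (Fin n) F) (a b : Fin n) :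
    E m g (m.succAbove a) (m.succAbove b) = g a b := by simp [E]

theorem E_mulVec_m (m : Fin (n + 1)) (g : Matrix (Fin n) (Fin n) F) (v : Fin (n + 1) → F) :
    (E m g *ᵥ v) m = v m := by
  simp [mulVec, dotProduct, Fin.sum_univ_succAbove _ m]

theorem E_mulVec_s (m : Fin (n + 1)) (g : Matrix (Fin n) (Fin n) F) (v : Fin (n + 1) → F) (a : Fin n) :
    (E m g *ᵥ v) (m.succAbove a) = (g *ᵥ fun b => v (m.succAbove b)) a := by
  simp [mulVec, dotProduct, Fin.sum_univ_succAbove _ m]

theorem mat_ext (m : Fin (n + 1)) {A B : Matrix (Fin (n + 1)) (Fin (n + 1)) F} (h1 : A m m = B m m)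
    (h2 : ∀ b, A m (m.succAbove b) = B m (m.succAbove b)) (h3 : ∀ a, A (m.succAbove a) m = B (m.succAbove a) m)
    (h4 : ∀ a b, A (m.succAbove a) (m.succAbove b) = B (m.succAbove a) (m.succAbove b)) : A = B := by
  ext i j
  induction i using m.succAboveCases <;> induction j using m.succAboveCases
  exacts [h1, h2 _, h3 _, h4 _ _]

theorem E_mul (m : Fin (n + 1)) (g h : Matrix (Fin n) (Fin n) F) : E m (g * h) = E m g * E m h :=
  mat_ext m (by simp [mul_apply, Fin.sum_univ_succAbove _ m])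
    (fun b => by simp [mul_apply, Fin.sum_univ_succAbove _ m])
    (fun b => by simp [mul_apply, Fin.sum_univ_succAbove _ m])
    (fun a b => by simp [mul_apply, Fin.sum_univ_succAbove _ m])

theorem E_one (m : Fin (n + 1)) : E m (1 : Matrix (Fin n) (Fin n) F) = 1 :=
  mat_ext m (by simp) (fun b => by simp [one_apply_ne (Fin.ne_succAbove m b)])
    (fun b => by simp [one_apply_ne (Fin.succAbove_ne m b)])
    (fun a b => by simp [one_apply])

theorem det_E (m : Fin (n + 1)) (g : Matrix (Fin n) (Fin n) F) : (E m g).det = g.det := by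
  rw [det_succ_row _ m, Fin.sum_univ_succAbove _ m]
  have : (E m g).submatrix m.succAbove m.succAbove = g := by ext a b; simp
  simp [this, ← two_mul, pow_mul]

theorem herm_succAbove (m : Fin (n + 1)) (u v : Fin (n + 1) → F) :
    hermForm (n + 1) F q u v =
      u m * v m ^ q + hermForm n F q (fun b => u (m.succAbove b)) (fun b => v (m.succAbove b)) := by
  simp only [hermForm, Fin.sum_univ_succAbove _ m]

theorem mem_SU {g : SpecialLinearGroup (Fin n) F} :
    g ∈ SU n F q ↔ ∀ u v, hermForm n F q (g.1 *ᵥ u) (g.1 *ᵥ v) = hermForm n F q u v := Iff.rfl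

/-- The block embedding fixing the `m`-th basis vector. -/
def emb (m : Fin (n + 1)) : SU n F q →* SU (n + 1) F q where
  toFun g := ⟨⟨E m g.1.1, by rw [det_E, g.1.2]⟩, mem_SU.2 fun u v => by
    rw [herm_succAbove m, herm_succAbove m u]
    simp only [E_mulVec_m, E_mulVec_s]
    exact congrArg _ (mem_SU.1 g.2 _ _)⟩
  map_one' := Subtype.ext (Subtype.ext (E_one m))
  map_mul' _ _ := Subtype.ext (Subtype.ext (E_mul m _ _))

theorem emb_coe (m : Fin (n + 1)) (g : SU n F q) : (emb m g).1.1 = E m g.1.1 := rfl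

theorem emb_inj (m : Fin (n + 1)) : Function.Injective (emb (F := F) (q := q) m) := fun g h e =>
  Subtype.ext (Subtype.ext (by
    ext a b
    have := congrArg (fun x : SU (n + 1) F q => x.1.1 (m.succAbove a) (m.succAbove b)) e
    simpa [emb_coe] using this))

/-- The block on all but the last coordinate. -/
abbrev up (n : ℕ) : SU n F q →* SU (n + 1) F q := emb (Fin.last n)

/-- The block on all but the first coordinate. -/
abbrev lo (n : ℕ) : SU n F q →* SU (n + 1) F q := emb 0

theorem up_two (g : SU 2 F q) :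
    (up 2 g).1.1 = !![g.1.1 0 0, g.1.1 0 1, 0; g.1.1 1 0, g.1.1 1 1, 0; 0, 0, 1] := by
  ext i j; fin_cases i <;> fin_cases j <;> rfl

theorem lo_two (g : SU 2 F q) :
    (lo 2 g).1.1 = !![1, 0, 0; 0, g.1.1 0 0, g.1.1 0 1; 0, g.1.1 1 0, g.1.1 1 1] := by
  ext i j; fin_cases i <;> fin_cases j <;> rfl

theorem mem_range_emb (m : Fin (n + 1)) {g : SU (n + 1) F q} (h1 : g.1.1 m m = 1)
    (h2 : ∀ l, l ≠ m → g.1.1 m l = 0 ∧ g.1.1 l m = 0) (hq : q ≠ 0) : g ∈ (emb m).range := by
  have e : E m (g.1.1.submatrix m.succAbove m.succAbove) = g.1.1 :=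
    mat_ext m (by simp [h1]) (fun b => by simp [(h2 _ (Fin.succAbove_ne m b)).1])
      (fun b => by simp [(h2 _ (Fin.succAbove_ne m b)).2]) (fun a b => by simp)
  refine ⟨⟨⟨g.1.1.submatrix m.succAbove m.succAbove, by rw [← det_E m, e, g.1.2]⟩, mem_SU.2 fun u v => ?_⟩,
    Subtype.ext (Subtype.ext e)⟩
  have := mem_SU.1 g.2 (m.insertNth 0 u) (m.insertNth 0 v)
  rw [← e, herm_succAbove m, herm_succAbove m (m.insertNth 0 u)] at this
  simpa [E_mulVec_m, E_mulVec_s] using this

theorem suBlock_eq (m : Fin (n + 1)) (s : Set (Fin (n + 1))) (hs : ∀ k, k ∉ s ↔ k = m) (hq : q ≠ 0) :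
    suBlock (n + 1) F q s = (emb m).range := by
  refine le_antisymm ((Subgroup.closure_le _).2 fun A hA => ?_) ?_
  · have := hA m ((hs m).2 rfl)
    exact mem_range_emb m this.1 this.2 hq
  · rintro _ ⟨g, rfl⟩
    refine Subgroup.subset_closure fun k hk => ?_
    obtain rfl := (hs k).1 hk
    refine ⟨E_mm _ _, fun l hl => ?_⟩
    obtain ⟨b, rfl⟩ := Fin.exists_succAbove_eq hl
    exact ⟨E_ms _ _ _, E_sm _ _ _⟩

theorem suBlock_up (hq : q ≠ 0) : suBlock 3 F q {0, 1} = (up 2).range :=
  suBlock_eq _ _ (fun k => by fin_cases k <;> simp <;> rfl) hq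

theorem suBlock_lo (hq : q ≠ 0) : suBlock 3 F q {1, 2} = (lo 2).range :=
  suBlock_eq _ _ (fun k => by fin_cases k <;> simp) hq

theorem up_lo (g : SU n F q) : up (n + 1) (lo n g) = lo (n + 1) (up n g) := by
  refine Subtype.ext (Subtype.ext ((CA.CForm.matrix_eq_iff_mulVec).2 fun v => funext fun i => ?_))
  simp only [emb_coe]
  have a0 := fun (n : ℕ) (g : Matrix (Fin n) (Fin n) F) v => E_mulVec_m 0 g v
  have a1 := fun (n : ℕ) (g : Matrix (Fin n) (Fin n) F) v => E_mulVec_s 0 g v
  have b0 := fun (n : ℕ) (g : Matrix (Fin n) (Fin n) F) v => E_mulVec_m (Fin.last n) g v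
  have b1 := fun (n : ℕ) (g : Matrix (Fin n) (Fin n) F) v => E_mulVec_s (Fin.last n) g v
  simp only [Fin.succAbove_zero, Fin.succAbove_last] at a1 b1
  induction i using Fin.lastCases with
  | last => rw [b0, ← Fin.succ_last, a1, b0]
  | cast i =>
    rw [b1]
    induction i using Fin.cases with
    | zero => rw [a0, Fin.castSucc_zero, a0]
    | succ i => rw [a1, ← Fin.succ_castSucc, a1, b1]; rfl

end CA.Phan
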