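import Mathlib.GroupTheory.GroupAction.Basic
import Mathlib.Algebra.Group.Subgroup.Pointwise
import Mathlib.Tactic.Group

/-! An elementary simple-connectivity argument for a geometry of points with orthogonality. -/

set_option autoImplicit false

namespace CA.Phan

/-- Three points with a common perpendicular point. -/
def Good {X : Type*} (perp : X → X → Prop) (a b c : X) : Prop := ∃ u, perp u a ∧ perp u b ∧ perp u c

theorem cover {Γ X : Type*} [Group Γ] [MulAction Γ X] (perp adj : X → X → Prop)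
    (as : ∀ a b, adj a b → adj b a)
    (pi : ∀ (x : Γ) a b, perp (x • a) (x • b) ↔ perp a b) (ai : ∀ (x : Γ) a b, adj (x • a) (x • b) ↔ adj a b)
    (pa : ∀ a b, perp a b → adj a b) (ps : ∀ a b, perp a b → perp b a)
    (P : ∀ b c, adj b c → ∀ a d, ∃ y, perp y b ∧ perp y c ∧ adj y a ∧ adj y d)
    (Tr : ∀ a b c, adj a b → adj b c → adj a c → Good perp a b c ∨
      ∃ z, adj z a ∧ adj z b ∧ adj z c ∧ Good perp a b z ∧ Good perp b c z ∧ Good perp a c z)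
    (H K : Subgroup Γ) (v u : X) (h0 : perp u v) (hH : ∀ h ∈ H, h • v = v) (hK : ∀ k ∈ K, k • u = u)
    (tH : ∀ y, perp y v → ∃ h ∈ H, h • u = y) (tK : ∀ y, perp u y → ∃ k ∈ K, k • v = y)
    (kH : ∀ k ∈ K, k • v = v → k ∈ H) (hK' : ∀ h ∈ H, h • u = u → h ∈ K)
    (c4 : ∀ u' v', perp u v' → adj v' v → perp u' v → perp u' v' → adj u' u →
      ∃ h ∈ H, ∃ k ∈ K, h • u = u' ∧ k • v = v' ∧ Commute h k)
    (x : Γ) (hx : x ∈ H ⊔ K) (hv : x • v = v) : x ∈ H := by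
  let inc : Γ → Γ → Prop := fun x g => ∃ k ∈ K, ∃ h ∈ H, x = g * k * h
  let T : Γ → Prop := fun x => ∃ g ∈ H, inc x g
  have pl : ∀ (x : Γ) a b, perp a (x • b) → perp (x⁻¹ • a) b := fun x a b h => by
    rw [← pi x, smul_inv_smul]; exact h
  have Q0 : ∀ k ∈ K, ∀ h ∈ H, adj (k • v) v → perp (h • u) (k • v) → adj (h • u) u → inc k h := by
    intro k hk h hh a1 a2 a3
    obtain ⟨h0', m1, k0, m2, e1, e2, c⟩ := c4 (h • u) (k • v) (by rw [← hK k hk, pi]; exact h0) a1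
      (by rw [← hH h hh, pi]; exact h0) a2 a3
    have f1 : h0'⁻¹ * h ∈ K := hK' _ (H.mul_mem (H.inv_mem m1) hh) (by rw [mul_smul, ← e1, inv_smul_smul])
    have f2 : k0⁻¹ * k ∈ H := kH _ (K.mul_mem (K.inv_mem m2) hk) (by rw [mul_smul, ← e2, inv_smul_smul])
    refine ⟨_, K.mul_mem (K.inv_mem f1) m2, _, H.mul_mem (H.inv_mem m1) f2, ?_⟩
    calc k = (h0' * k0) * h0'⁻¹ * (k0⁻¹ * k) := by rw [c.eq]; group
      _ = _ := by group
  have Q0' : ∀ x, ∀ g ∈ H, ∀ h ∈ H, inc x g → adj (x • v) v → perp (h • u) (x • v) → adj (h • u) (g • u) →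
      inc x h := by
    rintro _ g hg h hh ⟨k, hk, h1, m1, rfl⟩ a1 a2 a3
    rw [mul_smul, hH h1 m1, mul_smul] at a1 a2
    obtain ⟨k', hk', h', hh', e⟩ := Q0 k hk (g⁻¹ * h) (H.mul_mem (H.inv_mem hg) hh)
      (by rw [← ai g, hH g hg]; exact a1) (by rw [mul_smul]; exact pl _ _ _ a2)
      (by rw [← ai g, mul_smul, smul_inv_smul]; exact a3)
    exact ⟨k', hk', _, H.mul_mem hh' m1, by rw [e]; group⟩
  have Q1 : ∀ x, ∀ h ∈ H, T x → adj (x • v) v → perp (h • u) (x • v) → inc x h := by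
    rintro x h hh ⟨g, hg, i⟩ a1 a2
    obtain ⟨y, b1, b2, b3, b4⟩ := P _ _ a1 (g • u) (h • u)
    obtain ⟨h', hh', rfl⟩ := tH y b2
    exact Q0' x h' hh' h hh (Q0' x g hg h' hh' i a1 b1 b3) a1 a2 (as _ _ b4)
  let A : Γ → Γ → Prop := fun x y => T (x⁻¹ * y) ∧ adj (x • v) (y • v)
  have al : ∀ {x y : Γ}, A x y → adj ((x⁻¹ * y) • v) v := fun {x y} h => by
    rw [← ai x, mul_smul, smul_inv_smul]; exact as _ _ h.2
  have As : ∀ {x y}, A x y → A y x := by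
    rintro x y ⟨⟨g, hg, k, hk, h, hh, e⟩, a⟩
    refine ⟨⟨_, H.inv_mem hh, _, K.inv_mem hk, _, H.inv_mem hg, ?_⟩, as _ _ a⟩
    rw [← mul_inv_rev, ← mul_inv_rev, ← mul_assoc, ← e]; group
  have L1e : ∀ (x : Γ) w, adj (x • v) w → ∃ y, A x y ∧ y • v = w := by
    intro x w a
    obtain ⟨y, b1, b2, -⟩ := P v (x⁻¹ • w) (by rw [← ai x, smul_inv_smul]; exact a) v v
    obtain ⟨h, hh, rfl⟩ := tH y b1
    obtain ⟨k, hk, e⟩ := tK (h⁻¹ • x⁻¹ • w) (by rw [← pi h, smul_inv_smul]; exact b2)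
    have e' : (x * h * k) • v = w := by rw [mul_smul, e, mul_smul, smul_inv_smul, smul_inv_smul]
    exact ⟨x * h * k, ⟨⟨h, hh, k, hk, 1, H.one_mem, by group⟩, by rw [e']; exact a⟩, e'⟩
  have L1u : ∀ {x y z}, A x y → A x z → y • v = z • v → y⁻¹ * z ∈ H := by
    intro x y z a b e
    obtain ⟨g, hg, k, hk, h, hh, e1⟩ := a.1
    have e3 : (x⁻¹ * z) • v = g • k • v := by rw [mul_smul, ← e, ← mul_smul, e1, mul_smul, hH h hh, mul_smul]
    obtain ⟨k', hk', h', hh', e2⟩ := Q1 _ g hg b.1 (al b) (by rw [e3, pi, ← hK k hk, pi]; exact h0)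
    have : k⁻¹ * k' ∈ H := kH _ (K.mul_mem (K.inv_mem hk) hk') (by
      rw [e2, mul_smul, hH h' hh', mul_smul, smul_left_cancel_iff] at e3
      rw [mul_smul, e3, inv_smul_smul])
    have e4 : y⁻¹ * z = h⁻¹ * (k⁻¹ * k') * h' := by
      calc y⁻¹ * z = (x⁻¹ * y)⁻¹ * (x⁻¹ * z) := by group
        _ = _ := by rw [e1, e2]; group
    rw [e4]; exact H.mul_mem (H.mul_mem (H.inv_mem hh) this) hh'
  have L2g : ∀ {x y z}, A x y → A x z → Good perp (x • v) (y • v) (z • v) → adj (y • v) (z • v) → A y z := by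
    rintro x y z a b ⟨w, c1, c2, c3⟩ d
    obtain ⟨g, hg, e⟩ := tH _ (pl _ _ _ c1)
    obtain ⟨k, hk, h, hh, e1⟩ := Q1 _ g hg a.1 (al a) (by rw [e, mul_smul, pi]; exact c2)
    obtain ⟨k', hk', h', hh', e2⟩ := Q1 _ g hg b.1 (al b) (by rw [e, mul_smul, pi]; exact c3)
    refine ⟨⟨_, H.inv_mem hh, _, K.mul_mem (K.inv_mem hk) hk', _, hh', ?_⟩, d⟩
    calc y⁻¹ * z = (x⁻¹ * y)⁻¹ * (x⁻¹ * z) := by group
      _ = _ := by rw [e1, e2]; group
  have L2 : ∀ {x y z}, A x y → A x z → adj (y • v) (z • v) → A y z := by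
    intro x y z a b d
    rcases Tr _ _ _ a.2 d b.2 with g | ⟨w, c1, c2, c3, g1, ⟨s, g2, g2', g2''⟩, g3⟩
    · exact L2g a b g d
    · obtain ⟨w, c, rfl⟩ := L1e x w (as _ _ c1)
      exact L2g (As (L2g a c g1 (as _ _ c2))) (As (L2g b c g3 (as _ _ c3))) ⟨s, g2'', g2, g2'⟩ d
  let D : Γ → Prop := fun y => ∃ w, A 1 w ∧ A w y
  have DA : ∀ {y z}, D y → A y z → D z := by
    rintro y z ⟨w, a, b⟩ c
    obtain ⟨s, c1, c2, c3, c4⟩ := P _ _ b.2 ((1 : Γ) • v) (z • v)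
    obtain ⟨s, d, rfl⟩ := L1e w s (as _ _ (pa _ _ c1))
    exact ⟨s, L2 (As a) d (as _ _ c3), L2 (L2 b d (as _ _ (pa _ _ c2))) c c4⟩
  have DH : ∀ h ∈ H, ∀ y, D y → D (y * h) := by
    rintro h hh y ⟨w, a, ⟨g, hg, k, hk, h', hh', e⟩, b⟩
    exact ⟨w, a, ⟨g, hg, k, hk, _, H.mul_mem hh' hh, by rw [← mul_assoc, e]; group⟩,
      by rw [mul_smul, hH h hh]; exact b⟩
  have DK : ∀ k ∈ K, ∀ y, D y → D (y * k) := by
    intro k hk y d
    obtain ⟨s, c1, c2, c3, -⟩ := P _ _ (pa _ _ h0) (k • v) v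
    obtain ⟨k1, hk1, rfl⟩ := tK s (ps _ _ c1)
    refine DA (DA (z := y * k1) d ⟨⟨1, H.one_mem, k1, hk1, 1, H.one_mem, by group⟩, ?_⟩)
      ⟨⟨1, H.one_mem, _, K.mul_mem (K.inv_mem hk1) hk, 1, H.one_mem, by group⟩, ?_⟩
    · rw [mul_smul, ai]; exact as _ _ (pa _ _ c2)
    · rw [mul_smul, mul_smul, ai]; exact c3
  have D1 : D 1 := by
    obtain ⟨w, a, -⟩ := L1e 1 u (by rw [one_smul]; exact as _ _ (pa _ _ h0))
    exact ⟨w, a, As a⟩
  have Dx : ∀ y, D y → D (y * x) := by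
    rw [Subgroup.sup_eq_closure] at hx
    clear hv
    induction hx using Subgroup.closure_induction'' with
    | mem a ha => exact ha.elim (DH a) (DK a)
    | inv_mem a ha => exact ha.elim (fun h => DH _ (H.inv_mem h)) (fun h => DK _ (K.inv_mem h))
    | one => intro y; rw [mul_one]; exact id
    | mul a b _ _ ia ib => intro y d; rw [← mul_assoc]; exact ib _ (ia _ d)
  obtain ⟨w, a, b⟩ := Dx 1 D1
  simpa using L1u (As a) b (by simpa using hv.symm)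

end CA.Phan
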