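import Cfsg.Agent.Lib.Lin.Phan2b

/-! The special unitary group is the universal completion of its Phan amalgam (`q > 3`). -/

set_option autoImplicit false

namespace CA.Phan

open Matrix Cfsg CA.CForm

variable {F : Type*} [Field F] [Fintype F] {q N n : ℕ} (hF : Fintype.card F = q ^ 2)

local notation "⟪" u ", " v "⟫" => hermForm _ F q u v
local notation "σ" => conj hF

theorem graph_hom {J G : Type*} [Group J] [Group G] (S : Subgroup (J × G)) (h1 : ∀ x ∈ S, x.2 = 1 → x.1 = 1)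
    (h2 : ∀ g, ∃ j, (j, g) ∈ S) : ∃ Φ : G →* J, ∀ x ∈ S, Φ x.2 = x.1 := by
  choose s hs using h2
  have u : ∀ x ∈ S, s x.2 = x.1 := fun x hx =>
    inv_mul_eq_one.1 (h1 _ (S.mul_mem (S.inv_mem (hs x.2)) hx) (inv_mul_cancel _))
  exact ⟨MonoidHom.mk' s fun a b => u _ (S.mul_mem (hs a) (hs b)), u⟩

/-- Orthogonality of unit vectors. -/
def perp (a b : Un N F q) : Prop := ⟪a.1, b.1⟫ = 0

/-- Two unit vectors spanning a non-degenerate plane. -/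
def adj (a b : Un N F q) : Prop := ⟪a.1, b.1⟫ * σ ⟪a.1, b.1⟫ ≠ 1

theorem nsy (a b : Fin N → F) : ⟪b, a⟫ * σ ⟪b, a⟫ = ⟪a, b⟫ * σ ⟪a, b⟫ := by rw [hsy hF, conj_conj, mul_comm]

theorem adj_symm (a b : Un N F q) (h : adj hF a b) : adj hF b a := by rw [adj, nsy]; exact h

theorem adj_of_perp (a b : Un N F q) (h : perp a b) : adj hF a b := by rw [adj, h]; simp

theorem exP (hq : 3 < q) (hN : 4 ≤ N) (b c : Un N F q) (h : adj hF b c) (a d : Un N F q) :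
    ∃ y, perp y b ∧ perp y c ∧ adj hF y a ∧ adj hF y d := by
  obtain ⟨b', β, -, k1, k2, k3, -⟩ := gs hF c.2 b.2 h
  obtain ⟨p, p1, p2, p3⟩ := ex2 hF (by omega) c.2 k1 k2
  obtain ⟨r, r1, r2, r3, r4⟩ := ex3 hF hN c.2 k1 p1 k2 p2 p3
  obtain ⟨y, y1, y2, y3, y4⟩ := line hF hq p1 r1 r4 a.1 d.1
  refine ⟨⟨y, y1⟩, ?_, y2 _ p2 r2, y3, y4⟩
  change ⟪y, b.1⟫ = 0
  rw [k3, har hF, hmr hF, hmr hF, y2 _ p2 r2, y2 _ p3 r3]; simp

theorem tr2 (hN : 4 ≤ N) {a b c : Un N F q} (h : adj hF a b) (hg : ¬Good perp a b c) {μ : F} (h1 : σ μ = μ)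
    (h0 : μ ≠ 0) (h2 : μ ≠ 1) (h3 : μ ≠ 1 - ⟪b.1, c.1⟫ * σ ⟪b.1, c.1⟫) (h4 : μ ≠ 1 - ⟪a.1, c.1⟫ * σ ⟪a.1, c.1⟫) :
    ∃ z, adj hF z a ∧ adj hF z b ∧ adj hF z c ∧ Good perp a b z ∧ Good perp b c z ∧ Good perp a c z := by
  obtain ⟨z, z1, z2, z3, z4⟩ := tr1 hF hN (c := c.1) a.2 b.2 (adj_symm hF _ _ h)
    (fun ⟨y, y1, y2⟩ => hg ⟨⟨y, y1⟩, y2⟩) h1 h0
  have k : ∀ a c : Un N F q, ⟪z, a.1⟫ = 0 → ⟪z, c.1⟫ * σ ⟪z, c.1⟫ ≠ 1 - ⟪a.1, c.1⟫ * σ ⟪a.1, c.1⟫ →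
      Good perp a c ⟨z, z1⟩ := fun a c e1 e2 => by
    obtain ⟨y, y1, y2, y3, y4⟩ := g3 hF hN (c := c.1) a.2 z1 e1 (by
      rw [c.2, nsy hF a.1, nsy hF z]; intro e; apply e2; linear_combination -e)
    exact ⟨⟨y, y1⟩, y2, y4, y3⟩
  refine ⟨⟨z, z1⟩, adj_of_perp hF _ _ z2, adj_of_perp hF _ _ z3, fun e => h2 (z4.symm.trans e), k a b z2 ?_,
    k b c z3 (z4 ▸ h3), k a c z2 (z4 ▸ h4)⟩
  rw [z3]; intro e; apply h; rw [zero_mul] at e; linear_combination e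

theorem exTr (hq : 3 < q) (hN : 4 ≤ N) (a b c : Un N F q) (h1 : adj hF a b) (h2 : adj hF b c) (h3 : adj hF a c) :
    Good perp a b c ∨
      ∃ z, adj hF z a ∧ adj hF z b ∧ adj hF z c ∧ Good perp a b z ∧ Good perp b c z ∧ Good perp a c z := by
  classical
  refine or_iff_not_imp_left.2 fun hg => ?_
  obtain ⟨μ, hμ, ν, hν, hne⟩ : ∃ μ ∈ (Finset.univ.filter fun x : F => x ^ q = x) \ {0, 1},
      ∃ ν ∈ (Finset.univ.filter fun x : F => x ^ q = x) \ {0, 1}, μ ≠ ν := by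
    refine Finset.one_lt_card.1 ?_
    have e := card_conj_fixed hF
    rw [Nat.card_eq_fintype_card, Fintype.card_subtype] at e
    have := Finset.le_card_sdiff ({0, 1} : Finset F) (Finset.univ.filter fun x : F => x ^ q = x)
    have := Finset.card_le_two (a := (0 : F)) (b := 1)
    omega
  simp only [Finset.mem_sdiff, Finset.mem_filter, Finset.mem_univ, true_and, Finset.mem_insert,
    Finset.mem_singleton, not_or] at hμ hν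
  have g1 : ∀ {a b c : Un N F q}, Good perp a b c → Good perp b a c := fun ⟨u, x, y, z⟩ => ⟨u, y, x, z⟩
  have g2 : ∀ {a b c : Un N F q}, Good perp a b c → Good perp a c b := fun ⟨u, x, y, z⟩ => ⟨u, x, z, y⟩
  by_contra hc
  have k : ∀ μ : F, μ ^ q = μ ∧ ¬μ = 0 ∧ ¬μ = 1 →
      (μ = 1 - ⟪b.1, c.1⟫ * σ ⟪b.1, c.1⟫ ∨ μ = 1 - ⟪a.1, c.1⟫ * σ ⟪a.1, c.1⟫) ∧
      (μ = 1 - ⟪a.1, c.1⟫ * σ ⟪a.1, c.1⟫ ∨ μ = 1 - ⟪a.1, b.1⟫ * σ ⟪a.1, b.1⟫) ∧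
      (μ = 1 - ⟪b.1, c.1⟫ * σ ⟪b.1, c.1⟫ ∨ μ = 1 - ⟪a.1, b.1⟫ * σ ⟪a.1, b.1⟫) := fun μ ⟨m1, m2, m3⟩ => by
    refine ⟨?_, ?_, ?_⟩ <;> by_contra e <;> rw [not_or] at e <;> apply hc
    · exact tr2 hF hN h1 hg m1 m2 m3 e.1 e.2
    · obtain ⟨z, z1, z2, z3, z4, z5, z6⟩ := tr2 hF hN (c := a) h2 (fun x => hg (g1 (g2 x))) m1 m2 m3
        (by rw [nsy]; exact e.1) (by rw [nsy]; exact e.2)
      exact ⟨z, z3, z1, z2, g1 z6, z4, g1 z5⟩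
    · obtain ⟨z, z1, z2, z3, z4, z5, z6⟩ := tr2 hF hN (c := b) h3 (fun x => hg (g2 x)) m1 m2 m3
        (by rw [nsy]; exact e.1) e.2
      exact ⟨z, z1, z3, z2, z6, g1 z5, z4⟩
  have k1 := k μ hμ
  have k2 := k ν hν
  generalize 1 - ⟪b.1, c.1⟫ * σ ⟪b.1, c.1⟫ = A at k1 k2
  generalize 1 - ⟪a.1, c.1⟫ * σ ⟪a.1, c.1⟫ = B at k1 k2
  generalize 1 - ⟪a.1, b.1⟫ * σ ⟪a.1, b.1⟫ = C at k1 k2
  grind

theorem square {u' v' : Un (n + 4) F q} (h1 : perp (pt hF 0) v') (h2 : adj hF v' (pt hF (Fin.last _)))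
    (h3 : perp u' (pt hF (Fin.last _))) (h4 : perp u' v') (h5 : adj hF u' (pt hF 0)) :
    ∃ (t : SU (n + 4) F q) (x y : SU 2 F q), t • pt hF (0 : Fin (n + 4)) = pt hF 0 ∧
      t • pt hF (Fin.last (n + 3)) = pt hF (Fin.last (n + 3)) ∧
      t • blk (n + 2) 0 x • pt hF (0 : Fin (n + 4)) = u' ∧
      t • blk (n + 2) (n + 2) y • pt hF (Fin.last (n + 3)) = v' := by
  have l0 : (0 : Fin (n + 4)) ≠ Fin.last _ := Fin.last_pos.ne
  have nm : ∀ {a b c : Fin (n + 4) → F} {α β : F}, ⟪a, a⟫ = 1 → ⟪b, b⟫ = 1 → ⟪c, c⟫ = 1 → ⟪c, a⟫ = 0 →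
      b = α • a + β • c → α * σ α + β * σ β = 1 := fun {a b c α β} e1 e2 e3 e4 e5 => by
    rw [e5] at e2
    simp only [hal, har hF, hml, hmr hF, e1, e3, e4, hz hF e4] at e2
    linear_combination e2
  obtain ⟨a, β, -, a1, a2, a3, a4⟩ := gs hF (pt hF 0).2 u'.2 h5
  obtain ⟨b, δ, -, b1, b2, b3, b4⟩ := gs hF (pt hF (Fin.last _)).2 v'.2 h2
  have c1 := a4 _ (pt_perp hF l0.symm) (hz hF h3)
  have c2 := b4 _ (pt_perp hF l0) h1
  have c3 := b4 _ (hz hF c1) (hz hF (a4 _ (hz hF h1) (hz hF h4)))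
  obtain ⟨t, c, hc, ht⟩ := witt hF (κ := Fin 4) ![0, 1, (Fin.last _).castSucc, Fin.last _] (by
    intro i j; fin_cases i <;> fin_cases j <;> simp [Fin.ext_iff])
    ![(pt hF 0).1, a, b, (pt hF (Fin.last _)).1] (fun i j => by
      fin_cases i <;> fin_cases j <;> simp [(pt hF 0).2, (pt hF (Fin.last _)).2, a1, b1, a2, b2, hz hF a2, hz hF b2,
        c1, c2, c3, hz hF c1, hz hF c2, hz hF c3, pt_perp hF l0, pt_perp hF l0.symm]) 1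
  have t0 : t.1.1 *ᵥ Pi.single 0 1 = (pt hF 0).1 := by simpa using ht 0
  have t1 : t.1.1 *ᵥ Pi.single 1 1 = c • a := by simpa using ht 1
  have t2 : t.1.1 *ᵥ Pi.single (Fin.last _).castSucc 1 = b := by simpa [Fin.ext_iff] using ht 2
  have t3 : t.1.1 *ᵥ Pi.single (Fin.last _) 1 = (pt hF (Fin.last _)).1 := by simpa [Fin.ext_iff] using ht 3
  obtain ⟨x, hx⟩ := blk_first hF (α := ⟪u'.1, (pt hF 0).1⟫) (β := β * σ c) (by
    rw [map_mul, conj_conj]; linear_combination nm (pt hF 0).2 u'.2 a1 a2 a3 + β * σ β * hc) (n + 2)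
  obtain ⟨y, hy⟩ := blk_last hF (nm (pt hF (Fin.last _)).2 v'.2 b1 b2 b3) (n + 2)
  refine ⟨t, x, y, Subtype.ext t0, Subtype.ext t3, Subtype.ext ?_, Subtype.ext ?_⟩
  · change t.1.1 *ᵥ (blk (n + 2) 0 x).1.1 *ᵥ Pi.single 0 1 = _
    rw [hx, mulVec_add, mulVec_smul, mulVec_smul, t0, t1, smul_smul, mul_assoc, mul_comm _ c, hc, mul_one, ← a3]
  · change t.1.1 *ᵥ (blk (n + 2) (n + 2) y).1.1 *ᵥ Pi.single (Fin.last _) 1 = _
    rw [hy, mulVec_add, mulVec_smul, mulVec_smul, t2, t3, ← b3]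

include hF in
theorem step (hq : 3 < q) {J : Type*} [Group J] (φ ψ : SU (n + 3) F q →* J)
    (h1 : φ.comp (lo _) = ψ.comp (up _))
    (h2 : ∀ x y, Commute (φ (blk (n + 1) 0 x)) (ψ (blk (n + 1) (n + 1) y))) :
    ∃ Φ : SU (n + 4) F q →* J, Φ.comp (up _) = φ ∧ Φ.comp (lo _) = ψ := by
  have l0 : (0 : Fin (n + 4)) ≠ Fin.last _ := Fin.last_pos.ne
  letI : MulAction (J × SU (n + 4) F q) (Un (n + 4) F q) := MulAction.compHom _ (MonoidHom.snd _ _)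
  have sm : ∀ (x : J × SU (n + 4) F q) (a : Un (n + 4) F q), x • a = x.2 • a := fun _ _ => rfl
  let H := (φ.prod (up (n + 3))).range
  let K := (ψ.prod (lo (n + 3))).range
  have hH : ∀ h ∈ H, h • pt hF (Fin.last (n + 3)) = pt hF (Fin.last (n + 3)) := by
    rintro _ ⟨g, rfl⟩; exact emb_fix hF _ g
  have hK : ∀ k ∈ K, k • pt hF (0 : Fin (n + 4)) = pt hF 0 := by
    rintro _ ⟨g, rfl⟩; exact emb_fix hF _ g
  have hK' : ∀ h ∈ H, h • pt hF (0 : Fin (n + 4)) = pt hF 0 → h ∈ K := by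
    rintro _ ⟨g, rfl⟩ e
    obtain ⟨t, rfl⟩ := stab hF 0 (fix_of_emb hF (Fin.last _) 0 (g := g) (by
      rw [Fin.succAbove_last, Fin.castSucc_zero]; exact e))
    exact ⟨up _ t, Prod.ext (DFunLike.congr_fun h1 t).symm (up_lo t).symm⟩
  have key := cover (Γ := J × SU (n + 4) F q) perp (adj hF) (adj_symm hF)
    (fun x a b => by rw [sm, sm, perp, h_smul]; rfl) (fun x a b => by rw [sm, sm, adj, h_smul]; rfl)
    (adj_of_perp hF) (fun a b => hz hF) (exP hF hq (by omega)) (exTr hF hq (by omega)) H K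
    (pt hF (Fin.last _)) (pt hF 0) (pt_perp hF l0) hH hK
    (fun y hy => let ⟨g, hg⟩ := trans2 hF l0.symm hy; ⟨_, ⟨g, rfl⟩, hg⟩)
    (fun y hy => let ⟨g, hg⟩ := trans2 hF l0 (hz hF hy); ⟨_, ⟨g, rfl⟩, hg⟩)
    (by
      rintro _ ⟨g, rfl⟩ e
      obtain ⟨t, rfl⟩ := stab hF (Fin.last _) (fix_of_emb hF 0 (Fin.last _) (g := g) e)
      exact ⟨lo _ t, Prod.ext (DFunLike.congr_fun h1 t) (up_lo t)⟩) hK'
    (fun u' v' a1 a2 a3 a4 a5 => by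
      obtain ⟨t, x, y, t1, t2, t3, t4⟩ := square hF a1 a2 a3 a4 a5
      obtain ⟨g, rfl⟩ := stab hF _ t2
      have m1 : φ.prod (up _) g ∈ H := ⟨g, rfl⟩
      have m2 := hK' _ m1 t1
      refine ⟨_, H.mul_mem (H.mul_mem m1 ⟨blk (n + 1) 0 x, rfl⟩) (H.inv_mem m1), _,
        K.mul_mem (K.mul_mem m2 ⟨blk (n + 1) (n + 1) y, rfl⟩) (K.inv_mem m2), ?_, ?_, ?_⟩
      · rw [mul_smul, hK _ (K.inv_mem m2), mul_smul]; exact t3
      · rw [mul_smul, hH _ (H.inv_mem m1), mul_smul]; exact t4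
      · exact Commute.map (Prod.ext (h2 x y).eq (blk_comm (m := n + 2) (i := 0) (by omega) le_rfl x y).eq :
          Commute (φ.prod (up _) (blk (n + 1) 0 x)) (ψ.prod (lo _) (blk (n + 1) (n + 1) y)))
          (MulAut.conj (φ.prod (up _) g)))
  obtain ⟨Φ, hΦ⟩ := graph_hom (H ⊔ K) (fun x hx e => by
    obtain ⟨g, rfl⟩ := key x hx (by rw [sm, e, one_smul])
    obtain rfl : g = 1 := emb_inj _ (e.trans (map_one _).symm)
    exact map_one φ) (fun g => by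
    have : (⊤ : Subgroup (SU (n + 4) F q)) ≤ (H ⊔ K).map (MonoidHom.snd _ _) := by
      rw [← gen hF hq]
      refine sup_le ?_ ?_ <;> rintro _ ⟨x, rfl⟩
      exacts [⟨_, Subgroup.mem_sup_left ⟨x, rfl⟩, rfl⟩, ⟨_, Subgroup.mem_sup_right ⟨x, rfl⟩, rfl⟩]
    obtain ⟨x, hx, rfl⟩ := this (Subgroup.mem_top g)
    exact ⟨x.1, hx⟩)
  exact ⟨Φ, MonoidHom.ext fun g => hΦ _ (Subgroup.mem_sup_left ⟨g, rfl⟩),
    MonoidHom.ext fun g => hΦ _ (Subgroup.mem_sup_right ⟨g, rfl⟩)⟩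

include hF in
theorem univ' (hq : 3 < q) {J : Type*} [Group J] : ∀ (m : ℕ) (f : ℕ → (SU 2 F q →* J)),
    (∀ i, i + 1 < m + 2 → ∃ π : SU 3 F q →* J, π.comp (up 2) = f i ∧ π.comp (lo 2) = f (i + 1)) →
    (∀ i j, i + 2 ≤ j → j < m + 2 → ∀ x y, Commute (f i x) (f j y)) →
    ∃ Φ : SU (m + 3) F q →* J, ∀ i ≤ m + 1, Φ.comp (blk (m + 1) i) = f i
  | 0, f, h2, _ => (h2 0 (by omega)).imp fun π h i hi => by
    interval_cases i
    exacts [h.1, h.2]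
  | m + 1, f, h2, hc => by
    obtain ⟨φ, hφ⟩ := univ' hq m f (fun i h => h2 i (by omega)) (fun i j h h' => hc i j h (by omega))
    obtain ⟨ψ, hψ⟩ := univ' hq m (fun i => f (i + 1)) (fun i h => h2 (i + 1) (by omega))
      (fun i j h h' => hc (i + 1) (j + 1) (by omega) (by omega))
    obtain ⟨Φ, e1, e2⟩ := step hF hq φ ψ (blk_ext hF hq m _ _ fun i hi => by
      rw [MonoidHom.comp_assoc, MonoidHom.comp_assoc, ← blk_up m i hi, hψ i (by omega)]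
      exact hφ (i + 1) (by omega)) (fun x y => by
      have := hc 0 (m + 2) (by omega) (by omega) x y
      rwa [← hφ 0 (by omega), ← hψ (m + 1) le_rfl] at this)
    refine ⟨Φ, fun i hi => ?_⟩
    rcases i with _ | i
    · rw [← hφ 0 (by omega), ← e1]; rfl
    · rw [← hψ i (by omega), ← e2]; rfl

include hF in
theorem univ (hq : 3 < q) {J : Type*} [Group J] (n : ℕ) (f : ℕ → (SU 2 F q →* J))
    (h2 : ∀ i, i + 1 < n → ∃ π : SU 3 F q →* J, π.comp (up 2) = f i ∧ π.comp (lo 2) = f (i + 1))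
    (hc : ∀ i j, i + 2 ≤ j → j < n → ∀ x y, Commute (f i x) (f j y)) (hn : 2 ≤ n) :
    ∃ Φ : SU (n + 1) F q →* J, ∀ i < n, (f i).range ≤ Φ.range := by
  obtain ⟨m, rfl⟩ : ∃ m, n = m + 2 := ⟨n - 2, by omega⟩
  obtain ⟨Φ, h⟩ := univ' hF hq m f h2 hc
  refine ⟨Φ, fun i hi => ?_⟩
  rintro _ ⟨x, rfl⟩
  exact ⟨_, DFunLike.congr_fun (h i (by omega)) x⟩

end CA.Phan
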