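import Cfsg.Agent.Lib.Lin.Phan0
import Cfsg.Agent.Lib.Lin.Phan1

/-! Geometry of unit vectors for the standard Hermitian form. -/

set_option autoImplicit false

namespace CA.Phan

open Matrix Cfsg CA.CForm Polynomial

variable {F : Type*} [Field F] [Fintype F] {q N : ℕ} (hF : Fintype.card F = q ^ 2)

local notation "⟪" u ", " v "⟫" => hermForm _ F q u v
local notation "σ" => conj hF

omit [Fintype F] in
theorem hal (u v w : Fin N → F) : ⟪u + v, w⟫ = ⟪u, w⟫ + ⟪v, w⟫ := by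
  simp [hermForm, add_mul, Finset.sum_add_distrib]

omit [Fintype F] in
theorem hsl (u v w : Fin N → F) : ⟪u - v, w⟫ = ⟪u, w⟫ - ⟪v, w⟫ := by
  simp [hermForm, sub_mul, Finset.sum_sub_distrib]

omit [Fintype F] in
theorem hml (c : F) (u w : Fin N → F) : ⟪c • u, w⟫ = c * ⟪u, w⟫ := by
  simp [hermForm, mul_assoc, Finset.mul_sum]

theorem hsy (u v : Fin N → F) : ⟪v, u⟫ = σ ⟪u, v⟫ := by
  simp only [hermForm, ← conj_apply hF, map_sum, map_mul, conj_conj]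
  exact Finset.sum_congr rfl fun i _ => mul_comm _ _

include hF

theorem har (u v w : Fin N → F) : ⟪w, u + v⟫ = ⟪w, u⟫ + ⟪w, v⟫ := by
  rw [hsy hF, hal, map_add, ← hsy hF, ← hsy hF]

theorem hsr (u v w : Fin N → F) : ⟪w, u - v⟫ = ⟪w, u⟫ - ⟪w, v⟫ := by
  rw [hsy hF, hsl, map_sub, ← hsy hF, ← hsy hF]

theorem hmr (c : F) (u w : Fin N → F) : ⟪w, c • u⟫ = σ c * ⟪w, u⟫ := by
  rw [hsy hF, hml, map_mul, ← hsy hF]

theorem hz {u v : Fin N → F} (h : ⟪u, v⟫ = 0) : ⟪v, u⟫ = 0 := by rw [hsy hF, h, map_zero]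

theorem hsingle (u : Fin N → F) (i : Fin N) : ⟪u, Pi.single i 1⟫ = u i := by
  have := two_le_of_card_sq hF
  simp only [hermForm]
  rw [Finset.sum_eq_single i (fun j _ hj => by simp [hj, show q ≠ 0 by omega]) (by simp)]
  simp

theorem witt {κ : Type*} [Fintype κ] [DecidableEq κ] (j : κ → Fin N) (hj : Function.Injective j)
    (v : κ → Fin N → F) (hv : ∀ i k, ⟪v i, v k⟫ = if i = k then 1 else 0) (m : Fin N) :
    ∃ (g : SU N F q) (c : F), c * σ c = 1 ∧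
      ∀ i, g.1.1 *ᵥ Pi.single (j i) 1 = (if j i = m then c else 1) • v i := by
  have li : ∀ v : κ → Fin N → F, (∀ i k, ⟪v i, v k⟫ = if i = k then 1 else 0) → LinearIndependent F v :=
    fun v hv => Fintype.linearIndependent_iff.2 fun c hc k => by
      have := congrArg ((hermStd hF N).B (v k)) hc
      rw [map_zero] at this
      simpa [hermStd_B, hv] using this
  have he : ∀ i k, ⟪(Pi.single (j i) 1 : Fin N → F), Pi.single (j k) 1⟫ = if i = k then 1 else 0 := fun i k => by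
    rw [hsingle hF, Pi.single_apply]; simp [hj.eq_iff, eq_comm]
  obtain ⟨g, hg⟩ := (hermStd_nondeg hF N).witt_family (li _ he) (li _ hv)
    (fun i k => by rw [hermStd_B, hermStd_B, hv, he]) (fun i => by rw [hermStd_Q, hermStd_Q, hv, he])
  obtain ⟨A, hA⟩ : ∃ A : Matrix (Fin N) (Fin N) F, ∀ x, A *ᵥ x = g.1 x := ⟨_, glEquiv_symm_mulVec g.1⟩
  have h1 : ∀ x y, ⟪A *ᵥ x, A *ᵥ y⟫ = ⟪x, y⟫ := fun x y => by
    rw [hA, hA, ← hermStd_B hF, ← hermStd_B hF]; exact g.2.1 _ _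
  have h2 : A.det * σ A.det = 1 := by
    have : Aᵀ * A.map σ = 1 := by
      ext a b
      have := h1 (Pi.single a 1) (Pi.single b 1)
      rw [hsingle hF] at this
      simp only [hermForm, mulVec_single_one, col_apply] at this
      rw [mul_apply, one_apply]
      exact this.trans (by simp [Pi.single_apply, eq_comm])
    have := congrArg det this
    rwa [det_mul, det_transpose, ← RingHom.mapMatrix_apply, ← RingHom.map_det, det_one] at this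
  have h3 : σ A.det * σ (σ A.det) = 1 := by rw [conj_conj, mul_comm, h2]
  refine ⟨⟨⟨A * diagonal (fun i => if i = m then σ A.det else 1), by
    rw [det_mul, det_diagonal, Finset.prod_ite_eq']; simpa using h2⟩, mem_SU.2 fun x y => ?_⟩, σ A.det, h3,
    fun i => ?_⟩
  · change ⟪(_ * _) *ᵥ x, (_ * _) *ᵥ y⟫ = _
    rw [← mulVec_mulVec, ← mulVec_mulVec, h1]
    refine Finset.sum_congr rfl fun i _ => ?_
    rw [mulVec_diagonal, mulVec_diagonal, ← conj_apply hF, ← conj_apply hF, map_mul]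
    split_ifs
    · linear_combination x i * σ (y i) * h3
    · simp
  · change (_ * _) *ᵥ _ = _
    rw [← mulVec_mulVec, diagonal_mulVec_single, mul_one, ← hg i, ← hA, ← mulVec_smul, ← Pi.single_smul,
      smul_eq_mul, mul_one]

theorem ext {κ : Type*} [Fintype κ] [DecidableEq κ] (hN : Fintype.card κ < N) (v : κ → Fin N → F)
    (hv : ∀ i k, ⟪v i, v k⟫ = if i = k then 1 else 0) : ∃ y, ⟪y, y⟫ = 1 ∧ ∀ i, ⟪y, v i⟫ = 0 := by
  obtain ⟨j⟩ : Nonempty (κ ↪ Fin N) := Function.Embedding.nonempty_of_card_le (by simpa using hN.le)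
  obtain ⟨m, hm⟩ : ∃ m, ∀ i, j i ≠ m := by
    by_contra h
    push Not at h
    have := Fintype.card_le_of_surjective j h
    simp at this; omega
  obtain ⟨g, c, -, hg⟩ := witt hF j j.2 v hv m
  refine ⟨g.1.1 *ᵥ Pi.single m 1, by rw [mem_SU.1 g.2, hsingle hF]; simp, fun i => ?_⟩
  have := hg i
  rw [if_neg (hm i), one_smul] at this
  rw [← this, mem_SU.1 g.2, hsingle hF, Pi.single_eq_of_ne (hm i)]

theorem ex1 (hN : 2 ≤ N) {a : Fin N → F} (ha : ⟪a, a⟫ = 1) : ∃ y, ⟪y, y⟫ = 1 ∧ ⟪y, a⟫ = 0 := by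
  obtain ⟨y, h1, h2⟩ := ext hF (κ := Fin 1) (by rw [Fintype.card_fin]; omega) ![a] (fun i k => by
    fin_cases i; fin_cases k; simp [ha])
  exact ⟨y, h1, h2 0⟩

theorem ex2 (hN : 3 ≤ N) {a b : Fin N → F} (ha : ⟪a, a⟫ = 1) (hb : ⟪b, b⟫ = 1) (h : ⟪b, a⟫ = 0) :
    ∃ y, ⟪y, y⟫ = 1 ∧ ⟪y, a⟫ = 0 ∧ ⟪y, b⟫ = 0 := by
  obtain ⟨y, h1, h2⟩ := ext hF (κ := Fin 2) (by rw [Fintype.card_fin]; omega) ![a, b] (fun i k => by
    fin_cases i <;> fin_cases k <;> simp [ha, hb, h, hz hF h])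
  exact ⟨y, h1, h2 0, h2 1⟩

theorem ex3 (hN : 4 ≤ N) {a b c : Fin N → F} (ha : ⟪a, a⟫ = 1) (hb : ⟪b, b⟫ = 1) (hc : ⟪c, c⟫ = 1)
    (h : ⟪b, a⟫ = 0) (h' : ⟪c, a⟫ = 0) (h'' : ⟪c, b⟫ = 0) :
    ∃ y, ⟪y, y⟫ = 1 ∧ ⟪y, a⟫ = 0 ∧ ⟪y, b⟫ = 0 ∧ ⟪y, c⟫ = 0 := by
  obtain ⟨y, h1, h2⟩ := ext hF (κ := Fin 3) (by rw [Fintype.card_fin]; omega) ![a, b, c] (fun i k => by
    fin_cases i <;> fin_cases k <;> simp [ha, hb, hc, h, hz hF h, h', hz hF h', h'', hz hF h''])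
  exact ⟨y, h1, h2 0, h2 1, h2 2⟩

theorem nrm {y : Fin N → F} (hy : ⟪y, y⟫ ≠ 0) :
    ∃ (z : Fin N → F) (β : F), β ≠ 0 ∧ ⟪z, z⟫ = 1 ∧ y = β • z ∧ β * σ β = ⟪y, y⟫ := by
  obtain ⟨β, hβ⟩ := exists_norm_eq σ (conj_conj hF) (conj_ne_id hF) ⟪y, y⟫ (hsy hF y y).symm
  have h0 : β ≠ 0 := fun h => hy (by rw [← hβ, h, zero_mul])
  have h1 : σ β ≠ 0 := by simpa using h0
  refine ⟨β⁻¹ • y, β, h0, ?_, by rw [smul_inv_smul₀ h0], hβ⟩
  rw [hml, hmr hF, ← hβ, map_inv₀]; field_simp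

theorem gs {a b : Fin N → F} (ha : ⟪a, a⟫ = 1) (hb : ⟪b, b⟫ = 1) (h : ⟪b, a⟫ * σ ⟪b, a⟫ ≠ 1) :
    ∃ (b' : Fin N → F) (β : F), β ≠ 0 ∧ ⟪b', b'⟫ = 1 ∧ ⟪b', a⟫ = 0 ∧ b = ⟪b, a⟫ • a + β • b' ∧
      ∀ y, ⟪y, a⟫ = 0 → ⟪y, b⟫ = 0 → ⟪y, b'⟫ = 0 := by
  obtain ⟨z, β, h0, h1, h2, -⟩ := nrm hF (y := b - ⟪b, a⟫ • a) (by
    rw [hsl, hsr hF, hsr hF, hml, hml, hmr hF, hmr hF, ha, hb, hsy hF b a]
    intro e; apply h; linear_combination -e)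
  refine ⟨z, β, h0, h1, ?_, by rw [← h2]; simp, fun y h3 h4 => ?_⟩
  · have := congrArg (fun x => ⟪x, a⟫) h2
    simp only [hsl, hml, ha, mul_one, sub_self] at this
    exact (mul_eq_zero.1 this.symm).resolve_left h0
  · have := congrArg (fun x => ⟪y, x⟫) h2
    simp only [hsr hF, hmr hF, h3, h4, mul_zero, sub_self] at this
    exact (mul_eq_zero.1 this.symm).resolve_left (by simpa using h0)

theorem exists_t (hq : 3 < q) (α β γ δ : F) : ∃ t, 1 + t * σ t ≠ 0 ∧ (α + t * β) * σ (α + t * β) ≠ 1 + t * σ t ∧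
    (γ + t * δ) * σ (γ + t * δ) ≠ 1 + t * σ t := by
  let P : F → F → F[X] := fun α β => C (1 - β * σ β) * X ^ (q + 1) + C (-(α * σ β)) * X ^ q +
    C (-(β * σ α)) * X ^ 1 + C (1 - α * σ α) * X ^ 0
  have h1 : ∀ α β, P α β ≠ 0 := fun α β h => by
    have c0 := congrArg (coeff · 0) h
    have c1 := congrArg (coeff · 1) h
    have c2 := congrArg (coeff · (q + 1)) h
    simp only [P, coeff_add, coeff_C_mul, coeff_X_pow, coeff_zero] at c0 c1 c2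
    rw [if_neg (by omega), if_neg (by omega), if_neg (by omega), if_pos trivial] at c0
    rw [if_neg (by omega), if_neg (by omega), if_pos trivial, if_neg (by omega)] at c1
    rw [if_pos trivial, if_neg (by omega), if_neg (by omega), if_neg (by omega)] at c2
    have : (1 : F) = 0 := by
      linear_combination c0 + α * σ α * c2 - α * σ β * c1
    exact one_ne_zero this
  have h2 : ∀ α β, (P α β).natDegree ≤ q + 1 := fun α β =>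
    natDegree_add_le_of_degree_le (natDegree_add_le_of_degree_le (natDegree_add_le_of_degree_le
      (natDegree_C_mul_X_pow_le _ _) ((natDegree_C_mul_X_pow_le _ _).trans (by omega)))
      ((natDegree_C_mul_X_pow_le _ _).trans (by omega))) ((natDegree_C_mul_X_pow_le _ _).trans (by omega))
  have h3 : ∀ α β t, (P α β).eval t = 1 + t * σ t - (α + t * β) * σ (α + t * β) := fun α β t => by
    simp only [P, eval_add, eval_mul, eval_C, eval_pow, eval_X, map_add, map_mul, pow_succ, ← conj_apply hF]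
    ring
  by_contra hc
  push Not at hc
  refine mul_ne_zero (mul_ne_zero (h1 0 0) (h1 α β)) (h1 γ δ)
    (eq_zero_of_natDegree_lt_card_of_eval_eq_zero _ Function.injective_id (fun t => ?_) ?_)
  · rw [eval_mul, eval_mul, h3, h3, h3, id]
    by_cases a : 1 + t * σ t = 0
    · simp [a]
    by_cases b : (α + t * β) * σ (α + t * β) = 1 + t * σ t
    · rw [b]; simp
    · rw [hc t a b]; simp
  · have := h2 0 0; have := h2 α β; have := h2 γ δ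
    have := natDegree_mul_le (p := P 0 0 * P α β) (q := P γ δ)
    have := natDegree_mul_le (p := P 0 0) (q := P α β)
    rw [hF]; nlinarith

theorem line (hq : 3 < q) {p r : Fin N → F} (hp : ⟪p, p⟫ = 1) (hr : ⟪r, r⟫ = 1) (h : ⟪r, p⟫ = 0) (a d : Fin N → F) :
    ∃ y, ⟪y, y⟫ = 1 ∧ (∀ x, ⟪p, x⟫ = 0 → ⟪r, x⟫ = 0 → ⟪y, x⟫ = 0) ∧ ⟪y, a⟫ * σ ⟪y, a⟫ ≠ 1 ∧
      ⟪y, d⟫ * σ ⟪y, d⟫ ≠ 1 := by
  obtain ⟨t, h1, h2, h3⟩ := exists_t hF hq ⟪p, a⟫ ⟪r, a⟫ ⟪p, d⟫ ⟪r, d⟫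
  have e : ⟪p + t • r, p + t • r⟫ = 1 + t * σ t := by
    simp only [hal, har hF, hml, hmr hF, hp, hr, h, hz hF h]; ring
  obtain ⟨z, β, h0, h4, h5, h6⟩ := nrm hF (y := p + t • r) (e ▸ h1)
  have e1 : ∀ x, ⟪p, x⟫ + t * ⟪r, x⟫ = β * ⟪z, x⟫ := fun x => by rw [← hml, ← hml, ← hal, h5]
  rw [e] at h6
  refine ⟨z, h4, fun x a b => ?_, fun a => h2 ?_, fun a => h3 ?_⟩
  · have := e1 x
    rw [a, b, mul_zero, add_zero] at this
    exact (mul_eq_zero.1 this.symm).resolve_left h0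
  all_goals rw [e1, map_mul, ← h6]; linear_combination β * σ β * a

theorem proj {a b : Fin N → F} (ha : ⟪a, a⟫ = 1) (hb : ⟪b, b⟫ = 1) (h : ⟪b, a⟫ = 0) (c : Fin N → F) :
    ∃ r, ⟪r, a⟫ = 0 ∧ ⟪r, b⟫ = 0 ∧ (∀ y, ⟪y, a⟫ = 0 → ⟪y, b⟫ = 0 → ⟪y, r⟫ = ⟪y, c⟫) ∧
      ⟪r, r⟫ = ⟪c, c⟫ - ⟪c, a⟫ * σ ⟪c, a⟫ - ⟪c, b⟫ * σ ⟪c, b⟫ := by
  refine ⟨c - ⟪c, a⟫ • a - ⟪c, b⟫ • b, ?_, ?_, fun y h1 h2 => ?_, ?_⟩
  · simp only [hsl, hml, ha, h]; ring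
  · simp only [hsl, hml, hb, hz hF h]; ring
  · simp only [hsr hF, hmr hF, h1, h2]; ring
  · simp only [hsl, hml, hsr hF, hmr hF, ha, hb, h, hz hF h, hsy hF c a, hsy hF c b]; ring

theorem g3 (hN : 4 ≤ N) {a b c : Fin N → F} (ha : ⟪a, a⟫ = 1) (hb : ⟪b, b⟫ = 1) (h : ⟪b, a⟫ = 0)
    (hc : ⟪c, c⟫ - ⟪c, a⟫ * σ ⟪c, a⟫ - ⟪c, b⟫ * σ ⟪c, b⟫ ≠ 0) :
    ∃ y, ⟪y, y⟫ = 1 ∧ ⟪y, a⟫ = 0 ∧ ⟪y, b⟫ = 0 ∧ ⟪y, c⟫ = 0 := by
  obtain ⟨r, h1, h2, h3, h4⟩ := proj hF ha hb h c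
  obtain ⟨z, β, h0, h5, rfl, -⟩ := nrm hF (y := r) (h4 ▸ hc)
  rw [hml, mul_eq_zero_iff_left h0] at h1 h2
  obtain ⟨y, k1, k2, k3, k4⟩ := ex3 hF hN ha hb h5 h h1 h2
  exact ⟨y, k1, k2, k3, by rw [← h3 y k2 k3, hmr hF, k4, mul_zero]⟩

theorem tr1 (hN : 4 ≤ N) {a b c : Fin N → F} (ha : ⟪a, a⟫ = 1) (hb : ⟪b, b⟫ = 1) (h : ⟪b, a⟫ * σ ⟪b, a⟫ ≠ 1)
    (hg : ¬∃ y, ⟪y, y⟫ = 1 ∧ ⟪y, a⟫ = 0 ∧ ⟪y, b⟫ = 0 ∧ ⟪y, c⟫ = 0) {μ : F} (h1 : σ μ = μ) (h0 : μ ≠ 0) :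
    ∃ z, ⟪z, z⟫ = 1 ∧ ⟪z, a⟫ = 0 ∧ ⟪z, b⟫ = 0 ∧ ⟪z, c⟫ * σ ⟪z, c⟫ = μ := by
  obtain ⟨b', β, -, k1, k2, k3, -⟩ := gs hF ha hb h
  have k4 : ∀ y, ⟪y, a⟫ = 0 → ⟪y, b'⟫ = 0 → ⟪y, b⟫ = 0 := fun y h1 h2 => by
    rw [k3, har hF, hmr hF, hmr hF, h1, h2]; simp
  obtain ⟨r, r1, r2, r3, r4⟩ := proj hF ha k1 k2 c
  have r5 : ⟪r, r⟫ = 0 := by
    by_contra e
    obtain ⟨y, y1, y2, y3, y4⟩ := g3 hF hN ha k1 k2 (r4 ▸ e)
    exact hg ⟨y, y1, y2, k4 y y2 y3, y4⟩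
  obtain ⟨i, hi⟩ : ∃ i, r i ≠ 0 := by
    by_contra e
    push Not at e
    obtain ⟨y, y1, y2, y3⟩ := ex2 hF (by omega) ha k1 k2
    refine hg ⟨y, y1, y2, k4 y y2 y3, ?_⟩
    rw [← r3 y y2 y3, hz hF]; simp [hermForm, e]
  obtain ⟨s, s1, s2, s3, -⟩ := proj hF ha k1 k2 (Pi.single i 1)
  have s4 : ⟪r, s⟫ = r i := by rw [s3 r r1 r2, hsingle hF]
  have hi' : σ (r i) ≠ 0 := by simpa using hi
  obtain ⟨t, ht⟩ := Kind.exists_trace_eq σ (conj_conj hF) (conj_ne_id hF) (r i * σ (r i) / μ - ⟪s, s⟫) (by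
    rw [map_sub, map_div₀, map_mul, conj_conj, h1, ← hsy hF, mul_comm])
  have e : ⟪s + (t / r i) • r, s + (t / r i) • r⟫ = r i * σ (r i) / μ := by
    simp only [hal, har hF, hml, hmr hF, r5, hsy hF r s, s4, map_div₀]
    rw [div_mul_cancel₀ _ hi, mul_zero, add_zero, div_mul_cancel₀ _ hi']
    linear_combination ht
  obtain ⟨z, γ, g0, g1, g2, g3⟩ := nrm hF (y := s + (t / r i) • r) (by rw [e]; exact div_ne_zero (mul_ne_zero hi hi') h0)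
  have e1 : ∀ x, ⟪s, x⟫ + t / r i * ⟪r, x⟫ = γ * ⟪z, x⟫ := fun x => by rw [← hml, ← hml, ← hal, g2]
  have z1 : ⟪z, a⟫ = 0 := by
    have := e1 a
    rw [s1, r1, mul_zero, add_zero] at this
    exact (mul_eq_zero.1 this.symm).resolve_left g0
  have z2 : ⟪z, b'⟫ = 0 := by
    have := e1 b'
    rw [s2, r2, mul_zero, add_zero] at this
    exact (mul_eq_zero.1 this.symm).resolve_left g0
  refine ⟨z, g1, z1, k4 z z1 z2, ?_⟩
  have e2 := e1 r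
  rw [r5, mul_zero, add_zero, hsy hF r s, s4, r3 z z1 z2] at e2
  have e3 := congrArg σ e2
  rw [conj_conj, map_mul] at e3
  rw [e, eq_div_iff h0, e2, e3] at g3
  have : γ * σ γ ≠ 0 := mul_ne_zero g0 (by simpa using g0)
  apply mul_left_cancel₀ this
  linear_combination -g3

end CA.Phan
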