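import Cfsg.Agent.Lib.Lin.Phan1

/-! Simple connectivity, version for dimension at least five. -/

set_option autoImplicit false

namespace CA.Phan

theorem cover2 {Γ X : Type*} [Group Γ] [MulAction Γ X] (perp : X → X → Prop)
    (pi : ∀ (x : Γ) a b, perp (x • a) (x • b) ↔ perp a b) (ps : ∀ a b, perp a b → perp b a)
    (E : ∀ a b, ∃ y, perp y a ∧ perp y b) (G5 : ∀ a b c, perp a b → Good perp a b c)
    (H K : Subgroup Γ) (v u : X) (h0 : perp u v) (hH : ∀ h ∈ H, h • v = v) (hK : ∀ k ∈ K, k • u = u)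
    (tH : ∀ y, perp y v → ∃ h ∈ H, h • u = y) (tK : ∀ y, perp u y → ∃ k ∈ K, k • v = y)
    (kH : ∀ k ∈ K, k • v = v → k ∈ H) (hK' : ∀ h ∈ H, h • u = u → h ∈ K)
    (c4 : ∀ u' v', perp u v' → perp u' v → perp u' v' →
      (∃ h ∈ H, ∃ k ∈ K, h • u = u' ∧ k • v = v' ∧ Commute h k) ∨
        (¬perp u' u ∧ ∃ y, perp y v ∧ perp y v' ∧ perp y u ∧ perp y u'))
    (x : Γ) (hx : x ∈ H ⊔ K) (hv : x • v = v) : x ∈ H := by
  let inc : Γ → Γ → Prop := fun x g => ∃ k ∈ K, ∃ h ∈ H, x = g * k * h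
  let T : Γ → Prop := fun x => ∃ g ∈ H, inc x g
  have pl : ∀ (x : Γ) a b, perp a (x • b) → perp (x⁻¹ • a) b := fun x a b h => by
    rw [← pi x, smul_inv_smul]; exact h
  have Q0 : ∀ x, ∀ g ∈ H, ∀ h ∈ H, inc x g → perp (h • u) (x • v) → inc x h ∨
      (¬perp (h • u) (g • u) ∧ ∃ y, perp y v ∧ perp y (x • v) ∧ perp y (g • u) ∧ perp y (h • u)) := by
    rintro _ g hg h hh ⟨k, hk, h1, m0, rfl⟩ a2
    rw [mul_smul, hH h1 m0, mul_smul] at a2 ⊢
    have hh' := H.mul_mem (H.inv_mem hg) hh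
    rcases c4 ((g⁻¹ * h) • u) (k • v) (by rw [← hK k hk, pi]; exact h0) (by rw [← hH _ hh', pi]; exact h0)
      (by rw [mul_smul]; exact pl _ _ _ a2) with ⟨h0', m1, k0, m2, e1, e2, c⟩ | ⟨a, y, b1, b2, b3, b4⟩
    · have f1 : h0'⁻¹ * (g⁻¹ * h) ∈ K :=
        hK' _ (H.mul_mem (H.inv_mem m1) hh') (by rw [mul_smul, ← e1, inv_smul_smul])
      have f2 : k0⁻¹ * k ∈ H := kH _ (K.mul_mem (K.inv_mem m2) hk) (by rw [mul_smul, ← e2, inv_smul_smul])
      refine Or.inl ⟨_, K.mul_mem (K.inv_mem f1) m2, _, H.mul_mem (H.mul_mem (H.inv_mem m1) f2) m0, ?_⟩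
      calc g * k * h1 = g * ((h0' * k0) * h0'⁻¹ * (k0⁻¹ * k)) * h1 := by rw [c.eq]; group
        _ = _ := by group
    · refine Or.inr ⟨fun e => a ?_, g • y, ?_, ?_, ?_, ?_⟩
      · rw [← pi g, mul_smul, smul_inv_smul]; exact e
      · rw [← hH g hg, pi]; exact b1
      · rw [pi]; exact b2
      · rw [pi]; exact b3
      · rw [← pi g, mul_smul, smul_inv_smul] at b4; exact b4
  have Q1 : ∀ x, ∀ h ∈ H, T x → perp (h • u) (x • v) → inc x h := by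
    rintro x h hh ⟨g, hg, i⟩ a2
    rcases Q0 x g hg h hh i a2 with e | ⟨-, y, b1, b2, b3, b4⟩
    · exact e
    obtain ⟨h', hh', rfl⟩ := tH y b1
    exact (Q0 x h' hh' h hh ((Q0 x g hg h' hh' i b2).resolve_right fun e => e.1 b3) a2).resolve_right
      fun e => e.1 (ps _ _ b4)
  let A : Γ → Γ → Prop := fun x y => T (x⁻¹ * y)
  have Ti : ∀ {x}, T x → T x⁻¹ := by
    rintro x ⟨g, hg, k, hk, h, hh, e⟩
    exact ⟨_, H.inv_mem hh, _, K.inv_mem hk, _, H.inv_mem hg, by rw [e]; group⟩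
  have As : ∀ {x y}, A x y → A y x := fun {x y} h => by simpa [A] using Ti h
  have L1e : ∀ (x : Γ) w, ∃ y, A x y ∧ y • v = w := by
    intro x w
    obtain ⟨y, b1, b2⟩ := E v (x⁻¹ • w)
    obtain ⟨h, hh, rfl⟩ := tH y b1
    obtain ⟨k, hk, e⟩ := tK (h⁻¹ • x⁻¹ • w) (by rw [← pi h, smul_inv_smul]; exact b2)
    exact ⟨x * h * k, ⟨h, hh, k, hk, 1, H.one_mem, by group⟩,
      by rw [mul_smul, e, mul_smul, smul_inv_smul, smul_inv_smul]⟩
  have L2g : ∀ {x y z}, A x y → A x z → Good perp (x • v) (y • v) (z • v) → A y z := by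
    rintro x y z a b ⟨w, c1, c2, c3⟩
    obtain ⟨g, hg, e⟩ := tH _ (pl _ _ _ c1)
    obtain ⟨k, hk, h, hh, e1⟩ := Q1 _ g hg a (by rw [e, mul_smul, pi]; exact c2)
    obtain ⟨k', hk', h', hh', e2⟩ := Q1 _ g hg b (by rw [e, mul_smul, pi]; exact c3)
    refine ⟨_, H.inv_mem hh, _, K.mul_mem (K.inv_mem hk) hk', _, hh', ?_⟩
    calc y⁻¹ * z = (x⁻¹ * y)⁻¹ * (x⁻¹ * z) := by group
      _ = _ := by rw [e1, e2]; group
  have L2 : ∀ {x y z}, A x y → A x z → A y z := by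
    intro x y z a b
    obtain ⟨w, c1, c2⟩ := E (x • v) (y • v)
    obtain ⟨w, c, rfl⟩ := L1e x w
    obtain ⟨s, s1, s2, s3⟩ := G5 _ _ (y • v) c1
    obtain ⟨t, t1, t2, t3⟩ := G5 _ _ (z • v) c1
    exact L2g (L2g c a ⟨s, s2, s1, s3⟩) (L2g c b ⟨t, t2, t1, t3⟩) (G5 _ _ _ c2)
  have TH : ∀ h ∈ H, T h := fun h hh => ⟨h, hh, 1, K.one_mem, 1, H.one_mem, by group⟩
  have TK : ∀ k ∈ K, T k := fun k hk => ⟨1, H.one_mem, k, hk, 1, H.one_mem, by group⟩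
  have Tx : T x := by
    rw [Subgroup.sup_eq_closure] at hx
    clear hv
    induction hx using Subgroup.closure_induction with
    | mem a ha => exact ha.elim (TH a) (TK a)
    | inv a _ ia => exact Ti ia
    | one => exact TH 1 H.one_mem
    | mul a b _ _ ia ib =>
      simpa [A] using L2 (x := 1) (y := a⁻¹) (z := b) (by simpa [A] using Ti ia) (by simpa [A] using ib)
  obtain ⟨k, hk, h, hh, e⟩ := Q1 x 1 H.one_mem Tx (by rw [one_smul, hv]; exact h0)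
  rw [e, one_mul, mul_smul, hH h hh] at hv
  rw [e, one_mul]
  exact H.mul_mem (kH k hk hv) hh

end CA.Phan
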