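import Cfsg.Agent.Lib.Lin.GL2Char
import Cfsg.Agent.Lib.Lin.Ch2Pair

/-! The character table of `SL₂(q)`. -/

set_option autoImplicit false

namespace CA.SL2Char

open Matrix Cfsg CA.SL2Basic CA.Mat2 CA.SL2Torus CA.SL2Embed CA.SL2Unip CA.SL2Reps CA.SL2Class
open CChar.CharFun CChar.CharOrth CChar.CharGen CChar.CharKer CA.Ch2Gen CA.Ch2Pair
open scoped MatrixGroups ComplexConjugate

variable {F : Type*} [Field F]

/-- upper triangular matrices of determinant one -/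
def tr (a : Fˣ) (b : F) : SL(2, F) := mk2 a b 0 (a⁻¹ : Fˣ) (by simp)

@[simp] theorem tr_00 (a : Fˣ) (b : F) : (tr a b).1 0 0 = a := rfl
@[simp] theorem tr_01 (a : Fˣ) (b : F) : (tr a b).1 0 1 = b := rfl
@[simp] theorem tr_10 (a : Fˣ) (b : F) : (tr a b).1 1 0 = 0 := rfl
@[simp] theorem tr_11 (a : Fˣ) (b : F) : (tr a b).1 1 1 = (a⁻¹ : Fˣ) := rfl

theorem toGL_tr (a : Fˣ) (b : F) :
    Matrix.SpecialLinearGroup.toGL (tr a b) = GL2Char.tri a b a⁻¹ := Units.ext rfl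

theorem tr_trace (a : Fˣ) (b : F) : (tr a b).1.trace = a + (a⁻¹ : Fˣ) := trace_mk2 ..

theorem tr_mem (a : Fˣ) (b : F) : tr a b ∈ B F := mem_B.2 rfl

theorem tr_one (b : F) : tr (1 : Fˣ) b = u b := sl_ext4 rfl rfl rfl (by simp [u])

theorem tr_one_zero : tr (1 : Fˣ) 0 = 1 := by rw [tr_one, u_zero]

theorem neg_tr (a : Fˣ) (b : F) : -tr a b = tr (-a) (-b) := by
  rw [tr, neg_mk2]; exact sl_ext4 (by simp) (by simp) (by simp) (by simp)

theorem tr_neg_one_zero : tr (-1 : Fˣ) 0 = -1 := by rw [← tr_one_zero, neg_tr, neg_zero]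

theorem exists_tr {g : SL(2, F)} (h : g.1 1 0 = 0) : ∃ a b, g = tr a b :=
  ⟨Units.mk0 _ (B_ne_zero (mem_B.2 h)), g.1 0 1,
    sl_ext4 rfl rfl h (by simp [B_11 (mem_B.2 h)])⟩

theorem sq_one_iff {a : Fˣ} : a ^ 2 = 1 ↔ a = a⁻¹ := by rw [sq, mul_eq_one_iff_eq_inv]

theorem sq_one_iff' {a : Fˣ} : a ^ 2 = 1 ↔ (a : F) ^ 2 = 1 := by
  rw [Units.ext_iff]; simp

theorem sq_one_cases' {a : Fˣ} (h : a ^ 2 = 1) : a = 1 ∨ a = -1 := by
  rcases sq_eq_one_iff.1 (sq_one_iff'.1 h) with e | e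
  · exact Or.inl (Units.ext e)
  · exact Or.inr (Units.ext e)

theorem SS_tr {a : Fˣ} (h : a ^ 2 ≠ 1) (b : F) : SS (tr a b) :=
  SS.of_split ⟨a, (a⁻¹ : Fˣ), fun e => h (sq_one_iff.2 (Units.ext e)), tr_trace a b, by simp⟩

theorem NS_tr_of_ne (a : Fˣ) {b : F} (h : b ≠ 0) : NS (tr a b).1 := Or.inl h

theorem not_NS_tr {a : Fˣ} (h : a ^ 2 = 1) : ¬ NS (tr a 0).1 := by
  rw [not_NS_iff_eq]
  rcases sq_one_cases' h with rfl | rfl
  · exact Or.inl tr_one_zero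
  · exact Or.inr tr_neg_one_zero

theorem exists_of_not_NS {g : SL(2, F)} (h : ¬ NS g.1) : ∃ a, a ^ 2 = 1 ∧ g = tr a 0 := by
  rcases (not_NS_iff_eq g).1 h with rfl | rfl
  · exact ⟨1, by simp, tr_one_zero.symm⟩
  · exact ⟨-1, by simp, tr_neg_one_zero.symm⟩

theorem not_aniso_tr (a : Fˣ) (b : F) : ¬ Aniso (tr a b).1 := GL2Char.not_aniso_tri a b a⁻¹

theorem tr_mem_center {a : Fˣ} (h : a ^ 2 = 1) : tr a 0 ∈ Subgroup.center SL(2, F) := by
  have := not_NS_tr h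
  rwa [NS_iff_not_center, not_not] at this

/-- linear characters of the Borel subgroup -/
noncomputable def bHom (α : MulChar F ℂ) : B F →* ℂ where
  toFun b := α ((b : SL(2, F)).1 0 0)
  map_one' := by simp
  map_mul' x y := by
    simp only [Subgroup.coe_mul, B_mul_00 y.2, map_mul]

theorem bHom_apply (α : MulChar F ℂ) (b : B F) : bHom α b = α ((b : SL(2, F)).1 0 0) := rfl

/-- invariance under conjugation by `GL₂` -/
def GInv (χ : SL(2, F) → ℂ) : Prop :=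
  ∀ g h : SL(2, F), NS g.1 → NS h.1 → g.1.trace = h.1.trace → χ g = χ h

/-- conjugation by `diag(e, 1)` -/
def sig (e : Fˣ) : SL(2, F) ≃* SL(2, F) where
  toFun g := mk2 (g.1 0 0) (e * g.1 0 1) ((e⁻¹ : Fˣ) * g.1 1 0) (g.1 1 1) (by
    have := det_eq g
    have h : (e : F) * (e⁻¹ : Fˣ) = 1 := by simp
    linear_combination this - g.1 0 1 * g.1 1 0 * h)
  invFun g := mk2 (g.1 0 0) ((e⁻¹ : Fˣ) * g.1 0 1) (e * g.1 1 0) (g.1 1 1) (by
    have := det_eq g
    have h : (e : F) * (e⁻¹ : Fˣ) = 1 := by simp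
    linear_combination this - g.1 0 1 * g.1 1 0 * h)
  left_inv g := sl_ext4 rfl (by simp) (by simp) rfl
  right_inv g := sl_ext4 rfl (by simp) (by simp) rfl
  map_mul' g h := by
    have he : (e : F) * (e⁻¹ : Fˣ) = 1 := by simp
    rw [mk2_mul, mk2_eq_iff]
    simp only [sl_mul_apply]
    refine ⟨?_, ?_, ?_, ?_⟩
    · linear_combination (-g.1 0 1 * h.1 1 0) * he
    · ring
    · ring
    · linear_combination (-g.1 1 0 * h.1 0 1) * he

theorem sig_coe (e : Fˣ) (g : SL(2, F)) :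
    (sig e g).1 = !![g.1 0 0, e * g.1 0 1; (e⁻¹ : Fˣ) * g.1 1 0, g.1 1 1] := rfl

theorem toGL_sig (e : Fˣ) (g : SL(2, F)) : Matrix.SpecialLinearGroup.toGL (sig e g) =
    GL2Char.tri e 0 1 * Matrix.SpecialLinearGroup.toGL g * (GL2Char.tri e 0 1)⁻¹ := by
  rw [eq_mul_inv_iff_mul_eq]
  refine Units.ext ?_
  change (sig e g).1 * (GL2Char.tri e 0 1).1 = (GL2Char.tri e 0 1).1 * g.1
  apply ext4 <;> simp only [mul_apply2] <;> simp [sig_coe, mul_comm]

theorem sig_tr (e a : Fˣ) (b : F) : sig e (tr a b) = tr a (e * b) :=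
  sl_ext4 rfl rfl (by simp [sig_coe]) rfl

theorem sig_u (e : Fˣ) (b : F) : sig e (u b) = u (e * b) := by
  rw [← tr_one, ← tr_one, sig_tr]

theorem trace_sig (e : Fˣ) (g : SL(2, F)) : (sig e g).1.trace = g.1.trace := by
  simp [sig_coe, trace_fin_two]

theorem sig_of_not_NS (e : Fˣ) {g : SL(2, F)} (h : ¬ NS g.1) : sig e g = g := by
  obtain ⟨a, -, rfl⟩ := exists_of_not_NS h
  rw [sig_tr, mul_zero]

theorem NS_sig (e : Fˣ) {g : SL(2, F)} (h : NS g.1) : NS (sig e g).1 := by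
  by_contra hn
  have := (sig e).injective (sig_of_not_NS e hn)
  rw [this] at hn
  exact hn h

theorem GInv.sig {χ : SL(2, F) → ℂ} (h : GInv χ) (e : Fˣ) (g : SL(2, F)) : χ (sig e g) = χ g := by
  by_cases hn : NS g.1
  · exact h _ _ (NS_sig e hn) hn (trace_sig e g)
  · rw [sig_of_not_NS e hn]

theorem isConj_sig [Finite F] (e : Fˣ) {g : SL(2, F)} (h : SS g ∨ ¬ NS g.1) :
    IsConj g (sig e g) := by
  rcases h with h | h
  · exact h.isConj (trace_sig e g).symm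
  · rw [sig_of_not_NS e h]

variable [Fintype F] [DecidableEq F]

local notation "q" => (Fintype.card F : ℂ)

/-- principal series -/
noncomputable def ps (α : MulChar F ℂ) : SL(2, F) → ℂ :=
  indFun ((upperTriangularGL 2 F).comap Matrix.SpecialLinearGroup.toGL)
    (fun b => α (((b : SL(2, F)) : Matrix (Fin 2) (Fin 2) F) 0 0))

theorem char_ps (α : MulChar F ℂ) : IsCharacter SL(2, F) (ps α) :=
  CA.MatRep.isCharacter_indFun _ (char_of_irr (irr_of_monoidHom (bHom α)))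

theorem classFun_ps (α : MulChar F ℂ) : IsClassFunction SL(2, F) (ps α) :=
  char_classFun (char_ps α)

omit [Fintype F] [DecidableEq F] in
theorem rep_bij : Function.Bijective (fun i => (rep (F := F) i : SL(2, F) ⧸ B F)) := by
  constructor
  · intro i j h
    exact rep_inj (mem_B.1 (QuotientGroup.eq.1 h))
  · intro x
    obtain ⟨g, rfl⟩ := QuotientGroup.mk_surjective x
    obtain ⟨i, hi⟩ := rep_surj g.1
    exact ⟨i, QuotientGroup.eq.2 (mem_B.2 hi)⟩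

theorem ps_apply (α : MulChar F ℂ) (g : SL(2, F)) : ps α g = psF α 1 g.1 := by
  classical
  refine (indFun_reps _ _ rep_bij (irr_classFun (irr_of_monoidHom (bHom α))) g).trans ?_
  rw [Fintype.sum_option, psF]
  have hd := det_eq g
  congr 1
  · simp only [rep, inv_one, one_mul, mul_one, CA.Ind.ext_eq_dite, mem_B, bHom_apply]
    split_ifs with h
    · rw [MulChar.one_apply, mul_one]
      refine IsUnit.mk0 _ fun e => ?_
      simp [h, e] at hd
    · rfl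
  · refine Finset.sum_congr rfl fun c _ => ?_
    have e : ((rep (some c))⁻¹ * g * rep (some c)).1 = _ := rep_conj c g.1
    rw [CA.Ind.ext_eq_dite]
    simp only [mem_B, bHom_apply, e]
    simp only [of_apply, cons_val', cons_val_zero, cons_val_one, cons_val_fin_one, neg_eq_zero]
    split_ifs with h
    · rw [MulChar.one_apply, mul_one]
      refine IsUnit.mk0 _ fun e => one_ne_zero (α := F) ?_
      linear_combination -hd + (g.1 1 0 * c + g.1 1 1) * e - g.1 1 0 * h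
    · rfl

theorem ps_eq_GL (α : MulChar F ℂ) (g : SL(2, F)) :
    ps α g = GL2Char.ps α 1 (Matrix.SpecialLinearGroup.toGL g) := by
  rw [ps_apply, GL2Char.ps_apply]; rfl

theorem ps_split (α : MulChar F ℂ) {a : Fˣ} (h : a ^ 2 ≠ 1) (b : F) :
    ps α (tr a b) = α a + α (a⁻¹ : Fˣ) := by
  rw [ps_eq_GL, toGL_tr, GL2Char.ps_split _ _ (fun e => h (sq_one_iff.2 e))]
  simp only [MulChar.one_apply_coe, mul_one]

theorem ps_central (α : MulChar F ℂ) {a : Fˣ} (h : a ^ 2 = 1) :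
    ps α (tr a 0) = (q + 1) * α a := by
  rw [ps_eq_GL, toGL_tr, ← sq_one_iff.1 h, GL2Char.ps_scalar]
  simp only [MulChar.one_apply_coe, mul_one]

theorem ps_unip (α : MulChar F ℂ) {a : Fˣ} (h : a ^ 2 = 1) {b : F} (hb : b ≠ 0) :
    ps α (tr a b) = α a := by
  rw [ps_eq_GL, toGL_tr, ← sq_one_iff.1 h, GL2Char.ps_unip _ _ _ hb]
  simp only [MulChar.one_apply_coe, mul_one]

theorem ps_aniso (α : MulChar F ℂ) {g : SL(2, F)} (h : Aniso g.1) : ps α g = 0 := by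
  rw [ps_apply, psF_aniso α 1 h]

theorem ps_one (α : MulChar F ℂ) : ps α 1 = q + 1 := by
  rw [← tr_one_zero, ps_central _ (by simp)]; simp

theorem ps_u (α : MulChar F ℂ) {b : F} (hb : b ≠ 0) : ps α (u b) = 1 := by
  rw [← tr_one, ps_unip _ (by simp) hb]; simp

theorem ginv_ps (α : MulChar F ℂ) : GInv (ps α) := fun g h hg hh ht => by
  rw [ps_eq_GL, ps_eq_GL]
  exact classFun_of_isConj (GL2Char.classFun_ps _ _) (isConj_GL hg hh ht (g.2.trans h.2.symm))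

theorem ps_neg (α : MulChar F ℂ) (g : SL(2, F)) : ps α (-1 * g) = α (-1) * ps α g := by
  have := indFun_central_mul (bHom α).toHomUnits ⟨-1, neg_one_mem_B⟩
    ((SL2Basic.mem_center_iff _).2 (Or.inr rfl)) g
  simpa [bHom_apply] using! this

theorem sum_B [Fintype (B F)] (f : B F → ℂ) :
    ∑ x, f x = ∑ a : Fˣ, ∑ b : F, f ⟨tr a b, tr_mem a b⟩ := by
  rw [← Fintype.sum_prod_type']
  symm
  refine Fintype.sum_bijective (fun z : Fˣ × F => ⟨tr z.1 z.2, tr_mem _ _⟩) ?_ _ _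
    (fun _ => rfl)
  constructor
  · rintro ⟨a, b⟩ ⟨a', b'⟩ h
    exact Prod.ext (Units.ext (congrArg (fun z : B F => z.1.1 0 0) h))
      (congrArg (fun z : B F => z.1.1 0 1) h)
  · rintro ⟨g, hg⟩
    obtain ⟨a, b, rfl⟩ := exists_tr (mem_B.1 hg)
    exact ⟨(a, b), rfl⟩

/-- the (unnormalised) Jacquet functor on class functions -/
noncomputable def J (χ : SL(2, F) → ℂ) (a : Fˣ) : ℂ := ∑ b : F, χ (tr a b)

theorem inner_ps (α : MulChar F ℂ) {χ : SL(2, F) → ℂ} (hχ : IsClassFunction _ χ) :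
    classInner (ps α) χ = (q * (q - 1))⁻¹ * ∑ a : Fˣ, α a * conj (J χ a) := by
  have := Fintype.ofFinite (B F)
  refine (CA.Ind.inner_ind_left (B F) (bHom α) hχ).trans ?_
  rw [inner_def, sum_B, card_B, Nat.card_eq_fintype_card]
  congr 1
  · push_cast [Nat.cast_pred (Fintype.card_pos (α := F))]; rfl
  · refine Finset.sum_congr rfl fun a _ => ?_
    rw [J, map_sum, Finset.mul_sum]
    rfl

theorem J_ps (α : MulChar F ℂ) (a : Fˣ) : J (ps α) a = q * (α a + α⁻¹ a) := by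
  have := GL2Char.J_ps α 1 a a⁻¹
  simp only [MulChar.one_apply_coe, mul_one] at this
  rw [MulChar.inv_apply', ← Units.val_inv_eq_inv_val, ← this]
  simp only [J, GL2Char.J, ps_eq_GL, toGL_tr]

open Classical in
theorem inner_ps_ps (α β : MulChar F ℂ) : classInner (ps α) (ps β) =
    (if α = β then 1 else 0) + (if α = β⁻¹ then 1 else 0) := by
  rw [inner_ps α (classFun_ps _)]
  have : ∀ a : Fˣ, α a * conj (J (ps β) a) = q * (α a * conj (β a)) + q * (α a * conj (β⁻¹ a)) := by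
    intro a
    rw [J_ps]
    simp only [map_mul, map_add, map_natCast]
    ring
  simp only [this, Finset.sum_add_distrib, ← Finset.mul_sum, sum_mulChar_conj]
  have h1 := q_ne (F := F)
  have h2 := q_sub_one_ne (F := F)
  split_ifs <;> field_simp <;> ring

open Classical in
theorem inner_ps_one (α : MulChar F ℂ) : classInner (ps α) 1 = if α = 1 then 1 else 0 := by
  rw [inner_ps α classFun_one]
  have : ∀ a : Fˣ, α a * conj (J 1 a) = q * (α a * conj ((1 : MulChar F ℂ) a)) := by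
    intro a
    simp [J, mul_comm]
  simp only [this, ← Finset.mul_sum, sum_mulChar_conj]
  have h1 := q_ne (F := F)
  have h2 := q_sub_one_ne (F := F)
  split_ifs
  · field_simp
  · simp

omit [Fintype F] [DecidableEq F] in
theorem grp_sq_one_iff {A : Type*} [Group A] {a : A} : a ^ 2 = 1 ↔ a = a⁻¹ := by
  rw [sq, mul_eq_one_iff_eq_inv]

theorem irr_ps_iff (α : MulChar F ℂ) : IsIrrCharacter SL(2, F) (ps α) ↔ α ^ 2 ≠ 1 := by
  rw [irr_iff, inner_ps_ps, ne_eq, grp_sq_one_iff]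
  simp [char_ps]

theorem ps_inv (α : MulChar F ℂ) : ps α⁻¹ = ps α := by
  rw [← sub_eq_zero, ← ci_self_eq_zero, ci_sub_left, ci_sub_right, ci_sub_right]
  simp only [inner_ps_ps, inv_inv, inv_eq_iff_eq_inv (a := α), if_true]
  ring

theorem ps_eq_iff (α β : MulChar F ℂ) : ps α = ps β ↔ β = α ∨ β = α⁻¹ := by
  constructor
  · intro h
    by_contra hn
    push Not at hn
    have h1 := inner_ps_ps β α
    rw [if_neg hn.1, if_neg hn.2, h, inner_ps_ps, if_pos rfl] at h1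
    split_ifs at h1 <;> norm_num at h1
  · rintro (rfl | rfl)
    · rfl
    · rw [ps_inv]

variable (F) in
/-- the Steinberg character -/
noncomputable def St : SL(2, F) → ℂ := ps 1 - 1

theorem St_one : St F 1 = q := by simp [St, ps_one]

theorem irr_St : IsIrrCharacter SL(2, F) (St F) := by
  refine irr_of_gen_norm_one (gen_sub (gen_of_char (char_ps _)) gen_one') ?_ ?_
  · rw [St, ci_sub_left, ci_sub_right, ci_sub_right, inner_ps_ps,
      ← inner_char_comm (char_ps _) char_one', inner_ps_one, inner_irr_self irr_one']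
    simp
  · rw [St_one]; simp

theorem St_split {a : Fˣ} (h : a ^ 2 ≠ 1) (b : F) : St F (tr a b) = 1 := by
  simp only [St, Pi.sub_apply, ps_split _ h, MulChar.one_apply_coe, Pi.one_apply]; ring

theorem St_central {a : Fˣ} (h : a ^ 2 = 1) : St F (tr a 0) = q := by
  simp only [St, Pi.sub_apply, ps_central _ h, MulChar.one_apply_coe, Pi.one_apply]; ring

theorem St_unip {a : Fˣ} (h : a ^ 2 = 1) {b : F} (hb : b ≠ 0) : St F (tr a b) = 0 := by
  simp only [St, Pi.sub_apply, ps_unip _ h hb, MulChar.one_apply_coe, Pi.one_apply]; ring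

theorem St_aniso {g : SL(2, F)} (h : Aniso g.1) : St F g = -1 := by
  simp only [St, Pi.sub_apply, ps_aniso _ h, Pi.one_apply]; ring

theorem ginv_St : GInv (St F) := fun g h hg hh ht => by
  simp only [St, Pi.sub_apply, ginv_ps 1 g h hg hh ht, Pi.one_apply]

theorem J_St (a : Fˣ) : J (St F) a = q := by
  have := J_ps (1 : MulChar F ℂ) a
  simp only [J, inv_one, MulChar.one_apply_coe] at this
  simp only [J, St, Pi.sub_apply, Finset.sum_sub_distrib, this]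
  simp; ring

/-! ### cuspidal characters -/

variable {g0 : SL(2, F)}

omit [DecidableEq F] in
theorem exists_al (θ : C g0 →* ℂˣ) : ∃ α : MulChar F ℂ, α (-1) = θ ⟨-1, neg_one_mem_C g0⟩ := by
  have h : θ ⟨-1, neg_one_mem_C g0⟩ ^ 2 = 1 := by
    rw [← map_pow, ← map_one θ]; congr 1; exact Subtype.ext (by simp)
  rcases units_sq_one h with e | e
  · exact ⟨1, by rw [e, MulChar.one_apply isUnit_one.neg]; rfl⟩
  · have h1 : (-1 : F) ≠ 1 := by
      intro h1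
      have : (⟨-1, neg_one_mem_C g0⟩ : C g0) = 1 :=
        Subtype.ext (neg_eq_self_of_two (by linear_combination -h1) 1)
      rw [this, map_one] at e
      exact absurd (congrArg Units.val e) (by norm_num)
    obtain ⟨α, hα⟩ := MulChar.exists_apply_ne_one_of_hasEnoughRootsOfUnity F ℂ h1
    refine ⟨α, ?_⟩
    rw [e]
    have : α (-1) ^ 2 = 1 := by rw [← map_pow]; simp
    exact (sq_eq_one_iff.1 this).resolve_left hα

/-- a character of `F` agreeing with `θ` on the centre -/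
noncomputable def al (θ : C g0 →* ℂˣ) : MulChar F ℂ := (exists_al θ).choose

omit [DecidableEq F] in
theorem al_neg_one (θ : C g0 →* ℂˣ) : al θ (-1) = θ ⟨-1, neg_one_mem_C g0⟩ :=
  (exists_al θ).choose_spec

omit [DecidableEq F] in
theorem al_eq (θ : C g0 →* ℂˣ) {a : Fˣ} (h : a ^ 2 = 1) (t : C g0) (ht : t.1 = tr a 0) :
    al θ a = θ t := by
  rcases sq_one_cases' h with rfl | rfl
  · obtain rfl : t = 1 := Subtype.ext (ht.trans tr_one_zero)
    simp
  · obtain rfl : t = ⟨-1, neg_one_mem_C g0⟩ := Subtype.ext (ht.trans tr_neg_one_zero)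
    exact al_neg_one θ

omit [Fintype F] [DecidableEq F] in
theorem T_comm (hg0 : Aniso g0.1) (a b : C g0) : a * b = b * a :=
  Subtype.ext (C_comm hg0.ns a.2 b.2)

omit [DecidableEq F] in
theorem card_T (hg0 : Aniso g0.1) : (Nat.card (C g0) : ℂ) = q + 1 := by
  rw [card_C_aniso hg0, Nat.card_eq_fintype_card]; push_cast; rfl

omit [DecidableEq F] in
theorem card_SL2 : (Nat.card SL(2, F) : ℂ) = q * (q - 1) * (q + 1) := by
  rw [← (B F).card_mul_index, card_B, index_B, Nat.card_eq_fintype_card]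
  push_cast [Nat.cast_pred (Fintype.card_pos (α := F))]; rfl

omit [DecidableEq F] in
theorem index_T (hg0 : Aniso g0.1) : ((C g0).index : ℂ) = q * (q - 1) := by
  have h := congrArg (Nat.cast : ℕ → ℂ) (C g0).card_mul_index
  rw [Nat.cast_mul, card_T hg0, card_SL2] at h
  apply mul_left_cancel₀ (q_add_one_ne (F := F))
  linear_combination h

theorem ind_T (hg0 : Aniso g0.1) (θ : C g0 → ℂ) (t : C g0) (hn : NS t.1.1) :
    indFun (C g0) θ t = θ t + θ t⁻¹ := by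
  have ha := aniso_of_mem hg0 t.2 hn
  have hs := SS.of_aniso ha
  refine indFun_two _ _ t _ (fun e => hs.inv_ne (congrArg Subtype.val e).symm) (IsConj.refl _)
    (hs.isConj (trace_inv _).symm) ?_ ?_
  · intro x hx hc
    exact hs.eq_or_inv (by rwa [C_eq_of_mem hg0.ns t.2 hn]) (trace_of_isConj hc)
  · exact (card_C_aniso ha).trans (card_C_aniso hg0).symm

theorem ind_T_zero (hg0 : Aniso g0.1) (θ : C g0 → ℂ) {g : SL(2, F)} (hn : NS g.1)
    (ha : ¬ Aniso g.1) : indFun (C g0) θ g = 0 := by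
  refine CA.Ind.indFun_eq_zero_of_not_conj θ fun x hx => ha ?_
  exact (aniso_of_mem hg0 hx (NS_conj hn x)).of_eq (trace_conj x g) ((x * g * x⁻¹).2.trans g.2.symm)

/-- the cuspidal (generalised) character attached to `θ` -/
noncomputable def cu (θ : C g0 →* ℂˣ) : SL(2, F) → ℂ :=
  ps (al θ) * (ps 1 - (2 : ℕ) • 1) - indFun (C g0) (fun x => (θ x : ℂ))

theorem gen_cu (θ : C g0 →* ℂˣ) : IsGeneralizedCharacter SL(2, F) (cu θ) :=
  gen_sub (gen_mul (gen_of_char (char_ps _))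
    (gen_sub (gen_of_char (char_ps _)) (gen_nsmul 2 gen_one')))
    (gen_of_char (CA.MatRep.isCharacter_indFun _ (char_of_unitsHom θ)))

theorem cu_central (hg0 : Aniso g0.1) (θ : C g0 →* ℂˣ) {a : Fˣ} (h : a ^ 2 = 1) :
    cu θ (tr a 0) = (q - 1) * al θ a := by
  have := indFun_central (fun x => (θ x : ℂ)) ⟨tr a 0, center_le_C g0 (tr_mem_center h)⟩
    (tr_mem_center h)
  rw [index_T hg0, ← al_eq θ h _ rfl] at this
  simp only [cu, Pi.sub_apply, Pi.mul_apply, this, ps_central _ h, Pi.smul_apply, Pi.one_apply,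
    MulChar.one_apply_coe]
  simp only [nsmul_eq_mul]
  push_cast
  ring

theorem cu_one (hg0 : Aniso g0.1) (θ : C g0 →* ℂˣ) : cu θ 1 = q - 1 := by
  rw [← tr_one_zero, cu_central hg0 _ (by simp)]; simp

theorem cu_unip (hg0 : Aniso g0.1) (θ : C g0 →* ℂˣ) {a : Fˣ} (h : a ^ 2 = 1) {b : F} (hb : b ≠ 0) :
    cu θ (tr a b) = -al θ a := by
  simp only [cu, Pi.sub_apply, Pi.mul_apply, ps_unip _ h hb, Pi.smul_apply, Pi.one_apply,
    MulChar.one_apply_coe, ind_T_zero hg0 _ (NS_tr_of_ne a hb) (not_aniso_tr a b)]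
  simp only [nsmul_eq_mul]
  push_cast
  ring

theorem cu_u (hg0 : Aniso g0.1) (θ : C g0 →* ℂˣ) {b : F} (hb : b ≠ 0) : cu θ (u b) = -1 := by
  rw [← tr_one, cu_unip hg0 _ (by simp) hb]; simp

theorem cu_split (hg0 : Aniso g0.1) (θ : C g0 →* ℂˣ) {a : Fˣ} (h : a ^ 2 ≠ 1) (b : F) :
    cu θ (tr a b) = 0 := by
  simp only [cu, Pi.sub_apply, Pi.mul_apply, ps_split _ h, Pi.smul_apply, Pi.one_apply,
    MulChar.one_apply_coe, ind_T_zero hg0 _ (SS_tr h b).ns (not_aniso_tr a b)]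
  simp only [nsmul_eq_mul]
  push_cast
  ring

theorem cu_T (hg0 : Aniso g0.1) (θ : C g0 →* ℂˣ) (t : C g0) (hn : NS t.1.1) :
    cu θ t = -(θ t + (θ t)⁻¹.val) := by
  simp only [cu, Pi.sub_apply, Pi.mul_apply, ps_aniso _ (aniso_of_mem hg0 t.2 hn),
    ind_T hg0 _ t hn, map_inv]
  ring

theorem cu_mul_central (θ : C g0 →* ℂˣ) (z : C g0) (hz : z.1 ∈ Subgroup.center SL(2, F))
    (g : SL(2, F)) : cu θ (z * g) = θ z * cu θ g := by
  simp only [cu, Pi.sub_apply, Pi.mul_apply, indFun_central_mul θ z hz, Pi.smul_apply, Pi.one_apply]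
  rcases (SL2Basic.mem_center_iff _).1 hz with e | e
  · obtain rfl : z = 1 := Subtype.ext e
    simp
  · obtain rfl : z = ⟨-1, neg_one_mem_C g0⟩ := Subtype.ext e
    simp only [ps_neg, al_neg_one, MulChar.one_apply isUnit_one.neg]
    ring

theorem ginv_cu (hg0 : Aniso g0.1) (θ : C g0 →* ℂˣ) : GInv (cu θ) := fun g h hg hh ht => by
  simp only [cu, Pi.sub_apply, Pi.mul_apply, ginv_ps _ g h hg hh ht, Pi.smul_apply, Pi.one_apply]
  congr 1
  by_cases ha : Aniso g.1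
  · exact classFun_of_isConj (CA.Ind.indFun_classFun _ _) ((SS.of_aniso ha).isConj ht)
  · rw [ind_T_zero hg0 _ hg ha, ind_T_zero hg0 _ hh fun e => ha (e.of_eq ht.symm (by simp))]

theorem J_cu (hg0 : Aniso g0.1) (θ : C g0 →* ℂˣ) (a : Fˣ) : J (cu θ) a = 0 := by
  by_cases h : a ^ 2 = 1
  · rw [J, sum_split_zero, cu_central hg0 _ h,
      Finset.sum_congr rfl fun b _ => cu_unip hg0 θ h b.ne_zero, sum_units_const]
    ring
  · simp [J, cu_split hg0 _ h]

theorem inner_ps_cu (hg0 : Aniso g0.1) (α : MulChar F ℂ) (θ : C g0 →* ℂˣ) :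
    classInner (ps α) (cu θ) = 0 := by
  simp [inner_ps α (gen_classFun (gen_cu θ)), J_cu hg0]

theorem inner_cu [Fintype (C g0)] (hg0 : Aniso g0.1) (θ : C g0 →* ℂˣ) {χ : SL(2, F) → ℂ}
    (hχ : IsClassFunction _ χ) : classInner (cu θ) χ =
      (q * (q - 1))⁻¹ * ∑ a : Fˣ, (if a ^ 2 = 1 then al θ a * conj (q * χ (tr a 0) - J χ a) else 0) -
        (q + 1)⁻¹ * ∑ t : C g0, θ t * conj (χ t) := by
  have hc : IsClassFunction SL(2, F) (fun g => conj ((ps 1 - (2 : ℕ) • 1 : _ → ℂ) g) * χ g) :=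
    classFun_mul (classFun_conj (classFun_sub (classFun_ps _) (classFun_nsmul 2 classFun_one))) hχ
  rw [cu, ci_sub_left, CA.Ind.inner_ind_left _ _ hχ, inner_mul_left, inner_ps _ hc, inner_def,
    card_T hg0]
  congr 2
  refine Finset.sum_congr rfl fun a _ => ?_
  split_ifs with h
  · congr 2
    rw [J, J, sum_split_zero, sum_split_zero (fun b => χ (tr a b))]
    have : ∀ b : Fˣ, conj ((ps 1 - (2 : ℕ) • 1 : _ → ℂ) (tr a b)) * χ (tr a b) = -χ (tr a b) := by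
      intro b
      simp only [Pi.sub_apply, ps_unip _ h b.ne_zero, MulChar.one_apply_coe, Pi.smul_apply,
        Pi.one_apply]
      norm_num
    simp only [this, Finset.sum_neg_distrib]
    simp only [Pi.sub_apply, ps_central _ h, MulChar.one_apply_coe, Pi.smul_apply, Pi.one_apply]
    simp only [nsmul_eq_mul, map_add, map_mul, map_sub, map_natCast, map_one]
    push_cast
    ring
  · rw [J, Finset.sum_eq_zero, map_zero, mul_zero]
    intro b _
    simp only [Pi.sub_apply, ps_split _ h, MulChar.one_apply_coe, Pi.smul_apply, Pi.one_apply]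
    norm_num

open Classical in
theorem sum_T_central [Fintype (C g0)] (f : SL(2, F) → ℂ) :
    ∑ t : C g0, (if NS t.1.1 then 0 else f t) = ∑ a : Fˣ, if a ^ 2 = 1 then f (tr a 0) else 0 := by
  rw [← Finset.sum_filter]
  simp only [← ite_not (p := NS _), ← Finset.sum_filter]
  symm
  refine Finset.sum_bij (fun a ha => ⟨tr a 0, center_le_C g0
    (tr_mem_center (Finset.mem_filter.1 ha).2)⟩) ?_ ?_ ?_ (fun _ _ => rfl)
  · intro a ha
    simpa using not_NS_tr (Finset.mem_filter.1 ha).2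
  · intro a _ b _ h
    exact Units.ext (congrArg (fun z : C g0 => z.1.1 0 0) h)
  · intro t ht
    obtain ⟨a, ha, e⟩ := exists_of_not_NS (Finset.mem_filter.1 ht).2
    exact ⟨a, by simpa using ha, Subtype.ext e.symm⟩

open Classical in
theorem inner_cu_cu (hg0 : Aniso g0.1) (θ θ' : C g0 →* ℂˣ) :
    classInner (cu θ) (cu θ') = (if θ = θ' then 1 else 0) + (if θ = θ'⁻¹ then 1 else 0) := by
  have := Fintype.ofFinite (C g0)
  rw [inner_cu hg0 θ (gen_classFun (gen_cu θ'))]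
  have e1 : ∀ a : Fˣ, (if a ^ 2 = 1 then al θ a * conj (q * cu θ' (tr a 0) - J (cu θ') a) else 0) =
      q * (q - 1) * (if a ^ 2 = 1 then al θ a * conj (al θ' a) else 0) := by
    intro a
    split_ifs with h
    · rw [cu_central hg0 _ h, J_cu hg0]
      simp only [map_sub, map_mul, map_natCast, map_one, map_zero]
      ring
    · simp
  have e2 : ∀ t : C g0, θ t * conj (cu θ' t) = -(θ t * conj (θ' t : ℂ)) - θ t * conj (θ'⁻¹ t : ℂ) +
      (q + 1) * (if NS t.1.1 then 0 else al θ (t.1.1 0 0) * conj (al θ' (t.1.1 0 0))) := by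
    intro t
    split_ifs with hn
    · rw [cu_T hg0 _ _ hn]
      simp only [map_neg, map_add, MonoidHom.inv_apply]
      ring
    · obtain ⟨a, ha, e⟩ := exists_of_not_NS hn
      have e' : t⁻¹ = t := by
        rcases (not_NS_iff_eq _).1 hn with h | h <;> exact Subtype.ext (by simp [h])
      rw [MonoidHom.inv_apply, ← map_inv, e', ← al_eq θ ha t e, ← al_eq θ' ha t e, e,
        cu_central hg0 _ ha, tr_00]
      simp only [map_sub, map_mul, map_natCast, map_one]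
      ring
  simp only [e1, e2, Finset.sum_add_distrib, Finset.sum_sub_distrib, Finset.sum_neg_distrib,
    ← Finset.mul_sum, sum_T_central (fun g => al θ (g.1 0 0) * conj (al θ' (g.1 0 0))),
    sum_hom_conj, card_T hg0, tr_00]
  have h1 := q_ne (F := F)
  have h2 := q_sub_one_ne (F := F)
  have h3 := q_add_one_ne (F := F)
  generalize (∑ a : Fˣ, if a ^ 2 = 1 then al θ a * conj (al θ' a) else 0) = S
  split_ifs <;> field_simp <;> ring

omit [DecidableEq F] in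
theorem q_sub_one_pos : 0 < (q - 1).re := by
  have := Fintype.one_lt_card (α := F)
  simp only [Complex.sub_re, Complex.natCast_re, Complex.one_re, sub_pos]
  exact_mod_cast this

theorem irr_cu (hg0 : Aniso g0.1) {θ : C g0 →* ℂˣ} (h : θ ^ 2 ≠ 1) :
    IsIrrCharacter SL(2, F) (cu θ) := by
  rw [ne_eq, grp_sq_one_iff] at h
  refine irr_of_gen_norm_one (gen_cu θ) (by simp [inner_cu_cu hg0, h]) ?_
  rw [cu_one hg0]
  exact q_sub_one_pos.le

omit [DecidableEq F] in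
theorem exists_rep (hg0 : Aniso g0.1) (g : SL(2, F)) :
    (∃ a, a ^ 2 = 1 ∧ g = tr a 0) ∨ (∃ a b, a ^ 2 = 1 ∧ b ≠ 0 ∧ IsConj g (tr a b)) ∨
      (∃ a, a ^ 2 ≠ 1 ∧ IsConj g (tr a 0)) ∨ ∃ t : C g0, NS t.1.1 ∧ IsConj g t := by
  by_cases hn : NS g.1
  swap
  · exact Or.inl (exists_of_not_NS hn)
  right
  by_cases hs : SS g
  · right
    rcases hs.cases with ⟨a, b, hab, ht, hd⟩ | h
    · rw [g.2] at hd
      have ha : a ≠ 0 := left_ne_zero_of_mul_eq_one hd.symm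
      obtain rfl : b = a⁻¹ := eq_inv_of_mul_eq_one_right hd.symm
      refine Or.inl ⟨Units.mk0 a ha, fun e => hab ?_, hs.isConj (by rw [tr_trace, ht]; simp)⟩
      simpa using congrArg Units.val (sq_one_iff.1 e)
    · obtain ⟨x, hx⟩ := exists_conj_mem_aniso hg0 h
      exact Or.inr ⟨⟨_, hx⟩, NS_conj hn x, isConj_iff.2 ⟨x, rfl⟩⟩
  · obtain ⟨x, b, hb, h | h⟩ := exists_conj_of_not_SS hs hn
    · exact Or.inl ⟨1, b, by simp, hb, isConj_iff.2 ⟨x, by rw [h, tr_one]⟩⟩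
    · exact Or.inl ⟨-1, -b, by simp, neg_ne_zero.2 hb,
        isConj_iff.2 ⟨x, by rw [h, ← tr_one, neg_tr]⟩⟩

theorem cu_trivial (hg0 : Aniso g0.1) : cu (1 : C g0 →* ℂˣ) = St F - 1 := by
  funext g
  have c1 := gen_classFun (gen_cu (1 : C g0 →* ℂˣ))
  have c2 := classFun_sub (irr_classFun (irr_St (F := F))) classFun_one
  have hal : ∀ a : Fˣ, a ^ 2 = 1 → al (1 : C g0 →* ℂˣ) a = 1 := fun a h =>
    al_eq 1 h ⟨tr a 0, center_le_C g0 (tr_mem_center h)⟩ rfl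
  rcases exists_rep hg0 g with ⟨a, h, rfl⟩ | ⟨a, b, h, hb, hc⟩ | ⟨a, h, hc⟩ | ⟨t, hn, hc⟩
  · rw [cu_central hg0 _ h, Pi.sub_apply, St_central h, hal a h]; simp
  · rw [classFun_of_isConj c1 hc, classFun_of_isConj c2 hc, cu_unip hg0 _ h hb,
      Pi.sub_apply, St_unip h hb, hal a h]; simp
  · rw [classFun_of_isConj c1 hc, classFun_of_isConj c2 hc, cu_split hg0 _ h,
      Pi.sub_apply, St_split h]; simp
  · rw [classFun_of_isConj c1 hc, classFun_of_isConj c2 hc, cu_T hg0 _ _ hn,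
      Pi.sub_apply, St_aniso (aniso_of_mem hg0 t.2 hn)]; simp; ring

theorem J_eq_zero {χ : SL(2, F) → ℂ} (hχ : IsClassFunction _ χ)
    (h : ∀ α, classInner (ps α) χ = 0) (a : Fˣ) : J χ a = 0 := by
  have := fourier_zero (G := Fˣ) mul_comm (fun a => J χ a) (by
    intro θ
    have := h (MulChar.ofUnitHom θ)
    rw [inner_ps _ hχ] at this
    simpa only [MulChar.ofUnitHom_coe] using (mul_eq_zero.1 this).resolve_left (inv_ne_zero
      (mul_ne_zero q_ne q_sub_one_ne)))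
  exact congrFun this a

theorem irr_constituent (hg0 : Aniso g0.1) {χ : SL(2, F) → ℂ} (hχ : IsIrrCharacter _ χ) :
    (∃ α, classInner (ps α) χ ≠ 0) ∨ ∃ θ : C g0 →* ℂˣ, classInner (cu θ) χ ≠ 0 := by
  classical
  by_contra hn
  push Not at hn
  obtain ⟨i3, i4⟩ := hn
  have hc := irr_classFun hχ
  have hJ := J_eq_zero hc i3
  have := Fintype.ofFinite (C g0)
  have h1 := q_ne (F := F)
  have h2 := q_sub_one_ne (F := F)
  have h3 := q_add_one_ne (F := F)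
  have := fourier_zero (T_comm hg0)
    (fun t => (q - 1)⁻¹ * (if NS t.1.1 then 0 else χ t) - (q + 1)⁻¹ * χ t) (by
    intro θ
    refine Eq.trans ?_ (i4 θ)
    rw [inner_cu hg0 θ hc]
    have e : ∀ t : C g0, (θ t : ℂ) * conj ((q - 1)⁻¹ * (if NS t.1.1 then 0 else χ t) -
        (q + 1)⁻¹ * χ t) = (q - 1)⁻¹ * (if NS t.1.1 then 0 else al θ (t.1.1 0 0) * conj (χ t)) -
        (q + 1)⁻¹ * (θ t * conj (χ t)) := by
      intro t
      split_ifs with hn
      · simp only [map_sub, map_add, map_mul, map_inv₀, map_natCast, map_one, map_zero]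
        ring
      · obtain ⟨a, ha, e⟩ := exists_of_not_NS hn
        rw [← al_eq θ ha t e, e, tr_00]
        simp only [map_sub, map_add, map_mul, map_inv₀, map_natCast, map_one]
        ring
    simp only [e, Finset.sum_sub_distrib, ← Finset.mul_sum,
      sum_T_central (fun g => al θ (g.1 0 0) * conj (χ g)), hJ, tr_00]
    congr 1
    rw [Finset.mul_sum, Finset.mul_sum]
    refine Finset.sum_congr rfl fun a _ => ?_
    split_ifs
    · simp only [map_mul, map_natCast, sub_zero]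
      field_simp
    · simp)
  have h5 := congrFun this 1
  have h6 := irr_apply_one_ne_zero hχ
  simp only [OneMemClass.coe_one, Pi.zero_apply] at h5
  rw [if_neg ((not_NS_iff_eq (1 : SL(2, F))).2 (Or.inl rfl))] at h5
  field_simp at h5
  apply h6
  linear_combination (1 / 2) * h5

theorem irr_cases0 (hg0 : Aniso g0.1) {χ : SL(2, F) → ℂ} (hχ : IsIrrCharacter _ χ) :
    χ = 1 ∨ χ = St F ∨ (∃ α, α ^ 2 ≠ 1 ∧ χ = ps α) ∨ (∃ θ : C g0 →* ℂˣ, θ ^ 2 ≠ 1 ∧ χ = cu θ) ∨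
      (∃ α, α ^ 2 = 1 ∧ α ≠ 1 ∧ classInner (ps α) χ ≠ 0) ∨
      ∃ θ : C g0 →* ℂˣ, θ ^ 2 = 1 ∧ θ ≠ 1 ∧ classInner (cu θ) χ ≠ 0 := by
  by_cases n1 : χ = 1
  · exact Or.inl n1
  by_cases n2 : χ = St F
  · exact Or.inr (Or.inl n2)
  have i1 := inner_irr_of_ne irr_one' hχ (Ne.symm n1)
  have i2 := inner_irr_of_ne irr_St hχ (Ne.symm n2)
  right; right
  rcases irr_constituent hg0 hχ with ⟨α, h⟩ | ⟨θ, h⟩
  · by_cases h2 : α ^ 2 = 1
    · refine Or.inr (Or.inr (Or.inl ⟨α, h2, ?_, h⟩))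
      rintro rfl
      have : ps (1 : MulChar F ℂ) = St F + 1 := by simp [St]
      rw [this, ci_add_left, i1, i2, add_zero] at h
      exact h rfl
    · exact Or.inl ⟨α, h2, (irr_eq_of_inner_ne_zero ((irr_ps_iff α).2 h2) hχ h).symm⟩
  · by_cases h2 : θ ^ 2 = 1
    · refine Or.inr (Or.inr (Or.inr ⟨θ, h2, ?_, h⟩))
      rintro rfl
      rw [cu_trivial hg0, ci_sub_left, i1, i2, sub_zero] at h
      exact h rfl
    · exact Or.inr (Or.inl ⟨θ, h2, (irr_eq_of_inner_ne_zero (irr_cu hg0 h2) hχ h).symm⟩)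

omit [DecidableEq F] in
theorem mulChar_sq_one_eq {α β : MulChar F ℂ} (h : α ^ 2 = 1) (h' : β ^ 2 = 1) (h1 : α ≠ 1)
    (h1' : β ≠ 1) : α = β :=
  MulChar.mulEquivToUnitHom.injective (sq_one_cases (by rw [← map_pow, h, map_one])
    (by rw [← map_pow, h', map_one]) 
    (fun e => h1 (MulChar.mulEquivToUnitHom.injective (e.trans (map_one _).symm)))
    (fun e => h1' (MulChar.mulEquivToUnitHom.injective (e.trans (map_one _).symm))))

omit [DecidableEq F] in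
theorem mulChar_even (h2 : (2 : F) = 0) {α : MulChar F ℂ} (h : α ^ 2 = 1) : α = 1 := by
  refine MulChar.mulEquivToUnitHom.injective ?_
  rw [map_one]
  refine eq_one_of_sq_odd ?_ (by rw [← map_pow, h, map_one])
  rw [Nat.card_units]
  exact Nat.Even.sub_odd Nat.card_pos (even_card_of_two_eq_zero h2) odd_one

omit [DecidableEq F] in
theorem exists_mulChar_odd (h2 : (2 : F) ≠ 0) : ∃ α : MulChar F ℂ, α ^ 2 = 1 ∧ α ≠ 1 := by
  obtain ⟨θ, h, h1⟩ := exists_sq_one (G := Fˣ) (by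
    rw [Nat.card_units]
    exact Nat.Odd.sub_odd (odd_card_of_two_ne_zero h2) odd_one)
  exact ⟨MulChar.mulEquivToUnitHom.symm θ, by rw [← map_pow, h, map_one],
    MulEquiv.map_ne_one_iff _ |>.2 h1⟩

omit [DecidableEq F] in
theorem mulChar_sq_one_apply {α : MulChar F ℂ} (h : α ^ 2 = 1) (h1 : α ≠ 1) (a : Fˣ) :
    (IsSquare (a : F) → α a = 1) ∧ (¬ IsSquare (a : F) → α a = -1) := by
  have hsq : ∀ r : Fˣ, α r * α r = 1 := fun r => by
    rw [← sq, ← MulChar.pow_apply_coe, h, MulChar.one_apply_coe]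
  have hs : ∀ a : Fˣ, IsSquare (a : F) → α a = 1 := by
    rintro a ⟨r, hr⟩
    have : r ≠ 0 := by rintro rfl; simp at hr
    rw [hr, map_mul]
    exact hsq (Units.mk0 r this)
  refine ⟨hs a, fun ha => (mul_self_eq_one_iff.1 (hsq a)).resolve_left fun e => h1 ?_⟩
  ext b
  rw [MulChar.one_apply_coe]
  by_cases hb : IsSquare (b : F)
  · exact hs b hb
  · have := hs (a * b) (CForm.isSquare_mul_of_not ha hb)
    rwa [Units.val_mul, map_mul, e, one_mul] at this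

omit [DecidableEq F] in
theorem T_even (hg0 : Aniso g0.1) (h2 : (2 : F) = 0) {θ : C g0 →* ℂˣ} (h : θ ^ 2 = 1) : θ = 1 :=
  eq_one_of_sq_odd (by rw [card_C_aniso hg0]; exact (even_card_of_two_eq_zero h2).add_one) h

omit [DecidableEq F] in
theorem exists_T_odd (hg0 : Aniso g0.1) (h2 : (2 : F) ≠ 0) :
    ∃ θ : C g0 →* ℂˣ, θ ^ 2 = 1 ∧ θ ≠ 1 :=
  have := isCyclic_C_aniso hg0
  exists_sq_one (by rw [card_C_aniso hg0]; exact (odd_card_of_two_ne_zero h2).add_one)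

theorem irr_cases_even (hg0 : Aniso g0.1) (h2 : (2 : F) = 0) {χ : SL(2, F) → ℂ}
    (hχ : IsIrrCharacter _ χ) :
    χ = 1 ∨ χ = St F ∨ (∃ α, α ^ 2 ≠ 1 ∧ χ = ps α) ∨ ∃ θ : C g0 →* ℂˣ, θ ^ 2 ≠ 1 ∧ χ = cu θ := by
  rcases irr_cases0 hg0 hχ with h | h | h | h | ⟨α, h, h1, -⟩ | ⟨θ, h, h1, -⟩
  · exact Or.inl h
  · exact Or.inr (Or.inl h)
  · exact Or.inr (Or.inr (Or.inl h))
  · exact Or.inr (Or.inr (Or.inr h))
  · exact absurd (mulChar_even h2 h) h1
  · exact absurd (T_even hg0 h2 h) h1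

omit [DecidableEq F] in
theorem theta_apply (hg0 : Aniso g0.1) (h2 : (2 : F) ≠ 0) {θ : C g0 →* ℂˣ} (hθ : θ ^ 2 = 1)
    (hθ1 : θ ≠ 1) (t : C g0) : (t.1 ^ ((Fintype.card F + 1) / 2) = 1 → θ t = 1) ∧
      (t.1 ^ ((Fintype.card F + 1) / 2) ≠ 1 → θ t = -1) := by
  have := isCyclic_C_aniso hg0
  have ho := odd_card_of_two_ne_zero h2
  have := hom_sq_one_apply hθ hθ1 (m := (Fintype.card F + 1) / 2) (by
    rw [card_C_aniso hg0, ← Nat.card_eq_fintype_card]
    obtain ⟨k, hk⟩ := ho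
    omega) t
  simpa only [ne_eq, Subtype.ext_iff, Subgroup.coe_pow, Subgroup.coe_one] using this

omit [DecidableEq F] in
theorem theta_neg_one (hg0 : Aniso g0.1) (h2 : (2 : F) ≠ 0) {α : MulChar F ℂ} (hα : α ^ 2 = 1)
    (hα1 : α ≠ 1) {θ : C g0 →* ℂˣ} (hθ : θ ^ 2 = 1) (hθ1 : θ ≠ 1) :
    (θ ⟨-1, neg_one_mem_C g0⟩ : ℂ) = -α (-1) := by
  have h1 := theta_apply hg0 h2 hθ hθ1 ⟨-1, neg_one_mem_C g0⟩
  have h3 := mulChar_sq_one_apply hα hα1 (-1)
  have ho := odd_card_of_two_ne_zero h2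
  rw [Nat.card_eq_fintype_card, Nat.odd_iff] at ho
  simp only [Units.val_neg, Units.val_one, FiniteField.isSquare_neg_one_iff] at h3
  by_cases h : Fintype.card F % 4 = 3
  · rw [h1.1 (Even.neg_one_pow (Nat.even_iff.2 (by omega))), h3.2 (not_not.2 h)]; simp
  · rw [h1.2 (by
      rw [Odd.neg_one_pow (Nat.odd_iff.2 (by omega))]; exact neg_one_ne_one h2), h3.1 h]
    simp

theorem halves (hg0 : Aniso g0.1) (h2 : (2 : F) ≠ 0) {e : Fˣ} (he : ¬ IsSquare (e : F))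
    {α : MulChar F ℂ} (hα : α ^ 2 = 1) (hα1 : α ≠ 1) {θ : C g0 →* ℂˣ} (hθ : θ ^ 2 = 1)
    (hθ1 : θ ≠ 1) :
      (∃ φ ψ, Half (sig e) (u 1) q (ps α) φ ψ) ∧ ∃ φ ψ, Half (sig e) (u 1) q (cu θ) φ ψ := by
  have := isCyclic_C_aniso hg0
  have hz : (-1 : SL(2, F)) ∈ Subgroup.center SL(2, F) := (SL2Basic.mem_center_iff _).2 (Or.inr rfl)
  have hn : (Nat.card (Subgroup.centralizer ({u 1} : Set SL(2, F))) : ℂ) = 2 * q := by
    have := card_C_u_odd h2 (one_ne_zero (α := F))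
    rw [Nat.card_eq_fintype_card (α := F)] at this
    exact_mod_cast this
  have h4 : (2 : F) ≠ -2 := fun e => h2 (by
    have : (2 : F) * 2 = 0 := by linear_combination e
    exact (mul_eq_zero.1 this).elim id id)
  have x1 : ¬ IsConj (u 1) (sig e (u 1)) := by
    rw [sig_u, mul_one, isConj_u_iff' one_ne_zero e.ne_zero, one_mul]; exact he
  have x2 : ¬ IsConj (u (1 : F)) (-1 * u 1) := fun h => h4 (by
    simpa only [neg_one_mul, trace_neg', trace_u] using trace_of_isConj h)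
  have x3 : ¬ IsConj (u (1 : F)) (-1 * sig e (u 1)) := fun h => h4 (by
    simpa only [neg_one_mul, trace_neg', trace_u, trace_sig] using trace_of_isConj h)
  have w1 : α (-1) = 1 ∨ α (-1) = -1 := sq_eq_one_iff.1 (by rw [← map_pow]; simp)
  have w2 : (θ ⟨-1, neg_one_mem_C g0⟩ : ℂ) = 1 ∨ (θ ⟨-1, neg_one_mem_C g0⟩ : ℂ) = -1 := by
    rw [← al_neg_one]; exact sq_eq_one_iff.1 (by rw [← map_pow]; simp)
  have P2 : classInner (ps α) (ps α) = 2 := by
    rw [inner_ps_ps, if_pos rfl, if_pos (grp_sq_one_iff.1 hα)]; norm_num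
  have Q2 : classInner (cu θ) (cu θ) = 2 := by
    rw [inner_cu_cu hg0, if_pos rfl, if_pos (grp_sq_one_iff.1 hθ)]; norm_num
  have Ppos : 0 < (ps α 1).re := by
    rw [ps_one]; simp; positivity
  have Qpos : 0 < (cu θ 1).re := by rw [cu_one hg0]; exact q_sub_one_pos
  have hPQ := inner_eq_zero_or hz (ps_neg α) (cu_mul_central θ ⟨-1, neg_one_mem_C g0⟩ hz) (by
    rw [theta_neg_one hg0 h2 hα hα1 hθ hθ1]
    rcases w1 with e | e <;> rw [e] <;> norm_num)
  have hinv : ∀ χ, IsIrrCharacter _ χ → classInner (ps α) χ = 0 → classInner (cu θ) χ = 0 →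
      χ (sig e (u 1)) = χ (u 1) ∧ χ (-1 * sig e (u 1)) = χ (-1 * u 1) := by
    intro χ hχ i1 i2
    have : GInv χ := by
      rcases irr_cases0 hg0 hχ with rfl | rfl | ⟨β, -, rfl⟩ | ⟨η, -, rfl⟩ | ⟨β, h, h1, h3⟩ |
        ⟨η, h, h1, h3⟩
      · exact fun _ _ _ _ _ => rfl
      · exact ginv_St
      · exact ginv_ps β
      · exact ginv_cu hg0 η
      · rw [mulChar_sq_one_eq h hα h1 hα1] at h3; exact absurd i1 h3
      · rw [sq_one_cases h hθ h1 hθ1] at h3; exact absurd i2 h3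
    refine ⟨this.sig e _, ?_⟩
    rw [← this.sig e (-1 * u 1), map_mul, sig_of_not_NS e ((not_NS_iff_eq _).2 (Or.inr rfl))]
  have A := half_of (sig e) hz (u 1) hn x1 x2 x3 w1 w2 (gen_of_char (char_ps α)) P2
    ((ginv_ps α).sig e) (ps_neg α) Ppos (gen_cu θ) Q2 ((ginv_cu hg0 θ).sig e)
    (cu_mul_central θ ⟨-1, neg_one_mem_C g0⟩ hz) Qpos hPQ hinv
  have B := half_of (sig e) hz (u 1) hn x1 x2 x3 w2 w1 (gen_cu θ) Q2 ((ginv_cu hg0 θ).sig e)
    (cu_mul_central θ ⟨-1, neg_one_mem_C g0⟩ hz) Qpos (gen_of_char (char_ps α)) P2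
    ((ginv_ps α).sig e) (ps_neg α) Ppos (fun χ h => (hPQ χ h).symm) (fun χ h a b => hinv χ h b a)
  exact ⟨A.2, B.2⟩

theorem irr_cases_odd (hg0 : Aniso g0.1) (h2 : (2 : F) ≠ 0) {e : Fˣ} (he : ¬ IsSquare (e : F))
    {χ : SL(2, F) → ℂ} (hχ : IsIrrCharacter _ χ) :
    χ = 1 ∨ χ = St F ∨ (∃ α, α ^ 2 ≠ 1 ∧ χ = ps α) ∨ (∃ θ : C g0 →* ℂˣ, θ ^ 2 ≠ 1 ∧ χ = cu θ) ∨
      (∃ α ψ, α ^ 2 = 1 ∧ α ≠ 1 ∧ Half (sig e) (u 1) q (ps α) χ ψ) ∨
      ∃ (θ : C g0 →* ℂˣ) (ψ : _), θ ^ 2 = 1 ∧ θ ≠ 1 ∧ Half (sig e) (u 1) q (cu θ) χ ψ := by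
  rcases irr_cases0 hg0 hχ with h | h | h | h | ⟨α, h, h1, h3⟩ | ⟨θ, h, h1, h3⟩
  · exact Or.inl h
  · exact Or.inr (Or.inl h)
  · exact Or.inr (Or.inr (Or.inl h))
  · exact Or.inr (Or.inr (Or.inr (Or.inl h)))
  · obtain ⟨θ, hθ, hθ1⟩ := exists_T_odd hg0 h2
    obtain ⟨φ, ψ, H⟩ := (halves hg0 h2 he h h1 hθ hθ1).1
    obtain ⟨ψ', H'⟩ := H.of_inner hχ h3
    exact Or.inr (Or.inr (Or.inr (Or.inr (Or.inl ⟨α, ψ', h, h1, H'⟩))))
  · obtain ⟨α, hα, hα1⟩ := exists_mulChar_odd h2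
    obtain ⟨φ, ψ, H⟩ := (halves hg0 h2 he hα hα1 h h1).2
    obtain ⟨ψ', H'⟩ := H.of_inner hχ h3
    exact Or.inr (Or.inr (Or.inr (Or.inr (Or.inr ⟨θ, ψ', h, h1, H'⟩))))

omit [DecidableEq F] in
theorem exists_nonsq (h2 : (2 : F) ≠ 0) : ∃ e : Fˣ, ¬ IsSquare (e : F) := by
  obtain ⟨a, ha⟩ := FiniteField.exists_nonsquare (F := F) (fun e => h2 (by
    have := ringChar.Nat.cast_ringChar (R := F)
    rw [e] at this
    exact_mod_cast this))
  exact ⟨Units.mk0 a (by rintro rfl; exact ha IsSquare.zero), ha⟩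

omit [DecidableEq F] in
theorem half_val {e : Fˣ} {R φ ψ : SL(2, F) → ℂ} {n : ℂ} (H : Half (sig e) (u 1) n R φ ψ)
    {g : SL(2, F)} (hg : SS g ∨ ¬ NS g.1) : 2 * φ g = R g := H.val (isConj_sig e hg)

omit [DecidableEq F] in
theorem half_one {e : Fˣ} {R φ ψ : SL(2, F) → ℂ} {n : ℂ} (H : Half (sig e) (u 1) n R φ ψ) :
    2 * φ 1 = R 1 := half_val H (Or.inr ((not_NS_iff_eq (1 : SL(2, F))).2 (Or.inl rfl)))

omit [DecidableEq F] in
theorem cast_half_add (h2 : (2 : F) ≠ 0) : 2 * (((Fintype.card F + 1) / 2 : ℕ) : ℂ) = q + 1 := by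
  have ho := odd_card_of_two_ne_zero h2
  rw [Nat.card_eq_fintype_card, Nat.odd_iff] at ho
  have : 2 * ((Fintype.card F + 1) / 2) = Fintype.card F + 1 := by omega
  exact_mod_cast this

omit [DecidableEq F] in
theorem cast_half_sub (h2 : (2 : F) ≠ 0) : 2 * (((Fintype.card F - 1) / 2 : ℕ) : ℂ) = q - 1 := by
  have ho := odd_card_of_two_ne_zero h2
  rw [Nat.card_eq_fintype_card, Nat.odd_iff] at ho
  have : 2 * ((Fintype.card F - 1) / 2) + 1 = Fintype.card F := by omega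
  rw [eq_sub_iff_add_eq]
  exact_mod_cast this

theorem half_ps_one (h2 : (2 : F) ≠ 0) {e : Fˣ} {α : MulChar F ℂ} {φ ψ : SL(2, F) → ℂ} {n : ℂ}
    (H : Half (sig e) (u 1) n (ps α) φ ψ) : φ 1 = (((Fintype.card F + 1) / 2 : ℕ) : ℂ) :=
  mul_left_cancel₀ two_ne_zero (by rw [half_one H, ps_one, cast_half_add h2])

theorem half_cu_one (hg0 : Aniso g0.1) (h2 : (2 : F) ≠ 0) {e : Fˣ} {θ : C g0 →* ℂˣ}
    {φ ψ : SL(2, F) → ℂ} {n : ℂ} (H : Half (sig e) (u 1) n (cu θ) φ ψ) :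
    φ 1 = (((Fintype.card F - 1) / 2 : ℕ) : ℂ) :=
  mul_left_cancel₀ two_ne_zero (by rw [half_one H, cu_one hg0, cast_half_sub h2])

omit [DecidableEq F] in
theorem half_sq (h2 : (2 : F) ≠ 0) {e : Fˣ} (he : ¬ IsSquare (e : F)) {R φ ψ : SL(2, F) → ℂ} {n : ℂ}
    (H : Half (sig e) (u 1) n R φ ψ) :
    (φ (u 1) - ψ (u 1)) ^ 2 = (-1) ^ ((Fintype.card F - 1) / 2) * n := by
  have ho := odd_card_of_two_ne_zero h2
  rw [Nat.card_eq_fintype_card, Nat.odd_iff] at ho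
  have hd := H.d
  rw [map_sub, ← char_apply_inv (char_of_irr H.irr1), ← char_apply_inv (char_of_irr H.irr2),
    u_inv] at hd
  have h1 : (-1 : F) ≠ 0 := neg_ne_zero.2 one_ne_zero
  by_cases h : IsSquare (-1 : F)
  · have hc : IsConj (u (-1 : F)) (u 1) := (isConj_u_iff' h1 one_ne_zero).2 (by simpa using h)
    rw [classFun_of_isConj (irr_classFun H.irr1) hc, classFun_of_isConj (irr_classFun H.irr2) hc] at hd
    rw [FiniteField.isSquare_neg_one_iff] at h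
    rw [Even.neg_one_pow (Nat.even_iff.2 (by omega)), ← hd]
    ring
  · have hc : IsConj (u (-1 : F)) (sig e (u 1)) := by
      rw [sig_u, mul_one]
      exact (isConj_u_iff' h1 e.ne_zero).2 (CForm.isSquare_mul_of_not h he)
    rw [classFun_of_isConj (irr_classFun H.irr1) hc, classFun_of_isConj (irr_classFun H.irr2) hc,
      H.s1, H.s2] at hd
    rw [FiniteField.isSquare_neg_one_iff] at h
    rw [Odd.neg_one_pow (Nat.odd_iff.2 (by omega)), ← hd]
    ring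

omit [DecidableEq F] in
theorem J_sig (e : Fˣ) (χ : SL(2, F) → ℂ) (a : Fˣ) : J (fun g => χ (sig e g)) a = J χ a := by
  simp only [J, sig_tr]
  exact Equiv.sum_comp (Equiv.mulLeft₀ (e : F) e.ne_zero) (fun b => χ (tr a b))

omit [DecidableEq F] in
theorem half_J {e : Fˣ} {R φ ψ : SL(2, F) → ℂ} {n : ℂ} (H : Half (sig e) (u 1) n R φ ψ) (a : Fˣ) :
    2 * J φ a = J R a := by
  have h := J_sig e φ a
  simp only [H.s1] at h
  rw [H.sum, two_mul]
  nth_rewrite 2 [← h]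
  simp only [J, Pi.add_apply, Finset.sum_add_distrib]

theorem cu_inv (hg0 : Aniso g0.1) (θ : C g0 →* ℂˣ) : cu θ⁻¹ = cu θ := by
  rw [← sub_eq_zero, ← ci_self_eq_zero, ci_sub_left, ci_sub_right, ci_sub_right]
  have e : θ⁻¹⁻¹ = θ := inv_inv θ
  rw [inner_cu_cu hg0, inner_cu_cu hg0, inner_cu_cu hg0, inner_cu_cu hg0, e]
  by_cases h : θ = θ⁻¹
  · simp only [← h, if_true]; ring
  · simp only [h, Ne.symm h, if_true, if_false]; ring

theorem cu_eq_iff (hg0 : Aniso g0.1) (θ η : C g0 →* ℂˣ) : cu θ = cu η ↔ η = θ ∨ η = θ⁻¹ := by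
  constructor
  · intro h
    by_contra hn
    push Not at hn
    have h1 := inner_cu_cu hg0 η θ
    rw [if_neg hn.1, if_neg hn.2, h, inner_cu_cu hg0, if_pos rfl] at h1
    split_ifs at h1 <;> norm_num at h1
  · rintro (rfl | rfl)
    · rfl
    · rw [cu_inv hg0]

/-- one of the two constituents of the principal series character of order two -/
def HP (χ : SL(2, F) → ℂ) : Prop :=
  (2 : F) ≠ 0 ∧ ∃ (e : Fˣ) (α : MulChar F ℂ) (ψ : SL(2, F) → ℂ), ¬ IsSquare (e : F) ∧ α ^ 2 = 1 ∧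
    α ≠ 1 ∧ Half (sig e) (u 1) q (ps α) χ ψ

/-- one of the two constituents of the cuspidal character of order two -/
def HC (g0 : SL(2, F)) (χ : SL(2, F) → ℂ) : Prop :=
  (2 : F) ≠ 0 ∧ ∃ (e : Fˣ) (θ : C g0 →* ℂˣ) (ψ : SL(2, F) → ℂ), ¬ IsSquare (e : F) ∧ θ ^ 2 = 1 ∧
    θ ≠ 1 ∧ Half (sig e) (u 1) q (cu θ) χ ψ

theorem irr_deg (hg0 : Aniso g0.1) {χ : SL(2, F) → ℂ} (hχ : IsIrrCharacter _ χ) {n : ℕ}
    (hn : χ 1 = n) :
    (n = 1 ∧ χ = 1) ∨ (n = Fintype.card F ∧ χ = St F) ∨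
      (n = Fintype.card F + 1 ∧ ∃ α, α ^ 2 ≠ 1 ∧ χ = ps α) ∨
      (n + 1 = Fintype.card F ∧ ∃ θ : C g0 →* ℂˣ, θ ^ 2 ≠ 1 ∧ χ = cu θ) ∨
      (2 * n = Fintype.card F + 1 ∧ HP χ) ∨ (2 * n + 1 = Fintype.card F ∧ HC g0 χ) := by
  have c : χ = 1 ∨ χ = St F ∨ (∃ α, α ^ 2 ≠ 1 ∧ χ = ps α) ∨
      (∃ θ : C g0 →* ℂˣ, θ ^ 2 ≠ 1 ∧ χ = cu θ) ∨ HP χ ∨ HC g0 χ := by
    by_cases h2 : (2 : F) = 0
    · rcases irr_cases_even hg0 h2 hχ with h | h | h | h
      · exact Or.inl h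
      · exact Or.inr (Or.inl h)
      · exact Or.inr (Or.inr (Or.inl h))
      · exact Or.inr (Or.inr (Or.inr (Or.inl h)))
    · obtain ⟨e, he⟩ := exists_nonsq h2
      rcases irr_cases_odd hg0 h2 he hχ with h | h | h | h | ⟨α, ψ, h⟩ | ⟨θ, ψ, h⟩
      · exact Or.inl h
      · exact Or.inr (Or.inl h)
      · exact Or.inr (Or.inr (Or.inl h))
      · exact Or.inr (Or.inr (Or.inr (Or.inl h)))
      · exact Or.inr (Or.inr (Or.inr (Or.inr (Or.inl ⟨h2, e, α, ψ, he, h⟩))))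
      · exact Or.inr (Or.inr (Or.inr (Or.inr (Or.inr ⟨h2, e, θ, ψ, he, h⟩))))
  rcases c with rfl | rfl | ⟨α, h, rfl⟩ | ⟨θ, h, rfl⟩ | h | h
  · rw [Pi.one_apply] at hn
    exact Or.inl ⟨by exact_mod_cast hn.symm, rfl⟩
  · rw [St_one] at hn
    exact Or.inr (Or.inl ⟨by exact_mod_cast hn.symm, rfl⟩)
  · rw [ps_one] at hn
    exact Or.inr (Or.inr (Or.inl ⟨by exact_mod_cast hn.symm, α, h, rfl⟩))
  · rw [cu_one hg0, sub_eq_iff_eq_add] at hn
    exact Or.inr (Or.inr (Or.inr (Or.inl ⟨by exact_mod_cast hn.symm, θ, h, rfl⟩)))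
  · refine Or.inr (Or.inr (Or.inr (Or.inr (Or.inl ⟨?_, h⟩))))
    obtain ⟨-, e, α, ψ, -, -, -, H⟩ := h
    have := half_one H
    rw [hn, ps_one] at this
    exact_mod_cast this
  · refine Or.inr (Or.inr (Or.inr (Or.inr (Or.inr ⟨?_, h⟩))))
    obtain ⟨-, e, θ, ψ, -, -, -, H⟩ := h
    have := half_one H
    rw [hn, cu_one hg0, eq_sub_iff_add_eq] at this
    exact_mod_cast this

omit [DecidableEq F] in
theorem cast_pred : q - 1 = ((Fintype.card F - 1 : ℕ) : ℂ) := (Nat.cast_pred Fintype.card_pos).symm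

theorem eq_St {χ : SL(2, F) → ℂ} (hχ : IsIrrCharacter _ χ) (h : χ 1 = q) : χ = St F := by
  obtain ⟨g0, hg0⟩ := exists_aniso_SL F
  have := Fintype.one_lt_card (α := F)
  rcases irr_deg hg0 hχ h with h | h | h | h | h | h
  all_goals first | exact h.2 | (exfalso; have := h.1; omega)

theorem eq_ps {χ : SL(2, F) → ℂ} (hχ : IsIrrCharacter _ χ) (h : χ 1 = q + 1) :
    ∃ α, α ^ 2 ≠ 1 ∧ χ = ps α := by
  obtain ⟨g0, hg0⟩ := exists_aniso_SL F
  have := Fintype.one_lt_card (α := F)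
  rcases irr_deg hg0 hχ (n := Fintype.card F + 1) (by rw [h]; push_cast; rfl) with
    h | h | h | h | h | h
  all_goals first | exact h.2 | (exfalso; have := h.1; omega)

theorem eq_cu (hg0 : Aniso g0.1) (h4 : 4 ≤ Fintype.card F) {χ : SL(2, F) → ℂ}
    (hχ : IsIrrCharacter _ χ) (h : χ 1 = q - 1) : ∃ θ : C g0 →* ℂˣ, θ ^ 2 ≠ 1 ∧ χ = cu θ := by
  rcases irr_deg hg0 hχ (h.trans cast_pred) with h | h | h | h | h | h
  all_goals first | exact h.2 | (exfalso; have := h.1; omega)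

theorem eq_one (h4 : 4 ≤ Fintype.card F) {χ : SL(2, F) → ℂ}
    (hχ : IsIrrCharacter _ χ) (h : χ 1 = 1) : χ = 1 := by
  obtain ⟨g0, hg0⟩ := exists_aniso_SL F
  rcases irr_deg hg0 hχ (n := 1) (by rw [h]; simp) with h | h | h | h | h | h
  all_goals first | exact h.2 | (exfalso; have := h.1; omega)

theorem hp_of_deg (ho : Odd (Fintype.card F)) (h5 : 5 ≤ Fintype.card F) {χ : SL(2, F) → ℂ}
    (hχ : IsIrrCharacter _ χ) (h : χ 1 = (((Fintype.card F + 1) / 2 : ℕ) : ℂ)) : HP χ := by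
  obtain ⟨g0, hg0⟩ := exists_aniso_SL F
  rw [Nat.odd_iff] at ho
  rcases irr_deg hg0 hχ h with h | h | h | h | h | h
  all_goals first | exact h.2 | (exfalso; have := h.1; omega)

theorem hc_of_deg (hg0 : Aniso g0.1) (ho : Odd (Fintype.card F)) (h5 : 5 ≤ Fintype.card F)
    {χ : SL(2, F) → ℂ} (hχ : IsIrrCharacter _ χ)
    (h : χ 1 = (((Fintype.card F - 1) / 2 : ℕ) : ℂ)) : HC g0 χ := by
  rw [Nat.odd_iff] at ho
  rcases irr_deg hg0 hχ h with h | h | h | h | h | h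
  all_goals first | exact h.2 | (exfalso; have := h.1; omega)

theorem HP.pair {φ ψ : SL(2, F) → ℂ} (h1 : HP φ) (h2 : HP ψ) (hne : φ ≠ ψ) :
    ∃ (e : Fˣ) (α : MulChar F ℂ), Half (sig e) (u 1) q (ps α) φ ψ := by
  obtain ⟨-, e, α, φ', -, a1, a2, H⟩ := h1
  obtain ⟨-, e', α', ψ', -, b1, b2, H'⟩ := h2
  obtain rfl := mulChar_sq_one_eq a1 b1 a2 b2
  rcases H.eq_or H'.irr1 (by rw [H'.inner]; exact one_ne_zero) with h | h
  · exact absurd h.symm hne
  · exact ⟨e, α, h ▸ H⟩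

theorem HC.pair (hg0 : Aniso g0.1) {φ ψ : SL(2, F) → ℂ} (h1 : HC g0 φ) (h2 : HC g0 ψ)
    (hne : φ ≠ ψ) : ∃ (e : Fˣ) (θ : C g0 →* ℂˣ), Half (sig e) (u 1) q (cu θ) φ ψ := by
  have := isCyclic_C_aniso hg0
  obtain ⟨-, e, α, φ', -, a1, a2, H⟩ := h1
  obtain ⟨-, e', α', ψ', -, b1, b2, H'⟩ := h2
  obtain rfl := sq_one_cases a1 b1 a2 b2
  rcases H.eq_or H'.irr1 (by rw [H'.inner]; exact one_ne_zero) with h | h
  · exact absurd h.symm hne
  · exact ⟨e, α, h ▸ H⟩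

omit [Fintype F] [DecidableEq F] in
theorem sq_ne_one_of {a : Fˣ} {b : F} (h : (tr a b).1 0 0 ^ 2 ≠ 1) : a ^ 2 ≠ 1 :=
  fun e => h (sq_one_iff'.1 e)

omit [Fintype F] [DecidableEq F] in
theorem sq_one_of {a : Fˣ} {b : F} (h : (tr a b).1 0 0 = (tr a b).1 1 1) : a ^ 2 = 1 :=
  sq_one_iff.2 (Units.ext h)

omit [DecidableEq F] in
theorem four_le_of_sq_ne {a : Fˣ} (h : a ^ 2 ≠ 1) : 4 ≤ Fintype.card F := by
  classical
  have h1 := orderOf_dvd_card (x := a)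
  rw [Fintype.card_units] at h1
  have h2 : ¬ orderOf a ∣ 2 := fun e => h (orderOf_dvd_iff_pow_eq_one.1 e)
  have h3 := Fintype.one_lt_card (α := F)
  by_contra hc
  apply h2
  have : Fintype.card F - 1 = 1 ∨ Fintype.card F - 1 = 2 := by omega
  rcases this with e | e <;> rw [e] at h1
  · exact h1.trans (one_dvd _)
  · exact h1

theorem card_sq_ne_one {A : Type*} [Group A] [Finite A] {a : A} (ha : a ^ 2 = 1) (h1 : a ≠ 1)
    (h : ∀ b : A, b ^ 2 = 1 → b ≠ 1 → b = a) : Nat.card {b : A // b ^ 2 ≠ 1} = Nat.card A - 2 := by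
  classical
  have := Fintype.ofFinite A
  rw [Nat.card_eq_fintype_card, Nat.card_eq_fintype_card, Fintype.card_subtype_compl,
    Fintype.card_subtype]
  congr 1
  refine Eq.trans ?_ (Finset.card_pair h1)
  congr 1
  ext b
  simp only [Finset.mem_filter, Finset.mem_univ, true_and, Finset.mem_insert, Finset.mem_singleton]
  constructor
  · intro hb
    by_cases e : b = 1
    · exact Or.inr e
    · exact Or.inl (h b hb e)
  · rintro (rfl | rfl)
    · exact ha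
    · simp

theorem two_mul_card_ps : 2 * Nat.card {χ : IrrCharacter SL(2, F) // χ.1 1 = q + 1} =
    Nat.card {α : MulChar F ℂ // α ^ 2 ≠ 1} := by
  refine two_mul_card_irr (fun χ => χ 1 = q + 1) (fun x : {α : MulChar F ℂ // α ^ 2 ≠ 1} => ps x.1)
    (fun x => ⟨x.1⁻¹, by simpa using x.2⟩)
    (fun x e => x.2 (grp_sq_one_iff.2 (congrArg Subtype.val e).symm)) ?_ ?_
  · intro x y
    simp only [ps_eq_iff, Subtype.ext_iff]
  · intro χ
    refine ⟨fun ⟨hχ, h⟩ => ?_, by rintro ⟨x, rfl⟩; exact ⟨(irr_ps_iff _).2 x.2, ps_one _⟩⟩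
    obtain ⟨α, h1, rfl⟩ := eq_ps hχ h
    exact ⟨⟨α, h1⟩, rfl⟩

theorem card_St : Nat.card {χ : IrrCharacter SL(2, F) // χ.1 1 = q} = 1 := by
  rw [card_irr_of_bij (fun χ => χ 1 = q) (fun _ : Unit => St F) (fun _ _ _ => rfl)]
  · simp
  · intro χ
    exact ⟨fun ⟨hχ, h⟩ => ⟨(), eq_St hχ h⟩, by rintro ⟨-, rfl⟩; exact ⟨irr_St, St_one⟩⟩

theorem card_one (h4 : 4 ≤ Fintype.card F) :
    Nat.card {χ : IrrCharacter SL(2, F) // χ.1 1 = 1} = 1 := by
  rw [card_irr_of_bij (fun χ => χ 1 = 1) (fun _ : Unit => 1) (fun _ _ _ => rfl)]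
  · simp
  · intro χ
    exact ⟨fun ⟨hχ, h⟩ => ⟨(), eq_one h4 hχ h⟩, by rintro ⟨-, rfl⟩; exact ⟨irr_one', rfl⟩⟩

omit [DecidableEq F] [Fintype F] in
theorem card_of_half {e : Fˣ} {R φ ψ : SL(2, F) → ℂ} {n : ℂ} (H : Half (sig e) (u 1) n R φ ψ)
    (p : (SL(2, F) → ℂ) → Prop) (h1 : p φ) (h2 : p ψ)
    (h : ∀ χ, IsIrrCharacter _ χ → p χ → χ = φ ∨ χ = ψ) :
    Nat.card {χ : IrrCharacter SL(2, F) // p χ} = 2 := by
  rw [card_irr_of_bij p (fun b : Bool => bif b then φ else ψ)]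
  · simp
  · rintro (_ | _) (_ | _) e
    · rfl
    · exact absurd e.symm H.ne
    · exact absurd e H.ne
    · rfl
  · intro χ
    constructor
    · rintro ⟨hχ, hp⟩
      rcases h χ hχ hp with rfl | rfl
      · exact ⟨true, rfl⟩
      · exact ⟨false, rfl⟩
    · rintro ⟨_ | _, rfl⟩
      · exact ⟨H.irr2, h2⟩
      · exact ⟨H.irr1, h1⟩

theorem card_hp (ho : Odd (Fintype.card F)) (h5 : 5 ≤ Fintype.card F) :
    Nat.card {χ : IrrCharacter SL(2, F) // χ.1 1 = (((Fintype.card F + 1) / 2 : ℕ) : ℂ)} = 2 := by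
  obtain ⟨g0, hg0⟩ := exists_aniso_SL F
  have h2 : (2 : F) ≠ 0 := two_ne_zero_of_odd (by rwa [Nat.card_eq_fintype_card])
  obtain ⟨e, he⟩ := exists_nonsq h2
  obtain ⟨θ, hθ, hθ1⟩ := exists_T_odd hg0 h2
  obtain ⟨α, hα, hα1⟩ := exists_mulChar_odd h2
  obtain ⟨φ, ψ, H⟩ := (halves hg0 h2 he hα hα1 hθ hθ1).1
  refine card_of_half H (fun χ => χ 1 = _) (half_ps_one h2 H) (half_ps_one h2 H.symm) ?_
  intro χ hχ h
  obtain ⟨-, e', α', ψ', -, b1, b2, H'⟩ := hp_of_deg ho h5 hχ h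
  obtain rfl := mulChar_sq_one_eq hα b1 hα1 b2
  exact H.eq_or hχ (by rw [H'.inner]; exact one_ne_zero)

theorem card_hc (ho : Odd (Fintype.card F)) (h5 : 5 ≤ Fintype.card F) :
    Nat.card {χ : IrrCharacter SL(2, F) // χ.1 1 = (((Fintype.card F - 1) / 2 : ℕ) : ℂ)} = 2 := by
  obtain ⟨g0, hg0⟩ := exists_aniso_SL F
  have := isCyclic_C_aniso hg0
  have h2 : (2 : F) ≠ 0 := two_ne_zero_of_odd (by rwa [Nat.card_eq_fintype_card])
  obtain ⟨e, he⟩ := exists_nonsq h2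
  obtain ⟨θ, hθ, hθ1⟩ := exists_T_odd hg0 h2
  obtain ⟨α, hα, hα1⟩ := exists_mulChar_odd h2
  obtain ⟨φ, ψ, H⟩ := (halves hg0 h2 he hα hα1 hθ hθ1).2
  refine card_of_half H (fun χ => χ 1 = _) (half_cu_one hg0 h2 H) (half_cu_one hg0 h2 H.symm) ?_
  intro χ hχ h
  obtain ⟨-, e', α', ψ', -, b1, b2, H'⟩ := hc_of_deg hg0 ho h5 hχ h
  obtain rfl := sq_one_cases hθ b1 hθ1 b2
  exact H.eq_or hχ (by rw [H'.inner]; exact one_ne_zero)

theorem sum_U (χ : SL(2, F) → ℂ) :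
    (∑ g : SL(2, F), if g.1 1 0 = 0 ∧ g.1 0 0 = 1 ∧ g.1 1 1 = 1 then χ g else 0) = J χ 1 := by
  rw [J, ← Finset.sum_filter]
  symm
  refine Finset.sum_bij (fun b _ => tr 1 b) (by simp) ?_ ?_ (fun _ _ => rfl)
  · intro a _ b _ h
    exact congrArg (fun z : SL(2, F) => z.1 0 1) h
  · intro g hg
    obtain ⟨h1, h2, -⟩ := (Finset.mem_filter.1 hg).2
    obtain ⟨a, b, rfl⟩ := exists_tr h1
    obtain rfl : a = 1 := Units.ext h2
    exact ⟨b, by simp, rfl⟩

end CA.SL2Char
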