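import Cfsg.Agent.Lib.Lin.PSL2Struct

/-! Traces of products in `SL₂(q)` (Macbeath), products of classes in `PSL₂(q)`. -/

set_option autoImplicit false

namespace CA.SL2Prod

open Matrix CA.SL2Basic CA.Mat2 CA.SL2Torus CA.SL2Embed CA.SL2Unip CA.SL2Reps CA.PSL2Struct
open scoped MatrixGroups

variable {F : Type*} [Field F] [Finite F]

theorem exists_tr {B : SL(2, F)} (hB : NS B.1) (α γ : F)
    (h : SS B ∨ B.1.trace = 2 ∧ (γ ≠ α ∨ ∃ s, s ^ 2 - α * s + 1 = 0)) :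
    ∃ Z : SL(2, F), Z.1.trace = α ∧ (Z * B).1.trace = γ := by
  obtain ⟨P, hP⟩ := hB.exists_comp
  have hB' : B = conjSL P (compS B.1.trace) := sl_ext (by
    rw [B.2] at hP
    rw [conjSL_coe, show (compS B.1.trace).1 = Mat2.comp _ 1 from rfl, ← hP, Matrix.mul_assoc, Units.mul_inv, mul_one])
  have ht : ∀ Z : SL(2, F), (conjSL P Z).1.trace = Z.1.trace := fun Z => by
    rw [conjSL_coe, trace_mul_cycle, Units.inv_mul, one_mul]
  unfold SS at h
  generalize B.1.trace = β at *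
  obtain ⟨d, c, e⟩ : ∃ d c : F, d ^ 2 - β * c * d + c ^ 2 - α * d + γ * c + 1 = 0 := by
    rcases h with h | ⟨rfl, h | ⟨s, h⟩⟩
    · have h' := sub_ne_zero.2 h.symm
      obtain ⟨d, hd⟩ : ∃ d, d * (4 - β ^ 2) = 2 * α - β * γ := ⟨_, div_mul_cancel₀ _ h'⟩
      obtain ⟨c, hc⟩ : ∃ c, c * (4 - β ^ 2) = β * α - 2 * γ := ⟨_, div_mul_cancel₀ _ h'⟩
      have e1 : 2 * d - β * c = α := mul_right_cancel₀ h' (by linear_combination 2 * hd - β * hc)
      have e2 : 2 * c - β * d = -γ := mul_right_cancel₀ h' (by linear_combination 2 * hc - β * hd)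
      obtain ⟨x, y, hxy⟩ := exists_det_lin (A := Mat2.comp (-β) 1)
        (by rw [disc, trace_comp, det_comp]; intro H; exact h (by linear_combination H))
        (-(d ^ 2 - β * c * d + c ^ 2 - α * d + γ * c + 1))
      rw [det_lin, trace_comp, det_comp] at hxy
      exact ⟨d + x, c + y, by linear_combination hxy + x * e1 + y * e2⟩
    · have h' := sub_ne_zero.2 h
      exact ⟨-(γ - α)⁻¹, -(γ - α)⁻¹, by field_simp; ring⟩
    · by_cases h' : γ = α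
      · exact ⟨s, 0, by linear_combination h⟩
      · have h' := sub_ne_zero.2 h'
        exact ⟨-(γ - α)⁻¹, -(γ - α)⁻¹, by field_simp; ring⟩
  refine ⟨conjSL P (mk2 (α - d) (γ + c - d * β) c d (by linear_combination -e)), by rw [ht, trace_mk2]; ring, ?_⟩
  rw [hB', ← map_mul, ht]
  rw [show compS β = mk2 0 (-1) 1 β (by simp) from rfl, mk2_mul, trace_mk2]; ring

omit [Finite F] in
theorem sq_of_isConj {g h : SL(2, F)} (hc : IsConj (pr F g) (pr F h)) : g.1.trace ^ 2 = h.1.trace ^ 2 := by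
  obtain ⟨c, hc⟩ := isConj_iff.1 hc
  obtain ⟨c, rfl⟩ := pr_surj c
  rw [← map_inv, ← map_mul, ← map_mul, pr_eq_iff] at hc
  rw [← trace_conj c g]
  rcases hc with h | h <;> rw [h]
  rw [trace_neg', neg_sq]

theorem conj_of_tr {X Y : SL(2, F)} (hX : SS X) (h : Y.1.trace = X.1.trace ∨ Y.1.trace = -X.1.trace) :
    ∃ u, pr F Y = u * pr F X * u⁻¹ := by
  rcases h with h | h
  · obtain ⟨c, rfl⟩ := isConj_iff.1 (hX.isConj h.symm)
    exact ⟨pr F c, by simp only [map_mul, map_inv]⟩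
  · obtain ⟨c, rfl⟩ := isConj_iff.1 (hX.neg.isConj (h.trans (trace_neg' _).symm).symm)
    exact ⟨pr F c, by simp only [map_mul, map_inv]; rw [pr_eq_iff.2 (.inr rfl)]⟩

/-- the square of a semisimple class of `PSL₂(q)` -/
theorem sq_class {X : SL(2, F)} (hX : SS X) (h : 2 * X.1.trace ≠ 0 ∨ Split X.1) {g : PSL(2, F)} (hg : g ≠ 1) :
    ∃ u v, g = u * pr F X * u⁻¹ * (v * pr F X * v⁻¹) := by
  obtain ⟨G, rfl, hG⟩ : ∃ G, pr F G = g ∧ (SS G ∨ G.1.trace = 2) := by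
    obtain ⟨G, rfl⟩ := pr_surj g
    rcases em (SS G) with h | h
    · exact ⟨G, rfl, .inl h⟩
    rcases (not_SS_iff G).1 h with h | h
    · exact ⟨G, rfl, .inr h⟩
    · exact ⟨-G, pr_eq_iff.2 (.inr rfl), .inr (by rw [trace_neg', h, neg_neg])⟩
  obtain ⟨γ, h1, h2⟩ : ∃ γ, (γ = X.1.trace ∨ γ = -X.1.trace) ∧ (γ ≠ X.1.trace ∨ ∃ s, s ^ 2 - X.1.trace * s + 1 = 0) := by
    rcases h with h | ⟨a, b, -, h1, h2⟩
    · exact ⟨_, .inr rfl, .inl fun e => h (by linear_combination -e)⟩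
    · exact ⟨_, .inl rfl, .inr ⟨a, by rw [X.2] at h2; rw [h1, h2]; ring⟩⟩
  obtain ⟨Z, z1, z2⟩ := exists_tr (pr_ne_one_iff.1 hg) X.1.trace γ (hG.imp id fun h => ⟨h, h2⟩)
  obtain ⟨u, hu⟩ := conj_of_tr hX (Y := Z⁻¹) (.inl (by rw [trace_inv, z1]))
  obtain ⟨v, hv⟩ := conj_of_tr hX (Y := Z * G) (z2 ▸ h1)
  exact ⟨u, v, by rw [← hu, ← hv, ← map_mul, inv_mul_cancel_left]⟩

end CA.SL2Prod
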