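import Cfsg.Agent.Lib.Lin.CFormSpU

/-! The symplectic group as a universal completion: extension from the big cell, Heisenberg groups. -/

namespace CA.SpAm

open Module CA.CForm CA.CForm.Form Submodule

section Grp
variable {G G' H : Type*} [Group G] [Group G'] [Group H] {A B : Subgroup G} {α β ψ : G → H} {a b : G}

/-- `ψ` is multiplicative on `A`. -/
def MulOn (A : Subgroup G) (ψ : G → H) : Prop := ∀ a ∈ A, ∀ b ∈ A, ψ (a * b) = ψ a * ψ b

/-- `α` on `A` and `β` on `B` extend to a homomorphism on `A ⊔ B`. -/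
def Cmp (A B : Subgroup G) (α β : G → H) : Prop := ∃ Ψ, MulOn (A ⊔ B) Ψ ∧ (∀ a ∈ A, Ψ a = α a) ∧ ∀ b ∈ B, Ψ b = β b

theorem MulOn.one (h : MulOn A ψ) : ψ 1 = 1 := by simpa using h 1 A.one_mem 1 A.one_mem

theorem MulOn.inv (h : MulOn A ψ) (ha : a ∈ A) : ψ a⁻¹ = (ψ a)⁻¹ :=
  eq_inv_of_mul_eq_one_left (by rw [← h _ (inv_mem ha) _ ha, inv_mul_cancel, h.one])

theorem Cmp.symm (h : Cmp A B α β) : Cmp B A β α := h.imp fun _ h => ⟨sup_comm A B ▸ h.1, h.2.2, h.2.1⟩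

theorem Cmp.left (h : Cmp A B α β) : MulOn A α := fun a ha b hb => by
  obtain ⟨Ψ, h1, h2, -⟩ := h
  rw [← h2 _ (mul_mem ha hb), h1 _ (Subgroup.mem_sup_left ha) _ (Subgroup.mem_sup_left hb), h2 _ ha, h2 _ hb]

theorem Cmp.eq (h : Cmp A B α β) (ha : a ∈ A) (hb : a ∈ B) : α a = β a := h.elim fun _ h => (h.2.1 a ha).symm.trans (h.2.2 a hb)

theorem Cmp.comm (h : Cmp A B α β) (ha : a ∈ A) (hb : b ∈ B) (e : Commute a b) : Commute (α a) (β b) := by
  obtain ⟨Ψ, h1, h2, h3⟩ := h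
  rw [← h2 _ ha, ← h3 _ hb, Commute, SemiconjBy, ← h1 _ (Subgroup.mem_sup_left ha) _ (Subgroup.mem_sup_right hb), e.eq,
    h1 _ (Subgroup.mem_sup_right hb) _ (Subgroup.mem_sup_left ha)]

theorem Cmp.comap (h : Cmp A B α β) (ι : G' →* G) {A' B' : Subgroup G'} (hA : A' ≤ A.comap ι) (hB : B' ≤ B.comap ι) :
    Cmp A' B' (α ∘ ι) (β ∘ ι) := by
  obtain ⟨Ψ, h1, h2, h3⟩ := h
  have : A' ⊔ B' ≤ (A ⊔ B).comap ι := sup_le (hA.trans (Subgroup.comap_mono le_sup_left)) (hB.trans (Subgroup.comap_mono le_sup_right))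
  exact ⟨Ψ ∘ ι, fun a ha b hb => by simp [h1 _ (this ha) _ (this hb)], fun a ha => h2 _ (hA ha), fun a ha => h3 _ (hB ha)⟩

theorem ext_hom (Ω : G → Prop) (c : G → H) (hi : ∀ g, Ω g → Ω g⁻¹)
    (ht : ∀ g g', Ω g → Ω g' → Ω (g * g') → c (g * g') = c g * c g') (h3 : ∀ g g', ∃ a, Ω a ∧ Ω (a⁻¹ * g) ∧ Ω (a⁻¹ * g'))
    (hc : ∀ g a a', Ω a ∧ Ω (a⁻¹ * g) → Ω a' ∧ Ω (a'⁻¹ * g) → ∃ b d b', (Ω b ∧ Ω (b⁻¹ * g)) ∧ (Ω d ∧ Ω (d⁻¹ * g)) ∧
      (Ω b' ∧ Ω (b'⁻¹ * g)) ∧ Ω (a⁻¹ * b) ∧ Ω (b⁻¹ * d) ∧ Ω (b'⁻¹ * d) ∧ Ω (a'⁻¹ * b')) :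
    ∃ Φ : G →* H, ∀ g, Ω g → Φ g = c g := by
  have k1 : ∀ {g a b}, Ω a ∧ Ω (a⁻¹ * g) → Ω b ∧ Ω (b⁻¹ * g) → Ω (a⁻¹ * b) → c a * c (a⁻¹ * g) = c b * c (b⁻¹ * g) :=
    fun {g a b} h1 h2 h => by
      have e1 := ht _ _ h1.1 h (by simpa using h2.1)
      have e2 := ht _ _ h h2.2 (by simpa [mul_assoc] using h1.2)
      simp only [mul_assoc, mul_inv_cancel_left] at e1 e2
      rw [e1, e2, mul_assoc]
  choose r hr using fun g => h3 g g
  have k2 : ∀ {g a}, Ω a → Ω (a⁻¹ * g) → c (r g) * c ((r g)⁻¹ * g) = c a * c (a⁻¹ * g) := fun {g a} h1 h2 => by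
    obtain ⟨b, d, b', x1, x2, x3, y1, y2, y3, y4⟩ := hc g _ _ ⟨(hr g).1, (hr g).2.1⟩ ⟨h1, h2⟩
    rw [k1 ⟨(hr g).1, (hr g).2.1⟩ x1 y1, k1 x1 x2 y2, k1 ⟨h1, h2⟩ x3 y4, k1 x3 x2 y3]
  have k3 : ∀ x, Ω x → c x * c x⁻¹ = 1 := fun x h => by
    have h1 : Ω (x⁻¹ * r x) := by simpa using hi _ (hr x).2.1
    have e1 := ht _ _ h h1 (by simpa using (hr x).1)
    rw [ht _ _ (hi _ h) (hr x).1 h1, mul_inv_cancel_left, ← mul_assoc] at e1
    simpa using e1.symm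
  refine ⟨MonoidHom.mk' (fun g => c (r g) * c ((r g)⁻¹ * g)) fun g g' => ?_, fun g h => ?_⟩
  · obtain ⟨a, h1, h2, h4⟩ := h3 g (g * g')
    have := k3 _ h2
    rw [k2 h1 h4, k2 h1 h2, k2 (hi _ h2) (by simpa [mul_assoc] using h4), mul_assoc, ← mul_assoc (c (a⁻¹ * g)), this]
    simp [mul_assoc]
  · simpa using (ht _ _ (hr g).1 (hr g).2.1 (by simpa using h)).symm

end Grp

variable {F : Type*} [Field F] {V : Type*} [AddCommGroup V] [Module F V] {f : Form (Kind.symp F) V} {e y : V}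

theorem three (hF : ∃ a : F, a ≠ 0 ∧ a ≠ 1) (hf : f.Nondeg) {u v w : V} (hu : u ≠ 0) (hv : v ≠ 0) (hw : w ≠ 0) :
    ∃ z, f.B u z ≠ 0 ∧ f.B v z ≠ 0 ∧ f.B w z ≠ 0 := by
  obtain ⟨t, t0, t1⟩ := hF
  obtain ⟨z, h1, h2⟩ := hf.exists_B_ne_zero_pair hu hv
  obtain ⟨z', h3⟩ := hf.exists_B_ne_zero hw
  by_contra! H
  have k : ∀ s : F, f.B u z' + s * f.B u z = 0 ∨ f.B v z' + s * f.B v z = 0 := fun s => by
    by_contra! H'
    exact h3 (by simpa [H z h1 h2] using H (z' + s • z) (by simpa using H'.1) (by simpa using H'.2))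
  clear H
  obtain a | a := k 0 <;> obtain b | b := k 1 <;> obtain c | c := k t <;> clear k <;> grind

/-- The orthogonal complement of a hyperbolic plane. -/
abbrev Pl (f : Form (Kind.symp F) V) (e y : V) : Submodule F V := f.perp (span F {e, y})

theorem conn [FiniteDimensional F V] (hF : ∃ a : F, a ≠ 0 ∧ a ≠ 1) (hf : f.Nondeg) (h4 : 4 ≤ finrank F V) {u v a a' : V}
    (h : f.B u a ≠ 0 ∧ f.B v a ≠ 0) (h' : f.B u a' ≠ 0 ∧ f.B v a' ≠ 0) : ∃ b d b', (f.B u b ≠ 0 ∧ f.B v b ≠ 0) ∧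
      (f.B u d ≠ 0 ∧ f.B v d ≠ 0) ∧ (f.B u b' ≠ 0 ∧ f.B v b' ≠ 0) ∧ f.B a b ≠ 0 ∧ f.B b d ≠ 0 ∧ f.B b' d ≠ 0 ∧ f.B a' b' ≠ 0 := by
  have k : ∀ a, f.B u a ≠ 0 ∧ f.B v a ≠ 0 → ∃ b, (f.B u b ≠ 0 ∧ f.B v b ≠ 0) ∧ f.B a b ≠ 0 ∧ ∃ k ∈ Pl f u v, f.B b k ≠ 0 := by
    intro a h
    by_contra! H
    have h1 : ∀ k ∈ Pl f u v, f.B a k = 0 := fun k hk => by
      by_contra h1
      have := f.mem_perp_span_pair.1 hk
      exact h1 (by simpa [symp_B_self] using H (a + k) (by simpa [this] using h) (by simpa [symp_B_self] using h1) k hk)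
    obtain ⟨b, b1, b2, b3⟩ := three hF hf (u := u) (v := v) (w := a) (by rintro rfl; simp at h) (by rintro rfl; simp at h)
      (by rintro rfl; simp at h)
    have h2 : Pl f u v ≤ span F {u, v} := fun k hk => by
      have := f.mem_perp_span_pair.1 hk
      refine hf.perp_perp (span F {u, v}) ▸ f.mem_perp'.2 fun k' hk' => ?_
      simpa [H b ⟨b1, b2⟩ b3 k' hk'] using H (b + k) (by simp [*]) (by simp [h1 k hk, b3]) k' hk'
    have h3 : _ + finrank F (Pl f u v) = _ := hf.finrank_perp (span F {u, v})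
    have h5 : finrank F (span F {u, v}) ≤ 2 := by
      have := finrank_range_le_card (R := F) ![u, v]
      rwa [Matrix.range_cons_cons_empty, Fintype.card_fin] at this
    exact h.1 (f.eq_zero_symm (h1 u ((eq_of_le_of_finrank_le h2 (by omega)).ge (subset_span (by simp)))))
  obtain ⟨b, b1, b2, k1, hk1, b3⟩ := k a h
  obtain ⟨b', b1', b2', k2, hk2, b3'⟩ := k a' h'
  obtain ⟨t, t0, t1⟩ := hF
  obtain ⟨k, hk, c1, c2⟩ : ∃ k ∈ Pl f u v, f.B b k ≠ 0 ∧ f.B b' k ≠ 0 := by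
    by_contra! H
    have := H _ (add_mem hk1 hk2)
    have := H _ hk1
    have := H _ hk2
    simp only [map_add] at *
    grind
  obtain ⟨s, s0, hs⟩ : ∃ s : F, s ≠ 0 ∧ f.B b' b + s * f.B b' k ≠ 0 := by
    by_contra! H
    have := H 1 one_ne_zero
    have := H t t0
    grind
  have := f.mem_perp_span_pair.1 hk
  exact ⟨b, b + s • k, b', b1, by simpa [this] using b1, b1', b2, by simp [symp_B_self, *], by simpa using hs, b2'⟩

variable (h : f.IsHyp e y)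

theorem ple (w : Pl f e y) : f.B e w = 0 := (f.mem_perp_span_pair.1 w.2).1
theorem ply (w : Pl f e y) : f.B y w = 0 := (f.mem_perp_span_pair.1 w.2).2
theorem ple' (w : Pl f e y) : f.B w e = 0 := f.eq_zero_symm (ple w)
theorem ply' (w : Pl f e y) : f.B w y = 0 := f.eq_zero_symm (ply w)

/-- Elements of the Heisenberg group at `e`. -/
def E (w : Pl f e y) (c : F) : f.Isom := f.eichler e w c ⟨h.Q_x, ple w, (f.symp_Q _).symm⟩

theorem E_apply (w : Pl f e y) (c : F) (x : V) : (E h w c).1 x = x + f.B e x • w.1 + (f.B w x + c * f.B e x) • e := by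
  rw [E, eichler_apply, Kind.symp_ε]; module

theorem E_mul (w w' : Pl f e y) (c c' : F) : E h w c * E h w' c' = E h (w + w') (c + c' + f.B w w') := f.eichler_mul _ _

theorem E_zero : E h 0 0 = 1 := f.eichler_zero _

theorem E_e (w : Pl f e y) (c : F) : (E h w c).1 e = e := f.eichler_apply_self _ _ _ _

/-- The symplectic group of the complement. -/
noncomputable def io : (f.restrict (Pl f e y)).Isom →* f.Isom := f.extRight h.isCompl

theorem io_e (l) : (io h l).1 e = e := f.extRight_apply_left _ _ (subset_span (by simp))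
theorem io_y (l) : (io h l).1 y = y := f.extRight_apply_left _ _ (subset_span (by simp))
theorem io_w (l) (w : Pl f e y) : (io h l).1 w = l.1 w := f.extRight_apply_right _ _ _

theorem io_E (l) (w : Pl f e y) (c : F) : io h l * E h w c = E h (l.1 w) c * io h l := by
  rw [← mul_inv_eq_iff_eq_mul, E, conj_eichler]
  exact f.eichler_congr _ _ (io_e h l) (io_w h l w) rfl

theorem exists_io {g : f.Isom} (h1 : g.1 e = e) (h2 : g.1 y = y) : ∃ l, io h l = g :=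
  (f.range_extRight h.isCompl).ge (f.mem_fix_span.2 (by simp [*]))

theorem E_io_y (w : Pl f e y) (c : F) (l) : (E h w c * io h l).1 y = y + w + c • e := by
  simp [isom_mul_apply, io_y, E_apply, h.B_xy, ply']

theorem decomp {p : f.Isom} (hp : p.1 e = e) : ∃ w c l, p = E h w c * io h l := by
  obtain ⟨w, hw, e1⟩ := h.exists_decomp (p.1 y)
  have e2 : f.B e (p.1 y) = 1 := by rw [← h.B_xy, ← f.B_coe_map p e y, hp]
  generalize (Kind.symp F).ε * f.B y (p.1 y) = c at e1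
  have e3 := E_io_y h ⟨w, hw⟩ c 1
  rw [map_one, mul_one] at e3
  obtain ⟨l, hl⟩ := exists_io h (g := (E h ⟨w, hw⟩ c)⁻¹ * p)
    (by rw [isom_mul_apply, hp]; exact (congrArg _ (E_e ..).symm).trans (isom_inv_apply_apply ..)) (by
      rw [isom_mul_apply, show p.1 y = _ from e1.trans (Eq.trans (by rw [e2]; module) e3.symm), isom_inv_apply_apply])
  exact ⟨_, _, l, by rw [hl, mul_inv_cancel_left]⟩

theorem decomp_unique {w w' : Pl f e y} {c c' : F} {l l'} (H : E h w c * io h l = E h w' c' * io h l') :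
    w = w' ∧ c = c' ∧ l = l' := by
  have e1 := congrArg (fun g : f.Isom => g.1 y) H
  simp only [E_io_y] at e1
  obtain rfl : c = c' := by simpa [h.B_yx, ply] using congrArg (f.B y) e1
  obtain rfl : w = w' := by simpa using e1
  exact ⟨rfl, rfl, f.extRight_injective _ (mul_left_cancel H)⟩

include h in
theorem plane (a : F) {t : F} (ht : t ≠ 0) : ∃ s ∈ f.fix (Pl f e y), s.1 e = a • e + t • y := by
  have c : ∀ p d, f.QreflCond p d := fun p d => by simp [QreflCond, symp_Q]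
  refine ⟨f.qrefl e ((a - 1) / t) (c ..) * f.qrefl y (-t) (c ..), mul_mem (fun w hw => f.qrefl_apply_of_B _ _ _ (ple ⟨w, hw⟩))
    fun w hw => f.qrefl_apply_of_B _ _ _ (ply ⟨w, hw⟩), ?_⟩
  simp [isom_mul_apply, qrefl_apply, h.B_yx, h.B_xx, h.B_xy, ht]
  module

end CA.SpAm
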