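import Cfsg.Agent.Lib.Lin.SpAm1

/-! The symplectic group as a universal completion: the inductive step. -/

namespace CA.SpAm

open Module CA.CForm CA.CForm.Form Submodule

variable {F : Type*} [Field F] {V : Type*} [AddCommGroup V] [Module F V] [FiniteDimensional F V]
  {f : Form (Kind.symp F) V} {e y : V} {H : Type*} [Group H] (h : f.IsHyp e y) {x0 y0 : Pl f e y}
  {φ : (f.restrict (Pl f e y)).Isom →* H} {μ σ : f.Isom → H}

omit [FiniteDimensional F V] in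
theorem E_mem (t c : F) : E h (t • x0) c ∈ f.fix (Pl f e x0) := fun v hv => by
  simp [E_apply, ple ⟨v, hv⟩, ply ⟨v, hv⟩]

omit [FiniteDimensional F V] in
include h in
theorem mem_M {g : f.Isom} (h1 : g.1 e = e) (h2 : ∀ w : Pl f e y, f.B x0 w = 0 → g.1 w = w) : g ∈ f.fix (Pl f e x0) :=
  fun v hv => by
  obtain ⟨w, hw, e1⟩ := h.exists_decomp v
  rw [ple ⟨v, hv⟩, zero_smul, add_zero] at e1
  have : f.B x0 v = 0 := ply ⟨v, hv⟩
  rw [e1] at this ⊢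
  rw [map_add, map_smul, h1, h2 ⟨w, hw⟩ (by simpa [ple'] using this)]

variable (φ μ σ x0 y0) in
/-- Hypotheses of the inductive step. -/
structure St : Prop where
  c1 : ∀ l, l.1 x0 = x0 → ∀ m ∈ f.fix (Pl f e x0), Commute (φ l) (μ m)
  c2 : ∀ l, ∀ s ∈ f.fix (Pl f e y), Commute (φ l) (σ s)
  p1 : Cmp (f.fix (Pl f e x0)) (f.fix (Pl f e y)) μ σ
  p2 : ∃ K Ψ, MulOn K Ψ ∧ (∀ m ∈ f.fix (Pl f e x0), m ∈ K ∧ Ψ m = μ m) ∧
    ∀ l ∈ (f.restrict (Pl f e y)).fix (Pl (f.restrict (Pl f e y)) x0 y0), io h l ∈ K ∧ Ψ (io h l) = φ l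

variable {h} (hF : ∃ a : F, a ≠ 0 ∧ a ≠ 1) (hf : f.Nondeg) (h0 : (f.restrict (Pl f e y)).IsHyp x0 y0)
include hF hf h0

theorem St.exists_U (s : St h x0 y0 φ μ σ) : ∃ U : Pl f e y → F → H,
    (∀ w c w' c', U w c * U w' c' = U (w + w') (c + c' + f.B w w')) ∧ (∀ l w c, φ l * U w c = U (l.1 w) c * φ l) ∧
      ∀ t c : F, U (t • x0) c = μ (E h (t • x0) c) := by
  classical
  have hf' := h.nondeg_perp hf
  have m0 : ∀ c, E h 0 c ∈ f.fix (Pl f e x0) := fun c => by simpa using E_mem h (x0 := x0) 0 c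
  have m1 : ∀ c, E h x0 c ∈ f.fix (Pl f e x0) := fun c => by simpa using E_mem h (x0 := x0) 1 c
  obtain ⟨X, hX⟩ : ∃ X : F → H, ∀ c, μ (E h 0 c) = X c := ⟨_, fun _ => rfl⟩
  have x1 : ∀ c c', X c * X c' = X (c + c') := fun c c' => by rw [← hX, ← hX, ← s.p1.left _ (m0 c) _ (m0 c'), E_mul, ← hX]; simp
  have x0' : X 0 = 1 := by rw [← hX, E_zero, s.p1.left.one]
  have x2 : ∀ c l, X c * φ l = φ l * X c := fun c l => by
    have : E h 0 c ∈ f.fix (Pl f e y) := fun v hv => by simp [E_apply, ple ⟨v, hv⟩]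
    rw [← hX, s.p1.eq (m0 c) this, (s.c2 l _ this).eq]
  have x3 : ∀ t c : F, μ (E h (t • x0) c) = μ (E h (t • x0) 0) * X c := fun t c => by
    rw [← hX, ← s.p1.left _ (E_mem h t 0) _ (m0 c), E_mul]; simp
  have x4 : ∀ c, X c * μ (E h x0 0) = μ (E h x0 0) * X c := fun c => by
    rw [← hX, ← s.p1.left _ (m0 c) _ (m1 0), ← s.p1.left _ (m1 0) _ (m0 c), E_mul, E_mul]; simp
  choose r hr using fun (w : Pl f e y) (hw : w ≠ 0) => hf'.witt_one h0.x_ne_zero hw (by rw [symp_Q, symp_Q])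
  obtain ⟨Y, y1, y2⟩ : ∃ Y : Pl f e y → H, Y 0 = 1 ∧ ∀ l, Y (l.1 x0) = φ l * μ (E h x0 0) * (φ l)⁻¹ := by
    refine ⟨fun w => if hw : w = 0 then 1 else φ (r w hw) * μ (E h x0 0) * (φ (r w hw))⁻¹, by simp, fun l => ?_⟩
    have h1 : l.1 x0 ≠ 0 := by simpa using h0.x_ne_zero
    have := (s.c1 (l⁻¹ * r _ h1) (by rw [isom_mul_apply, hr, isom_inv_apply_apply]) _ (m1 0)).eq
    simp only [h1, dif_neg, not_false_eq_true]
    rw [← mul_inv_cancel_left l (r _ h1), map_mul, mul_assoc (φ l), this]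
    group
  have y3 : ∀ l w, φ l * Y w = Y (l.1 w) * φ l := fun l w => by
    by_cases hw : w = 0
    · simp [hw, y1]
    rw [← hr w hw, ← isom_mul_apply, y2, y2, map_mul]
    group
  have y4 : ∀ c w, X c * Y w = Y w * X c := fun c w => by
    by_cases hw : w = 0
    · simp [hw, y1]
    rw [← hr w hw, y2, ← map_inv, ← mul_assoc, ← mul_assoc, x2, mul_assoc (φ _), x4, mul_assoc, mul_assoc, x2]
    group
  obtain ⟨K, Ψ, k1, k2, k3⟩ := s.p2
  have y5 : ∀ w, (∃ l ∈ (f.restrict (Pl f e y)).fix (Pl (f.restrict (Pl f e y)) x0 y0), l.1 x0 = w) → E h w 0 ∈ K ∧ Ψ (E h w 0) = Y w := by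
    rintro _ ⟨l, hl, rfl⟩
    rw [← mul_inv_cancel_right (E h _ 0) (io h l), ← io_E, k1 _ (mul_mem (k3 l hl).1 (k2 _ (m1 0)).1) _ (inv_mem (k3 l hl).1),
      k1 _ (k3 l hl).1 _ (k2 _ (m1 0)).1, k1.inv (k3 l hl).1, (k3 l hl).2, (k2 _ (m1 0)).2, y2]
    exact ⟨mul_mem (mul_mem (k3 l hl).1 (k2 _ (m1 0)).1) (inv_mem (k3 l hl).1), rfl⟩
  have y6 : ∀ w w' : Pl f e y, f.B w w' ≠ 0 → Y w * Y w' = Y (w + w') * X (f.B w w') := fun w w' hw => by
    obtain ⟨l, l1, l2⟩ := h0.exists_isom hf' (x' := w) (y' := (f.B w w')⁻¹ • w') ⟨symp_Q .., symp_Q .., by simp [hw]⟩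
    have a := y5 x0 ⟨1, one_mem _, rfl⟩
    have b := y5 _ (plane h0 0 hw)
    have c := y5 _ (plane h0 1 hw)
    have d := k1 _ a.1 _ b.1
    rw [zero_smul, zero_add] at b d
    rw [one_smul] at c
    have e1 : f.B x0 y0 = 1 := h0.B_xy
    rw [E_mul, show E h (x0 + f.B w w' • y0) _ = E h (x0 + f.B w w' • y0) 0 * E h 0 (f.B w w') by rw [E_mul]; simp [e1],
      k1 _ c.1 _ (k2 _ (m0 _)).1, a.2, b.2, c.2, (k2 _ (m0 _)).2, hX] at d
    have e2 : l.1 (f.B w w' • y0) = w' := by simp [l2, smul_smul, hw]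
    have := congrArg (φ l * ·) d
    simp only [← mul_assoc, y3, map_add, l1, e2] at this
    rw [mul_assoc, ← x2, mul_assoc (Y w), y3, e2, ← mul_assoc, ← mul_assoc] at this
    exact (mul_right_cancel this).symm
  have y7 : ∀ w w' : Pl f e y, Y w * Y w' = Y (w + w') * X (f.B w w') := fun w w' => by
    by_cases hw : w = 0
    · simp [hw, y1, x0']
    by_cases hw' : w' = 0
    · simp [hw', y1, x0']
    by_cases hb : f.B w w' = 0
    swap
    · exact y6 w w' hb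
    by_cases h1 : w + w' = 0
    · obtain rfl := eq_neg_of_add_eq_zero_left h1
      obtain ⟨z, hz⟩ := hf'.exists_B_ne_zero hw'
      apply mul_right_cancel (b := Y z)
      rw [mul_assoc, y6 _ _ hz, ← mul_assoc, y6 _ _ (by simpa [symp_B_self] using hz), mul_assoc, x1]
      simp [symp_B_self, x0', y1]
    obtain ⟨z, z1, z2, z3⟩ := three hF hf' hw hw' h1
    simp only [restrict_B, coe_add, B_add_left] at z1 z2 z3
    have e1 : f.B z w' = -f.B w' z := f.symp_symm _ _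
    have a := y6 (w - z) z (by simpa [symp_B_self] using z1)
    have b := y6 z w' (by simpa [e1] using z2)
    have c := y6 (w - z) (z + w') (by simpa [symp_B_self, hb, e1] using z3)
    rw [sub_add_cancel] at a
    apply mul_right_cancel (b := X (f.B (w - z : Pl f e y) z))
    rw [mul_assoc, ← y4, ← mul_assoc, ← a, mul_assoc, b, ← mul_assoc, c, mul_assoc, x1, mul_assoc, x1,
      show w - z + (z + w') = w + w' by abel]
    simp [symp_B_self, hb]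
  refine ⟨fun w c => Y w * X c, fun w c w' c' => ?_, fun l w c => ?_, fun t c => ?_⟩
  · rw [mul_assoc, ← mul_assoc (X c), y4, ← mul_assoc, ← mul_assoc, y7, mul_assoc, mul_assoc, x1, x1]
    ring_nf
  · rw [← mul_assoc, y3, mul_assoc, mul_assoc, x2]
  · rw [x3]
    by_cases ht : t = 0
    · simp [ht, y1, hX, x0']
    rw [← (k2 _ (E_mem h t 0)).2, (y5 (t • x0) ⟨h0.torus (.mk0 t ht), h0.torus_mem_fix _, h0.torus_apply_x _⟩).2]

theorem St.exists_P (s : St h x0 y0 φ μ σ) : ∃ π : f.Isom → H, MulOn (f.fix (F ∙ e)) π ∧ (∀ l, π (io h l) = φ l) ∧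
    ∀ m ∈ f.fix (Pl f e x0), π m = μ m := by
  classical
  obtain ⟨U, u1, u2, u3⟩ := s.exists_U hF hf h0
  obtain ⟨π, hπ⟩ : ∃ π : f.Isom → H, ∀ w c l, π (E h w c * io h l) = U w c * φ l := by
    refine ⟨fun p => if hp : ∃ x : _ × _ × _, p = E h x.1 x.2.1 * io h x.2.2 then U hp.choose.1 hp.choose.2.1 * φ hp.choose.2.2
      else 1, fun w c l => ?_⟩
    have hp : ∃ x : _ × _ × _, E h w c * io h l = E h x.1 x.2.1 * io h x.2.2 := ⟨(w, c, l), rfl⟩
    obtain ⟨a, b, d⟩ := decomp_unique h hp.choose_spec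
    simp only [dif_pos hp, ← a, ← b, ← d]
  refine ⟨π, fun a ha b hb => ?_, fun l => ?_, fun m hm => ?_⟩
  · obtain ⟨w, c, l, rfl⟩ := decomp h (f.mem_fix_span_singleton.1 ha)
    obtain ⟨w', c', l', rfl⟩ := decomp h (f.mem_fix_span_singleton.1 hb)
    rw [mul_assoc, ← mul_assoc (io h l), io_E, ← mul_assoc, ← mul_assoc, E_mul, mul_assoc, ← map_mul, hπ, hπ, hπ, map_mul,
      mul_assoc, ← mul_assoc (φ l), u2, ← u1]
    group
  · have := u3 0 0
    rw [zero_smul, E_zero, s.p1.left.one] at this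
    simpa [E_zero, this] using hπ 0 0 l
  obtain ⟨K, Ψ, k1, k2, k3⟩ := s.p2
  obtain ⟨w, c, l, rfl⟩ := decomp h (hm e (f.mem_perp_span_pair.2 ⟨h.B_xx, ple' x0⟩))
  obtain ⟨t, rfl⟩ : ∃ t : F, t • x0 = w := by
    rw [← mem_span_singleton, ← (h.nondeg_perp hf).perp_perp (F ∙ x0)]
    intro z hz
    have := f.B_coe_map (E h w c * io h l) z y
    rw [hm z (f.mem_perp_span_pair.2 ⟨ple z, ((f.restrict (Pl f e y)).mem_perp_span_singleton).1 hz⟩), E_io_y] at this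
    simpa [ple'] using this
  have h1 : io h l ∈ f.fix (Pl f e x0) := by simpa using mul_mem (inv_mem (E_mem h t c)) hm
  have h2 := k3 l fun z hz => Subtype.ext ((io_w h l z).symm.trans
    (h1 z (f.mem_perp_span_pair.2 ⟨ple z, ((mem_perp_span_pair _).1 hz).1⟩)))
  rw [hπ, u3, s.p1.left _ (E_mem h t c) _ h1, ← (k2 _ h1).2, h2.2]

omit hF hf h0 [FiniteDimensional F V] in
theorem big {g : f.Isom} (hg : f.B e (g.1 e) ≠ 0) : ∃ (w : Pl f e y) (s : f.Isom), s ∈ f.fix (Pl f e y) ∧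
    g.1 e - w ∈ span F {e, y} ∧ (s⁻¹ * E h (-(f.B e (g.1 e))⁻¹ • w) 0 * g).1 e = e := by
  obtain ⟨w, hw, e1⟩ := h.exists_decomp (g.1 e)
  obtain ⟨s, s1, s2⟩ := plane h ((Kind.symp F).ε * f.B y (g.1 e)) hg
  refine ⟨⟨w, hw⟩, s, s1, mem_span_pair.2 ⟨_, _, eq_sub_of_add_eq e1.symm⟩, ?_⟩
  rw [isom_mul_apply, isom_mul_apply]
  refine (congrArg _ ?_).trans (f.isom_inv_apply_apply s e)
  rw [s2, E_apply]
  generalize (Kind.symp F).ε * f.B y (g.1 e) = a at e1 ⊢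
  generalize f.B e (g.1 e) = t at e1 hg ⊢
  simp [e1, ple' ⟨w, hw⟩, ply' ⟨w, hw⟩, symp_B_self, smul_smul, hg]

omit h0 in
include h in
theorem three' (g g' : f.Isom) : ∃ a : f.Isom, f.B e (a.1 e) ≠ 0 ∧ f.B e ((a⁻¹ * g).1 e) ≠ 0 ∧ f.B e ((a⁻¹ * g').1 e) ≠ 0 := by
  obtain ⟨z, h1, h2, h3⟩ := three hF hf h.x_ne_zero (v := g.1 e) (w := g'.1 e) (by simpa using h.x_ne_zero)
    (by simpa using h.x_ne_zero)
  obtain ⟨a, rfl⟩ := hf.witt_one h.x_ne_zero (w := z) (by rintro rfl; simp at h1) (by rw [symp_Q, symp_Q])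
  simp only [isom_mul_apply, ← B_isom_left]
  exact ⟨a, h1, mt f.eq_zero_symm h2, mt f.eq_zero_symm h3⟩

theorem St.step (s : St h x0 y0 φ μ σ) : ∃ Φ : f.Isom →* H, (∀ l, Φ (io h l) = φ l) ∧ (∀ g ∈ f.fix (Pl f e y), Φ g = σ g) ∧
    ∀ m ∈ f.fix (Pl f e x0), Φ m = μ m := by
  classical
  obtain ⟨π, p1, p2, p3⟩ := s.exists_P hF hf h0
  have hσ := s.p1.symm.left
  have mP : ∀ {g : f.Isom}, g ∈ f.fix (F ∙ e) ↔ g.1 e = e := f.mem_fix_span_singleton
  have p4 : ∀ g ∈ f.fix (Pl f e y), g.1 e = e → π g = σ g := fun g hg he => by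
    have := mem_M h (x0 := x0) he fun w _ => hg w w.2
    rw [p3 _ this, s.p1.eq this hg]
  have sp : ∀ g ∈ f.fix (Pl f e y), ∀ v ∈ span F {e, y}, g.1 v ∈ span F {e, y} := fun g hg v =>
    (hf.stab_perp _ ▸ f.fix_le_stab _ hg : g ∈ f.stab _) v |>.1
  have se : e ∈ span F {e, y} := subset_span (by simp)
  have om : ∀ {p s p' : f.Isom}, p.1 e = e → p'.1 e = e → f.B e ((p * s * p').1 e) = f.B e (s.1 e) := fun {p s p'} a b => by
    rw [isom_mul_apply, isom_mul_apply, b, ← f.B_coe_map p e (s.1 e), a]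
  have cm : ∀ l, ∀ g ∈ f.fix (Pl f e y), io h l * g = g * io h l := fun l g hg => f.isom_ext_of_isCompl h.isCompl
    (fun v hv => by
      rw [isom_mul_apply, isom_mul_apply, io, f.extRight_apply_left _ _ hv, f.extRight_apply_left _ _ (sp g hg v hv)])
    fun v hv => by rw [isom_mul_apply, isom_mul_apply, hg v hv, io_w h l ⟨v, hv⟩, hg _ (l.1 _).2]
  have A : ∀ {p s p' s' : f.Isom}, p.1 e = e → p'.1 e = e → s ∈ f.fix (Pl f e y) → s' ∈ f.fix (Pl f e y) → f.B e (s.1 e) ≠ 0 →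
      p * s * p' = s' → π p * σ s * π p' = σ s' := fun {p s1 p' s2} a b c d t e1 => by
    obtain ⟨w, k, l, rfl⟩ := decomp h a
    have h1 := cm l
    obtain rfl : w = 0 := (h.nondeg_perp hf).eq_zero_right fun z => by
      have e2 := f.eq_zero_symm (z.2 _ (sp _ d e se))
      rw [← e1, isom_mul_apply, isom_mul_apply, b, isom_mul_apply, io, f.extRight_apply_left _ _ (sp _ c e se), E_apply] at e2
      simpa [f.eq_zero_symm (z.2 _ (sp _ c e se)), ple', t] using e2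
    have h2 : E h 0 k ∈ f.fix (Pl f e y) := fun v hv => by simp [E_apply, ple ⟨v, hv⟩]
    have e2 : p' = io h l⁻¹ * (s1⁻¹ * (E h 0 k)⁻¹ * s2) := by
      rw [← e1, mul_assoc (E h 0 k), h1 _ c, map_inv]; group
    have h3 : s1⁻¹ * (E h 0 k)⁻¹ * s2 ∈ f.fix (Pl f e y) := mul_mem (mul_mem (inv_mem c) (inv_mem h2)) d
    have h4 : (s1⁻¹ * (E h 0 k)⁻¹ * s2).1 e = e := by
      rw [← inv_mul_eq_iff_eq_mul.2 e2, isom_mul_apply, b, ← map_inv, io_e]
    rw [e2, p1 _ (mP.2 (E_e ..)) _ (mP.2 (io_e ..)), p1 _ (mP.2 (io_e ..)) _ (mP.2 h4), p2, p2, p4 _ h2 (E_e ..), p4 _ h3 h4,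
      mul_assoc _ (φ l), (s.c2 l _ c).eq, hσ _ (mul_mem (inv_mem c) (inv_mem h2)) _ d, hσ _ (inv_mem c) _ (inv_mem h2),
      hσ.inv c, hσ.inv h2, map_inv]
    group
  obtain ⟨c, hc⟩ : ∃ c : f.Isom → H, ∀ {p s p' : f.Isom}, p.1 e = e → p'.1 e = e → s ∈ f.fix (Pl f e y) → f.B e (s.1 e) ≠ 0 →
      c (p * s * p') = π p * σ s * π p' := by
    let R := fun (g : f.Isom) (x : f.Isom × f.Isom × f.Isom) =>
      x.1.1 e = e ∧ x.2.2.1 e = e ∧ x.2.1 ∈ f.fix (Pl f e y) ∧ g = x.1 * x.2.1 * x.2.2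
    refine ⟨fun g => if hg : ∃ x, R g x then π hg.choose.1 * σ hg.choose.2.1 * π hg.choose.2.2 else 1,
      fun {p s p'} a b c d => ?_⟩
    have hg : ∃ x, R (p * s * p') x := ⟨(p, s, p'), a, b, c, rfl⟩
    obtain ⟨a', b', c', d'⟩ := hg.choose_spec
    simp only [dif_pos hg]
    generalize hg.choose = x at a' b' c' d'
    rw [← mP] at a b a' b'
    rw [← A (mP.1 (mul_mem (inv_mem a') a)) (mP.1 (mul_mem b (inv_mem b'))) c c' d (by
      rw [show x.2.1 = x.1⁻¹ * (p * s * p') * x.2.2⁻¹ by rw [d']; group]; group), p1 _ (inv_mem a') _ a, p1 _ b _ (inv_mem b'), p1.inv a', p1.inv b']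
    group
  have dec : ∀ {g : f.Isom}, f.B e (g.1 e) ≠ 0 → ∃ p s p' : f.Isom, p.1 e = e ∧ p'.1 e = e ∧ s ∈ f.fix (Pl f e y) ∧
      f.B e (s.1 e) ≠ 0 ∧ g = p * s * p' := fun {g} hg => by
    obtain ⟨w, s, a, -, b⟩ := big (h := h) hg
    have c := mP.1 (inv_mem (mP.2 (E_e h (-(f.B e (g.1 e))⁻¹ • w) 0)))
    exact ⟨_, s, _, c, b, a, by rw [← om c b]; simpa [mul_assoc] using hg, by group⟩
  have eqv : ∀ {p g p' : f.Isom}, p.1 e = e → p'.1 e = e → f.B e (g.1 e) ≠ 0 → c (p * g * p') = π p * c g * π p' := by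
    intro p g p' a b hg
    obtain ⟨q, s, q', a', b', c', d, rfl⟩ := dec hg
    rw [← mP] at a b a' b'
    rw [show p * (q * s * q') * p' = p * q * s * (q' * p') by group, hc (mP.1 (mul_mem a a')) (mP.1 (mul_mem b' b)) c' d,
      hc (mP.1 a') (mP.1 b') c' d, p1 _ a _ a', p1 _ b' _ b]
    group
  have cS : ∀ g ∈ f.fix (Pl f e y), f.B e (g.1 e) ≠ 0 → c g = σ g := fun g a b => by simpa [p1.one] using hc (p := 1) (p' := 1) rfl rfl a b
  have B : ∀ {s1 s2 : f.Isom} (t k : F), s1 ∈ f.fix (Pl f e y) → s2 ∈ f.fix (Pl f e y) → f.B e ((s1 * E h (t • x0) k * s2).1 e) ≠ 0 →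
      c (s1 * E h (t • x0) k * s2) = σ s1 * π (E h (t • x0) k) * σ s2 := fun {s1 s2} t k a b d => by
    obtain ⟨w, s3, a3, b3, c3⟩ := big (h := h) d
    obtain ⟨r, rfl⟩ : ∃ r : F, r • x0 = w := ⟨f.B e (s2.1 e) * t, Subtype.ext (sub_eq_zero.1 (disjoint_def.1 h.isCompl.disjoint _ (by
      rw [isom_mul_apply, isom_mul_apply, E_apply, map_add, map_add, map_smul, map_smul, a _ (t • x0).2] at b3
      convert sub_mem (sub_mem b3 (sp _ a _ (sp _ b e se))) (smul_mem _ (f.B (t • x0 : Pl f e y) (s2.1 e) + k * f.B e (s2.1 e))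
        (sp _ a e se)) using 1
      simp only [coe_smul]
      module) (sub_mem (_ • x0).2 w.2)))⟩
    rw [smul_smul] at c3
    generalize -(f.B e ((s1 * E h (t • x0) k * s2).1 e))⁻¹ * r = u at c3
    have m1 := E_mem h (x0 := x0) u 0
    have m2 := E_mem h (x0 := x0) t k
    have m3 := mem_M h (x0 := x0) c3 fun w hw => by
      have : w.1 ∈ Pl f e x0 := f.mem_perp_span_pair.2 ⟨ple w, hw⟩
      simp only [isom_mul_apply, b _ w.2, m2 _ this, a _ w.2, m1 _ this, inv_mem a3 _ w.2]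
    have e1 : s1 * E h (t • x0) k * s2 = (E h (u • x0) 0)⁻¹ * s3 * (s3⁻¹ * E h (u • x0) 0 * (s1 * E h (t • x0) k * s2)) := by group
    have e2 := mP.1 (inv_mem (mP.2 (E_e h (u • x0) 0)))
    obtain ⟨Ψ, q1, q2, q3⟩ := s.p1
    have l := @Subgroup.mem_sup_left _ _ (f.fix (Pl f e x0)) (f.fix (Pl f e y))
    have r := @Subgroup.mem_sup_right _ _ (f.fix (Pl f e x0)) (f.fix (Pl f e y))
    rw [p3 _ m2, ← q2 _ m2, ← q3 _ a, ← q3 _ b, ← q1 _ (r a) _ (l m2), ← q1 _ (mul_mem (r a) (l m2)) _ (r b), e1,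
      hc e2 c3 a3 (by rwa [← om e2 c3, ← e1]), q1 _ (mul_mem (inv_mem (l m1)) (r a3)) _ (l m3), q1 _ (inv_mem (l m1)) _ (r a3),
      p3 _ (inv_mem m1), p3 _ m3, q2 _ (inv_mem m1), q2 _ m3, q3 _ a3]
  refine (ext_hom (fun g : f.Isom => f.B e (g.1 e) ≠ 0) c
    (fun g hg => by rw [← B_isom_left]; exact mt f.eq_zero_symm hg) (fun g g' a b d => ?_) (three' (h := h) hF hf)
    fun g a a' b b' => ?_).elim fun Φ hΦ => ?_
  rotate_right
  · obtain ⟨n, n1, n2⟩ := plane h 0 one_ne_zero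
    have n3 : f.B e (n.1 e) ≠ 0 := by simp [n2, h.B_xy]
    have hP : ∀ p : f.Isom, p.1 e = e → Φ p = π p := fun p hp => by
      have := hΦ (p * n * 1) (by rwa [om hp rfl])
      rwa [hc hp rfl n1 n3, p1.one, mul_one, mul_one, map_mul, hΦ _ n3, cS _ n1 n3, mul_left_inj] at this
    refine ⟨Φ, fun l => by rw [hP _ (io_e ..), p2], fun g hg => ?_,
      fun m hm => by rw [hP _ (hm e (f.mem_perp_span_pair.2 ⟨h.B_xx, ple' x0⟩)), p3 _ hm]⟩
    by_cases d : f.B e (g.1 e) = 0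
    · have d' : f.B e ((n * g).1 e) ≠ 0 := by
        obtain ⟨a, b, e1⟩ := mem_span_pair.1 (sp g hg e se)
        obtain rfl : b = 0 := by simpa [← e1, h.B_xx, h.B_xy] using d
        have : a ≠ 0 := by rintro rfl; exact h.x_ne_zero (by simpa using e1.symm)
        simpa [isom_mul_apply, ← e1, this] using n3
      have := hΦ _ d'
      rwa [cS _ (mul_mem n1 hg) d', map_mul, hσ _ n1 _ hg, hΦ _ n3, cS _ n1 n3, mul_right_inj] at this
    · rw [hΦ _ d, cS _ hg d]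
  · obtain ⟨p, s1, q, a1, a2, a3, a4, rfl⟩ := dec a
    obtain ⟨p', s2, q', b1, b2, b3, b4, rfl⟩ := dec b
    obtain ⟨w, k, l, e1⟩ := decomp h (mP.1 (mul_mem (mP.2 a2) (mP.2 b1)))
    obtain ⟨t, l0, rfl⟩ : ∃ (t : F) (l0 : (f.restrict (Pl f e y)).Isom), l0.1 (t • x0) = w := by
      by_cases hw : w = 0
      · exact ⟨0, 1, by simp [hw]⟩
      · exact ⟨1, by simpa using (h.nondeg_perp hf).witt_one h0.x_ne_zero hw (by rw [symp_Q, symp_Q])⟩
    replace e1 : q * p' = io h l0 * E h (t • x0) k * io h (l0⁻¹ * l) := by rw [e1, io_E, map_mul, map_inv]; group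
    have e2 : p * s1 * q * (p' * s2 * q') = p * io h l0 * (s1 * E h (t • x0) k * s2) * (io h (l0⁻¹ * l) * q') := by
      calc _ = p * s1 * (q * p') * s2 * q' := by group
        _ = p * (s1 * io h l0) * E h (t • x0) k * (io h (l0⁻¹ * l) * s2) * q' := by rw [e1]; group
        _ = _ := by rw [← cm _ _ a3, cm _ _ b3]; group
    have c1 := mul_mem (mP.2 a1) (mP.2 (io_e h l0))
    have c2 := mul_mem (mP.2 (io_e h (l0⁻¹ * l))) (mP.2 b2)
    have e3 := congrArg π e1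
    rw [p1 _ (mP.2 a2) _ (mP.2 b1), p1 _ (mul_mem (mP.2 (io_e ..)) (mP.2 (E_e ..))) _ (mP.2 (io_e ..)),
      p1 _ (mP.2 (io_e ..)) _ (mP.2 (E_e ..)), p2, p2] at e3
    have d' : f.B e ((s1 * E h (t • x0) k * s2).1 e) ≠ 0 := by
      rw [e2, isom_mul_apply, isom_mul_apply, mP.1 c2, B_isom_right, mP.1 (inv_mem c1)] at d
      exact d
    rw [hc a1 a2 a3 a4, hc b1 b2 b3 b4, e2, eqv (mP.1 c1) (mP.1 c2) d', B t k a3 b3 d', p1 _ (mP.2 a1) _ (mP.2 (io_e ..)),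
      p1 _ (mP.2 (io_e ..)) _ (mP.2 b2), p2, p2]
    calc _ = π p * (φ l0 * σ s1) * π (E h (t • x0) k) * (σ s2 * φ (l0⁻¹ * l)) * π q' := by group
      _ = π p * σ s1 * (π q * π p') * σ s2 * π q' := by rw [(s.c2 _ _ a3).eq, ← (s.c2 _ _ b3).eq, e3]; group
      _ = _ := by group
  · simp only [isom_mul_apply, ← B_isom_left] at b b' ⊢
    obtain ⟨u, v, w, k1, k2, k3, k4, k5, k6, k7⟩ := conn hF hf (by
      have : finrank F (Pl f e y) + 2 = _ := h.finrank_perp; have := h0.finrank_perp; omega) ⟨b.1, mt f.eq_zero_symm b.2⟩ ⟨b'.1, mt f.eq_zero_symm b'.2⟩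
    have k : ∀ z, f.B e z ≠ 0 → ∃ a : f.Isom, a.1 e = z := fun z hz =>
      hf.witt_one h.x_ne_zero (by rintro rfl; simp at hz) (by rw [symp_Q, symp_Q])
    obtain ⟨u, rfl⟩ := k u k1.1
    obtain ⟨v, rfl⟩ := k v k2.1
    obtain ⟨w, rfl⟩ := k w k3.1
    exact ⟨u, v, w, ⟨k1.1, mt f.eq_zero_symm k1.2⟩, ⟨k2.1, mt f.eq_zero_symm k2.2⟩, ⟨k3.1, mt f.eq_zero_symm k3.2⟩, k4, k5, k6, k7⟩

end CA.SpAm
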