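import Cfsg.Agent.Lib.Lin.SpAm2
import Cfsg.Agent.Lib.Lin.CFormStd

/-! The symplectic group as a universal completion: the induction. -/

namespace CA.SpAm

open Module CA.CForm CA.CForm.Form Submodule

universe v

variable {F : Type*} [Field F] {H : Type*} [Group H]

section
variable {V : Type*} [AddCommGroup V] [Module F V] {f : Form (Kind.symp F) V} {n : ℕ}

variable (f) in
/-- A hyperbolic basis. -/
structure Bs (e y : Fin n → V) : Prop extends f.HypSys e y where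
  sp : ∀ v, ∑ k, (-f.B (y k) v • e k + f.B (e k) v • y k) = v

variable (f) in
/-- Isometries fixing some of the basis vectors. -/
def Fx (e y : Fin n → V) (P Q : ℕ → Prop) : Subgroup f.Isom where
  carrier := {g | (∀ k : Fin n, P k → g.1 (e k) = e k) ∧ ∀ k : Fin n, Q k → g.1 (y k) = y k}
  one_mem' := ⟨fun _ _ => rfl, fun _ _ => rfl⟩
  mul_mem' {a b} ha hb := ⟨fun k h => by rw [isom_mul_apply, hb.1 k h, ha.1 k h], fun k h => by rw [isom_mul_apply, hb.2 k h, ha.2 k h]⟩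
  inv_mem' {a} ha := ⟨fun k h => (congrArg _ (ha.1 k h).symm).trans (f.isom_inv_apply_apply ..),
    fun k h => (congrArg _ (ha.2 k h).symm).trans (f.isom_inv_apply_apply ..)⟩

variable (f) in
/-- The subgroups `S_j`. -/
abbrev SS (e y : Fin n → V) (j : ℕ) := Fx f e y (· ≠ j) (· ≠ j)

variable (f) in
/-- The subgroups `M_i`. -/
abbrev MM (e y : Fin n → V) (i : ℕ) := Fx f e y (fun _ => True) fun k => k ≠ i ∧ k ≠ i + 1

theorem mem_Fx {e y : Fin n → V} {P Q : ℕ → Prop} {g : f.Isom} :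
    g ∈ Fx f e y P Q ↔ (∀ k : Fin n, P k → g.1 (e k) = e k) ∧ ∀ k : Fin n, Q k → g.1 (y k) = y k := Iff.rfl

namespace Bs
section
variable {e y : Fin n → V} (b : Bs f e y)
include b

theorem fixv (g : f.Isom) {v : V} (H : ∀ k, (f.B (y k) v = 0 ∨ g.1 (e k) = e k) ∧ (f.B (e k) v = 0 ∨ g.1 (y k) = y k)) :
    g.1 v = v := by
  rw [← b.sp v, map_sum]
  exact Finset.sum_congr rfl fun k _ => by obtain ⟨a | a, c | c⟩ := H k <;> simp [a, c]

theorem comm {g h : f.Isom} (H : ∀ k, (g.1 (y k) = y k ∨ h.1 (e k) = e k) ∧ (g.1 (e k) = e k ∨ h.1 (y k) = y k)) :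
    Commute g h := by
  have k : ∀ (g : f.Isom) u v, g.1 u = u → f.B u (g.1 v - v) = 0 := fun g u v hu => by
    rw [map_sub, ← f.B_coe_map g u v, hu, sub_self]
  refine f.isom_ext fun v => ?_
  have a := b.fixv h (v := g.1 v - v) fun i => ⟨(H i).1.imp_left (k g _ v), (H i).2.imp_left (k g _ v)⟩
  have c := b.fixv g (v := h.1 v - v) fun i => ⟨(H i).2.symm.imp_left (k h _ v), (H i).1.symm.imp_left (k h _ v)⟩
  rw [map_sub, sub_eq_iff_eq_add] at a c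
  rw [isom_mul_apply, isom_mul_apply, a, c]
  abel

theorem nondeg : f.Nondeg := fun x hx => by simpa [f.eq_zero_symm (hx _)] using (b.sp x).symm

theorem hyp (j : Fin n) : f.IsHyp (e j) (y j) := ⟨b.Q_e j, b.Q_y j, b.B_ey j⟩

theorem S_eq (j : Fin n) : SS f e y j = f.fix (Pl f (e j) (y j)) := by
  ext g
  refine ⟨fun hg v hv => b.fixv g fun k => ?_, fun hg => ⟨fun k hk => hg _ (f.mem_perp_span_pair.2 ⟨b.B_ee .., b.B_ye' _ _ ?_⟩),
    fun k hk => hg _ (f.mem_perp_span_pair.2 ⟨b.B_ey' _ _ ?_, b.B_yy ..⟩)⟩⟩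
  · by_cases h : k = j
    · exact h ▸ ⟨.inl (ply ⟨v, hv⟩), .inl (ple ⟨v, hv⟩)⟩
    · exact ⟨.inr (hg.1 k (mt Fin.ext h)), .inr (hg.2 k (mt Fin.ext h))⟩
  all_goals rintro rfl; exact hk rfl

end

theorem M_eq {e y : Fin (n + 2) → V} (b : Bs f e y) : MM f e y 0 = f.fix (Pl f (e 0) (e 1)) := by
  ext g
  refine ⟨fun hg v hv => b.fixv g fun k => ⟨.inr (hg.1 k trivial), ?_⟩,
    fun hg => ⟨fun k hk => hg _ (f.mem_perp_span_pair.2 ⟨b.B_ee .., b.B_ee ..⟩),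
    fun k hk => hg _ (f.mem_perp_span_pair.2 ⟨b.B_ey' _ _ ?_, b.B_ey' _ _ ?_⟩)⟩⟩
  · by_cases h : k = 0
    · exact h ▸ .inl (ple ⟨v, hv⟩)
    by_cases h' : k = 1
    · exact h' ▸ .inl (ply ⟨v, hv⟩)
    · exact .inr (hg.2 k ⟨fun x => h (Fin.ext x), fun x => h' (Fin.ext x)⟩)
  all_goals rintro rfl; simp at hk

variable {e y : Fin (n + 1) → V} (b : Bs f e y)

/-- The basis of the complement. -/
def e' (k : Fin n) : Pl f (e 0) (y 0) := ⟨e k.succ, f.mem_perp_span_pair.2 ⟨b.B_ee .., b.B_ye' _ _ (Fin.succ_ne_zero k).symm⟩⟩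

/-- The basis of the complement. -/
def y' (k : Fin n) : Pl f (e 0) (y 0) := ⟨y k.succ, f.mem_perp_span_pair.2 ⟨b.B_ey' _ _ (Fin.succ_ne_zero k).symm, b.B_yy ..⟩⟩

theorem bs : Bs (f.restrict (Pl f (e 0) (y 0))) b.e' b.y' :=
  ⟨⟨fun _ => b.Q_e _, fun _ => b.Q_y _, fun _ _ => b.B_ee .., fun _ _ => b.B_yy .., fun _ => b.B_ey _,
    fun _ _ h => b.B_ey' _ _ (mt (Fin.succ_injective _ ·) h)⟩, fun v => Subtype.ext (by
      simpa [Fin.sum_univ_succ, ple, ply, e', y'] using b.sp v)⟩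

theorem io_mem {P Q P' Q' : ℕ → Prop} (hP : ∀ k, P (k + 1) ↔ P' k) (hQ : ∀ k, Q (k + 1) ↔ Q' k) {l} :
    io (b.hyp 0) l ∈ Fx f e y P Q ↔ l ∈ Fx _ b.e' b.y' P' Q' := by
  have h1 : ∀ k, (io (b.hyp 0) l).1 (e (Fin.succ k)) = (l.1 (b.e' k)).1 := fun k => io_w _ l (b.e' k)
  have h2 : ∀ k, (io (b.hyp 0) l).1 (y (Fin.succ k)) = (l.1 (b.y' k)).1 := fun k => io_w _ l (b.y' k)
  simp only [mem_Fx, Fin.forall_fin_succ, io_e, io_y, h1, h2, Fin.val_succ, hP, hQ, Subtype.ext_iff, implies_true, true_and]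
  rfl

theorem io_S {j l} : io (b.hyp 0) l ∈ SS f e y (j + 1) ↔ l ∈ SS _ b.e' b.y' j := b.io_mem (by simp) (by simp)

theorem io_M {j l} : io (b.hyp 0) l ∈ MM f e y (j + 1) ↔ l ∈ MM _ b.e' b.y' j := b.io_mem (by simp) (by simp)

end Bs

theorem top_of [FiniteDimensional F V] (hF : ∃ a : F, a ≠ 0 ∧ a ≠ 1) (hf : f.Nondeg) {e y : V} (h : f.IsHyp e y)
    {K : Subgroup f.Isom} (h1 : f.fix (Pl f e y) ≤ K) (h2 : ∀ g : f.Isom, g.1 e = e → g ∈ K) (g : f.Isom) : g ∈ K := by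
  have k : ∀ g : f.Isom, f.B e (g.1 e) ≠ 0 → g ∈ K := fun g hg => by
    obtain ⟨w, s, a, -, c⟩ := big (h := h) hg
    exact (K.mul_mem_cancel_left (mul_mem (inv_mem (h1 a)) (h2 _ (E_e ..)))).1 (h2 _ c)
  obtain ⟨a, a1, a2, -⟩ := three' (h := h) hF hf g g
  exact (K.mul_mem_cancel_left (inv_mem (k _ a1))).1 (k _ a2)

end

theorem gen (hF : ∃ a : F, a ≠ 0 ∧ a ≠ 1) (n : ℕ) : ∀ {V : Type v} [AddCommGroup V] [Module F V] [FiniteDimensional F V]
    {f : Form (Kind.symp F) V} {e y : Fin (n + 1) → V} (_ : Bs f e y) (K : Subgroup f.Isom),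
    (∀ j : Fin n, SS f e y (j + 1) ≤ K) → (∀ i < n, MM f e y i ≤ K) → (∀ g ∈ SS f e y 0, g.1 (e 0) = e 0 → g ∈ K) →
    ∀ g : f.Isom, g.1 (e 0) = e 0 → g ∈ K := by
  induction n with
  | zero => exact fun _ K _ _ h g => h g ⟨by simp, by simp⟩
  | succ n ih =>
    intro V _ _ _ f e y b K h1 h2 h3 g hg
    have h4 : ∀ l, io (b.hyp 0) l ∈ K := top_of (K := K.comap _) hF b.bs.nondeg (b.bs.hyp 0)
      (fun l hl => h1 0 (b.io_S.2 ((b.bs.S_eq 0).ge hl))) (ih b.bs _ (fun j l hl => h1 j.succ (b.io_S.2 hl))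
        (fun i hi l hl => h2 (i + 1) (by omega) (b.io_M.2 hl)) fun l hl _ => h1 0 (b.io_S.2 hl))
    obtain ⟨w, c, l, rfl⟩ := decomp (b.hyp 0) hg
    refine mul_mem ?_ (h4 l)
    obtain ⟨t, l0, rfl⟩ : ∃ (t : F) (l0 : (f.restrict (Pl f (e 0) (y 0))).Isom), l0.1 (t • b.e' 0) = w := by
      by_cases hw : w = 0
      · exact ⟨0, 1, by simp [hw]⟩
      · exact ⟨1, by simpa using b.bs.nondeg.witt_one (b.bs.hyp 0).x_ne_zero hw (by rw [symp_Q, symp_Q])⟩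
    rw [← K.mul_mem_cancel_right (h4 l0), ← io_E]
    exact mul_mem (h4 l0) (h2 0 (by omega) (b.M_eq.ge (E_mem (b.hyp 0) (x0 := b.e' 0) t c)))

theorem gen_top (hF : ∃ a : F, a ≠ 0 ∧ a ≠ 1) {n : ℕ} {V : Type v} [AddCommGroup V] [Module F V] [FiniteDimensional F V]
    {f : Form (Kind.symp F) V} {e y : Fin (n + 1) → V} (b : Bs f e y) (K : Subgroup f.Isom)
    (h1 : ∀ j : Fin (n + 1), SS f e y j ≤ K) (h2 : ∀ i < n, MM f e y i ≤ K) : ∀ g, g ∈ K :=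
  top_of hF b.nondeg (b.hyp 0) ((b.S_eq 0).ge.trans (h1 0)) (gen hF n b K (fun j => h1 j.succ) h2 fun _ hg _ => h1 0 hg)

theorem main (hF : ∃ a : F, a ≠ 0 ∧ a ≠ 1) (n : ℕ) : ∀ {V : Type v} [AddCommGroup V] [Module F V] [FiniteDimensional F V]
    {f : Form (Kind.symp F) V} {e y : Fin (n + 1) → V} (_ : Bs f e y) (σ μ : Fin (n + 1) → f.Isom → H),
    (∀ j l : Fin (n + 1), Cmp (SS f e y j) (SS f e y l) (σ j) (σ l)) →
    (∀ j l : Fin (n + 1), j ≠ l → j.1 < n → l.1 < n → Cmp (MM f e y j) (MM f e y l) (μ j) (μ l)) →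
    (∀ j l : Fin (n + 1), j.1 < n → Cmp (MM f e y j) (SS f e y l) (μ j) (σ l)) →
    ∃ Φ : f.Isom →* H, (∀ j : Fin (n + 1), ∀ g ∈ SS f e y j, Φ g = σ j g) ∧ ∀ j : Fin (n + 1), j.1 < n → ∀ g ∈ MM f e y j, Φ g = μ j g := by
  induction n with
  | zero =>
    intro V _ _ _ f e y b σ μ h1 _ _
    exact ⟨.mk' (σ 0) fun a c => (h1 0 0).left a ⟨by simp, by simp⟩ c ⟨by simp, by simp⟩, fun j _ _ => by
      rw [Fin.fin_one_eq_zero j]; rfl, by simp⟩
  | succ n ih =>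
    intro V _ _ _ f e y b σ μ h1 h2 h3
    obtain ⟨φ, p1, p2⟩ := ih b.bs (fun j => σ j.succ ∘ io (b.hyp 0)) (fun j => μ j.succ ∘ io (b.hyp 0))
      (fun j l => (h1 j.succ l.succ).comap _ (fun _ => b.io_S.2) fun _ => b.io_S.2)
      (fun j l a c d => (h2 j.succ l.succ (by simpa) (by simpa) (by simpa)).comap _ (fun _ => b.io_M.2) fun _ => b.io_M.2)
      fun j l a => (h3 j.succ l.succ (by simpa)).comap _ (fun _ => b.io_M.2) fun _ => b.io_S.2
    have z : ∀ {l x}, l ∈ (Subgroup.centralizer {x}).comap φ ↔ Commute (φ l) x := Subgroup.mem_centralizer_singleton_iff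
    refine (St.step (h := b.hyp 0) (φ := φ) (μ := μ 0) (σ := σ 0) hF b.nondeg (b.bs.hyp 0)
      ⟨fun l hl m hm => z.1 (gen hF n b.bs _ (fun j g hg => z.2 ?_) (fun i hi g hg => z.2 ?_) (fun g hg he => z.2 ?_) l hl),
        fun l s hs => z.1 (gen_top hF b.bs _ (fun j g hg => z.2 ?_) (fun i hi g hg => z.2 ?_) l), ?_, ?_⟩).elim
      fun Φ ⟨q1, q2, q3⟩ => ?_
    rotate_right
    · refine ⟨Φ, Fin.cases (fun g hg => q2 g ((b.S_eq 0).le hg)) fun j g hg => ?_,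
        Fin.cases (fun _ g hg => q3 g (b.M_eq.le hg)) fun j hj g hg => ?_⟩
      · obtain ⟨l, rfl⟩ := exists_io (b.hyp 0) (hg.1 0 (by simp)) (hg.2 0 (by simp))
        exact (q1 l).trans (p1 j l (b.io_S.1 hg))
      · obtain ⟨l, rfl⟩ := exists_io (b.hyp 0) (hg.1 0 trivial) (hg.2 0 (by simp))
        exact (q1 l).trans (p2 j (by simpa using hj) l (b.io_M.1 hg))
    · replace hm := b.M_eq.ge hm
      have := b.io_S.2 hg
      rw [p1 j.succ g hg]
      refine ((h3 0 j.succ.succ (by simp)).comm hm this (b.comm fun k => ⟨?_, .inl (hm.1 k trivial)⟩)).symm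
      by_cases hk : (k : ℕ) = j + 1 + 1
      · exact .inl (hm.2 k (by omega))
      · exact .inr (this.1 k hk)
    · replace hm := b.M_eq.ge hm
      have := b.io_M.2 hg
      rw [p2 ⟨i, by omega⟩ hi g hg]
      exact (h2 (Fin.succ ⟨i, by omega⟩) 0 (by simp) (by simpa) (by simp)).comm this hm
        (b.comm fun k => ⟨.inr (hm.1 k trivial), .inl (this.1 k trivial)⟩)
    · replace hm := b.M_eq.ge hm
      have := b.io_S.2 hg
      rw [p1 0 g hg]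
      refine ((h3 0 (Fin.succ 0) (by simp)).comm hm this (b.comm fun k => ⟨.inr ?_, .inl (hm.1 k trivial)⟩)).symm
      by_cases hk : k = Fin.succ 0
      · exact hk ▸ (io_w _ g (b.e' 0)).trans (congrArg _ he)
      · exact this.1 k fun x => hk (Fin.ext x)
    · replace hs := (b.S_eq 0).ge hs
      have := b.io_S.2 hg
      rw [p1 j g hg]
      exact (h1 j.succ 0).comm this hs (b.comm (Fin.cases ⟨.inl (io_y ..), .inl (io_e ..)⟩
        fun k => ⟨.inr (hs.1 _ (by simp)), .inr (hs.2 _ (by simp))⟩))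
    · replace hs := (b.S_eq 0).ge hs
      have := b.io_M.2 hg
      rw [p2 ⟨i, by omega⟩ hi g hg]
      exact (h3 (Fin.succ ⟨i, by omega⟩) 0 (by simpa)).comm this hs (b.comm (Fin.cases ⟨.inl (io_y ..), .inl (io_e ..)⟩
        fun k => ⟨.inr (hs.1 _ (by simp)), .inr (hs.2 _ (by simp))⟩))
    · have := h3 0 0 (by simp)
      rwa [b.S_eq, Fin.val_zero, b.M_eq] at this
    · obtain ⟨Ψ, a1, a2, a3⟩ := h3 0 (Fin.succ 0) (by simp)
      refine ⟨_, Ψ, a1, fun m hm => ⟨Subgroup.mem_sup_left (b.M_eq.ge hm), a2 m (b.M_eq.ge hm)⟩, fun l hl => ?_⟩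
      replace hl := (b.bs.S_eq 0).ge hl
      exact ⟨Subgroup.mem_sup_right (b.io_S.2 hl), (a3 _ (b.io_S.2 hl)).trans (p1 0 l hl).symm⟩

theorem bs_std (n : ℕ) : Bs (sympStd F n) (fun k => Pi.single (.inl k) 1) fun k => -Pi.single (.inr k) 1 := by
  refine ⟨⟨fun _ => rfl, fun _ => rfl, fun i j => ?_, fun i j => ?_, fun i => ?_, fun i j h => ?_⟩, fun v => funext fun i => ?_⟩
  rotate_right
  · cases i <;> simp [sympStd_B, sympForm_eq, Pi.single_apply]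
  all_goals simp [sympStd_B, sympForm_eq, Pi.single_apply]
  exact fun h' => h h'.symm

open Classical in
/-- A homomorphism on a subgroup as a function on the group. -/
noncomputable def ex {G : Type*} [Group G] {A : Subgroup G} (α : A →* H) (g : G) : H := if h : g ∈ A then α ⟨g, h⟩ else 1

theorem ex_eq {G : Type*} [Group G] {A : Subgroup G} (α : A →* H) {g : G} (h : g ∈ A) : ex α g = α ⟨g, h⟩ := dif_pos h

theorem ex_mul {G : Type*} [Group G] {A : Subgroup G} (α : A →* H) : MulOn A (ex α) := fun a ha b hb => by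
  rw [ex_eq _ ha, ex_eq _ hb, ex_eq _ (mul_mem ha hb), ← map_mul]; rfl

theorem ex_cmp {G : Type*} [Group G] {A B : Subgroup G} {α : A →* H} {β : B →* H} (h : ∃ Ψ : ↥(A ⊔ B) →* H,
    (∀ g (hg : g ∈ A), Ψ ⟨g, Subgroup.mem_sup_left hg⟩ = α ⟨g, hg⟩) ∧ ∀ g (hg : g ∈ B), Ψ ⟨g, Subgroup.mem_sup_right hg⟩ = β ⟨g, hg⟩) :
    Cmp A B (ex α) (ex β) := h.elim fun Ψ h =>
  ⟨ex Ψ, ex_mul Ψ, fun a ha => by rw [ex_eq _ ha, ← h.1, ex_eq], fun a ha => by rw [ex_eq _ ha, ← h.2, ex_eq]⟩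

end CA.SpAm
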