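/-
The Weil representation of the symplectic group in odd characteristic.
-/
import Cfsg.Agent.Lib.Lin.DegLS

set_option autoImplicit false

namespace CA.Weil

open Cfsg CA.CForm CA.CForm.Form CA.DegLS CChar.CharRep CChar.CharFun CChar.CharOrth CChar.CharKer Finset Module

variable {F : Type*} [Field F] [Fintype F] {n : ℕ} (ψ : AddChar F ℂ)

/-- the Heisenberg operators -/
noncomputable def ρ (v : Fin n ⊕ Fin n → F) : End ℂ ((Fin n → F) → ℂ) where
  toFun f t := ψ ((v ∘ .inr) ⬝ᵥ (t + t + v ∘ .inl)) * f (t + v ∘ .inl)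
  map_add' _ _ := funext fun _ => mul_add ..
  map_smul' _ _ := funext fun _ => mul_left_comm ..

omit [Fintype F] in
theorem ρ_apply (v : Fin n ⊕ Fin n → F) (f t) : ρ ψ v f t = ψ ((v ∘ .inr) ⬝ᵥ (t + t + v ∘ .inl)) * f (t + v ∘ .inl) := rfl

omit [Fintype F] in
theorem ρ_mul (v w : Fin n ⊕ Fin n → F) : ρ ψ v * ρ ψ w = ψ ((sympStd F n).B w v) • ρ ψ (v + w) := by
  refine LinearMap.ext fun f => funext fun t => ?_
  simp only [End.mul_apply, ρ_apply, LinearMap.smul_apply, Pi.smul_apply, smul_eq_mul, ← mul_assoc, ← AddChar.map_add_eq_mul, sympStd_B, sympForm_eq,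
    Pi.add_comp, add_assoc, dotProduct, ← sum_add_distrib, Pi.add_apply, Function.comp_apply]
  congr 3; ext; ring

omit [Fintype F] in
theorem ρ_zero : ρ (n := n) ψ 0 = 1 := LinearMap.ext fun f => funext fun t => by simp [ρ_apply]

omit [Fintype F] in
theorem ρ_single (i : Fin n) (c : F) (f t) : ρ ψ (Pi.single (.inr i) c) f t = ψ (c * (t i + t i)) * f t := by
  rw [ρ_apply, show (Pi.single (.inr i) c : Fin n ⊕ Fin n → F) ∘ .inl = 0 from funext fun _ => by simp,
    show (Pi.single (.inr i) c : Fin n ⊕ Fin n → F) ∘ .inr = Pi.single i c from funext fun _ => by simp [Pi.single_apply]]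
  simp [mul_add]

/-- the parity operator -/
def J (F : Type*) [Field F] (n : ℕ) : End ℂ ((Fin n → F) → ℂ) := LinearMap.funLeft ℂ ℂ Neg.neg

variable {ψ} (hψ : ψ ≠ 0) (h2 : (2 : F) ≠ 0) [DecidableEq F]

include hψ in
theorem sum_dot (z : Fin n → F) : ∑ y, ψ (y ⬝ᵥ z) = if z = 0 then (Fintype.card F : ℂ) ^ n else 0 := by
  split_ifs with h
  · simp [h]
  obtain ⟨i, hi⟩ := Function.ne_iff.1 h
  obtain ⟨c, hc⟩ := AddChar.ne_zero_iff.1 hψ
  exact AddChar.sum_eq_zero_of_ne_one (ψ := ψ.compAddMonoidHom (.mk' (· ⬝ᵥ z) fun _ _ => add_dotProduct ..))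
    fun e => hc (by simpa [show z i ≠ 0 from hi] using DFunLike.congr_fun e (Pi.single i (c / z i)))

include h2 in
omit [Fintype F] [DecidableEq F] in
theorem two_eq {t : Fin n → F} : t + t = 0 ↔ t = 0 := by rw [← two_smul F, smul_eq_zero, or_iff_right h2]

omit [Field F] in
theorem trace_eq (T : End ℂ ((Fin n → F) → ℂ)) : LinearMap.trace ℂ _ T = ∑ t, T (Pi.single t 1) t := by
  rw [LinearMap.trace_eq_matrix_trace ℂ (Pi.basisFun ℂ _)]; simp [Matrix.trace]

include hψ in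
theorem sum_ρ : ∑ v, ρ ψ v = (Fintype.card F : ℂ) ^ n • J F n := by
  refine LinearMap.ext fun f => funext fun t => ?_
  rw [LinearMap.sum_apply, Finset.sum_apply, ← (Equiv.sumArrowEquivProdArrow _ _ F).symm.sum_comp, Fintype.sum_prod_type]
  simp [ρ_apply, Equiv.sumArrowEquivProdArrow, ← sum_mul, sum_dot hψ, add_eq_zero_iff_neg_eq, J, -dotProduct_add]

include h2 in
theorem trace_J : LinearMap.trace ℂ _ (J F n) = 1 := by
  simp [trace_eq, J, Pi.single_apply, neg_eq_iff_add_eq_zero, two_eq h2]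

include hψ h2

theorem trace_ρ (v : Fin n ⊕ Fin n → F) : LinearMap.trace ℂ _ (ρ ψ v) = if v = 0 then (Fintype.card F : ℂ) ^ n else 0 := by
  by_cases h : v ∘ .inl = 0
  · have : v = 0 ↔ v ∘ .inr + v ∘ .inr = 0 := by
      rw [two_eq h2]; exact ⟨fun e => by simp [e], fun e => funext fun | .inl i => congrFun h i | .inr i => congrFun e i⟩
    simp only [this, ← sum_dot hψ]
    simp [trace_eq, ρ_apply, h, dotProduct_comm]
  · rw [if_neg fun e => h (by simp [e])]
    simp [trace_eq, ρ_apply, h]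

/-- the Heisenberg operators form a basis -/
noncomputable def bas : Basis (Fin n ⊕ Fin n → F) ℂ (End ℂ ((Fin n → F) → ℂ)) :=
  basisOfLinearIndependentOfCardEqFinrank (b := ρ ψ) (Fintype.linearIndependent_iff.2 fun c hc w => by
    have := congrArg (fun T => LinearMap.trace ℂ _ (T * ρ ψ (-w))) hc
    simpa [sum_mul, ρ_mul, trace_ρ hψ h2, add_neg_eq_zero, (ψ.val_isUnit _).ne_zero] using this) (by simp [finrank_linearMap, pow_add])

theorem bas_apply (v : Fin n ⊕ Fin n → F) : bas hψ h2 v = ρ ψ v := by simp [bas]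

omit hψ h2 [Fintype F] [DecidableEq F] in
variable (n ψ) in
/-- the pairs of an isometry and an intertwiner -/
def Γ : Subgroup ((sympStd F n).Isom × (End ℂ ((Fin n → F) → ℂ))ˣ) where
  carrier := {γ | ∀ v, γ.2 * ρ ψ v = ρ ψ (γ.1.1 v) * γ.2}
  one_mem' v := by simp
  mul_mem' {a b} ha hb v := by rw [Prod.snd_mul, Units.val_mul, mul_assoc, hb, ← mul_assoc, ha, mul_assoc]; rfl
  inv_mem' {a} ha v := by
    rw [Prod.snd_inv, Prod.fst_inv, Units.inv_mul_eq_iff_eq_mul, ← mul_assoc, ha, isom_apply_inv_apply, Units.mul_inv_cancel_right]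

theorem exists_Γ (g : (sympStd F n).Isom) : ∃ T, (g, T) ∈ Γ n ψ := by
  have h : ∀ v, (bas hψ h2).equiv (bas hψ h2) g.1.toEquiv (ρ ψ v) = ρ ψ (g.1 v) := fun v => by
    rw [← bas_apply hψ h2, Basis.equiv_apply, bas_apply]; rfl
  obtain ⟨T, hT⟩ := (AlgEquiv.ofLinearEquiv ((bas hψ h2).equiv (bas hψ h2) g.1.toEquiv) (by rw [← ρ_zero ψ, h, map_zero])
    ((LinearMap.map_mul_iff (LinearEquiv.toLinearMap _)).2 ((bas hψ h2).ext fun v => (bas hψ h2).ext fun w => by
      simp [bas_apply, ρ_mul, h, B_coe_map]))).eq_linearEquivConjAlgEquiv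
  refine ⟨LinearMap.GeneralLinearGroup.ofLinearEquiv T, fun v => LinearMap.ext fun f => ?_⟩
  simpa [h] using (LinearMap.congr_fun (AlgEquiv.congr_fun hT (ρ ψ v)) (T f)).symm

omit h2 in
theorem comm_J (γ : Γ n ψ) : γ.1.2 * J F n = J F n * γ.1.2 := by
  have : γ.1.2.1 * ∑ v, ρ ψ v = (∑ v, ρ ψ v) * γ.1.2.1 := by
    rw [mul_sum, ← γ.1.1.1.toEquiv.sum_comp (ρ ψ), sum_mul]; exact sum_congr rfl fun v _ => γ.2 v
  simpa [sum_ρ hψ] using this

omit h2 in
/-- the even and odd parts -/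
def W (ε : ℂ) : Subrepresentation ((Units.coeHom _).comp ((MonoidHom.snd _ _).comp (Γ n ψ).subtype) : Representation ℂ (Γ n ψ) _) :=
  ⟨(J F n).eigenspace ε, fun γ f hf => End.mem_eigenspace_iff.2 <| by
    have := LinearMap.congr_fun (comm_J hψ γ) f
    rw [End.mul_apply, End.mem_eigenspace_iff.1 hf, map_smul] at this
    exact this.symm⟩

theorem finrank_W (ε : ℂ) (hε : ε * ε = 1) : (finrank ℂ (W (n := n) hψ ε).toSubmodule : ℂ) = (Fintype.card F ^ n + ε) / 2 := by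
  have : LinearMap.IsProj (W (n := n) hψ ε).toSubmodule ((2 : ℂ)⁻¹ • (1 + ε • J F n)) :=
    ⟨fun f => End.mem_eigenspace_iff.2 (funext fun t => by simp [J]; linear_combination (-f (-t) / 2) * hε), fun f hf => by
      simp [End.mem_eigenspace_iff.1 hf, smul_smul, mul_assoc, hε]; module⟩
  rw [← this.trace]
  simp [trace_J h2]; ring

theorem exists_char (hn : 2 ≤ n) : ∃ χ, IsCharacter (sympStd F n).Isom χ ∧ χ 1 = (Fintype.card F ^ n - 1) / 2 ∧ charKer χ ≠ ⊤ := by
  let δ : Γ n ψ →* ℂˣ := (LinearMap.det.comp (W hψ 1).toRepresentation).toHomUnits / (LinearMap.det.comp (W hψ (-1)).toRepresentation).toHomUnits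
  let s (c : ℂˣ) : Γ n ψ := ⟨(1, Units.map (algebraMap ℂ _).toMonoidHom c), fun v => by simp [Algebra.commutes]⟩
  have hs : ∀ c, δ (s c) = c := fun c => Units.ext <| by
    have h : ∀ ε, (W hψ ε).toRepresentation (s c) = (c : ℂ) • LinearMap.id := fun _ => rfl
    have : finrank ℂ (W (n := n) hψ 1).toSubmodule = finrank ℂ (W (n := n) hψ (-1)).toSubmodule + 1 := by
      rw [← Nat.cast_inj (R := ℂ), Nat.cast_succ, finrank_W hψ h2 _ (by simp), finrank_W hψ h2 _ (by simp)]; ring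
    simp [δ, h, this, pow_succ]
  let φ : δ.ker →* (sympStd F n).Isom := (MonoidHom.fst _ _).comp ((Γ n ψ).subtype.comp δ.ker.subtype)
  refine (?_ : Function.Bijective φ → _) ⟨(injective_iff_map_eq_one φ).2 fun ⟨⟨⟨g, T⟩, h1⟩, h3⟩ h => ?_, fun g => ?_⟩
  · intro hφ
    let e := MulEquiv.ofBijective φ hφ
    let ω := (W hψ (-1)).toRepresentation.comp (δ.ker.subtype.comp e.symm.toMonoidHom)
    refine ⟨_, isCharacter_character ω, by simp [finrank_W hψ h2, sub_eq_add_neg], fun h => ?_⟩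
    obtain ⟨m, rfl⟩ := Nat.exists_eq_add_of_le' hn
    obtain ⟨c, hc⟩ := AddChar.ne_zero_iff.1 hψ
    have c0 : c ≠ 0 := by rintro rfl; simp at hc
    obtain ⟨g, hg⟩ := (sympStd_nondeg F (m + 2)).witt_one (v := Pi.single (.inr 1) 1) (w := Pi.single (.inr 0) (c / 2)) (by simp) (by simp [c0, h2]) rfl
    obtain ⟨⟨γ, hγ⟩, rfl⟩ := e.surjective g
    have h1 : ∀ f ∈ (J F (m + 2)).eigenspace (-1), γ.1.2.1 f = f := fun f hf => by
      rw [charKer_character] at h
      have := LinearMap.congr_fun (MonoidHom.mem_ker.1 (h.ge (Subgroup.mem_top (e ⟨γ, hγ⟩)))) ⟨f, hf⟩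
      simpa [ω, Subrepresentation.toRepresentation] using congrArg Subtype.val this
    let a : Fin (m + 2) → F := Pi.single 0 1
    have a0 : -a ≠ a := fun h => by simpa [a] using (two_eq h2).1 (neg_eq_iff_add_eq_zero.1 h)
    have h3 : (Pi.single a 1 - Pi.single (-a) 1 : _ → ℂ) ∈ (J F (m + 2)).eigenspace (-1) := End.mem_eigenspace_iff.2 (funext fun t => by
      simp [J, Pi.single_apply, neg_eq_iff_eq_neg])
    have h4 : ρ ψ (Pi.single (.inr 1) 1) (Pi.single a 1 - Pi.single (-a) 1) = Pi.single a 1 - Pi.single (-a) 1 := funext fun t => by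
      rw [ρ_single]
      by_cases h5 : t = a
      · simp [h5, a]
      by_cases h6 : t = -a <;> simp [h5, h6, a]
    have := LinearMap.congr_fun (γ.2 (Pi.single (.inr 1) 1)) (Pi.single a 1 - Pi.single (-a) 1)
    rw [End.mul_apply, End.mul_apply, h4, h1 _ h3, show γ.1.1.1 _ = _ from hg] at this
    have := congrFun this a
    rw [ρ_single] at this
    rw [show c / 2 * (a 0 + a 0) = c by simp [a]; field_simp; ring] at this
    exact hc (by simpa [a0.symm] using this.symm)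
  · obtain rfl : g = 1 := h
    obtain ⟨c, hc⟩ := Algebra.mem_bot.1 ((Algebra.IsCentral.center_eq_bot ℂ _).le (Subalgebra.mem_center_iff.2 fun X =>
      LinearMap.congr_fun ((bas hψ h2).ext fun v => by simpa [bas_apply] using (h1 v).symm : LinearMap.mulRight ℂ T.1 = LinearMap.mulLeft ℂ T.1) X))
    have c0 : c ≠ 0 := by rintro rfl; exact T.ne_zero (by simpa using hc.symm)
    have e : (⟨(1, T), h1⟩ : Γ n ψ) = s (.mk0 c c0) := Subtype.ext (Prod.ext rfl (Units.ext hc.symm))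
    refine Subtype.ext (e.trans ?_)
    rw [e, MonoidHom.mem_ker, hs] at h3
    rw [h3]; exact Subtype.ext (Prod.ext rfl (map_one _))
  · obtain ⟨T, hT⟩ := exists_Γ hψ h2 g
    exact ⟨⟨(⟨_, hT⟩ : Γ n ψ) * s (δ ⟨_, hT⟩)⁻¹, by simp [hs]⟩, mul_one g⟩

omit hψ in
theorem exists_irr (hn : 2 ≤ n) : ∃ χ, IsIrrCharacter (sympStd F n).Isom χ ∧ χ 1 = ((Fintype.card F ^ n - 1) / 2 : ℕ) := by
  have := Fintype.ofFinite (sympStd F n).Isom
  obtain ⟨ψ, hψ⟩ := CA.Wt.exists_addChar F (one_ne_zero (α := F))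
  obtain ⟨χ, h1, h3, h4⟩ := exists_char (ψ := ψ) (by rintro rfl; simp at hψ) h2 hn
  obtain ⟨d, hd⟩ := char_apply_one h1
  have h5 : Fintype.card F ^ n = d * 2 + 1 := by
    rw [hd, eq_div_iff two_ne_zero, eq_sub_iff_add_eq] at h3; exact_mod_cast h3.symm
  obtain ⟨g, hg⟩ := not_forall.1 fun h => h4 ((Subgroup.eq_top_iff' _).2 h)
  obtain ⟨φ, h6, h7, h8⟩ : ∃ φ, IsIrrCharacter _ φ ∧ classInner χ φ ≠ 0 ∧ g ∉ charKer φ := by
    by_contra! H; exact hg (mem_charKer_of_forall (char_classFun h1) H)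
  obtain ⟨d', hd'⟩ := char_apply_one (char_of_irr h6)
  obtain ⟨m, rfl⟩ := Nat.exists_eq_add_one.2 (by omega : 0 < n)
  have h9 := symp_bound (sympStd_nondeg F _) h2 (m := m) (by simp [two_mul]) (char_of_irr h6) hd' fun h => h8 (h ▸ trivial)
  have := degree_le_of_inner_ne_zero h1 h6 h7 hd' hd
  rw [Nat.card_eq_fintype_card, h5] at h9
  exact ⟨φ, h6, by rw [hd', h5]; congr 1; omega⟩

end CA.Weil
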